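import Groth.Prelude.Def_CAlgX
import Mathlib.RingTheory.MvPolynomial.Homogeneous
import Mathlib.RingTheory.Regular.RegularSequence
import Mathlib.Algebra.MvPolynomial.Equiv
import Mathlib.RingTheory.Polynomial.Basic

set_option autoImplicit false
universe u
open MvPolynomial

namespace Groth.Agent.Lib.Helper3.QReg

variable {A : Type u} [CommRing A]

/-- Degreewise quasi-regularity, phrased with `Ideal.map C`. -/
def QRAt {c : ℕ} (f : Fin c → A) (n : ℕ) : Prop :=
  ∀ P : MvPolynomial (Fin c) A, P.IsHomogeneous n →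
    eval f P ∈ Ideal.span (Set.range f) ^ (n + 1) → P ∈ Ideal.map C (Ideal.span (Set.range f))

def QR0At {c : ℕ} (f : Fin c → A) (n : ℕ) : Prop :=
  ∀ P : MvPolynomial (Fin c) A, P.IsHomogeneous n →
    eval f P = 0 → P ∈ Ideal.map C (Ideal.span (Set.range f))

theorem isQuasiRegular_iff {c : ℕ} (f : Fin c → A) :
    CAlgX.IsQuasiRegular f ↔ ∀ n, QRAt f n := by
  unfold CAlgX.IsQuasiRegular QRAt
  simp only [MvPolynomial.mem_map_C_iff]

theorem exists_sum_of_mem_pow_succ {c : ℕ} (f : Fin c → A) (n : ℕ) {x : A}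
    (hx : x ∈ Ideal.span (Set.range f) ^ (n + 1)) :
    ∃ y : Fin c → A, (∀ i, y i ∈ Ideal.span (Set.range f) ^ n) ∧ x = ∑ i, f i * y i := by
  rw [pow_succ'] at hx
  induction hx using Submodule.mul_induction_on' with
  | mem_mul_mem m hm b hb =>
    obtain ⟨r, rfl⟩ := (Ideal.mem_span_range_iff_exists_fun).mp hm
    refine ⟨fun i => r i * b, fun i => Ideal.mul_mem_left _ _ hb, ?_⟩
    rw [Finset.sum_mul]
    refine Finset.sum_congr rfl fun i _ => ?_
    ring
  | add x hx y hy ihx ihy =>
    obtain ⟨u, hu, rfl⟩ := ihx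
    obtain ⟨v, hv, rfl⟩ := ihy
    refine ⟨fun i => u i + v i, fun i => Ideal.add_mem _ (hu i) (hv i), ?_⟩
    rw [← Finset.sum_add_distrib]
    refine Finset.sum_congr rfl fun i _ => ?_
    ring

theorem C_mem_map {σ : Type*} {I : Ideal A} {a : A} (ha : a ∈ I) :
    (C a : MvPolynomial σ A) ∈ Ideal.map C I := Ideal.mem_map_of_mem _ ha

theorem qrAt_of_qr0At {c : ℕ} (f : Fin c → A) (n : ℕ) (h : QR0At f n) : QRAt f n := by
  intro P hP hev
  obtain ⟨y, hy, hsum⟩ := exists_sum_of_mem_pow_succ f n hev
  have hQ : ∀ i, ∃ Q : MvPolynomial (Fin c) A, Q.IsHomogeneous n ∧ eval f Q = y i := fun i =>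
    (Ideal.mem_span_pow_iff_exists_isHomogeneous f (y i)).mp (hy i)
  choose Q hQh hQe using hQ
  have h1 : (P - ∑ i, C (f i) * Q i) ∈ Ideal.map C (Ideal.span (Set.range f)) := by
    apply h
    · refine hP.sub (IsHomogeneous.sum _ _ _ fun i _ => ?_)
      exact (hQh i).C_mul (f i)
    · rw [map_sub, map_sum, hsum, sub_eq_zero]
      refine Finset.sum_congr rfl fun i _ => ?_
      rw [map_mul, eval_C, hQe]
  have h2 : (∑ i, C (f i) * Q i) ∈ Ideal.map C (Ideal.span (Set.range f)) :=
    Ideal.sum_mem _ fun i _ => Ideal.mul_mem_right _ _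
      (C_mem_map (Ideal.subset_span ⟨i, rfl⟩))
  have := Ideal.add_mem _ h1 h2
  rwa [sub_add_cancel] at this

/-- A homogeneous polynomial of degree `n` with coefficients in `J = (f)` evaluates into `J^(n+1)`. -/
theorem eval_mem_pow_succ {c : ℕ} (f : Fin c → A) (n : ℕ) (F : MvPolynomial (Fin c) A)
    (hF : F.IsHomogeneous n) (hFJ : F ∈ Ideal.map C (Ideal.span (Set.range f))) :
    eval f F ∈ Ideal.span (Set.range f) ^ (n + 1) := by
  rw [MvPolynomial.mem_map_C_iff] at hFJ
  rw [← F.support_sum_monomial_coeff, map_sum]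
  refine Ideal.sum_mem _ fun d hd => ?_
  have hdeg : d.degree = n := by
    rw [Finsupp.degree_eq_weight_one]
    exact hF (mem_support_iff.mp hd)
  have h1 : eval f (monomial d (coeff d F)) = coeff d F * eval f (monomial d 1) := by
    simp [eval_monomial]
  rw [h1, pow_succ']
  refine Ideal.mul_mem_mul (hFJ d) ?_
  exact (Ideal.mem_span_pow_iff_exists_isHomogeneous f _).mpr
    ⟨monomial d 1, isHomogeneous_monomial 1 hdeg, rfl⟩

theorem colon_pow {c : ℕ} (f : Fin c → A) (hq : ∀ n, QRAt f n) (g : A)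
    (hg : ∀ a, g * a ∈ Ideal.span (Set.range f) → a ∈ Ideal.span (Set.range f)) :
    ∀ n a, g * a ∈ Ideal.span (Set.range f) ^ n → a ∈ Ideal.span (Set.range f) ^ n := by
  intro n
  induction n with
  | zero => intro a _; simp
  | succ n ih =>
    intro a ha
    rcases Nat.eq_zero_or_pos n with rfl | hn
    · simp only [zero_add, pow_one] at ha ⊢
      exact hg a ha
    · have h1 : a ∈ Ideal.span (Set.range f) ^ n := ih a (Ideal.pow_le_pow_right (Nat.le_succ n) ha)
      obtain ⟨F, hF, rfl⟩ := (Ideal.mem_span_pow_iff_exists_isHomogeneous f a).mp h1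
      have h2 : C g * F ∈ Ideal.map C (Ideal.span (Set.range f)) := by
        apply hq n _ (hF.C_mul g)
        rwa [map_mul, eval_C]
      have h3 : F ∈ Ideal.map C (Ideal.span (Set.range f)) := by
        rw [MvPolynomial.mem_map_C_iff] at h2 ⊢
        intro d
        have := h2 d
        rw [coeff_C_mul] at this
        exact hg _ this
      exact eval_mem_pow_succ f n F hF h3

theorem finSuccEquiv_rename_succ {c : ℕ} (G : MvPolynomial (Fin c) A) :
    finSuccEquiv A c (rename Fin.succ G) = Polynomial.C G := by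
  induction G using MvPolynomial.induction_on with
  | C a =>
    rw [rename_C, finSuccEquiv_apply, eval₂Hom_C]
    rfl
  | add p q hp hq => rw [map_add, map_add, hp, hq, map_add]
  | mul_X p i hp => rw [map_mul, map_mul, hp, rename_X, finSuccEquiv_X_succ, map_mul]

/-- decomposition `P = rename succ G + X 0 * H`. -/
theorem decomp {c : ℕ} (P : MvPolynomial (Fin (c + 1)) A) :
    P = rename Fin.succ ((finSuccEquiv A c P).coeff 0) +
      X 0 * (finSuccEquiv A c).symm ((finSuccEquiv A c P).divX) := by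
  apply (finSuccEquiv A c).injective
  rw [map_add, map_mul, finSuccEquiv_rename_succ, AlgEquiv.apply_symm_apply, finSuccEquiv_X_zero]
  exact ((add_comm _ _).trans (Polynomial.X_mul_divX_add _)).symm

theorem isHomogeneous_of_X_mul {σ : Type*} (i : σ) (H : MvPolynomial σ A) (m : ℕ)
    (h : (X i * H).IsHomogeneous (m + 1)) : H.IsHomogeneous m := by
  classical
  intro d hd
  have h1 : coeff (d + Finsupp.single i 1) (X i * H) ≠ 0 := by
    rwa [mul_comm, coeff_mul_X]
  have h2 := h h1
  rw [map_add] at h2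
  have h3 : (Finsupp.weight (1 : σ → ℕ)) (Finsupp.single i 1) = 1 := by
    simp [Finsupp.weight_apply]
  rw [h3] at h2
  exact Nat.succ_injective h2

theorem rename_mem_map_C {σ τ : Type*} (k : σ → τ) (I : Ideal A) (G : MvPolynomial σ A)
    (hG : G ∈ Ideal.map C I) : rename k G ∈ Ideal.map C I := by
  have h1 : Ideal.map (rename k : MvPolynomial σ A →ₐ[A] MvPolynomial τ A).toRingHom (Ideal.map C I) =
      Ideal.map C I := by
    rw [Ideal.map_map]
    congr 1
    ext a
    simp
  rw [← h1]
  exact Ideal.mem_map_of_mem _ hG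

theorem step {c : ℕ} (f : Fin (c + 1) → A) (hq : ∀ n, QRAt (Fin.tail f) n)
    (hg : ∀ a, f 0 * a ∈ Ideal.span (Set.range (Fin.tail f)) →
      a ∈ Ideal.span (Set.range (Fin.tail f))) :
    ∀ n, QRAt f n := by
  have hJ' : Ideal.span (Set.range (Fin.tail f)) ≤ Ideal.span (Set.range f) :=
    Ideal.span_mono (by rintro _ ⟨i, rfl⟩; exact ⟨i.succ, rfl⟩)
  have hgJ : f 0 ∈ Ideal.span (Set.range f) := Ideal.subset_span ⟨0, rfl⟩
  intro n
  induction n with
  | zero =>
    intro P hP hev
    have h0 : P.totalDegree = 0 := (totalDegree_zero_iff_isHomogeneous (Fin (c + 1))).mpr hP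
    have h1 : P = C (coeff 0 P) := totalDegree_eq_zero_iff_eq_C.mp h0
    rw [h1, eval_C, zero_add, pow_one] at hev
    rw [h1]
    exact C_mem_map hev
  | succ m ih =>
    apply qrAt_of_qr0At
    intro P hP hev
    have hdec := decomp P
    set G := (finSuccEquiv A c P).coeff 0 with hGdef
    set H := (finSuccEquiv A c).symm ((finSuccEquiv A c P).divX) with hHdef
    have hG : G.IsHomogeneous (m + 1) :=
      hP.finSuccEquiv_coeff_isHomogeneous 0 (m + 1) (zero_add _)
    have hXH : (X 0 * H).IsHomogeneous (m + 1) := by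
      have : X 0 * H = P - rename Fin.succ G := by
        exact eq_sub_of_add_eq ((add_comm _ _).trans hdec.symm)
      rw [this]; exact hP.sub hG.rename_isHomogeneous
    have hH : H.IsHomogeneous m := isHomogeneous_of_X_mul 0 H m hXH
    have hev2 : eval (Fin.tail f) G + f 0 * eval f H = 0 := by
      have h := congrArg (eval f) hdec
      rw [map_add, map_mul, eval_X, eval_rename, hev] at h
      exact h.symm
    have h1 : f 0 * eval f H ∈ Ideal.span (Set.range (Fin.tail f)) ^ (m + 1) := by
      have : f 0 * eval f H = - eval (Fin.tail f) G := by linear_combination hev2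
      rw [this]
      exact neg_mem ((Ideal.mem_span_pow_iff_exists_isHomogeneous _ _).mpr ⟨G, hG, rfl⟩)
    have h2 : eval f H ∈ Ideal.span (Set.range (Fin.tail f)) ^ (m + 1) :=
      colon_pow (Fin.tail f) hq (f 0) hg (m + 1) _ h1
    have hHJ : H ∈ Ideal.map C (Ideal.span (Set.range f)) :=
      ih H hH (Ideal.pow_right_mono hJ' _ h2)
    obtain ⟨h', hh', hh'e⟩ := (Ideal.mem_span_pow_iff_exists_isHomogeneous (Fin.tail f) _).mp h2
    have h3 : G + C (f 0) * h' ∈ Ideal.map C (Ideal.span (Set.range (Fin.tail f))) := by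
      apply hq (m + 1) _ (hG.add (hh'.C_mul _))
      rw [map_add, map_mul, eval_C, hh'e, hev2]
      exact zero_mem _
    have hGJ : G ∈ Ideal.map C (Ideal.span (Set.range f)) := by
      have h4 : C (f 0) * h' ∈ Ideal.map C (Ideal.span (Set.range f)) :=
        Ideal.mul_mem_right _ _ (C_mem_map hgJ)
      have h5 := Ideal.sub_mem _ (Ideal.map_mono hJ' h3) h4
      rwa [add_sub_cancel_right] at h5
    rw [hdec]
    exact Ideal.add_mem _ (rename_mem_map_C _ _ _ hGJ) (Ideal.mul_mem_left _ _ hHJ)


theorem isQuasiRegular_comp_equiv {c : ℕ} (f : Fin c → A) (σ : Fin c ≃ Fin c)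
    (h : CAlgX.IsQuasiRegular (f ∘ σ)) : CAlgX.IsQuasiRegular f := by
  rw [isQuasiRegular_iff] at h ⊢
  have hJ : Ideal.span (Set.range (f ∘ σ)) = Ideal.span (Set.range f) := by
    rw [σ.surjective.range_comp]
  intro n P hP hev
  have h1 : rename σ.symm P ∈ Ideal.map C (Ideal.span (Set.range (f ∘ σ))) := by
    apply h n _ hP.rename_isHomogeneous
    rw [eval_rename, hJ]
    have : (f ∘ σ) ∘ σ.symm = f := by ext i; simp
    rw [this]
    exact hev
  rw [hJ] at h1
  have h2 := rename_mem_map_C σ _ _ h1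
  rwa [rename_rename, σ.self_comp_symm, rename_id] at h2

theorem isQuasiRegular_of_isWeaklyRegular : ∀ {c : ℕ} (f : Fin c → A),
    RingTheory.Sequence.IsWeaklyRegular A (List.ofFn f) → CAlgX.IsQuasiRegular f
  | 0, f, _ => by
    rw [isQuasiRegular_iff]
    intro n P hP hev
    have hJ : Ideal.span (Set.range f) = ⊥ := by
      rw [Set.range_eq_empty, Ideal.span_empty]
    rw [hJ, Ideal.bot_pow (Nat.succ_ne_zero n), Ideal.mem_bot] at hev
    have h1 : P = C (coeff 0 P) := MvPolynomial.eq_C_of_isEmpty P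
    rw [h1, eval_C] at hev
    rw [h1, hev, map_zero]
    exact zero_mem _
  | c + 1, f, hf => by
    have hlist : List.ofFn f = List.ofFn (fun i : Fin c => f i.castSucc) ++ [f (Fin.last c)] := by
      rw [List.ofFn_succ', List.concat_eq_append]
    rw [hlist, RingTheory.Sequence.isWeaklyRegular_append_iff] at hf
    obtain ⟨hf1, hf2⟩ := hf
    have ih := isQuasiRegular_of_isWeaklyRegular _ hf1
    rw [RingTheory.Sequence.isWeaklyRegular_singleton_iff,
      isSMulRegular_quotient_iff_mem_of_smul_mem] at hf2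
    have hJ : (Ideal.ofList (List.ofFn fun i : Fin c => f i.castSucc) • (⊤ : Submodule A A)) =
        Ideal.span (Set.range fun i : Fin c => f i.castSucc) := by
      rw [smul_eq_mul, Ideal.mul_top]
      unfold Ideal.ofList
      congr 1
      ext x
      simp [List.mem_ofFn]
    have h2 : CAlgX.IsQuasiRegular
        (Fin.cons (f (Fin.last c)) (fun i => f i.castSucc) : Fin (c + 1) → A) := by
      rw [isQuasiRegular_iff]
      apply step
      · rw [Fin.tail_cons]; exact (isQuasiRegular_iff _).mp ih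
      · rw [Fin.tail_cons, Fin.cons_zero]
        intro a ha
        rw [← hJ] at ha ⊢
        exact hf2 a ha
    apply isQuasiRegular_comp_equiv f (finRotate (c + 1)).symm
    convert h2 using 1
    ext i
    refine Fin.cases ?_ (fun j => ?_) i
    · rw [Function.comp_apply, Fin.cons_zero]
      congr 1
    · rw [Function.comp_apply, Fin.cons_succ]
      congr 1
      rw [Equiv.symm_apply_eq, finRotate_apply]
      exact (Fin.coeSucc_eq_succ).symm

end Groth.Agent.Lib.Helper3.QReg
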