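import Groth.Agent.Lib.Helper3.AzumayaDescent
import Groth.Agent.Lib.Helper74.FibreSq
import Groth.Agent.S14954
import Mathlib.RingTheory.Flat.EquationalCriterion
import Groth.Prelude.Def_EtMil
import Mathlib.RingTheory.Flat.Basic
import Mathlib.LinearAlgebra.TensorProduct.RightExactness

set_option autoImplicit false
universe u

namespace Groth.Agent.Lib.Helper3.Az

open TensorProduct MulOpposite

section Milnor

variable {B' B A' A : Type u} [CommRing B'] [CommRing B] [CommRing A'] [CommRing A]
  [Algebra B' B] [Algebra B' A'] [Algebra B A] [Algebra A' A] [Algebra B' A]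
  [IsScalarTower B' B A] [IsScalarTower B' A' A]

variable (B' B A' A) in
/-- `B → A` as a `B'`-linear map. -/
noncomputable abbrev sMap : B →ₗ[B'] A := (IsScalarTower.toAlgHom B' B A).toLinearMap
variable (B' B A' A) in
/-- `A' → A` as a `B'`-linear map. -/
noncomputable abbrev tMap : A' →ₗ[B'] A := (IsScalarTower.toAlgHom B' A' A).toLinearMap

lemma hcomm_sq (b' : B') :
    sMap B' B A (Algebra.linearMap B' B b') = tMap B' A' A (Algebra.linearMap B' A' b') := by
  simp only [sMap, tMap, AlgHom.toLinearMap_apply, Algebra.linearMap_apply,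
    IsScalarTower.coe_toAlgHom']
  rw [← IsScalarTower.algebraMap_apply, ← IsScalarTower.algebraMap_apply]

variable (hsq : EtMil.IsFibreSquare B' B A' A)
include hsq

lemma patch_unique (X : Type u) [AddCommGroup X] [Module B' X] [Module.Flat B' X] (z : X)
    (h1 : (1 : B) ⊗ₜ[B'] z = 0) (h2 : (1 : A') ⊗ₜ[B'] z = 0) : z = 0 := by
  have hinj : Function.Injective (((Algebra.linearMap B' B).prod (Algebra.linearMap B' A')).rTensor X) :=
    Module.Flat.rTensor_preserves_injective_linearMap _
      (Lib.Helper74.FibreSq.sq_injective _ _ (sMap B' B A) (tMap B' A' A) hsq.2 hcomm_sq)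
  have h0 : ((Algebra.linearMap B' B).prod (Algebra.linearMap B' A')).rTensor X ((1 : B') ⊗ₜ z) = 0 := by
    rw [LinearMap.rTensor_tmul]
    have : ((Algebra.linearMap B' B).prod (Algebra.linearMap B' A')) (1 : B') =
        LinearMap.inl B' B A' 1 + LinearMap.inr B' B A' 1 := by
      simp
    rw [this, add_tmul, ← LinearMap.rTensor_tmul, ← LinearMap.rTensor_tmul, h1, h2, map_zero,
      map_zero, add_zero]
  have := hinj (h0.trans (map_zero _).symm)
  have h3 := congrArg (TensorProduct.lid B' X) this
  simpa using h3

lemma patch (X : Type u) [AddCommGroup X] [Module B' X] [Module.Flat B' X]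
    (x : B ⊗[B'] X) (y : A' ⊗[B'] X)
    (hxy : (sMap B' B A).rTensor X x = (tMap B' A' A).rTensor X y) :
    ∃ z : X, (1 : B) ⊗ₜ[B'] z = x ∧ (1 : A') ⊗ₜ[B'] z = y := by
  set P := (Algebra.linearMap B' B).prod (Algebra.linearMap B' A') with hP
  set Q := (sMap B' B A).coprod (-(tMap B' A' A)) with hQ
  have hex : Function.Exact (P.rTensor X) (Q.rTensor X) :=
    rTensor_exact X (Lib.Helper74.FibreSq.sq_exact _ _ _ _ hsq.2 hcomm_sq)
      (Lib.Helper74.FibreSq.sq_surjective _ _ (by
        intro a
        obtain ⟨a', rfl⟩ := hsq.1 a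
        exact ⟨a', rfl⟩))
  set w : (B × A') ⊗[B'] X := (LinearMap.inl B' B A').rTensor X x + (LinearMap.inr B' B A').rTensor X y
    with hw
  have hQw : Q.rTensor X w = 0 := by
    rw [hw, map_add, ← LinearMap.comp_apply, ← LinearMap.comp_apply, ← LinearMap.rTensor_comp,
      ← LinearMap.rTensor_comp]
    have e1 : Q ∘ₗ LinearMap.inl B' B A' = sMap B' B A := by
      ext b; simp [Q]
    have e2 : Q ∘ₗ LinearMap.inr B' B A' = -(tMap B' A' A) := by
      ext a; simp [Q]
    rw [e1, e2, LinearMap.rTensor_neg, LinearMap.neg_apply, hxy, add_neg_cancel]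
  have key : ∀ (C : Type u) [CommRing C] [Algebra B' C] (z' : B' ⊗[B'] X),
      (1 : C) ⊗ₜ[B'] (TensorProduct.lid B' X z') = (Algebra.linearMap B' C).rTensor X z' := by
    intro C _ _ z'
    induction z' using TensorProduct.induction_on with
    | zero => simp
    | add a b ha hb => rw [map_add, tmul_add, ha, hb, map_add]
    | tmul r m =>
      rw [TensorProduct.lid_tmul, LinearMap.rTensor_tmul, Algebra.linearMap_apply, tmul_smul,
        TensorProduct.smul_tmul', Algebra.smul_def, mul_one]
  obtain ⟨z', hz'⟩ := (hex w).mp hQw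
  refine ⟨TensorProduct.lid B' X z', ?_, ?_⟩
  · have h1 : (LinearMap.fst B' B A').rTensor X w = x := by
      rw [hw, map_add, ← LinearMap.comp_apply, ← LinearMap.comp_apply, ← LinearMap.rTensor_comp,
        ← LinearMap.rTensor_comp]
      have e1 : LinearMap.fst B' B A' ∘ₗ LinearMap.inl B' B A' = LinearMap.id := by ext; simp
      have e2 : LinearMap.fst B' B A' ∘ₗ LinearMap.inr B' B A' = 0 := by ext; simp
      rw [e1, e2, LinearMap.rTensor_id, LinearMap.rTensor_zero]
      simp
    rw [← h1, ← hz', ← LinearMap.comp_apply, ← LinearMap.rTensor_comp]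
    have e : LinearMap.fst B' B A' ∘ₗ P = Algebra.linearMap B' B := by ext; simp [P]
    rw [e]
    exact key _ z'
  · have h1 : (LinearMap.snd B' B A').rTensor X w = y := by
      rw [hw, map_add, ← LinearMap.comp_apply, ← LinearMap.comp_apply, ← LinearMap.rTensor_comp,
        ← LinearMap.rTensor_comp]
      have e1 : LinearMap.snd B' B A' ∘ₗ LinearMap.inl B' B A' = 0 := by ext; simp
      have e2 : LinearMap.snd B' B A' ∘ₗ LinearMap.inr B' B A' = LinearMap.id := by ext; simp
      rw [e1, e2, LinearMap.rTensor_id, LinearMap.rTensor_zero]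
      simp
    rw [← h1, ← hz', ← LinearMap.comp_apply, ← LinearMap.rTensor_comp]
    have e : LinearMap.snd B' B A' ∘ₗ P = Algebra.linearMap B' A' := by ext; simp [P]
    rw [e]
    exact key _ z'

omit hsq in
/-- base change in a tower: `u_B` bijective implies `u_A` injective. -/
lemma baseChange_injective_of_tower {M N : Type u} [AddCommGroup M] [Module B' M]
    [AddCommGroup N] [Module B' N] (u : M →ₗ[B'] N)
    (hu : Function.Bijective (u.baseChange B)) : Function.Injective (u.baseChange A) := by
  let e := (LinearEquiv.ofBijective (u.baseChange B) hu).baseChange B A _ _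
  have key : ∀ x : A ⊗[B] (B ⊗[B'] M),
      u.baseChange A (TensorProduct.AlgebraTensorModule.cancelBaseChange B' B A A M x) =
        TensorProduct.AlgebraTensorModule.cancelBaseChange B' B A A N (e x) := by
    intro x
    induction x using TensorProduct.induction_on with
    | zero => simp
    | add a b ha hb => simp only [map_add, ha, hb]
    | tmul a x =>
      induction x using TensorProduct.induction_on with
      | zero => simp
      | add x y hx hy => simp only [tmul_add, map_add, hx, hy]
      | tmul b m => simp [e]
  intro z₁ z₂ h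
  obtain ⟨x₁, rfl⟩ := (TensorProduct.AlgebraTensorModule.cancelBaseChange B' B A A M).surjective z₁
  obtain ⟨x₂, rfl⟩ := (TensorProduct.AlgebraTensorModule.cancelBaseChange B' B A A M).surjective z₂
  rw [key, key] at h
  rw [e.injective ((TensorProduct.AlgebraTensorModule.cancelBaseChange B' B A A N).injective h)]

/-- Descent of bijectivity in a Milnor square for maps between flat modules. -/
lemma bijective_of_milnor {M N : Type u} [AddCommGroup M] [Module B' M] [Module.Flat B' M]
    [AddCommGroup N] [Module B' N] [Module.Flat B' N] (u : M →ₗ[B'] N)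
    (hB : Function.Bijective (u.baseChange B)) (hA' : Function.Bijective (u.baseChange A')) :
    Function.Bijective u := by
  have hA := baseChange_injective_of_tower (A := A) u hB
  constructor
  · rw [injective_iff_map_eq_zero]
    intro z hz
    apply patch_unique hsq M z
    · apply hB.1
      rw [LinearMap.baseChange_tmul, hz, tmul_zero, map_zero]
    · apply hA'.1
      rw [LinearMap.baseChange_tmul, hz, tmul_zero, map_zero]
  · intro y
    obtain ⟨x₁, hx₁⟩ := hB.2 ((1 : B) ⊗ₜ y)
    obtain ⟨x₂, hx₂⟩ := hA'.2 ((1 : A') ⊗ₜ y)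
    have hs : ∀ x : B ⊗[B'] M, (sMap B' B A).rTensor N (u.baseChange B x) =
        u.baseChange A ((sMap B' B A).rTensor M x) := by
      intro x
      induction x using TensorProduct.induction_on with
      | zero => simp
      | add a b ha hb => simp only [map_add, ha, hb]
      | tmul b m => simp
    have ht : ∀ x : A' ⊗[B'] M, (tMap B' A' A).rTensor N (u.baseChange A' x) =
        u.baseChange A ((tMap B' A' A).rTensor M x) := by
      intro x
      induction x using TensorProduct.induction_on with
      | zero => simp
      | add a b ha hb => simp only [map_add, ha, hb]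
      | tmul b m => simp
    have hxy : (sMap B' B A).rTensor M x₁ = (tMap B' A' A).rTensor M x₂ := by
      apply hA
      rw [← hs, ← ht, hx₁, hx₂]
      simp
    obtain ⟨z, hz₁, hz₂⟩ := patch hsq M x₁ x₂ hxy
    refine ⟨z, ?_⟩
    rw [← sub_eq_zero]
    apply patch_unique hsq N
    · rw [tmul_sub, ← LinearMap.baseChange_tmul, hz₁, hx₁, sub_self]
    · rw [tmul_sub, ← LinearMap.baseChange_tmul, hz₂, hx₂, sub_self]

end Milnor


section MilnorAzumaya

lemma baseChange_mulLeftRight_bijective (R : Type*) [CommRing R] (S : Type*) [CommRing S]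
    [Algebra R S] (B : Type*) [Ring B] [Algebra R B] [Module.Finite R B] [Module.Projective R B]
    [IsAzumaya S (S ⊗[R] B)] :
    Function.Bijective ((AlgHom.mulLeftRight R B).toLinearMap.baseChange S) := by
  have h1 : Function.Bijective (fun x : S ⊗[R] (B ⊗[R] Bᵐᵒᵖ) =>
      AlgHom.mulLeftRight S (S ⊗[R] B) (Phi R S B x)) :=
    Function.Bijective.comp IsAzumaya.bij (Phi_bijective R S B)
  have h2 : (fun x : S ⊗[R] (B ⊗[R] Bᵐᵒᵖ) =>
      AlgHom.mulLeftRight S (S ⊗[R] B) (Phi R S B x)) =
      (bcEnd R S B) ∘ ((AlgHom.mulLeftRight R B).toLinearMap.baseChange S) := by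
    funext x
    exact mulLeftRight_comp_Phi R S B x
  rw [h2] at h1
  exact (Function.Bijective.of_comp_iff' (bcEnd_bijective R S B) _).mp h1

variable {B' B A' A : Type u} [CommRing B'] [CommRing B] [CommRing A'] [CommRing A]
  [Algebra B' B] [Algebra B' A'] [Algebra B A] [Algebra A' A] [Algebra B' A]
  [IsScalarTower B' B A] [IsScalarTower B' A' A]

theorem isAzumaya_milnor_iff (hsq : EtMil.IsFibreSquare B' B A' A)
    (D' : Type u) [Ring D'] [Algebra B' D'] :
    IsAzumaya B' D' ↔ IsAzumaya B (B ⊗[B'] D') ∧ IsAzumaya A' (A' ⊗[B'] D') := by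
  constructor
  · intro h
    exact ⟨isAzumaya_baseChange B' B D', isAzumaya_baseChange B' A' D'⟩
  · rintro ⟨h1, h2⟩
    have : Module.FinitePresentation B (B ⊗[B'] D') := Module.finitePresentation_of_projective _ _
    have : Module.FinitePresentation A' (A' ⊗[B'] D') := Module.finitePresentation_of_projective _ _
    have hflat : Module.Flat B' D' := Groth.Agent.S14952.result B' B A' A hsq D'
    have hfin : Module.Finite B' D' := Groth.Agent.S14953.result B' B A' A hsq D'
    have hfp : Module.FinitePresentation B' D' := Groth.Agent.S14954.result B' B A' A hsq D'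
    have hproj : Module.Projective B' D' := Module.Flat.projective_of_finitePresentation
    have hfaith : FaithfulSMul B' D' := by
      refine ⟨fun {r₁ r₂} h => ?_⟩
      apply Groth.Agent.Lib.Helper63.Milnor.ext' hsq
      · apply FaithfulSMul.eq_of_smul_eq_smul (α := B ⊗[B'] D')
        intro t
        rw [algebraMap_smul, algebraMap_smul]
        induction t using TensorProduct.induction_on with
        | zero => simp
        | add x y hx hy => rw [smul_add, smul_add, hx, hy]
        | tmul s b => rw [← TensorProduct.tmul_smul, ← TensorProduct.tmul_smul, h]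
      · apply FaithfulSMul.eq_of_smul_eq_smul (α := A' ⊗[B'] D')
        intro t
        rw [algebraMap_smul, algebraMap_smul]
        induction t using TensorProduct.induction_on with
        | zero => simp
        | add x y hx hy => rw [smul_add, smul_add, hx, hy]
        | tmul s b => rw [← TensorProduct.tmul_smul, ← TensorProduct.tmul_smul, h]
    refine { bij := ?_ }
    have hfinop : Module.Finite B' D'ᵐᵒᵖ := Module.Finite.equiv (opLinearEquiv B' (M := D'))
    have hprojop : Module.Projective B' D'ᵐᵒᵖ :=
      Module.Projective.of_equiv (opLinearEquiv B' (M := D'))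
    have := projective_end B' D'
    exact bijective_of_milnor hsq (AlgHom.mulLeftRight B' D').toLinearMap
      (baseChange_mulLeftRight_bijective B' B D') (baseChange_mulLeftRight_bijective B' A' D')

end MilnorAzumaya

end Groth.Agent.Lib.Helper3.Az
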