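import Mathlib
import Groth.Prelude.Def_Found
import Groth.Prelude.Def_CAlg
import Groth.Agent.Lib.Helper49.GRingFT
import Groth.Agent.Lib.Helper58.ExcellentLoc

set_option autoImplicit false
universe u
open IsLocalRing CategoryTheory TensorProduct

namespace Groth.Agent.Lib.Helper3.AA7202GA

section
variable {Λ₀ A₀ : Type u} [CommRing Λ₀] [CommRing A₀] [Algebra Λ₀ A₀]
  (r : Ideal Λ₀) [r.IsPrime] (Λ : Type u) [CommRing Λ] [Algebra Λ₀ Λ] [IsLocalization.AtPrime Λ r]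

/-- every tensor in `Λ ⊗[Λ₀] A₀` becomes of the form `1 ⊗ a` after multiplying by `σ ⊗ 1`,
`σ ∉ r`. -/
theorem exists_clear (t : Λ ⊗[Λ₀] A₀) :
    ∃ (σ : Λ₀) (a : A₀), σ ∉ r ∧ (algebraMap Λ₀ Λ σ ⊗ₜ[Λ₀] (1 : A₀)) * t = 1 ⊗ₜ[Λ₀] a := by
  induction t using TensorProduct.induction_on with
  | zero => exact ⟨1, 0, fun h => (inferInstance : r.IsPrime).ne_top (r.eq_top_of_isUnit_mem h isUnit_one), by simp⟩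
  | tmul l a' =>
    obtain ⟨⟨x, σ⟩, hx⟩ := IsLocalization.surj r.primeCompl l
    refine ⟨σ, x • a', σ.2, ?_⟩
    rw [Algebra.TensorProduct.tmul_mul_tmul, one_mul, mul_comm, hx]
    rw [Algebra.algebraMap_eq_smul_one, TensorProduct.smul_tmul]
  | add t₁ t₂ h₁ h₂ =>
    obtain ⟨σ₁, a₁, hσ₁, e₁⟩ := h₁
    obtain ⟨σ₂, a₂, hσ₂, e₂⟩ := h₂
    refine ⟨σ₁ * σ₂, σ₂ • a₁ + σ₁ • a₂, fun h => ((inferInstance : r.IsPrime).mem_or_mem h).elim hσ₁ hσ₂, ?_⟩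
    have k1 : (algebraMap Λ₀ Λ (σ₁ * σ₂) ⊗ₜ[Λ₀] (1 : A₀)) =
        (algebraMap Λ₀ Λ σ₂ ⊗ₜ[Λ₀] (1 : A₀)) * (algebraMap Λ₀ Λ σ₁ ⊗ₜ[Λ₀] (1 : A₀)) := by
      rw [Algebra.TensorProduct.tmul_mul_tmul, one_mul, ← map_mul, mul_comm]
    have k2 : (algebraMap Λ₀ Λ (σ₁ * σ₂) ⊗ₜ[Λ₀] (1 : A₀)) =
        (algebraMap Λ₀ Λ σ₁ ⊗ₜ[Λ₀] (1 : A₀)) * (algebraMap Λ₀ Λ σ₂ ⊗ₜ[Λ₀] (1 : A₀)) := by
      rw [Algebra.TensorProduct.tmul_mul_tmul, one_mul, ← map_mul]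
    have p1 : (algebraMap Λ₀ Λ (σ₁ * σ₂) ⊗ₜ[Λ₀] (1 : A₀)) * t₁ = algebraMap Λ₀ Λ σ₂ ⊗ₜ[Λ₀] a₁ := by
      rw [k1, mul_assoc, e₁, Algebra.TensorProduct.tmul_mul_tmul, mul_one, one_mul]
    have p2 : (algebraMap Λ₀ Λ (σ₁ * σ₂) ⊗ₜ[Λ₀] (1 : A₀)) * t₂ = algebraMap Λ₀ Λ σ₁ ⊗ₜ[Λ₀] a₂ := by
      rw [k2, mul_assoc, e₂, Algebra.TensorProduct.tmul_mul_tmul, mul_one, one_mul]
    rw [mul_add, p1, p2, TensorProduct.tmul_add]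
    rw [Algebra.algebraMap_eq_smul_one, Algebra.algebraMap_eq_smul_one, TensorProduct.smul_tmul,
      TensorProduct.smul_tmul]

end

/-- `A = (A₀)_p` is a localization of `Λ ⊗[Λ₀] A₀`. -/
theorem exists_isLocalization {Λ₀ A₀ : Type u} [CommRing Λ₀] [CommRing A₀] [Algebra Λ₀ A₀]
    (p : Ideal A₀) [p.IsPrime] (r : Ideal Λ₀) [r.IsPrime]
    (Λ : Type u) [CommRing Λ] [Algebra Λ₀ Λ] [IsLocalization.AtPrime Λ r]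
    (A : Type u) [CommRing A] [Algebra A₀ A] [IsLocalization.AtPrime A p]
    (ρ : Λ →+* A)
    (hρ : ∀ l : Λ₀, ρ (algebraMap Λ₀ Λ l) = algebraMap A₀ A (algebraMap Λ₀ A₀ l)) :
    ∃ (_ : Algebra (Λ ⊗[Λ₀] A₀) A) (M : Submonoid (Λ ⊗[Λ₀] A₀)), IsLocalization M A := by
  classical
  letI : Algebra Λ₀ A := ((algebraMap A₀ A).comp (algebraMap Λ₀ A₀)).toAlgebra
  let f : Λ →ₐ[Λ₀] A := { ρ with commutes' := fun l => hρ l }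
  let g : A₀ →ₐ[Λ₀] A := { algebraMap A₀ A with commutes' := fun l => rfl }
  let ψ : Λ ⊗[Λ₀] A₀ →ₐ[Λ₀] A := Algebra.TensorProduct.productMap f g
  have hψ : ∀ l a, ψ (l ⊗ₜ a) = ρ l * algebraMap A₀ A a := fun l a => by
    simp only [ψ, Algebra.TensorProduct.productMap_apply_tmul]
    rfl
  letI alg : Algebra (Λ ⊗[Λ₀] A₀) A := ψ.toRingHom.toAlgebra
  have halg : ∀ t, algebraMap (Λ ⊗[Λ₀] A₀) A t = ψ t := fun t => rfl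
  let M : Submonoid (Λ ⊗[Λ₀] A₀) := (IsUnit.submonoid A).comap ψ.toRingHom
  have hM : ∀ t, t ∈ M ↔ IsUnit (ψ t) := fun t => Iff.rfl
  -- units
  have hs : ∀ s : A₀, s ∉ p → IsUnit (algebraMap A₀ A s) := fun s hs =>
    IsLocalization.map_units A (⟨s, hs⟩ : p.primeCompl)
  have hσ : ∀ σ : Λ₀, σ ∉ r → IsUnit (ρ (algebraMap Λ₀ Λ σ)) := fun σ hσ =>
    (IsLocalization.map_units Λ (⟨σ, hσ⟩ : r.primeCompl)).map ρ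
  refine ⟨alg, M, ?_⟩
  rw [isLocalization_iff]
  refine ⟨fun y => y.2, ?_, ?_⟩
  · intro z
    obtain ⟨⟨a₀, s⟩, hz⟩ := IsLocalization.surj p.primeCompl z
    have hsM : (1 : Λ) ⊗ₜ[Λ₀] (s : A₀) ∈ M := by
      rw [hM, hψ, map_one, one_mul]
      exact hs s s.2
    refine ⟨⟨1 ⊗ₜ a₀, ⟨_, hsM⟩⟩, ?_⟩
    rw [halg, halg, hψ, hψ, map_one, one_mul, one_mul]
    exact hz
  · intro x y hxy
    rw [halg, halg] at hxy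
    obtain ⟨σ₁, a₁, hσ₁, e₁⟩ := exists_clear r Λ x
    obtain ⟨σ₂, a₂, hσ₂, e₂⟩ := exists_clear r Λ y
    -- common multiplier
    have k1 : (algebraMap Λ₀ Λ (σ₁ * σ₂) ⊗ₜ[Λ₀] (1 : A₀)) * x = 1 ⊗ₜ[Λ₀] (σ₂ • a₁) := by
      have : (algebraMap Λ₀ Λ (σ₁ * σ₂) ⊗ₜ[Λ₀] (1 : A₀)) =
          (algebraMap Λ₀ Λ σ₂ ⊗ₜ[Λ₀] (1 : A₀)) * (algebraMap Λ₀ Λ σ₁ ⊗ₜ[Λ₀] (1 : A₀)) := by
        rw [Algebra.TensorProduct.tmul_mul_tmul, one_mul, ← map_mul, mul_comm]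
      rw [this, mul_assoc, e₁, Algebra.TensorProduct.tmul_mul_tmul, mul_one, one_mul,
        Algebra.algebraMap_eq_smul_one, TensorProduct.smul_tmul]
    have k2 : (algebraMap Λ₀ Λ (σ₁ * σ₂) ⊗ₜ[Λ₀] (1 : A₀)) * y = 1 ⊗ₜ[Λ₀] (σ₁ • a₂) := by
      have : (algebraMap Λ₀ Λ (σ₁ * σ₂) ⊗ₜ[Λ₀] (1 : A₀)) =
          (algebraMap Λ₀ Λ σ₁ ⊗ₜ[Λ₀] (1 : A₀)) * (algebraMap Λ₀ Λ σ₂ ⊗ₜ[Λ₀] (1 : A₀)) := by
        rw [Algebra.TensorProduct.tmul_mul_tmul, one_mul, ← map_mul]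
      rw [this, mul_assoc, e₂, Algebra.TensorProduct.tmul_mul_tmul, mul_one, one_mul,
        Algebra.algebraMap_eq_smul_one, TensorProduct.smul_tmul]
    have hσ12 : σ₁ * σ₂ ∉ r := fun h => ((inferInstance : r.IsPrime).mem_or_mem h).elim hσ₁ hσ₂
    have hu : IsUnit (ψ (algebraMap Λ₀ Λ (σ₁ * σ₂) ⊗ₜ[Λ₀] (1 : A₀))) := by
      rw [hψ, map_one, mul_one]
      exact hσ _ hσ12
    have heq : algebraMap A₀ A (σ₂ • a₁) = algebraMap A₀ A (σ₁ • a₂) := by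
      have h1 := congrArg ψ k1
      have h2 := congrArg ψ k2
      rw [map_mul, hψ 1, map_one, one_mul] at h1 h2
      rw [← h1, ← h2, hxy]
    obtain ⟨c, hc⟩ := (IsLocalization.eq_iff_exists p.primeCompl A).mp heq
    have hcM : (algebraMap Λ₀ Λ (σ₁ * σ₂)) ⊗ₜ[Λ₀] (c : A₀) ∈ M := by
      rw [hM, hψ]
      exact (hσ _ hσ12).mul (hs c c.2)
    refine ⟨⟨_, hcM⟩, ?_⟩
    have split : (algebraMap Λ₀ Λ (σ₁ * σ₂)) ⊗ₜ[Λ₀] (c : A₀) =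
        ((1 : Λ) ⊗ₜ[Λ₀] (c : A₀)) * (algebraMap Λ₀ Λ (σ₁ * σ₂) ⊗ₜ[Λ₀] (1 : A₀)) := by
      rw [Algebra.TensorProduct.tmul_mul_tmul, one_mul, mul_one]
    change (algebraMap Λ₀ Λ (σ₁ * σ₂)) ⊗ₜ[Λ₀] (c : A₀) * x =
      (algebraMap Λ₀ Λ (σ₁ * σ₂)) ⊗ₜ[Λ₀] (c : A₀) * y
    rw [split, mul_assoc, mul_assoc, k1, k2, Algebra.TensorProduct.tmul_mul_tmul,
      Algebra.TensorProduct.tmul_mul_tmul, hc]

/-- [GA] of msg 4365 (S7202). -/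
theorem ga {Λ₀ A₀ : Type u} [CommRing Λ₀] [CommRing A₀] [Algebra Λ₀ A₀]
    [IsNoetherianRing Λ₀] [Algebra.FiniteType Λ₀ A₀]
    (p : Ideal A₀) [p.IsPrime] (r : Ideal Λ₀) [r.IsPrime]
    (Λ : Type u) [CommRing Λ] [Algebra Λ₀ Λ] [IsLocalization.AtPrime Λ r] (hG : CAlg.IsGRing Λ)
    (A : Type u) [CommRing A] [IsLocalRing A] [Algebra A₀ A] [IsLocalization.AtPrime A p]
    (ρ : Λ →+* A) [IsLocalHom ρ]
    (hρ : ∀ l : Λ₀, ρ (algebraMap Λ₀ Λ l) = algebraMap A₀ A (algebraMap Λ₀ A₀ l)) :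
    CAlg.IsGRing A := by
  have hT : CAlg.IsGRing (Λ ⊗[Λ₀] A₀) :=
    Groth.Agent.Lib.Helper49.GRingFT.isGRing_of_finiteType Λ hG (Λ ⊗[Λ₀] A₀)
  obtain ⟨alg, M, hM⟩ := exists_isLocalization p r Λ A ρ hρ
  exact Groth.Agent.Lib.Helper58.ExcellentLoc.isGRing_localization (Λ ⊗[Λ₀] A₀) hT M A

end Groth.Agent.Lib.Helper3.AA7202GA
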