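import Mathlib.RingTheory.Spectrum.Prime.Chevalley
import Mathlib.RingTheory.Etale.Basic
import Mathlib.RingTheory.Flat.FaithfullyFlat.Basic
import Mathlib.RingTheory.Ideal.GoingDown
import Mathlib.RingTheory.Smooth.Flat

/-!
# Étale covers from pointwise étale neighbourhoods (helper3)
-/

set_option autoImplicit false
universe u

open TensorProduct

namespace Groth.Agent.Lib.Helper3.EtCover

variable {S : Type u} [CommRing S]

/-- Pointwise étale neighbourhoods assemble to an étale faithfully flat cover. -/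
theorem exists_finite_cover (T : PrimeSpectrum S → Type u) [∀ q, CommRing (T q)]
    [∀ q, Algebra S (T q)] [∀ q, Algebra.Etale S (T q)]
    (hT : ∀ q, q ∈ Set.range (PrimeSpectrum.comap (algebraMap S (T q)))) :
    ∃ s : Finset (PrimeSpectrum S), Module.FaithfullyFlat S (∀ i : s, T i) := by
  classical
  have hopen : ∀ q, IsOpen (Set.range (PrimeSpectrum.comap (algebraMap S (T q)))) := fun q =>
    (PrimeSpectrum.isOpenMap_comap_of_hasGoingDown_of_finitePresentation (R := S)
      (S := T q)).isOpen_range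
  obtain ⟨s, hs⟩ := isCompact_univ.elim_finite_subcover
    (fun q => Set.range (PrimeSpectrum.comap (algebraMap S (T q)))) hopen
    (fun q _ => Set.mem_iUnion.mpr ⟨q, hT q⟩)
  refine ⟨s, ?_⟩
  haveI : ∀ i : s, Module.Flat S (T i) := fun i => inferInstance
  haveI : Module.Flat S (∀ i : s, T i) :=
    Module.Flat.of_linearEquiv (DirectSum.linearEquivFunOnFintype S s (fun i => T i)).symm
  apply Module.FaithfullyFlat.of_comap_surjective
  intro q
  have hq := hs (Set.mem_univ q)
  simp only [Set.mem_iUnion] at hq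
  obtain ⟨i, hi, Q, hQ⟩ := hq
  refine ⟨⟨Q.asIdeal.comap (Pi.evalRingHom (fun j : s => T j) ⟨i, hi⟩), inferInstance⟩, ?_⟩
  ext1
  change (Q.asIdeal.comap (Pi.evalRingHom (fun j : s => T j) ⟨i, hi⟩)).comap
    (algebraMap S (∀ j : s, T j)) = q.asIdeal
  rw [Ideal.comap_comap]
  have h1 : (Pi.evalRingHom (fun j : s => T j) ⟨i, hi⟩).comp (algebraMap S (∀ j : s, T j)) =
      algebraMap S (T i) := by
    ext x
    rfl
  rw [h1]
  exact congrArg PrimeSpectrum.asIdeal hQ

end Groth.Agent.Lib.Helper3.EtCover
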