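import Groth.Agent.Lib.Helper3.IndEtDescentSym

/-! Descent of matrix units adapted to an endomorphism and constants (helper3). -/

set_option autoImplicit false
universe u w

open TensorProduct CategoryTheory

namespace Groth.Agent.Lib.Helper3.IndEtDescent

open Groth.Agent.Lib.Helper87.IndEt Groth.Agent.Lib.Helper3.MatUnits

variable {S : Type u} [CommRing S]
variable (A : Type w) [Ring A] [Algebra S A] (τ : A →ₗ[S] A)

/-- `∑ (1 ⊗ a k l) * y k l` -/
noncomputable def Wc (T : Type*) [CommRing T] [Algebra S T] {n : ℕ} (a : Fin n → Fin n → A)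
    (y : Fin n → Fin n → T ⊗[S] A) : T ⊗[S] A :=
  ∑ k, ∑ l, ((1 : T) ⊗ₜ[S] a k l) * y k l

/-- units adapted to the constants `a`, `a'` -/
def IsAdaptedC (T : Type*) [CommRing T] [Algebra S T] {n : ℕ} (a a' : Fin n → Fin n → A)
    (E : Fin n → Fin n → T ⊗[S] A) : Prop :=
  IsMatUnits E ∧ ∀ i j, τ.baseChange T (E i j) = Wc A T a E * E j i * Wc A T a' E

lemma map_Wc {T T' : Type*} [CommRing T] [Algebra S T] [CommRing T'] [Algebra S T']
    (β : T →ₐ[S] T') {n : ℕ} (a : Fin n → Fin n → A) (y : Fin n → Fin n → T ⊗[S] A) :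
    Algebra.TensorProduct.map β (AlgHom.id S A) (Wc A T a y) =
      Wc A T' a (fun k l => Algebra.TensorProduct.map β (AlgHom.id S A) (y k l)) := by
  simp only [Wc, map_sum, map_mul, Algebra.TensorProduct.map_tmul, map_one, AlgHom.coe_id, id_eq]

lemma map_baseChange {T T' : Type*} [CommRing T] [Algebra S T] [CommRing T'] [Algebra S T']
    (β : T →ₐ[S] T') (y : T ⊗[S] A) :
    Algebra.TensorProduct.map β (AlgHom.id S A) (τ.baseChange T y) =
      τ.baseChange T' (Algebra.TensorProduct.map β (AlgHom.id S A) y) := by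
  induction y using TensorProduct.induction_on with
  | zero => simp
  | tmul e a => simp
  | add x y hx hy => rw [map_add, map_add, map_add, map_add, hx, hy]

/-- adapted units are preserved by base change -/
lemma IsAdaptedC.map {T T' : Type*} [CommRing T] [Algebra S T] [CommRing T'] [Algebra S T']
    (β : T →ₐ[S] T') {n : ℕ} {a a' : Fin n → Fin n → A} {E : Fin n → Fin n → T ⊗[S] A}
    (h : IsAdaptedC A τ T a a' E) :
    IsAdaptedC A τ T' a a' (fun k l => Algebra.TensorProduct.map β (AlgHom.id S A) (E k l)) := by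
  refine ⟨h.1.map ((Algebra.TensorProduct.map β (AlgHom.id S A)).toRingHom), ?_⟩
  intro i j
  rw [← map_baseChange, h.2, map_mul, map_mul, map_Wc, map_Wc]

variable {H : Type u} [CommRing H] [Algebra S H]
variable (h1 : CoveredByEtale S H) (h2 : KillsRelations S H)

include h1 h2

/-- adapted matrix units in `H ⊗ A` descend to a stage -/
theorem exists_adapted_matUnits [Module.Flat S H] {n : ℕ} (a a' : Fin n → Fin n → A)
    (E : Fin n → Fin n → H ⊗[S] A) (hE : IsAdaptedC A τ H a a' E) :
    ∃ (k : EIdx S H) (E' : Fin n → Fin n → k.A ⊗[S] A), IsAdaptedC A τ k.A a a' E' := by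
  classical
  obtain ⟨hE, hτ⟩ := hE
  obtain ⟨j, y, hy⟩ := exists_rep_family A h1 h2 (fun p : Fin n × Fin n => E p.1 p.2)
  let Y : Fin n → Fin n → j.A ⊗[S] A := fun i l => y (i, l)
  have hY : ∀ i l, fA A j (Y i l) = E i l := fun i l => hy (i, l)
  have hW : ∀ b : Fin n → Fin n → A, fA A j (Wc A j.A b Y) = Wc A H b E := by
    intro b
    have := map_Wc A j.f b Y
    change fA A j (Wc A j.A b Y) = _ at this
    rw [this]
    congr 1
    funext k l
    exact hY k l
  let rel : (Fin n × Fin n) × (Fin n × Fin n) → j.A ⊗[S] A := fun p =>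
    Y p.1.1 p.1.2 * Y p.2.1 p.2.2 - if p.1.2 = p.2.1 then Y p.1.1 p.2.2 else 0
  let rel' : Fin n × Fin n → j.A ⊗[S] A := fun p =>
    τ.baseChange j.A (Y p.1 p.2) - Wc A j.A a Y * Y p.2 p.1 * Wc A j.A a' Y
  obtain ⟨k, g, hk⟩ := exists_kill_tensor_finset A h1 h2 j
    (insert (∑ i, Y i i - 1) (Finset.univ.image rel ∪ Finset.univ.image rel')) (by
      intro r hr
      rcases Finset.mem_insert.mp hr with rfl | hr
      · have e1 : fA A j 1 = 1 := (fA A j).map_one
        rw [map_sub, map_sum, e1]
        simp only [hY]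
        rw [hE.sum, sub_self]
      · rcases Finset.mem_union.mp hr with hr | hr
        · obtain ⟨p, -, rfl⟩ := Finset.mem_image.mp hr
          simp only [rel]
          rw [map_sub, map_mul, hY, hY, hE.mul]
          split_ifs with h
          · rw [hY, sub_self]
          · rw [map_zero, sub_self]
        · obtain ⟨p, -, rfl⟩ := Finset.mem_image.mp hr
          simp only [rel']
          rw [map_sub, fA_baseChange, map_mul, map_mul, hW, hW, hY, hY, hτ, sub_self])
  have hWk : ∀ b : Fin n → Fin n → A, mapA A g (Wc A j.A b Y) =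
      Wc A k.A b (fun i l => mapA A g (Y i l)) := fun b => map_Wc A g.map b Y
  refine ⟨k, fun i l => mapA A g (Y i l), ⟨?_, ?_⟩, ?_⟩
  · intro i₁ i₂ i₃ i₄
    have := hk _ (Finset.mem_insert_of_mem (Finset.mem_union_left _ (Finset.mem_image_of_mem rel
      (Finset.mem_univ ((i₁, i₂), (i₃, i₄))))))
    simp only [rel] at this
    rw [map_sub, map_mul, sub_eq_zero] at this
    rw [this]
    split_ifs with h
    · rfl
    · rw [map_zero]
  · have := hk _ (Finset.mem_insert_self _ _)
    have e1 : mapA A g 1 = 1 := (mapA A g).map_one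
    rw [map_sub, map_sum, e1, sub_eq_zero] at this
    exact this
  · intro i l
    have := hk _ (Finset.mem_insert_of_mem (Finset.mem_union_right _ (Finset.mem_image_of_mem rel'
      (Finset.mem_univ (i, l)))))
    simp only [rel'] at this
    rw [map_sub, sub_eq_zero, mapA_baseChange, map_mul, map_mul, hWk, hWk] at this
    exact this

end Groth.Agent.Lib.Helper3.IndEtDescent
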