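import Mathlib.LinearAlgebra.TensorProduct.Pi
import Mathlib.RingTheory.TensorProduct.Maps
import Mathlib.Algebra.Algebra.Pi

/-!
# Tensoring a finite product of algebras with an algebra (helper3)

The map from `(Π T i) ⊗ A` to `Π (T i ⊗ A)` assembled from the projections is bijective.
-/

set_option autoImplicit false
universe u v w x

open TensorProduct

namespace Groth.Agent.Lib.Helper3.PiTensor

variable (S : Type u) [CommRing S] {ι : Type v} [Fintype ι] [DecidableEq ι]
  (T : ι → Type w) [∀ i, CommRing (T i)] [∀ i, Algebra S (T i)]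
  (A : Type x) [Ring A] [Algebra S A]

/-- component projection -/
noncomputable def prj (i : ι) : (∀ i, T i) ⊗[S] A →ₐ[S] T i ⊗[S] A :=
  Algebra.TensorProduct.map (Pi.evalAlgHom S T i) (AlgHom.id S A)

@[simp] lemma prj_tmul (i : ι) (f : ∀ i, T i) (a : A) : prj S T A i (f ⊗ₜ a) = f i ⊗ₜ a := rfl

/-- all projections together -/
noncomputable def prjAll : (∀ i, T i) ⊗[S] A →ₐ[S] ∀ i, T i ⊗[S] A :=
  AlgHom.pi (fun i => prj S T A i)

@[simp] lemma prjAll_apply (x : (∀ i, T i) ⊗[S] A) (i : ι) : prjAll S T A x i = prj S T A i x := rfl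

theorem prjAll_eq_piLeft (x : (∀ i, T i) ⊗[S] A) :
    prjAll S T A x = TensorProduct.piLeft S A T x := by
  induction x using TensorProduct.induction_on with
  | zero => simp
  | tmul f a =>
    ext i
    simp
  | add x y hx hy => rw [map_add, map_add, hx, hy]

theorem bijective_prjAll : Function.Bijective (prjAll S T A) := by
  have : (prjAll S T A : (∀ i, T i) ⊗[S] A → ∀ i, T i ⊗[S] A) = TensorProduct.piLeft S A T := by
    funext x
    exact prjAll_eq_piLeft S T A x
  rw [this]
  exact (TensorProduct.piLeft S A T).bijective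

/-- glue elements -/
theorem exists_glue (y : ∀ i, T i ⊗[S] A) : ∃ x : (∀ i, T i) ⊗[S] A, ∀ i, prj S T A i x = y i := by
  obtain ⟨x, hx⟩ := (bijective_prjAll S T A).2 y
  exact ⟨x, fun i => congrFun hx i⟩

theorem ext_prj {x y : (∀ i, T i) ⊗[S] A} (h : ∀ i, prj S T A i x = prj S T A i y) : x = y :=
  (bijective_prjAll S T A).1 (funext h)

end Groth.Agent.Lib.Helper3.PiTensor
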