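import Groth.Agent.Lib.Helper87.HensIndEtale
import Groth.Agent.Lib.Helper87.HensRes

/-! The strictly henselian local ring `Hq q` at a prime `q` of an arbitrary commutative ring:
the residue field is the separable closure of `κ(q)`. -/

set_option autoImplicit false
universe u
open Groth.Agent.Lib.Helper87 Groth.Agent.Lib.Helper87.Hens IsLocalRing Polynomial

namespace Groth.Agent.Lib.Helper3.StrictHensPrime

section General

variable {R : Type u} [CommRing R] {κ : Type u} [Field κ] [Algebra R κ]
variable {Ω : Type u} [Field Ω] [Algebra R Ω] [Algebra κ Ω] [IsScalarTower R κ Ω]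

/-- every separable element of `Ω` whose minimal polynomial lifts to `R` is the value of a
point of an étale `R`-algebra. -/
theorem exists_pointed_etale_of_lifts (α : Ω) (hα : IsSeparable κ α)
    (p : R[X]) (hpm : p.Monic) (hp1 : p.map (algebraMap R κ) = minpoly κ α) :
    ∃ (A : Type u) (_ : CommRing A) (_ : Algebra R A) (_ : Algebra.Etale R A)
      (φ : A →ₐ[R] Ω) (a : A), φ a = α := by
  let P : StandardEtalePair R := ⟨p, hpm, derivative p, ⟨1, 0, 1, by simp⟩⟩
  have hev : ∀ q : R[X], aeval α q = aeval α (q.map (algebraMap R κ)) := by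
    intro q
    rw [aeval_def, aeval_def, eval₂_map]
    congr 1
    exact IsScalarTower.algebraMap_eq R κ Ω
  have hmap : P.HasMap α := by
    constructor
    · show aeval α p = 0
      rw [hev, hp1]
      exact minpoly.aeval _ _
    · show IsUnit (aeval α (derivative p))
      rw [hev, ← derivative_map, hp1, isUnit_iff_ne_zero]
      exact Polynomial.Separable.aeval_derivative_ne_zero hα (minpoly.aeval _ _)
  exact ⟨P.Ring, inferInstance, inferInstance, inferInstance, P.lift α hmap, P.X, P.lift_X α hmap⟩

end General

section Denominators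

variable {S : Type u} [CommRing S] (q : Ideal S) [q.IsPrime]

/-- a monic polynomial over the localization at `q` comes from a monic polynomial over
`S[1/b]` for some `b ∉ q`. -/
theorem exists_away_lift (p : (Localization.AtPrime q)[X]) (hp : p.Monic) :
    ∃ (b : S) (hb : b ∈ q.primeCompl) (p' : (Localization.Away b)[X]), p'.Monic ∧
      p'.map (IsLocalization.Away.lift (S := Localization.Away b) b
        (g := algebraMap S (Localization.AtPrime q))
        (IsLocalization.map_units (Localization.AtPrime q) ⟨b, hb⟩)) = p := by
  classical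
  obtain ⟨b, hb⟩ := IsLocalization.exist_integer_multiples_of_finset q.primeCompl
    (p.support.image p.coeff)
  refine ⟨b.1, b.2, ?_⟩
  set θ := IsLocalization.Away.lift (S := Localization.Away b.1) b.1
        (g := algebraMap S (Localization.AtPrime q))
        (IsLocalization.map_units (Localization.AtPrime q) ⟨b.1, b.2⟩) with hθ
  have hmem : p ∈ Polynomial.lifts θ := by
    rw [Polynomial.lifts_iff_coeff_lifts]
    intro n
    by_cases hn : n ∈ p.support
    · obtain ⟨a', ha'⟩ := hb (p.coeff n) (Finset.mem_image_of_mem _ hn)
      refine ⟨IsLocalization.mk' (Localization.Away b.1) a' (⟨b.1, Submonoid.mem_powers _⟩ :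
        Submonoid.powers b.1), ?_⟩
      rw [hθ, IsLocalization.Away.lift, IsLocalization.lift_mk'_spec, ha', Algebra.smul_def]
    · rw [Polynomial.notMem_support_iff] at hn
      rw [hn]
      exact ⟨0, map_zero _⟩
  obtain ⟨p', hp', -, hp'm⟩ := lifts_and_natDegree_eq_and_monic hmem hp
  exact ⟨p', hp'm, hp'⟩

/-- the separable closure of the residue field at `q`. -/
abbrev Ωq : Type u := SeparableClosure q.ResidueField

/-- every element of the separable closure of `κ(q)` is the value of a point of an étale
`S`-algebra. -/
theorem exists_pointed_etale (α : Ωq q) :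
    ∃ (A : Type u) (_ : CommRing A) (_ : Algebra S A) (_ : Algebra.Etale S A)
      (φ : A →ₐ[S] Ωq q) (a : A), φ a = α := by
  have hα : IsSeparable q.ResidueField α := Algebra.IsSeparable.isSeparable _ α
  have hint : IsIntegral q.ResidueField α := hα.isIntegral
  have hp₀ : (minpoly q.ResidueField α).Monic := minpoly.monic hint
  have hlift : minpoly q.ResidueField α ∈
      Polynomial.lifts (algebraMap (Localization.AtPrime q) q.ResidueField) :=
    (Polynomial.lifts_iff_coeff_lifts _).mpr fun n => IsLocalRing.residue_surjective _
  obtain ⟨p₁, hp₁, -, hp₁m⟩ := lifts_and_natDegree_eq_and_monic hlift hp₀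
  obtain ⟨b, hb, p, hpm, hp⟩ := exists_away_lift q p₁ hp₁m
  set θ := IsLocalization.Away.lift (S := Localization.Away b) b
        (g := algebraMap S (Localization.AtPrime q))
        (IsLocalization.map_units (Localization.AtPrime q) ⟨b, hb⟩) with hθ
  have hθ' : ∀ s : S, θ (algebraMap S (Localization.Away b) s) =
      algebraMap S (Localization.AtPrime q) s := fun s => IsLocalization.Away.lift_eq _ _ _
  let _ : Algebra (Localization.Away b) q.ResidueField :=
    ((algebraMap (Localization.AtPrime q) q.ResidueField).comp θ).toAlgebra
  let _ : Algebra (Localization.Away b) (Ωq q) :=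
    ((algebraMap q.ResidueField (Ωq q)).comp
      (algebraMap (Localization.Away b) q.ResidueField)).toAlgebra
  have : IsScalarTower (Localization.Away b) q.ResidueField (Ωq q) :=
    IsScalarTower.of_algebraMap_eq fun _ => rfl
  have : IsScalarTower S (Localization.Away b) (Ωq q) :=
    IsScalarTower.of_algebraMap_eq fun s => by
      show _ = algebraMap q.ResidueField (Ωq q)
        (algebraMap (Localization.AtPrime q) q.ResidueField
          (θ (algebraMap S (Localization.Away b) s)))
      rw [hθ', ← IsScalarTower.algebraMap_apply S (Localization.AtPrime q) q.ResidueField,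
        ← IsScalarTower.algebraMap_apply S q.ResidueField (Ωq q)]
  have hp1 : p.map (algebraMap (Localization.Away b) q.ResidueField) =
      minpoly q.ResidueField α := by
    rw [← hp₁, ← hp, Polynomial.map_map]
    rfl
  obtain ⟨A, _, _, _, φ, a, ha⟩ := exists_pointed_etale_of_lifts (R := Localization.Away b)
    (κ := q.ResidueField) α hα p hpm hp1
  let _ : Algebra S A := Algebra.compHom A (algebraMap S (Localization.Away b))
  have : IsScalarTower S (Localization.Away b) A := IsScalarTower.of_algebraMap_eq fun _ => rfl
  have : Algebra.Etale S A := Algebra.Etale.comp S (Localization.Away b) A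
  exact ⟨A, inferInstance, inferInstance, inferInstance, φ.restrictScalars S, a, ha⟩

/-- the strictly henselian local ring at a prime `q` of an arbitrary ring. -/
abbrev Hq : Type u := H S (Ωq q)

theorem ε_surjective : Function.Surjective (H.ε : Hq q →ₐ[S] Ωq q) := by
  intro α
  obtain ⟨A, _, _, _, φ, a, ha⟩ := exists_pointed_etale q α
  obtain ⟨k, g, hg⟩ := exists_idx_map φ
  refine ⟨H.of k (g (algebraMap A (Loc φ) a)), ?_⟩
  rw [H.ε_of]
  have : k.ε (g (algebraMap A (Loc φ) a)) = Loc.ε φ (algebraMap A (Loc φ) a) :=
    DFunLike.congr_fun hg _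
  rw [this, Loc.ε_algebraMap, ha]

/-- the residue field of `Hq q` is `Ωq q`. -/
noncomputable def residueEquiv : ResidueField (Hq q) ≃+* Ωq q :=
  RingEquiv.ofBijective
    (Ideal.Quotient.lift (maximalIdeal (Hq q)) (H.ε : Hq q →ₐ[S] Ωq q).toRingHom
      (fun x hx => (H.ε_eq_zero_iff x).mpr hx))
    ⟨RingHom.injective _, fun α => by
      obtain ⟨x, hx⟩ := ε_surjective q α
      exact ⟨residue _ x, hx⟩⟩

instance isSepClosed_residueField : IsSepClosed (ResidueField (Hq q)) := by
  have hsepΩ : IsSepClosed (Ωq q) := inferInstance
  apply IsSepClosed.of_exists_root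
  intro p hpm hpi hps
  have hdeg : (p.map (residueEquiv q).toRingHom).degree ≠ 0 := by
    rw [degree_map]
    exact (degree_pos_of_irreducible hpi).ne'
  obtain ⟨β, hβ⟩ := IsSepClosed.exists_root _ hdeg hps.map
  refine ⟨(residueEquiv q).symm β, ?_⟩
  apply (residueEquiv q).injective
  rw [map_zero]
  rw [IsRoot.def, eval_map] at hβ
  rw [← hβ]
  have := Polynomial.hom_eval₂ p (RingHom.id _) (residueEquiv q).toRingHom
    ((residueEquiv q).symm β)
  simp only [RingHom.comp_id, eval₂_id] at this
  rw [show (residueEquiv q).toRingHom ((residueEquiv q).symm β) = β from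
    (residueEquiv q).apply_symm_apply β] at this
  exact this

theorem comap_maximalIdeal :
    (maximalIdeal (Hq q)).comap (algebraMap S (Hq q)) = q := by
  ext s
  rw [Ideal.mem_comap, ← H.ε_eq_zero_iff, AlgHom.commutes,
    IsScalarTower.algebraMap_apply S q.ResidueField (Ωq q), map_eq_zero_iff _
      (algebraMap q.ResidueField (Ωq q)).injective, ← RingHom.mem_ker,
    Ideal.ker_algebraMap_residueField]

end Denominators

end Groth.Agent.Lib.Helper3.StrictHensPrime
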