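import Mathlib.RingTheory.Etale.Pi
import Groth.Agent.Lib.Helper3.IndEtDescentAdapted
import Groth.Agent.Lib.Helper3.StrictHensPrime
import Groth.Agent.Lib.Helper3.PiTensor
import Groth.Agent.Lib.Helper3.EtCover

/-! Adapted matrix units: from strict henselizations to étale neighbourhoods to covers
(helper3). -/

set_option autoImplicit false
universe u w

open TensorProduct IsLocalRing

namespace Groth.Agent.Lib.Helper3.AdaptedCore

open Groth.Agent.Lib.Helper3.MatUnits Groth.Agent.Lib.Helper87 Groth.Agent.Lib.Helper87.Hens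
  Groth.Agent.Lib.Helper3.StrictHensPrime Groth.Agent.Lib.Helper3.IndEtDescent

variable {S : Type u} [CommRing S] (A : Type w) [Ring A] [Algebra S A] (τ : A →ₗ[S] A)
  {n : ℕ} (a a' : Fin n → Fin n → A)

/-- adapted units over the strict henselization at `q` descend to an étale neighbourhood of `q` -/
theorem exists_adapted_at (q : PrimeSpectrum S)
    (h : ∃ E : Fin n → Fin n → (Hq q.asIdeal) ⊗[S] A, IsAdaptedC A τ (Hq q.asIdeal) a a' E) :
    ∃ (T : Type u) (_ : CommRing T) (_ : Algebra S T) (_ : Algebra.Etale S T),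
      q ∈ Set.range (PrimeSpectrum.comap (algebraMap S T)) ∧
      ∃ E : Fin n → Fin n → T ⊗[S] A, IsAdaptedC A τ T a a' E := by
  haveI := q.isPrime
  obtain ⟨E, hE⟩ := h
  obtain ⟨k, E', hE'⟩ := IndEtDescent.exists_adapted_matUnits A τ
    (H.coveredByEtale (R := S) (Ω := Ωq q.asIdeal)) (H.killsRelations (R := S) (Ω := Ωq q.asIdeal))
    a a' E hE
  refine ⟨k.A, inferInstance, inferInstance, inferInstance, ?_, E', hE'⟩
  refine ⟨⟨(maximalIdeal (Hq q.asIdeal)).comap k.f.toRingHom, inferInstance⟩, ?_⟩
  ext1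
  change ((maximalIdeal (Hq q.asIdeal)).comap k.f.toRingHom).comap (algebraMap S k.A) = q.asIdeal
  rw [Ideal.comap_comap]
  have : k.f.toRingHom.comp (algebraMap S k.A) = algebraMap S (Hq q.asIdeal) := by
    ext x
    exact k.f.commutes x
  rw [this, comap_maximalIdeal]

/-- local-to-global for adapted units -/
theorem exists_adapted_cover
    (hloc : ∀ q : PrimeSpectrum S, ∃ (T : Type u) (_ : CommRing T) (_ : Algebra S T)
      (_ : Algebra.Etale S T), q ∈ Set.range (PrimeSpectrum.comap (algebraMap S T)) ∧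
      ∃ E : Fin n → Fin n → T ⊗[S] A, IsAdaptedC A τ T a a' E) :
    ∃ (S' : Type u) (_ : CommRing S') (_ : Algebra S S') (_ : Algebra.Etale S S')
      (_ : Module.FaithfullyFlat S S') (E : Fin n → Fin n → S' ⊗[S] A),
      IsAdaptedC A τ S' a a' E := by
  classical
  choose T iCR iAlg iEt hT E hE using hloc
  obtain ⟨s, hs⟩ := EtCover.exists_finite_cover T hT
  refine ⟨∀ i : s, T i, inferInstance, inferInstance, inferInstance, hs, ?_⟩
  have hglue := fun a b => PiTensor.exists_glue S (fun i : s => T i) A (fun i => E i a b)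
  choose G hG using hglue
  have hprjW : ∀ (b : Fin n → Fin n → A) (i : s),
      PiTensor.prj S (fun i : s => T i) A i (Wc A (∀ i : s, T i) b G) = Wc A (T i) b (E i) := by
    intro b i
    have := map_Wc A (Pi.evalAlgHom S (fun i : s => T i) i) b G
    change PiTensor.prj S (fun i : s => T i) A i (Wc A (∀ i : s, T i) b G) = _ at this
    rw [this]
    congr 1
    funext k l
    exact hG k l i
  refine ⟨G, ⟨?_, ?_⟩, ?_⟩
  · intro a b c d
    apply PiTensor.ext_prj
    intro i
    rw [map_mul, hG, hG, (hE i).1.mul]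
    split_ifs with h
    · rw [hG]
    · rw [map_zero]
  · apply PiTensor.ext_prj
    intro i
    rw [map_sum]
    simp only [hG]
    rw [(hE i).1.sum]
    exact ((PiTensor.prj S (fun i : s => T i) A i).map_one).symm
  · intro c d
    apply PiTensor.ext_prj
    intro i
    have := map_baseChange A τ (Pi.evalAlgHom S (fun i : s => T i) i) (G c d)
    change PiTensor.prj S (fun i : s => T i) A i (τ.baseChange (∀ i : s, T i) (G c d)) =
      τ.baseChange (T i) (PiTensor.prj S (fun i : s => T i) A i (G c d)) at this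
    rw [this, hG, map_mul, map_mul, hprjW, hprjW, hG, (hE i).2]

end Groth.Agent.Lib.Helper3.AdaptedCore
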