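import Mathlib.LinearAlgebra.Matrix.SchurComplement
import Mathlib.LinearAlgebra.Matrix.NonsingularInverse
import Mathlib.RingTheory.LocalRing.ResidueField.Basic
import Mathlib.Tactic.NoncommRing
import Mathlib.Logic.Equiv.Fin.Basic
import Groth.Prelude.Def_AzInv

/-! Hermitian congruence of matrices: permutations, Schur complements, diagonalization over
local rings (helper3). -/

set_option autoImplicit false
universe u

open Matrix AzInv

namespace Groth.Agent.Lib.Helper3.HermCong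

variable {K : Type*} [CommRing K] (σ : K →+* K)

section basic

variable {ι : Type*} [Fintype ι] [DecidableEq ι]

lemma lamTr_mul (a b : Matrix ι ι K) : lamTr σ (a * b) = lamTr σ b * lamTr σ a := by
  simp only [lamTr, Matrix.map_mul, Matrix.transpose_mul]

lemma lamTr_one : lamTr σ (1 : Matrix ι ι K) = 1 := by
  simp [lamTr]

lemma lamTr_add (a b : Matrix ι ι K) : lamTr σ (a + b) = lamTr σ a + lamTr σ b := by
  ext i j; simp [lamTr]

lemma lamTr_sub (a b : Matrix ι ι K) : lamTr σ (a - b) = lamTr σ a - lamTr σ b := by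
  ext i j; simp [lamTr]

lemma lamTr_lamTr (hσ : ∀ a, σ (σ a) = a) (a : Matrix ι ι K) : lamTr σ (lamTr σ a) = a := by
  ext i j; simp [lamTr, hσ]

lemma lamTr_single (i j : ι) (a : K) :
    lamTr σ (Matrix.single j i a) = Matrix.single i j (σ a) := by
  ext k l
  simp only [lamTr_apply, Matrix.single_apply]
  by_cases h : j = l ∧ i = k
  · rw [if_pos h, if_pos ⟨h.2, h.1⟩]
  · rw [if_neg h, if_neg (fun h' => h ⟨h'.2, h'.1⟩), map_zero]

lemma isUnit_lamTr {v : Matrix ι ι K} (hv : IsUnit v) : IsUnit (lamTr σ v) := by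
  obtain ⟨u, rfl⟩ := hv
  refine ⟨⟨lamTr σ ↑u, lamTr σ ↑u⁻¹, ?_, ?_⟩, rfl⟩
  · rw [← lamTr_mul, Units.inv_mul, lamTr_one]
  · rw [← lamTr_mul, Units.mul_inv, lamTr_one]

/-- hermitian congruence -/
def Cong (c c' : Matrix ι ι K) : Prop :=
  ∃ v : Matrix ι ι K, IsUnit v ∧ lamTr σ v * c * v = c'

lemma Cong.refl (c : Matrix ι ι K) : Cong σ c c :=
  ⟨1, isUnit_one, by rw [lamTr_one, one_mul, mul_one]⟩

lemma Cong.trans {c c' c'' : Matrix ι ι K} (h : Cong σ c c') (h' : Cong σ c' c'') :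
    Cong σ c c'' := by
  obtain ⟨v, hv, rfl⟩ := h
  obtain ⟨v', hv', rfl⟩ := h'
  refine ⟨v * v', hv.mul hv', ?_⟩
  rw [lamTr_mul]
  simp only [mul_assoc]

lemma Cong.symm {c c' : Matrix ι ι K} (h : Cong σ c c') : Cong σ c' c := by
  obtain ⟨v, hv, rfl⟩ := h
  obtain ⟨u, rfl⟩ := hv
  refine ⟨↑u⁻¹, ⟨u⁻¹, rfl⟩, ?_⟩
  have h1 : lamTr σ (↑u⁻¹ : Matrix ι ι K) * lamTr σ (↑u : Matrix ι ι K) = 1 := by
    rw [← lamTr_mul, Units.mul_inv, lamTr_one]
  calc lamTr σ (↑u⁻¹ : Matrix ι ι K) * (lamTr σ ↑u * c * ↑u) * ↑u⁻¹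
      = (lamTr σ (↑u⁻¹ : Matrix ι ι K) * lamTr σ ↑u) * c * (↑u * ↑u⁻¹) := by
        simp only [mul_assoc]
    _ = c := by rw [h1, Units.mul_inv, one_mul, mul_one]

lemma Cong.isUnit {c c' : Matrix ι ι K} (h : Cong σ c c') (hc : IsUnit c) : IsUnit c' := by
  obtain ⟨v, hv, rfl⟩ := h
  exact ((isUnit_lamTr σ hv).mul hc).mul hv

lemma Cong.herm (hσ : ∀ a, σ (σ a) = a) {c c' : Matrix ι ι K} (h : Cong σ c c')
    (hc : lamTr σ c = c) : lamTr σ c' = c' := by
  obtain ⟨v, hv, rfl⟩ := h
  rw [lamTr_mul, lamTr_mul, lamTr_lamTr σ hσ, hc, mul_assoc]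

lemma Cong.skew (hσ : ∀ a, σ (σ a) = a) {c c' : Matrix ι ι K} (h : Cong σ c c')
    (hc : lamTr σ c = -c) : lamTr σ c' = -c' := by
  obtain ⟨v, hv, rfl⟩ := h
  rw [lamTr_mul, lamTr_mul, lamTr_lamTr σ hσ, hc, mul_assoc]
  simp

end basic

section reindex

variable {ι ι' : Type*} [Fintype ι] [DecidableEq ι] [Fintype ι'] [DecidableEq ι']

lemma lamTr_submatrix (a : Matrix ι ι K) (e f : ι' → ι) :
    lamTr σ (a.submatrix e f) = (lamTr σ a).submatrix f e := by
  ext i j; simp [lamTr]

lemma Cong.reindex (e : ι ≃ ι') {c c' : Matrix ι ι K} (h : Cong σ c c') :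
    Cong σ (Matrix.reindex e e c) (Matrix.reindex e e c') := by
  obtain ⟨v, hv, rfl⟩ := h
  refine ⟨Matrix.reindex e e v, ?_, ?_⟩
  · rw [Matrix.isUnit_iff_isUnit_det, Matrix.det_reindex_self]
    exact (Matrix.isUnit_iff_isUnit_det _).mp hv
  · simp only [Matrix.reindex_apply, lamTr_submatrix, Matrix.submatrix_mul_equiv]

/-- permuting the indices is a congruence -/
lemma Cong.perm (e : ι ≃ ι) (c : Matrix ι ι K) : Cong σ c (c.submatrix e e) := by
  have hl : lamTr σ ((1 : Matrix ι ι K).submatrix (Equiv.refl ι) e) =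
      (1 : Matrix ι ι K).submatrix e (Equiv.refl ι) := by
    ext i j
    simp only [lamTr_apply, Matrix.submatrix_apply, Equiv.refl_apply, Matrix.one_apply]
    by_cases h : j = e i
    · simp [h]
    · simp [h, Ne.symm h]
  refine ⟨(1 : Matrix ι ι K).submatrix (Equiv.refl ι) e, ?_, ?_⟩
  · have hinv : (1 : Matrix ι ι K).submatrix e (Equiv.refl ι) *
        (1 : Matrix ι ι K).submatrix (Equiv.refl ι) e = 1 := by
      rw [Matrix.one_submatrix_mul]
      ext i j
      simp [Matrix.one_apply]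
    exact ⟨⟨_, _, mul_eq_one_comm.mp hinv, hinv⟩, rfl⟩
  · rw [hl, Matrix.one_submatrix_mul, Matrix.mul_submatrix_one]
    ext i j
    simp

end reindex

section blocks

variable {α β : Type*} [Fintype α] [DecidableEq α] [Fintype β] [DecidableEq β]

lemma lamTr_fromBlocks (A : Matrix α α K) (B : Matrix α β K) (C : Matrix β α K)
    (D : Matrix β β K) :
    lamTr σ (Matrix.fromBlocks A B C D) =
      Matrix.fromBlocks (lamTr σ A) ((C.map σ)ᵀ) ((B.map σ)ᵀ) (lamTr σ D) := by
  simp only [lamTr, Matrix.fromBlocks_map, Matrix.fromBlocks_transpose]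

/-- block diagonal congruence -/
lemma Cong.blockDiag {A A' : Matrix α α K} {D D' : Matrix β β K} (hA : Cong σ A A')
    (hD : Cong σ D D') :
    Cong σ (Matrix.fromBlocks A 0 0 D) (Matrix.fromBlocks A' 0 0 D') := by
  obtain ⟨v, hv, rfl⟩ := hA
  obtain ⟨v', hv', rfl⟩ := hD
  obtain ⟨u, rfl⟩ := hv
  obtain ⟨u', rfl⟩ := hv'
  refine ⟨Matrix.fromBlocks ↑u 0 0 ↑u', ?_, ?_⟩
  · refine ⟨⟨Matrix.fromBlocks ↑u 0 0 ↑u', Matrix.fromBlocks ↑u⁻¹ 0 0 ↑u'⁻¹, ?_, ?_⟩, rfl⟩
    · simp [Matrix.fromBlocks_multiply]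
    · simp [Matrix.fromBlocks_multiply]
  · rw [lamTr_fromBlocks]
    simp [Matrix.fromBlocks_multiply, lamTr]

/-- Schur complement: pivoting on an invertible lower right block (general form) -/
lemma Cong.schur' (A : Matrix α α K) (B : Matrix α β K)
    (C : Matrix β α K) (D : Matrix β β K) (hD : IsUnit D)
    (h2 : ((D⁻¹ * C).map σ)ᵀ = B * D⁻¹) :
    Cong σ (Matrix.fromBlocks A B C D) (Matrix.fromBlocks (A - B * D⁻¹ * C) 0 0 D) := by
  apply Cong.symm
  refine ⟨Matrix.fromBlocks 1 0 (D⁻¹ * C) 1, ?_, ?_⟩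
  · refine ⟨⟨Matrix.fromBlocks 1 0 (D⁻¹ * C) 1, Matrix.fromBlocks 1 0 (-(D⁻¹ * C)) 1, ?_, ?_⟩, rfl⟩
    · simp [Matrix.fromBlocks_multiply]
    · simp [Matrix.fromBlocks_multiply]
  · rw [lamTr_fromBlocks]
    have hdet := (Matrix.isUnit_iff_isUnit_det _).mp hD
    have h0 : ((0 : Matrix α β K).map σ)ᵀ = 0 := by ext; simp
    simp only [Matrix.fromBlocks_multiply, lamTr_one, h0, h2,
      Matrix.one_mul, Matrix.mul_one, Matrix.zero_mul, Matrix.mul_zero, add_zero, zero_add]
    congr 1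
    · rw [Matrix.mul_assoc (B * D⁻¹), ← Matrix.mul_assoc D, Matrix.mul_nonsing_inv _ hdet,
        Matrix.one_mul]
      abel
    · rw [Matrix.mul_assoc, Matrix.nonsing_inv_mul _ hdet, Matrix.mul_one]
    · rw [← Matrix.mul_assoc, Matrix.mul_nonsing_inv _ hdet, Matrix.one_mul]

/-- Schur complement, hermitian case -/
lemma Cong.schur (A : Matrix α α K) (B : Matrix α β K)
    (C : Matrix β α K) (D : Matrix β β K) (hD : IsUnit D)
    (hBC : (C.map σ)ᵀ = B) (hDD : lamTr σ D = D) :
    Cong σ (Matrix.fromBlocks A B C D) (Matrix.fromBlocks (A - B * D⁻¹ * C) 0 0 D) := by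
  apply Cong.schur' σ A B C D hD
  have hDi : lamTr σ D⁻¹ = D⁻¹ := by
    have h1 : lamTr σ D⁻¹ * D = 1 := by
      calc lamTr σ D⁻¹ * D = lamTr σ D⁻¹ * lamTr σ D := by rw [hDD]
        _ = 1 := by
          rw [← lamTr_mul, Matrix.mul_nonsing_inv _ ((Matrix.isUnit_iff_isUnit_det _).mp hD),
            lamTr_one]
    exact (Matrix.inv_eq_left_inv h1).symm
  rw [Matrix.map_mul, Matrix.transpose_mul, hBC]
  congr 1

/-- Schur complement, skew-hermitian case -/
lemma Cong.schur_skew (A : Matrix α α K) (B : Matrix α β K)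
    (C : Matrix β α K) (D : Matrix β β K) (hD : IsUnit D)
    (hBC : (C.map σ)ᵀ = -B) (hDD : lamTr σ D = -D) :
    Cong σ (Matrix.fromBlocks A B C D) (Matrix.fromBlocks (A - B * D⁻¹ * C) 0 0 D) := by
  apply Cong.schur' σ A B C D hD
  have hDi : lamTr σ D⁻¹ = -D⁻¹ := by
    have h1 : (-lamTr σ D⁻¹) * D = 1 := by
      calc (-lamTr σ D⁻¹) * D = lamTr σ D⁻¹ * lamTr σ D := by rw [hDD]; simp
        _ = 1 := by
          rw [← lamTr_mul, Matrix.mul_nonsing_inv _ ((Matrix.isUnit_iff_isUnit_det _).mp hD),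
            lamTr_one]
    have h3 := Matrix.inv_eq_left_inv h1
    calc lamTr σ D⁻¹ = -(-lamTr σ D⁻¹) := (neg_neg _).symm
      _ = -D⁻¹ := by rw [← h3]
  rw [Matrix.map_mul, Matrix.transpose_mul, hBC]
  have : (D⁻¹.map σ)ᵀ = -D⁻¹ := hDi
  rw [this]
  simp

end blocks

section localring

variable [IsLocalRing K] {ι : Type*} [Fintype ι] [DecidableEq ι]

open IsLocalRing

lemma exists_unit_entry [Nonempty ι] (c : Matrix ι ι K) (hc : IsUnit c) :
    ∃ i j, IsUnit (c i j) := by
  by_contra hcon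
  push Not at hcon
  have h0 : c.map (residue K) = 0 := by
    ext i j
    simp only [Matrix.map_apply, Matrix.zero_apply]
    exact (residue_eq_zero_iff _).mpr (hcon i j)
  have h1 : residue K c.det = 0 := by
    rw [RingHom.map_det, RingHom.mapMatrix_apply, h0, Matrix.det_zero]
  exact ((residue_eq_zero_iff _).mp h1) ((Matrix.isUnit_iff_isUnit_det _).mp hc)

lemma isUnit_add_of_mem {x y : K} (hx : IsUnit x) (hy : y ∈ maximalIdeal K) : IsUnit (x + y) := by
  by_contra h
  have h1 : x + y ∈ maximalIdeal K := h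
  have : x ∈ maximalIdeal K := by
    have := (maximalIdeal K).sub_mem h1 hy
    simpa using this
  exact this hx

/-- a hermitian invertible matrix over a local ring with `2` invertible and trivial residue
involution is congruent to one with a unit on the diagonal -/
lemma exists_cong_unit_diag [Nonempty ι] (h2 : IsUnit (2 : K))
    (hσm : ∀ a, σ a - a ∈ maximalIdeal K) (c : Matrix ι ι K) (hc : IsUnit c)
    (hh : lamTr σ c = c) : ∃ c', Cong σ c c' ∧ ∃ i, IsUnit (c' i i) := by
  by_cases h : ∃ i, IsUnit (c i i)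
  · exact ⟨c, Cong.refl σ c, h⟩
  push Not at h
  obtain ⟨i, j, hij⟩ := exists_unit_entry c hc
  have hne : i ≠ j := by
    rintro rfl
    exact h i hij
  have hji : c j i = σ (c i j) := by
    have := congrFun (congrFun hh j) i
    rw [lamTr_apply] at this
    exact this.symm
  have hv : lamTr σ (1 + Matrix.single j i (1 : K)) = 1 + Matrix.single i j (1 : K) := by
    rw [lamTr_add, lamTr_one, lamTr_single, map_one]
  have hEE : Matrix.single j i (1 : K) * Matrix.single j i (1 : K) = 0 :=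
    Matrix.single_mul_single_of_ne (c := (1 : K)) j i j hne 1
  refine ⟨lamTr σ (1 + Matrix.single j i (1 : K)) * c * (1 + Matrix.single j i (1 : K)),
    ⟨1 + Matrix.single j i (1 : K), ?_, rfl⟩, i, ?_⟩
  · refine ⟨⟨1 + Matrix.single j i (1 : K), 1 - Matrix.single j i (1 : K), ?_, ?_⟩, rfl⟩
    · have : (1 + Matrix.single j i (1 : K)) * (1 - Matrix.single j i (1 : K)) =
          1 - Matrix.single j i (1 : K) * Matrix.single j i (1 : K) := by noncomm_ring
      rw [this, hEE, sub_zero]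
    · have : (1 - Matrix.single j i (1 : K)) * (1 + Matrix.single j i (1 : K)) =
          1 - Matrix.single j i (1 : K) * Matrix.single j i (1 : K) := by noncomm_ring
      rw [this, hEE, sub_zero]
  · rw [hv]
    have hval : ((1 + Matrix.single i j (1 : K)) * c * (1 + Matrix.single j i (1 : K))) i i =
        c i i + c j i + c i j + c j j := by
      simp only [add_mul, mul_add, one_mul, mul_one, Matrix.add_apply,
        Matrix.mul_single_apply_same, Matrix.single_mul_apply_same, Matrix.mul_assoc]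
      ring
    rw [hval, hji]
    have h3 : IsUnit (σ (c i j) + c i j) := by
      have : σ (c i j) + c i j = 2 * c i j + (σ (c i j) - c i j) := by ring
      rw [this]
      exact isUnit_add_of_mem (h2.mul hij) (hσm _)
    have : c i i + σ (c i j) + c i j + c j j = (σ (c i j) + c i j) + (c i i + c j j) := by ring
    rw [this]
    exact isUnit_add_of_mem h3 ((maximalIdeal K).add_mem (h i) (h j))

/-- diagonalization of hermitian invertible matrices over a local ring with `2` invertible and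
trivial residue involution -/
theorem exists_cong_diagonal (hσ : ∀ a, σ (σ a) = a) (h2 : IsUnit (2 : K))
    (hσm : ∀ a, σ a - a ∈ maximalIdeal K) :
    ∀ (n : ℕ) (c : Matrix (Fin n) (Fin n) K), IsUnit c → lamTr σ c = c →
      ∃ d : Fin n → K, Cong σ c (Matrix.diagonal d) := by
  intro n
  induction n with
  | zero =>
    intro c _ _
    refine ⟨fun _ => 0, ?_⟩
    rw [Subsingleton.elim (Matrix.diagonal fun _ => (0 : K)) c]
    exact Cong.refl σ c
  | succ n ih =>
    intro c hc hh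
    obtain ⟨c₁, hcong₁, i, hi⟩ := exists_cong_unit_diag σ h2 hσm c hc hh
    have hc₁ := hcong₁.isUnit σ hc
    have hh₁ := hcong₁.herm σ hσ hh
    set l : Fin (n + 1) := finSumFinEquiv (Sum.inr (0 : Fin 1)) with hl
    set e : Fin (n + 1) ≃ Fin (n + 1) := Equiv.swap i l with he
    set c₂ := c₁.submatrix e e with hc₂def
    have hcong₂ : Cong σ c₁ c₂ := Cong.perm σ e c₁
    have hc₂ := hcong₂.isUnit σ hc₁
    have hh₂ := hcong₂.herm σ hσ hh₁
    have hll : IsUnit (c₂ l l) := by
      rw [hc₂def, Matrix.submatrix_apply, he, Equiv.swap_apply_right]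
      exact hi
    set c₃ : Matrix (Fin n ⊕ Fin 1) (Fin n ⊕ Fin 1) K :=
      Matrix.reindex finSumFinEquiv.symm finSumFinEquiv.symm c₂ with hc₃def
    have hc₃ : IsUnit c₃ := by
      rw [Matrix.isUnit_iff_isUnit_det, hc₃def, Matrix.det_reindex_self]
      exact (Matrix.isUnit_iff_isUnit_det _).mp hc₂
    have hh₃ : lamTr σ c₃ = c₃ := by
      rw [hc₃def, Matrix.reindex_apply, lamTr_submatrix, hh₂]
    set A := c₃.toBlocks₁₁ with hA
    set B := c₃.toBlocks₁₂ with hB
    set C := c₃.toBlocks₂₁ with hC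
    set D := c₃.toBlocks₂₂ with hD
    have hfb : c₃ = Matrix.fromBlocks A B C D := (Matrix.fromBlocks_toBlocks c₃).symm
    have hD00 : D 0 0 = c₂ l l := rfl
    have hDu : IsUnit D := by
      rw [Matrix.isUnit_iff_isUnit_det, Matrix.det_fin_one, hD00]
      exact hll
    rw [hfb, lamTr_fromBlocks, Matrix.fromBlocks_inj] at hh₃
    obtain ⟨hAA, hCB, hBC, hDD⟩ := hh₃
    have hcong₃ := Cong.schur σ A B C D hDu hCB hDD
    rw [← hfb] at hcong₃
    set Sc := A - B * D⁻¹ * C with hSc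
    have hu₄ := hcong₃.isUnit σ hc₃
    have hh₄ := hcong₃.herm σ hσ (by rw [hfb, lamTr_fromBlocks, hAA, hCB, hBC, hDD])
    rw [lamTr_fromBlocks, Matrix.fromBlocks_inj] at hh₄
    have hScu : IsUnit Sc := by
      rw [Matrix.isUnit_iff_isUnit_det, Matrix.det_fromBlocks_zero₂₁] at hu₄
      exact (Matrix.isUnit_iff_isUnit_det _).mpr (isUnit_of_mul_isUnit_left hu₄)
    obtain ⟨d', hd'⟩ := ih Sc hScu hh₄.1
    have hDdiag : D = Matrix.diagonal (fun _ : Fin 1 => D 0 0) := by
      ext a b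
      rw [Subsingleton.elim a 0, Subsingleton.elim b 0]
      simp
    have hcong₄ : Cong σ (Matrix.fromBlocks Sc 0 0 D)
        (Matrix.diagonal (Sum.elim d' (fun _ : Fin 1 => D 0 0))) := by
      rw [← Matrix.fromBlocks_diagonal]
      have := Cong.blockDiag σ hd' (Cong.refl σ D)
      rw [hDdiag] at this ⊢
      simpa using this
    have hcong₅ := (hcong₃.trans σ hcong₄).reindex σ finSumFinEquiv
    have hback : Matrix.reindex finSumFinEquiv finSumFinEquiv c₃ = c₂ := by
      rw [hc₃def]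
      ext a b
      simp
    rw [hback] at hcong₅
    refine ⟨Sum.elim d' (fun _ : Fin 1 => D 0 0) ∘ finSumFinEquiv.symm, ?_⟩
    have hdiag : Matrix.reindex finSumFinEquiv finSumFinEquiv
        (Matrix.diagonal (Sum.elim d' (fun _ : Fin 1 => D 0 0))) =
        Matrix.diagonal (Sum.elim d' (fun _ : Fin 1 => D 0 0) ∘ finSumFinEquiv.symm) := by
      ext a b
      simp [Matrix.diagonal_apply]
    rw [hdiag] at hcong₅
    exact (hcong₁.trans σ hcong₂).trans σ hcong₅

/-- with square roots of fixed units, a hermitian invertible matrix is congruent to `1` -/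
theorem exists_cong_one (hσ : ∀ a, σ (σ a) = a) (h2 : IsUnit (2 : K))
    (hσm : ∀ a, σ a - a ∈ maximalIdeal K)
    (hsq : ∀ a : K, IsUnit a → σ a = a → ∃ y : K, σ y = y ∧ y * y = a)
    (n : ℕ) (c : Matrix (Fin n) (Fin n) K) (hc : IsUnit c) (hh : lamTr σ c = c) :
    Cong σ c 1 := by
  obtain ⟨d, hd⟩ := exists_cong_diagonal σ hσ h2 hσm n c hc hh
  refine hd.trans σ ?_
  have hdu := hd.isUnit σ hc
  have hdh := hd.herm σ hσ hh
  have hdi : ∀ i, IsUnit (d i) := by
    intro i
    rw [Matrix.isUnit_iff_isUnit_det, Matrix.det_diagonal] at hdu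
    exact isUnit_of_dvd_unit (Finset.dvd_prod_of_mem d (Finset.mem_univ i)) hdu
  have hdσ : ∀ i, σ (d i) = d i := by
    intro i
    have := congrFun (congrFun hdh i) i
    simpa [lamTr_apply] using this
  have hy : ∀ i, ∃ y : K, σ y = y ∧ y * y = d i := fun i => hsq (d i) (hdi i) (hdσ i)
  choose y hyσ hyy using hy
  have hyu : ∀ i, IsUnit (y i) := fun i => by
    have := hdi i
    rw [← hyy i] at this
    exact isUnit_of_mul_isUnit_left this
  choose z hz using fun i => (hyu i).exists_left_inv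
  have hzy : ∀ i, y i * z i = 1 := fun i => by rw [mul_comm, hz]
  have hzσ : ∀ i, σ (z i) = z i := by
    intro i
    have h1 : σ (z i) * y i = 1 := by
      rw [← hyσ i, ← map_mul, hz, map_one]
    calc σ (z i) = σ (z i) * (y i * z i) := by rw [hzy, mul_one]
      _ = (σ (z i) * y i) * z i := by ring
      _ = z i := by rw [h1, one_mul]
  refine ⟨Matrix.diagonal z, ?_, ?_⟩
  · refine ⟨⟨Matrix.diagonal z, Matrix.diagonal y, ?_, ?_⟩, rfl⟩
    · rw [Matrix.diagonal_mul_diagonal]
      simp [hz]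
    · rw [Matrix.diagonal_mul_diagonal]
      simp [hzy]
  · have hl : lamTr σ (Matrix.diagonal z) = Matrix.diagonal z := by
      ext i j
      rw [lamTr_apply, Matrix.diagonal_apply, Matrix.diagonal_apply]
      by_cases h : j = i
      · rw [if_pos h, if_pos h.symm, h, hzσ]
      · rw [if_neg h, if_neg (Ne.symm h), map_zero]
    rw [hl, Matrix.diagonal_mul_diagonal, Matrix.diagonal_mul_diagonal, ← Matrix.diagonal_one]
    congr 1
    funext i
    rw [← hyy i]
    calc z i * (y i * y i) * z i = (z i * y i) * (y i * z i) := by ring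
      _ = 1 := by rw [hz, hzy, one_mul]

end localring

end Groth.Agent.Lib.Helper3.HermCong
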