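import Groth.Agent.Lib.Helper3.SkolemNoether
import Mathlib.RingTheory.Localization.Away.Basic
import Mathlib.RingTheory.Finiteness.Projective

/-!
# Automorphisms of Azumaya algebras are Zariski-locally inner (helper3)
-/
set_option autoImplicit false
universe u v
open TensorProduct MulOpposite
open Groth.Agent.Lib.Helper3.SN

namespace Groth.Agent.Lib.Helper3.SN
variable {R : Type u} [CommRing R] {A : Type v} [Ring A] [Algebra R A]

lemma eq_sum_contr' {n : ℕ} (l : Fin n → (Aᵐᵒᵖ →ₗ[R] R)) (b : Fin n → Aᵐᵒᵖ)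
    (hlb : ∀ y : Aᵐᵒᵖ, y = ∑ j, l j y • b j) (s : A ⊗[R] Aᵐᵒᵖ) :
    s = ∑ j, contr (l j) s ⊗ₜ[R] b j := by
  induction s with
  | zero => simp
  | tmul a c =>
    simp only [contr_tmul]
    conv_lhs => rw [hlb c, TensorProduct.tmul_sum]
    refine Finset.sum_congr rfl (fun j _ => ?_)
    rw [TensorProduct.smul_tmul]
  | add x y hx hy =>
    conv_lhs => rw [hx, hy, ← Finset.sum_add_distrib]
    refine Finset.sum_congr rfl (fun j _ => ?_)
    rw [map_add, TensorProduct.add_tmul]

theorem exists_elements [IsAzumaya R A] (u : A ≃ₐ[R] A) :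
    ∃ (n : ℕ) (c : Fin n → A) (b : Fin n → A), (∀ j x, u x * c j = c j * x) ∧
      (1 : A) = ∑ j, c j * b j := by
  haveI : Module.Projective R Aᵐᵒᵖ := Module.Projective.of_equiv (opLinearEquiv R (M := A))
  haveI : Module.Finite R Aᵐᵒᵖ := Module.Finite.equiv (opLinearEquiv R (M := A))
  obtain ⟨n, s, g, -, -, hsg⟩ := Module.Finite.exists_comp_eq_id_of_projective R Aᵐᵒᵖ
  let l : Fin n → (Aᵐᵒᵖ →ₗ[R] R) := fun j => (LinearMap.proj j).comp g
  let b : Fin n → Aᵐᵒᵖ := fun j => s (Pi.single j 1)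
  have hlb : ∀ y : Aᵐᵒᵖ, y = ∑ j, l j y • b j := by
    intro y
    conv_lhs => rw [← LinearMap.id_apply (R := R) y, ← hsg, LinearMap.comp_apply,
      pi_eq_sum_univ' (g y), map_sum]
    refine Finset.sum_congr rfl (fun i _ => ?_)
    rw [map_smul]
    rfl
  set φ := AlgHom.mulLeftRight R A with hφ
  obtain ⟨t, ht⟩ := (IsAzumaya.bij (R := R) (A := A)).2 u.toLinearMap
  have H1 : ∀ x, ((u x) ⊗ₜ[R] (1 : Aᵐᵒᵖ)) * t = t * (x ⊗ₜ[R] (1 : Aᵐᵒᵖ)) := by
    intro x
    apply (IsAzumaya.bij (R := R) (A := A)).1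
    rw [map_mul, map_mul, ht]
    ext y
    simp [Module.End.mul_apply]
  refine ⟨n, fun j => contr (l j) t, fun j => (b j).unop, ?_, ?_⟩
  · intro j x
    rw [← contr_left_mul, ← contr_right_mul, H1]
  · have h1 : φ t 1 = 1 := by rw [ht]; simp
    rw [eq_sum_contr' l b hlb t, map_sum, LinearMap.sum_apply] at h1
    rw [← h1]
    refine Finset.sum_congr rfl (fun j _ => ?_)
    rw [hφ, AlgHom.mulLeftRight_apply, mul_one]

theorem exists_local_generator [IsAzumaya R A] (u : A ≃ₐ[R] A) (p : Ideal R) [p.IsPrime] :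
    ∃ (f : R) (_ : f ∉ p) (c d : A), (∀ x, u x * c = c * x) ∧ c * d = algebraMap R A f := by
  obtain ⟨n, c, b, hc, hsum⟩ := exists_elements u
  by_contra hcon
  push Not at hcon
  have hall : ∀ j, c j ∈ p • (⊤ : Submodule R A) := by
    intro j
    set I := idealOf u (c j) (hc j) with hI
    have hmem : ∀ y, y ∈ I ↔ ∃ a, y = c j * a := by
      intro y
      rw [hI, idealOf, TwoSidedIdeal.mem_mk']
      rfl
    have hpa := Groth.Agent.S8128.part_a R A I
    set J := (TwoSidedIdeal.asIdeal I).comap (algebraMap R A) with hJ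
    have hle : J ≤ p := by
      intro f hf
      by_contra hfp
      rw [hJ, Ideal.mem_comap, TwoSidedIdeal.mem_asIdeal, hmem] at hf
      obtain ⟨d, hd⟩ := hf
      exact hcon f hfp (c j) d (hc j) hd.symm
    have hcI : c j ∈ TwoSidedIdeal.asIdeal I := by
      rw [TwoSidedIdeal.mem_asIdeal, hmem]
      exact ⟨1, (mul_one _).symm⟩
    rw [hpa] at hcI
    exact Submodule.smul_mono_left hle (map_le_smul_top J (c j) hcI)
  have h1 : (1 : A) ∈ p • (⊤ : Submodule R A) := by
    rw [hsum]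
    exact Submodule.sum_mem _ (fun j _ => mem_smul_top_mul _ _ _ (hall j))
  have htop : (⊤ : Submodule R A) ≤ p • (⊤ : Submodule R A) := by
    intro a _
    have := mul_mem_smul_top p a 1 h1
    rwa [mul_one] at this
  obtain ⟨r, hr1, hr0⟩ := Submodule.exists_sub_one_mem_and_smul_eq_zero_of_fg_of_le_smul p
    (⊤ : Submodule R A) Module.Finite.fg_top htop
  have hr : r = 0 := by
    apply FaithfulSMul.algebraMap_injective R A
    rw [map_zero, Algebra.algebraMap_eq_smul_one]
    exact hr0 1 trivial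
  rw [hr, zero_sub] at hr1
  have : (1 : R) ∈ p := by simpa using p.neg_mem hr1
  exact (Ideal.IsPrime.ne_top ‹_›) ((Ideal.eq_top_iff_one p).mpr this)

end Groth.Agent.Lib.Helper3.SN

namespace Groth.Agent.Lib.Helper3.SN
variable {R : Type u} [CommRing R] {A : Type v} [Ring A] [Algebra R A]

theorem locally_inner [IsAzumaya R A] (φ : A ≃ₐ[R] A) (p : Ideal R) [p.IsPrime] :
    ∃ (f : R) (_ : f ∉ p) (u : (Localization.Away f ⊗[R] A)ˣ),
      ∀ a : Localization.Away f ⊗[R] A,
        Algebra.TensorProduct.map (AlgHom.id (Localization.Away f) (Localization.Away f)) (φ : A →ₐ[R] A) a =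
          (u : Localization.Away f ⊗[R] A) * a * (u⁻¹ : (Localization.Away f ⊗[R] A)ˣ) := by
  obtain ⟨f, hf, c, d, hc, hcd⟩ := exists_local_generator φ p
  refine ⟨f, hf, ?_⟩
  set S := Localization.Away f with hS
  set fi : S := IsLocalization.Away.invSelf f with hfi
  have hffi : algebraMap R S f * fi = 1 := IsLocalization.Away.mul_invSelf f
  have hone : (fi ⊗ₜ[R] (algebraMap R A f) : S ⊗[R] A) = 1 := by
    rw [Algebra.algebraMap_eq_smul_one, ← TensorProduct.smul_tmul, Algebra.smul_def, hffi]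
    rfl
  set U : S ⊗[R] A := (1 : S) ⊗ₜ[R] c with hU
  set V : S ⊗[R] A := fi ⊗ₜ[R] d with hV
  have hUV : U * V = 1 := by
    rw [hU, hV, Algebra.TensorProduct.tmul_mul_tmul, one_mul, hcd, hone]
  have hVU' : (fi ⊗ₜ[R] φ d : S ⊗[R] A) * U = 1 := by
    rw [hU, Algebra.TensorProduct.tmul_mul_tmul, mul_one, hc d, hcd, hone]
  have hVU : V * U = 1 := by
    have : (fi ⊗ₜ[R] φ d : S ⊗[R] A) = V := by
      calc (fi ⊗ₜ[R] φ d : S ⊗[R] A) = (fi ⊗ₜ[R] φ d) * (U * V) := by rw [hUV, mul_one]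
        _ = ((fi ⊗ₜ[R] φ d) * U) * V := by rw [mul_assoc]
        _ = V := by rw [hVU', one_mul]
    rw [← this]; exact hVU'
  refine ⟨⟨U, V, hUV, hVU⟩, ?_⟩
  intro a
  show _ = U * a * V
  have key : ∀ a : S ⊗[R] A,
      Algebra.TensorProduct.map (AlgHom.id S S) (φ : A →ₐ[R] A) a * U = U * a := by
    intro a
    induction a with
    | zero => simp
    | tmul s x =>
      rw [Algebra.TensorProduct.map_tmul, hU, Algebra.TensorProduct.tmul_mul_tmul,
        Algebra.TensorProduct.tmul_mul_tmul, mul_one, one_mul]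
      simp only [AlgHom.coe_id, id_eq]
      congr 1
      exact hc x
    | add x y hx hy => rw [map_add, add_mul, mul_add, hx, hy]
  calc Algebra.TensorProduct.map (AlgHom.id S S) (φ : A →ₐ[R] A) a
      = Algebra.TensorProduct.map (AlgHom.id S S) (φ : A →ₐ[R] A) a * (U * V) := by
        rw [hUV, mul_one]
    _ = (Algebra.TensorProduct.map (AlgHom.id S S) (φ : A →ₐ[R] A) a * U) * V := by
        rw [mul_assoc]
    _ = U * a * V := by rw [key a]

end Groth.Agent.Lib.Helper3.SN
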