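import Mathlib.Algebra.Azumaya.Matrix
import Groth.Agent.Lib.Helper3.HermCong
import Groth.Agent.Lib.Helper3.SkolemNoetherLocal

/-! Involutions of matrix algebras over local rings: the inner form (helper3). -/

set_option autoImplicit false
universe u

open Matrix AzInv

namespace Groth.Agent.Lib.Helper3.InvLocal

open Groth.Agent.Lib.Helper3.HermCong Groth.Agent.Lib.Helper3.SN IsLocalRing

variable {K : Type u} [CommRing K] [IsLocalRing K] (σ : K →+* K) {n : ℕ}

lemma lamTr_smul (z : K) (x : Matrix (Fin n) (Fin n) K) :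
    lamTr σ (z • x) = σ z • lamTr σ x := by
  ext i j
  simp [lamTr_apply]

/-- a `σ`-semilinear involution of the matrix algebra over a local ring is the `σ`-transpose
followed by an inner automorphism, given by a matrix that is `e`-hermitian -/
theorem exists_conj_form (hσ : ∀ a, σ (σ a) = a) (hn : 0 < n)
    (τ : Matrix (Fin n) (Fin n) K → Matrix (Fin n) (Fin n) K)
    (hadd : ∀ x y, τ (x + y) = τ x + τ y) (hmul : ∀ x y, τ (x * y) = τ y * τ x)
    (hinv : ∀ x, τ (τ x) = x) (hsm : ∀ (z : K) x, τ (z • x) = σ z • τ x) :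
    ∃ (c : (Matrix (Fin n) (Fin n) K)ˣ) (e : K), σ e * e = 1 ∧
      lamTr σ (↑c : Matrix (Fin n) (Fin n) K) = e • (↑c : Matrix (Fin n) (Fin n) K) ∧
      ∀ x, τ x = (↑c : Matrix (Fin n) (Fin n) K) * lamTr σ x * (↑c⁻¹ : Matrix (Fin n) (Fin n) K) := by
  classical
  have h1 : τ 1 = 1 := by
    have h : ∀ z, τ 1 * z = z := by
      intro z
      rw [← hinv z, ← hmul, mul_one]
    simpa using h 1
  have h0 : τ 0 = 0 := by
    have := hadd 0 0
    rw [add_zero] at this
    exact left_eq_add.mp this
  let α : Matrix (Fin n) (Fin n) K →ₐ[K] Matrix (Fin n) (Fin n) K :=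
    { toFun := fun x => τ (lamTr σ x)
      map_one' := by rw [lamTr_one, h1]
      map_mul' := fun x y => by rw [lamTr_mul, hmul]
      map_zero' := by
        have : lamTr σ (0 : Matrix (Fin n) (Fin n) K) = 0 := by ext i j; simp [lamTr_apply]
        rw [this, h0]
      map_add' := fun x y => by rw [lamTr_add, hadd]
      commutes' := fun z => by
        rw [Algebra.algebraMap_eq_smul_one, lamTr_smul, lamTr_one, hsm, hσ, h1] }
  have hα : ∀ x, α x = τ (lamTr σ x) := fun x => rfl
  have hbij : Function.Bijective α := by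
    rw [Function.bijective_iff_has_inverse]
    refine ⟨fun x => lamTr σ (τ x), ?_, ?_⟩
    · intro x
      show lamTr σ (τ (τ (lamTr σ x))) = x
      rw [hinv, lamTr_lamTr σ hσ]
    · intro x
      show τ (lamTr σ (lamTr σ (τ x))) = x
      rw [lamTr_lamTr σ hσ, hinv]
  let αe := AlgEquiv.ofBijective α hbij
  haveI : IsAzumaya K (Matrix (Fin n) (Fin n) K) := by
    haveI : NeZero n := ⟨hn.ne'⟩
    exact IsAzumaya.matrix K (Fin n)
  obtain ⟨g, hg, c, d, hc, hcd⟩ := exists_local_generator αe (maximalIdeal K)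
  have hgu : IsUnit g := by
    by_contra h
    exact hg h
  obtain ⟨gu, rfl⟩ := hgu
  have hcr : c * ((↑gu⁻¹ : K) • d) = 1 := by
    rw [mul_smul_comm, hcd, Algebra.algebraMap_eq_smul_one, smul_smul, Units.inv_mul, one_smul]
  have hcu : IsUnit c :=
    (Matrix.isUnit_iff_isUnit_det _).mpr (Matrix.isUnit_det_of_right_inverse hcr)
  obtain ⟨cu, rfl⟩ := hcu
  set C : Matrix (Fin n) (Fin n) K := ↑cu with hC
  set Ci : Matrix (Fin n) (Fin n) K := ↑cu⁻¹ with hCi
  have hCCi : C * Ci = 1 := Units.mul_inv cu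
  have hCiC : Ci * C = 1 := Units.inv_mul cu
  have hτ : ∀ x, τ x = C * lamTr σ x * Ci := by
    intro x
    have := hc (lamTr σ x)
    change τ (lamTr σ (lamTr σ x)) * C = _ at this
    rw [lamTr_lamTr σ hσ] at this
    rw [← this, mul_assoc, hCCi, mul_one]
  -- the involution property
  set z : Matrix (Fin n) (Fin n) K := lamTr σ C * Ci with hz
  have hLL : lamTr σ Ci * lamTr σ C = 1 := by rw [← lamTr_mul, hCCi, lamTr_one]
  have hzi : C * lamTr σ Ci * z = 1 := by
    rw [hz]
    calc C * lamTr σ Ci * (lamTr σ C * Ci)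
        = C * (lamTr σ Ci * lamTr σ C) * Ci := by simp only [mul_assoc]
      _ = 1 := by rw [hLL, mul_one, hCCi]
  have hzc : ∀ x, x * z = z * x := by
    intro x
    have h := hinv x
    rw [hτ (τ x), hτ x, lamTr_mul, lamTr_mul, lamTr_lamTr σ hσ] at h
    have h' : C * lamTr σ Ci * (x * z) = x := by
      rw [hz]
      conv_rhs => rw [← h]
      simp only [mul_assoc]
    calc x * z = (z * (C * lamTr σ Ci)) * (x * z) := by
          have : z * (C * lamTr σ Ci) = 1 := mul_eq_one_comm.mp hzi
          rw [this, one_mul]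
      _ = z * (C * lamTr σ Ci * (x * z)) := by simp only [mul_assoc]
      _ = z * x := by rw [h']
  obtain ⟨e, he⟩ : z ∈ Set.range (Matrix.scalar (Fin n)) := by
    rw [Matrix.mem_range_scalar_iff_commute_single']
    intro i j
    exact hzc _
  have hce : lamTr σ C = e • C := by
    have : lamTr σ C = z * C := by
      rw [hz, mul_assoc, hCiC, mul_one]
    rw [this, ← he, Matrix.scalar_apply, ← Matrix.smul_eq_diagonal_mul]
  refine ⟨cu, e, ?_, hce, hτ⟩
  have h2 := lamTr_lamTr σ hσ C
  rw [hce, lamTr_smul, hce, smul_smul] at h2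
  have h3 : (σ e * e) • (1 : Matrix (Fin n) (Fin n) K) = 1 := by
    have := congrArg (fun m => m * Ci) h2
    simp only [smul_mul_assoc, hCCi] at this
    exact this
  have h4 := congrFun (congrFun h3 ⟨0, hn⟩) ⟨0, hn⟩
  simpa using h4

/-- in a local ring where `2` is invertible, a square root of `1` is `1` or `-1` -/
lemma eq_one_or_neg_one (h2 : IsUnit (2 : K)) (e : K) (he : e * e = 1) : e = 1 ∨ e = -1 := by
  have hprod : (e - 1) * (e + 1) = 0 := by linear_combination he
  by_cases h : IsUnit (e - 1)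
  · right
    have := (h.mul_right_eq_zero).mp hprod
    linear_combination this
  · left
    have hm : e - 1 ∈ maximalIdeal K := h
    have hu : IsUnit (e + 1) := by
      have : e + 1 = 2 + (e - 1) := by ring
      rw [this]
      exact isUnit_add_of_mem h2 hm
    have := (hu.mul_left_eq_zero).mp hprod
    linear_combination this

/-- the transpose is not conjugate to a symplectic involution -/
theorem false_of_sym_skew (h2 : IsUnit (2 : K)) (hn : 0 < n)
    (φ : Matrix (Fin n) (Fin n) K ≃ₐ[K] Matrix (Fin n) (Fin n) K)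
    (W W' : Matrix (Fin n) (Fin n) K) (hWW' : W * W' = 1)
    (hW : lamTr (RingHom.id K) W = -W)
    (h : ∀ y, φ (lamTr (RingHom.id K) y) = W * lamTr (RingHom.id K) (φ y) * W') : False := by
  classical
  have hσ : ∀ a : K, (RingHom.id K) ((RingHom.id K) a) = a := fun a => rfl
  haveI : IsAzumaya K (Matrix (Fin n) (Fin n) K) := by
    haveI : NeZero n := ⟨hn.ne'⟩
    exact IsAzumaya.matrix K (Fin n)
  obtain ⟨g, hg, c, d, hc, hcd⟩ := exists_local_generator φ (maximalIdeal K)
  have hgu : IsUnit g := by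
    by_contra h
    exact hg h
  obtain ⟨gu, rfl⟩ := hgu
  have hcr : c * ((↑gu⁻¹ : K) • d) = 1 := by
    rw [mul_smul_comm, hcd, Algebra.algebraMap_eq_smul_one, smul_smul, Units.inv_mul, one_smul]
  have hcu : IsUnit c :=
    (Matrix.isUnit_iff_isUnit_det _).mpr (Matrix.isUnit_det_of_right_inverse hcr)
  obtain ⟨cu, rfl⟩ := hcu
  set G : Matrix (Fin n) (Fin n) K := ↑cu with hG
  set Gi : Matrix (Fin n) (Fin n) K := ↑cu⁻¹ with hGi
  have hGGi : G * Gi = 1 := Units.mul_inv cu
  have hGiG : Gi * G = 1 := Units.inv_mul cu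
  have hφ : ∀ y, φ y = G * y * Gi := by
    intro y
    rw [← hc y, mul_assoc, hGGi, mul_one]
  have hW'W : W' * W = 1 := mul_eq_one_comm.mp hWW'
  have hLL : lamTr (RingHom.id K) Gi * lamTr (RingHom.id K) G = 1 := by
    rw [← lamTr_mul, hGGi, lamTr_one]
  have hLL' : lamTr (RingHom.id K) G * lamTr (RingHom.id K) Gi = 1 := by
    rw [← lamTr_mul, hGiG, lamTr_one]
  set z : Matrix (Fin n) (Fin n) K := Gi * W * lamTr (RingHom.id K) Gi with hz
  set zi : Matrix (Fin n) (Fin n) K := lamTr (RingHom.id K) G * W' * G with hzi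
  have hzzi : z * zi = 1 := by
    rw [hz, hzi]
    calc Gi * W * lamTr (RingHom.id K) Gi * (lamTr (RingHom.id K) G * W' * G)
        = Gi * W * (lamTr (RingHom.id K) Gi * lamTr (RingHom.id K) G) * W' * G := by
          simp only [mul_assoc]
      _ = Gi * (W * W') * G := by rw [hLL, mul_one]; simp only [mul_assoc]
      _ = 1 := by rw [hWW', mul_one, hGiG]
  have hziz : zi * z = 1 := mul_eq_one_comm.mp hzzi
  have hcomm : ∀ y, y * z = z * y := by
    intro y
    have h1 := h (lamTr (RingHom.id K) y)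
    rw [lamTr_lamTr _ hσ, hφ, hφ, lamTr_mul, lamTr_mul, lamTr_lamTr _ hσ] at h1
    -- h1 : G * y * Gi = W * (lamTr Gi * (y * lamTr G)) * W'
    have h2' : y = z * y * zi := by
      calc y = Gi * (G * y * Gi) * G := by
            rw [mul_assoc, mul_assoc, hGiG, mul_one, ← mul_assoc, hGiG, one_mul]
        _ = Gi * (W * (lamTr (RingHom.id K) Gi * (y * lamTr (RingHom.id K) G)) * W') * G := by
            rw [h1]
        _ = z * y * zi := by rw [hz, hzi]; simp only [mul_assoc]
    calc y * z = (z * y * zi) * z := by rw [← h2']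
      _ = z * y * (zi * z) := by simp only [mul_assoc]
      _ = z * y := by rw [hziz, mul_one]
  obtain ⟨l, hl⟩ : z ∈ Set.range (Matrix.scalar (Fin n)) := by
    rw [Matrix.mem_range_scalar_iff_commute_single']
    intro i j
    exact hcomm _
  have hzs : lamTr (RingHom.id K) z = z := by
    rw [← hl]
    ext i j
    simp only [lamTr_apply, Matrix.scalar_apply, Matrix.diagonal_apply, RingHom.id_apply]
    by_cases hij : i = j
    · subst hij; simp
    · simp [hij, Ne.symm hij]
  have hzk : lamTr (RingHom.id K) z = -z := by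
    rw [hz, lamTr_mul, lamTr_mul, lamTr_lamTr _ hσ, hW]
    simp only [mul_neg, neg_mul, mul_assoc]
  have hz0 : z = 0 := by
    have h3 : (2 : K) • z = 0 := by
      have : z = -z := by rw [← hzk, hzs]
      rw [two_smul]
      nth_rw 1 [this]
      exact neg_add_cancel z
    have := congrArg (fun m => (↑h2.unit⁻¹ : K) • m) h3
    simp only [smul_smul, smul_zero] at this
    rwa [IsUnit.val_inv_mul, one_smul] at this
  rw [hz0, zero_mul] at hzzi
  have := congrFun (congrFun hzzi ⟨0, hn⟩) ⟨0, hn⟩
  simp at this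

end Groth.Agent.Lib.Helper3.InvLocal
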