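import Groth.Agent.Lib.Helper3.AdaptedSplit
import Groth.Agent.Lib.Helper3.HermCong
import Groth.Agent.Lib.Helper3.InvLocal

/-! Adapted matrix units from the local form of an involution (helper3). -/

set_option autoImplicit false
universe u u' v w w'

open TensorProduct

namespace Groth.Agent.Lib.Helper3.AdaptedLocal

open AzInv Groth.Agent.Lib.Helper3.FixedBC Groth.Agent.Lib.Helper3.MatUnits
  Groth.Agent.Lib.Helper3.LamInvBC Groth.Agent.Lib.Helper3.FixedSplitSym
  Groth.Agent.Lib.Helper3.IndEtDescent Groth.Agent.Lib.Helper3.AdaptedSplit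
  Groth.Agent.Lib.Helper3.HermCong Groth.Agent.Lib.Helper3.InvLocal

variable {S : Type u} {R : Type v} [CommRing S] [CommRing R] [Algebra S R]
  {A : Type w} [Ring A] [Algebra S A] [Algebra R A] [IsScalarTower S R A]

/-- `id ⊗ lam` as a ring homomorphism -/
noncomputable def sig (lam : R ≃ₐ[S] R) (S' : Type u') [CommRing S'] [Algebra S S'] :
    S' ⊗[S] R →+* S' ⊗[S] R :=
  (Algebra.TensorProduct.map (AlgHom.id S' S') lam.toAlgHom).toRingHom

lemma sig_apply (lam : R ≃ₐ[S] R) (S' : Type u') [CommRing S'] [Algebra S S'] (z : S' ⊗[S] R) :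
    sig lam S' z = LinearMap.lTensor S' lam.toLinearMap z := by
  induction z using TensorProduct.induction_on with
  | zero => simp
  | tmul s c => rfl
  | add x y hx hy => rw [map_add, map_add, hx, hy]

lemma sig_tmul (lam : R ≃ₐ[S] R) (S' : Type u') [CommRing S'] [Algebra S S'] (s : S') (r : R) :
    sig lam S' (s ⊗ₜ[S] r) = s ⊗ₜ[S] lam r := rfl

lemma sig_sig (lam : R ≃ₐ[S] R) (hlam : ∀ r, lam (lam r) = r) (S' : Type u') [CommRing S']
    [Algebra S S'] (z : S' ⊗[S] R) : sig lam S' (sig lam S' z) = z := by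
  induction z using TensorProduct.induction_on with
  | zero => simp
  | tmul s c => rw [sig_tmul, sig_tmul, hlam]
  | add x y hx hy => rw [map_add, map_add, hx, hy]

lemma coe_sig (lam : R ≃ₐ[S] R) (S' : Type u') [CommRing S'] [Algebra S S'] :
    (⇑(sig lam S') : S' ⊗[S] R → S' ⊗[S] R) = ⇑(LinearMap.lTensor S' lam.toLinearMap) :=
  funext (sig_apply lam S')

section split

variable (S' : Type u') [CommRing S'] [Algebra S S'] {n : ℕ}
  (f : S' ⊗[S] A ≃ₐ[S'] Matrix (Fin n) (Fin n) (S' ⊗[S] R))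
  (hf : ∀ (r : R) (x : S' ⊗[S] A),
    f (((1 : S') ⊗ₜ[S] algebraMap R A r) * x) = Matrix.scalar (Fin n) ((1 : S') ⊗ₜ[S] r) * f x)

include hf in
/-- a splitting compatible with `R` is compatible with `S' ⊗ R` -/
lemma split_scalar (z : S' ⊗[S] R) (x : S' ⊗[S] A) :
    f (mu S S' R A z * x) = Matrix.scalar (Fin n) z * f x := by
  induction z using TensorProduct.induction_on with
  | zero => simp
  | add x₁ x₂ h₁ h₂ => rw [map_add, add_mul, map_add, h₁, h₂, map_add, add_mul]
  | tmul s r =>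
    have h1 : mu S S' R A (s ⊗ₜ[S] r) = s • ((1 : S') ⊗ₜ[S] algebraMap R A r) := by
      rw [mu_tmul, TensorProduct.smul_tmul', smul_eq_mul, mul_one]
    have h2 : Matrix.scalar (Fin n) (s ⊗ₜ[S] r) =
        s • Matrix.scalar (Fin n) ((1 : S') ⊗ₜ[S] r) := by
      ext i j
      simp only [Matrix.scalar_apply, Matrix.smul_apply, Matrix.diagonal_apply]
      split_ifs
      · rw [TensorProduct.smul_tmul', smul_eq_mul, mul_one]
      · rw [smul_zero]
    rw [h1, h2, smul_mul_assoc, map_smul, hf, smul_mul_assoc]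

include hf in
lemma split_symm_scalar (z : S' ⊗[S] R) (M : Matrix (Fin n) (Fin n) (S' ⊗[S] R)) :
    f.symm (Matrix.scalar (Fin n) z * M) = mu S S' R A z * f.symm M := by
  apply f.injective
  rw [AlgEquiv.apply_symm_apply, split_scalar S' f hf, AlgEquiv.apply_symm_apply]

include hf in
/-- converse of `split_of_adapted`: a splitting under which the involution becomes
`x ↦ w̃ * lamTr x * w̃'` gives adapted matrix units -/
theorem adapted_of_split (lam : R ≃ₐ[S] R) (t : LamInv R A lam)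
    (w w' : Matrix (Fin n) (Fin n) R)
    (hft : ∀ x, f (t.bc S lam S' x) =
      bcMat S' w * lamTr (sig lam S') (f x) * bcMat S' w') :
    IsAdaptedC A (t.linS S lam) S' (cst A w) (cst A w')
      (fun i j => f.symm (Matrix.single i j (1 : S' ⊗[S] R))) := by
  have h0 := (isMatUnits_single (n := n) (S' ⊗[S] R)).map (f.symm : _ →+* S' ⊗[S] A)
  have hW : ∀ b : Matrix (Fin n) (Fin n) R, f.symm (bcMat S' b) =
      Wc A S' (cst A b) (fun i j => f.symm (Matrix.single i j (1 : S' ⊗[S] R))) := by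
    intro b
    have hb : bcMat S' b = ∑ k, ∑ l, Matrix.scalar (Fin n) ((1 : S') ⊗ₜ[S] b k l) *
        Matrix.single k l (1 : S' ⊗[S] R) := by
      conv_lhs => rw [Matrix.matrix_eq_sum_single (bcMat (S := S) S' b)]
      refine Finset.sum_congr rfl fun k _ => Finset.sum_congr rfl fun l _ => ?_
      rw [Matrix.scalar_apply, ← Matrix.smul_eq_diagonal_mul, Matrix.smul_single, smul_eq_mul,
        mul_one]
      rfl
    rw [hb, map_sum]
    simp only [map_sum, split_symm_scalar S' f hf]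
    rfl
  refine ⟨h0, ?_⟩
  intro i j
  show t.bc S lam S' (f.symm (Matrix.single i j 1)) = _
  apply f.injective
  rw [hft, AlgEquiv.apply_symm_apply, map_mul, map_mul, AlgEquiv.apply_symm_apply, ← hW, ← hW,
    AlgEquiv.apply_symm_apply, AlgEquiv.apply_symm_apply, lamTr_single, map_one]

end split

/-- conjugation by a unit as an algebra automorphism -/
def conjEquiv (S₀ : Type*) {M : Type*} [CommSemiring S₀] [Ring M] [Algebra S₀ M] (U : Mˣ) :
    M ≃ₐ[S₀] M where
  toFun x := ↑U * x * ↑U⁻¹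
  invFun x := ↑U⁻¹ * x * ↑U
  left_inv x := by simp [mul_assoc]
  right_inv x := by simp [mul_assoc]
  map_mul' x y := by simp [mul_assoc]
  map_add' x y := by simp [mul_add, add_mul]
  commutes' r := by
    rw [← Algebra.commutes, mul_assoc, Units.mul_inv, mul_one]

lemma conjEquiv_apply (S₀ : Type*) {M : Type*} [CommSemiring S₀] [Ring M] [Algebra S₀ M] (U : Mˣ)
    (x : M) : conjEquiv S₀ U x = ↑U * x * ↑U⁻¹ := rfl

section localform

variable (S' : Type u') [CommRing S'] [Algebra S S'] {n : ℕ}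
  (f : S' ⊗[S] A ≃ₐ[S'] Matrix (Fin n) (Fin n) (S' ⊗[S] R))
  (hf : ∀ (r : R) (x : S' ⊗[S] A),
    f (((1 : S') ⊗ₜ[S] algebraMap R A r) * x) = Matrix.scalar (Fin n) ((1 : S') ⊗ₜ[S] r) * f x)

include hf in
/-- over a local `S' ⊗ R`, the involution in split form is `x ↦ c * lamTr x * c⁻¹` -/
theorem exists_conj_form_bc [IsLocalRing (S' ⊗[S] R)] (hn : 0 < n) (lam : R ≃ₐ[S] R)
    (hlam : ∀ r, lam (lam r) = r) (t : LamInv R A lam) :
    ∃ (c : (Matrix (Fin n) (Fin n) (S' ⊗[S] R))ˣ) (e : S' ⊗[S] R), sig lam S' e * e = 1 ∧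
      lamTr (sig lam S') (↑c : Matrix (Fin n) (Fin n) (S' ⊗[S] R)) =
        e • (↑c : Matrix (Fin n) (Fin n) (S' ⊗[S] R)) ∧
      ∀ x, f (t.bc S lam S' x) = (↑c : Matrix (Fin n) (Fin n) (S' ⊗[S] R)) *
        lamTr (sig lam S') (f x) * (↑c⁻¹ : Matrix (Fin n) (Fin n) (S' ⊗[S] R)) := by
  obtain ⟨c, e, he, hce, hτ⟩ := exists_conj_form (sig lam S') (sig_sig lam hlam S') hn
    (fun M => f (t.bc S lam S' (f.symm M)))
    (fun x y => by simp only [map_add])
    (fun x y => by simp only [map_mul, bc_mul])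
    (fun x => by simp only [AlgEquiv.symm_apply_apply, bc_invol, AlgEquiv.apply_symm_apply])
    (fun z x => by
      show f (t.bc S lam S' (f.symm (z • x))) = sig lam S' z • f (t.bc S lam S' (f.symm x))
      rw [Matrix.smul_eq_diagonal_mul, Matrix.smul_eq_diagonal_mul, ← Matrix.scalar_apply,
        ← Matrix.scalar_apply, split_symm_scalar S' f hf, bc_mul, bc_mu, ← sig_apply,
        ← mu_central, split_scalar S' f hf])
  refine ⟨c, e, he, hce, fun x => ?_⟩
  have := hτ (f x)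
  simp only [AlgEquiv.symm_apply_apply] at this
  exact this

include hf in
/-- a congruence of the representing matrix to a constant matrix gives adapted units -/
theorem adapted_of_cong (lam : R ≃ₐ[S] R) (hlam : ∀ r, lam (lam r) = r) (t : LamInv R A lam)
    (c : (Matrix (Fin n) (Fin n) (S' ⊗[S] R))ˣ)
    (hc : ∀ x, f (t.bc S lam S' x) = (↑c : Matrix (Fin n) (Fin n) (S' ⊗[S] R)) *
        lamTr (sig lam S') (f x) * (↑c⁻¹ : Matrix (Fin n) (Fin n) (S' ⊗[S] R)))
    (w w' : Matrix (Fin n) (Fin n) R) (hww' : w * w' = 1)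
    (hcong : Cong (sig lam S') (↑c : Matrix (Fin n) (Fin n) (S' ⊗[S] R)) (bcMat S' w)) :
    ∃ E : Fin n → Fin n → S' ⊗[S] A,
      IsAdaptedC A (t.linS S lam) S' (cst A w) (cst A w') E := by
  obtain ⟨v, hv, hvc⟩ := hcong
  obtain ⟨vu, rfl⟩ := hv
  set σ := sig lam S' with hσdef
  have hσσ := sig_sig lam hlam S'
  set C : Matrix (Fin n) (Fin n) (S' ⊗[S] R) := ↑c with hC
  set Ci : Matrix (Fin n) (Fin n) (S' ⊗[S] R) := ↑c⁻¹ with hCi
  have hCCi : C * Ci = 1 := Units.mul_inv c
  have hCiC : Ci * C = 1 := Units.inv_mul c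
  set V : Matrix (Fin n) (Fin n) (S' ⊗[S] R) := ↑vu with hV
  set Vi : Matrix (Fin n) (Fin n) (S' ⊗[S] R) := ↑vu⁻¹ with hVi
  have hVVi : V * Vi = 1 := Units.mul_inv vu
  have hViV : Vi * V = 1 := Units.inv_mul vu
  have hbb : bcMat (S := S) S' w * bcMat S' w' = 1 := by
    have : bcMat (S := S) S' w * bcMat S' w' = bcMat S' (w * w') := by
      ext i j
      simp only [bcMat, Matrix.mul_apply, Matrix.map_apply, Algebra.TensorProduct.tmul_mul_tmul,
        mul_one, ← TensorProduct.tmul_sum]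
    rw [this, hww']
    ext i j
    simp only [bcMat, Matrix.map_apply, Matrix.one_apply]
    split_ifs
    · rfl
    · rw [TensorProduct.tmul_zero]
  -- the unit `L = lamTr v`
  let L : (Matrix (Fin n) (Fin n) (S' ⊗[S] R))ˣ :=
    ⟨lamTr σ V, lamTr σ Vi, by rw [← lamTr_mul, hViV, lamTr_one],
      by rw [← lamTr_mul, hVVi, lamTr_one]⟩
  have hL : (↑L : Matrix (Fin n) (Fin n) (S' ⊗[S] R)) = lamTr σ V := rfl
  have hLi : (↑L⁻¹ : Matrix (Fin n) (Fin n) (S' ⊗[S] R)) = lamTr σ Vi := rfl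
  let g : S' ⊗[S] A ≃ₐ[S'] Matrix (Fin n) (Fin n) (S' ⊗[S] R) := f.trans (conjEquiv S' L)
  have hg : ∀ x, g x = lamTr σ V * f x * lamTr σ Vi := fun x => rfl
  have hg1 : ∀ (r : R) (x : S' ⊗[S] A),
      g (((1 : S') ⊗ₜ[S] algebraMap R A r) * x) =
        Matrix.scalar (Fin n) ((1 : S') ⊗ₜ[S] r) * g x := by
    intro r x
    rw [hg, hg, hf]
    have hcomm := Matrix.scalar_commute ((1 : S') ⊗ₜ[S] r) (fun r' => mul_comm _ r')
      (lamTr σ V)
    calc lamTr σ V * (Matrix.scalar (Fin n) ((1 : S') ⊗ₜ[S] r) * f x) * lamTr σ Vi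
        = (lamTr σ V * Matrix.scalar (Fin n) ((1 : S') ⊗ₜ[S] r)) * f x * lamTr σ Vi := by
          simp only [mul_assoc]
      _ = (Matrix.scalar (Fin n) ((1 : S') ⊗ₜ[S] r) * lamTr σ V) * f x * lamTr σ Vi := by
          rw [hcomm.eq]
      _ = _ := by simp only [mul_assoc]
  have hLC : lamTr σ V * C = bcMat S' w * Vi := by
    rw [← hvc, mul_assoc (lamTr σ V * C), hVVi, mul_one]
  have hCL : Ci * lamTr σ Vi = V * bcMat S' w' := by
    have h1 : (lamTr σ V * C) * (Ci * lamTr σ Vi) = 1 := by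
      calc (lamTr σ V * C) * (Ci * lamTr σ Vi) = lamTr σ V * (C * Ci) * lamTr σ Vi := by
            simp only [mul_assoc]
        _ = 1 := by rw [hCCi, mul_one, ← lamTr_mul, hViV, lamTr_one]
    have h2 : (lamTr σ V * C) * (V * bcMat S' w') = 1 := by
      rw [hLC]
      calc bcMat S' w * Vi * (V * bcMat S' w') = bcMat S' w * (Vi * V) * bcMat S' w' := by
            simp only [mul_assoc]
        _ = 1 := by rw [hViV, mul_one, hbb]
    have h3 : (Ci * lamTr σ Vi) * (lamTr σ V * C) = 1 := mul_eq_one_comm.mp h1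
    calc Ci * lamTr σ Vi = Ci * lamTr σ Vi * ((lamTr σ V * C) * (V * bcMat S' w')) := by
          rw [h2, mul_one]
      _ = (Ci * lamTr σ Vi * (lamTr σ V * C)) * (V * bcMat S' w') := by simp only [mul_assoc]
      _ = V * bcMat S' w' := by rw [h3, one_mul]
  have hgt : ∀ x, g (t.bc S lam S' x) =
      bcMat S' w * lamTr σ (g x) * bcMat S' w' := by
    intro x
    rw [hg, hg, hc, lamTr_mul, lamTr_mul, lamTr_lamTr σ hσσ, lamTr_lamTr σ hσσ]
    calc lamTr σ V * (C * lamTr σ (f x) * Ci) * lamTr σ Vi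
        = (lamTr σ V * C) * lamTr σ (f x) * (Ci * lamTr σ Vi) := by simp only [mul_assoc]
      _ = (bcMat S' w * Vi) * lamTr σ (f x) * (V * bcMat S' w') := by rw [hLC, hCL]
      _ = _ := by simp only [mul_assoc]
  exact ⟨_, adapted_of_split S' g hg1 lam t w w' hgt⟩

end localform

end Groth.Agent.Lib.Helper3.AdaptedLocal
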