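import Groth.Agent.Lib.Helper3.FixedSplitSym
import Groth.Agent.Lib.Helper3.IndEtDescentAdapted

/-! Adapted matrix units: splittings, isomorphisms, transport, standard units (helper3). -/

set_option autoImplicit false
universe u u' v w w'

open TensorProduct

namespace Groth.Agent.Lib.Helper3.AdaptedSplit

open AzInv Groth.Agent.Lib.Helper3.FixedBC Groth.Agent.Lib.Helper3.MatUnits
  Groth.Agent.Lib.Helper3.LamInvBC Groth.Agent.Lib.Helper3.FixedSplitSym
  Groth.Agent.Lib.Helper3.IndEtDescent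

variable {S : Type u} {R : Type v} [CommRing S] [CommRing R] [Algebra S R]
  {A : Type w} [Ring A] [Algebra S A] [Algebra R A] [IsScalarTower S R A]
  {A' : Type w'} [Ring A'] [Algebra S A'] [Algebra R A'] [IsScalarTower S R A']

/-- constants from a matrix over `R` -/
def cst (A : Type*) [Ring A] [Algebra R A] {n : ℕ} (w : Matrix (Fin n) (Fin n) R) :
    Fin n → Fin n → A := fun k l => algebraMap R A (w k l)

/-- the matrix `1 ⊗ w` over `S' ⊗ R` -/
def bcMat (S' : Type u') [CommRing S'] [Algebra S S'] {n : ℕ} (w : Matrix (Fin n) (Fin n) R) :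
    Matrix (Fin n) (Fin n) (S' ⊗[S] R) := w.map (fun r => (1 : S') ⊗ₜ[S] r)

/-- adapted matrix units give a splitting under which the involution becomes
`x ↦ w̃ * lamTr x * w̃'` -/
theorem split_of_adapted (S' : Type u') [CommRing S'] [Algebra S S'] (n : ℕ) (hn : 0 < n)
    (hA : IsAzumayaDeg R A n) (lam : R ≃ₐ[S] R) (t : LamInv R A lam)
    (w w' : Matrix (Fin n) (Fin n) R) (E : Fin n → Fin n → S' ⊗[S] A)
    (hE : IsAdaptedC A (t.linS S lam) S' (cst A w) (cst A w') E) :
    ∃ f : S' ⊗[S] A ≃ₐ[S'] Matrix (Fin n) (Fin n) (S' ⊗[S] R),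
      (∀ (r : R) (x : S' ⊗[S] A),
        f (((1 : S') ⊗ₜ[S] algebraMap R A r) * x) =
          Matrix.scalar (Fin n) ((1 : S') ⊗ₜ[S] r) * f x) ∧
      ∀ x, f (t.bc S lam S' x) =
        bcMat S' w * lamTr (LinearMap.lTensor S' lam.toLinearMap) (f x) * bcMat S' w' := by
  obtain ⟨f, hf1, hf2⟩ := split_of_matUnits' S' n hn hA E hE.1
  refine ⟨f, hf1, ?_⟩
  have hW : ∀ b : Matrix (Fin n) (Fin n) R, f.symm (bcMat S' b) = Wc A S' (cst A b) E := by
    intro b
    rw [hf2]
    rfl
  intro x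
  obtain ⟨M, rfl⟩ := f.symm.surjective x
  rw [AlgEquiv.apply_symm_apply]
  apply f.symm.injective
  rw [AlgEquiv.symm_apply_apply, map_mul, map_mul, hW, hW, hf2, hf2]
  simp only [map_sum, Finset.mul_sum, Finset.sum_mul]
  rw [Finset.sum_comm]
  refine Finset.sum_congr rfl fun j _ => Finset.sum_congr rfl fun i _ => ?_
  rw [bc_mul, bc_mu, lamTr_apply]
  have := hE.2 i j
  change t.bc S lam S' (E i j) = _ at this
  rw [this]
  set z := mu S S' R A ((LinearMap.lTensor S' lam.toLinearMap) (M i j)) with hz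
  have comm : ∀ y, z * y = y * z := fun y => mu_central S S' R A _ y
  calc Wc A S' (cst A w) E * E j i * Wc A S' (cst A w') E * z
      = Wc A S' (cst A w) E * E j i * (Wc A S' (cst A w') E * z) := by rw [mul_assoc]
    _ = Wc A S' (cst A w) E * E j i * (z * Wc A S' (cst A w') E) := by rw [comm]
    _ = Wc A S' (cst A w) E * (E j i * z) * Wc A S' (cst A w') E := by simp only [mul_assoc]
    _ = Wc A S' (cst A w) E * (z * E j i) * Wc A S' (cst A w') E := by rw [comm]

/-- two Azumaya algebras with involution of the same degree, both with units adapted to the same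
matrices over `S'`, become isomorphic over `S'` -/
theorem iso_of_adapted (S' : Type u') [CommRing S'] [Algebra S S'] (n : ℕ) (hn : 0 < n)
    (lam : R ≃ₐ[S] R) (w w' : Matrix (Fin n) (Fin n) R)
    (hA : IsAzumayaDeg R A n) (t : LamInv R A lam)
    (E : Fin n → Fin n → S' ⊗[S] A)
    (hE : IsAdaptedC A (t.linS S lam) S' (cst A w) (cst A w') E)
    (hA' : IsAzumayaDeg R A' n) (t' : LamInv R A' lam)
    (E' : Fin n → Fin n → S' ⊗[S] A')
    (hE' : IsAdaptedC A' (t'.linS S lam) S' (cst A' w) (cst A' w') E') :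
    ∃ f : S' ⊗[S] A ≃ₐ[S'] S' ⊗[S] A',
      (∀ (r : R) (x : S' ⊗[S] A),
        f (((1 : S') ⊗ₜ[S] algebraMap R A r) * x) = ((1 : S') ⊗ₜ[S] algebraMap R A' r) * f x) ∧
      ∀ x : S' ⊗[S] A, f (t.bc S lam S' x) = t'.bc S lam S' (f x) := by
  obtain ⟨f₁, h₁, k₁⟩ := split_of_adapted S' n hn hA lam t w w' E hE
  obtain ⟨f₂, h₂, k₂⟩ := split_of_adapted S' n hn hA' lam t' w w' E' hE'
  refine ⟨f₁.trans f₂.symm, ?_, ?_⟩
  · intro r x
    rw [AlgEquiv.trans_apply, AlgEquiv.trans_apply, h₁]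
    apply f₂.injective
    rw [AlgEquiv.apply_symm_apply, h₂, AlgEquiv.apply_symm_apply]
  · intro x
    rw [AlgEquiv.trans_apply, AlgEquiv.trans_apply, k₁]
    apply f₂.injective
    rw [AlgEquiv.apply_symm_apply, k₂, AlgEquiv.apply_symm_apply]

/-- `LocIsoEt` from adapted matrix units -/
theorem locIsoEt_of_adapted (S' : Type u) [CommRing S'] [Algebra S S'] [Algebra.Etale S S']
    [Module.FaithfullyFlat S S'] (n : ℕ) (hn : 0 < n)
    (lam : R ≃ₐ[S] R) (w w' : Matrix (Fin n) (Fin n) R)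
    (hA : IsAzumayaDeg R A n) (t : LamInv R A lam)
    (E : Fin n → Fin n → S' ⊗[S] A)
    (hE : IsAdaptedC A (t.linS S lam) S' (cst A w) (cst A w') E)
    (hA' : IsAzumayaDeg R A' n) (t' : LamInv R A' lam)
    (E' : Fin n → Fin n → S' ⊗[S] A')
    (hE' : IsAdaptedC A' (t'.linS S lam) S' (cst A' w) (cst A' w') E') :
    LocIsoEt S lam t t' := by
  obtain ⟨f, h1, h2⟩ := iso_of_adapted S' n hn lam w w' hA t E hE hA' t' E' hE'
  exact ⟨S', inferInstance, inferInstance, inferInstance, inferInstance, f, h1, h2⟩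

/-- adapted units are transported by `R`-compatible algebra maps commuting with the
involutions -/
theorem adapted_map (S' : Type u') [CommRing S'] [Algebra S S'] {n : ℕ}
    (lam : R ≃ₐ[S] R) (t : LamInv R A lam) (tB : LamInv R A' lam) (ι : A →ₐ[S] A')
    (hι : ∀ a, ι (t a) = tB (ι a)) (hιR : ∀ r, ι (algebraMap R A r) = algebraMap R A' r)
    (w w' : Matrix (Fin n) (Fin n) R)
    (E : Fin n → Fin n → S' ⊗[S] A)
    (hE : IsAdaptedC A (t.linS S lam) S' (cst A w) (cst A w') E) :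
    ∃ E' : Fin n → Fin n → S' ⊗[S] A',
      IsAdaptedC A' (tB.linS S lam) S' (cst A' w) (cst A' w') E' := by
  let Φ : S' ⊗[S] A →ₐ[S'] S' ⊗[S] A' := Algebra.TensorProduct.map (AlgHom.id S' S') ι
  have hΦ : ∀ x, (tB.linS S lam).baseChange S' (Φ x) = Φ ((t.linS S lam).baseChange S' x) := by
    intro x
    induction x using TensorProduct.induction_on with
    | zero => simp
    | add x y hx hy => rw [map_add, map_add, map_add, map_add, hx, hy]
    | tmul s a =>
      show (tB.linS S lam).baseChange S' (s ⊗ₜ ι a) = Φ ((t.linS S lam).baseChange S' (s ⊗ₜ a))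
      rw [LinearMap.baseChange_tmul, LinearMap.baseChange_tmul, LamInv.linS_apply,
        LamInv.linS_apply, ← hι]
      rfl
  have hΦW : ∀ b : Matrix (Fin n) (Fin n) R, Φ (Wc A S' (cst A b) E) =
      Wc A' S' (cst A' b) (fun i j => Φ (E i j)) := by
    intro b
    simp only [Wc, map_sum, map_mul]
    refine Finset.sum_congr rfl fun k _ => Finset.sum_congr rfl fun l _ => ?_
    congr 1
    show (1 : S') ⊗ₜ[S] ι (algebraMap R A (b k l)) = _
    rw [hιR]
    rfl
  refine ⟨fun i j => Φ (E i j), hE.1.map (Φ : S' ⊗[S] A →+* S' ⊗[S] A'), ?_⟩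
  intro i j
  rw [hΦ, hE.2, map_mul, map_mul, hΦW, hΦW]

lemma Wc_std (S' : Type u') [CommRing S'] [Algebra S S'] {n : ℕ}
    (b : Matrix (Fin n) (Fin n) R) :
    Wc (S := S) (Matrix (Fin n) (Fin n) R) S' (cst (Matrix (Fin n) (Fin n) R) b)
      (fun i j => (1 : S') ⊗ₜ[S] Matrix.single i j (1 : R)) = (1 : S') ⊗ₜ[S] b := by
  simp only [Wc, cst, Algebra.TensorProduct.tmul_mul_tmul, mul_one]
  simp only [← TensorProduct.tmul_sum]
  congr 1
  conv_rhs => rw [Matrix.matrix_eq_sum_single b]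
  refine Finset.sum_congr rfl fun k _ => Finset.sum_congr rfl fun l _ => ?_
  rw [Algebra.algebraMap_eq_smul_one, smul_mul_assoc, one_mul, Matrix.smul_single, smul_eq_mul,
    mul_one]

/-- the standard matrix units of `M_n(R)` are adapted for the involution `w * lamTr x * w⁻¹` -/
theorem adapted_std (S' : Type u') [CommRing S'] [Algebra S S'] (n : ℕ)
    (lam : R ≃ₐ[S] R) (hlam : ∀ r, lam (lam r) = r)
    (wU : (Matrix (Fin n) (Fin n) R)ˣ) (e : R)
    (hw : LamInv.transpose lam (Fin n) hlam (↑wU : Matrix (Fin n) (Fin n) R) =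
      e • (↑wU : Matrix (Fin n) (Fin n) R)) (he : lam e * e = 1) :
    IsAdaptedC (Matrix (Fin n) (Fin n) R)
      (((LamInv.transpose lam (Fin n) hlam).conj wU e hw he).linS S lam) S'
      (cst _ (↑wU : Matrix (Fin n) (Fin n) R)) (cst _ (↑wU⁻¹ : Matrix (Fin n) (Fin n) R))
      (fun i j => (1 : S') ⊗ₜ[S] Matrix.single i j (1 : R)) := by
  have h0 := (isMatUnits_single (n := n) R).map
      ((Algebra.TensorProduct.includeRight : Matrix (Fin n) (Fin n) R →ₐ[S]
        S' ⊗[S] Matrix (Fin n) (Fin n) R).toRingHom)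
  refine ⟨h0, ?_⟩
  intro i j
  rw [Wc_std, Wc_std, LinearMap.baseChange_tmul, Algebra.TensorProduct.tmul_mul_tmul,
    Algebra.TensorProduct.tmul_mul_tmul, one_mul, one_mul, LamInv.linS_apply, LamInv.conj_apply]
  congr 3
  ext k l
  simp only [LamInv.transpose_apply, Matrix.single_apply]
  split_ifs with h1 h2 h2
  · exact map_one lam
  · exact absurd ⟨h1.2, h1.1⟩ h2
  · exact absurd ⟨h2.2, h2.1⟩ h1
  · exact map_zero lam

end Groth.Agent.Lib.Helper3.AdaptedSplit
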