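import Mathlib

set_option autoImplicit false
universe u

namespace Groth.Agent.Lib.Helper3.ArtinAA2

theorem approx_of_exists {R Λ : Type u} [CommRing R] [CommRing Λ] [Algebra R Λ] (I : Ideal R)
    (hI : I.FG)
    (hsurj : ∀ a : Λ, ∃ c : R, a - algebraMap R Λ c ∈ I.map (algebraMap R Λ))
    (hex : ∀ (n m : ℕ) (F : Fin m → MvPolynomial (Fin n) R),
      (∃ a : Fin n → Λ, ∀ j, MvPolynomial.eval a (MvPolynomial.map (algebraMap R Λ) (F j)) = 0) →
        ∃ b : Fin n → R, ∀ j, MvPolynomial.eval b (F j) = 0)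
    (n m : ℕ) (F : Fin m → MvPolynomial (Fin n) R) (a : Fin n → Λ)
    (ha : ∀ j, MvPolynomial.eval a (MvPolynomial.map (algebraMap R Λ) (F j)) = 0) :
    ∃ b : Fin n → R, (∀ j, MvPolynomial.eval b (F j) = 0) ∧
      ∀ i, a i - algebraMap R Λ (b i) ∈ I.map (algebraMap R Λ) := by
  classical
  -- generators of I
  obtain ⟨s, μ, hμ⟩ : ∃ (s : ℕ) (μ : Fin s → R), Ideal.span (Set.range μ) = I := by
    obtain ⟨S, hS⟩ := hI
    refine ⟨S.card, fun k => (S.equivFin.symm k : R), ?_⟩
    rw [← hS]
    congr 1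
    ext x
    constructor
    · rintro ⟨k, rfl⟩
      exact (S.equivFin.symm k).2
    · intro hx
      exact ⟨S.equivFin ⟨x, hx⟩, by simp⟩
  have hmap : I.map (algebraMap R Λ) = Ideal.span (Set.range (fun k => algebraMap R Λ (μ k))) := by
    rw [← hμ, Ideal.map_span, ← Set.range_comp]
    rfl
  -- choose c and y
  choose c hc using hsurj
  have hy : ∀ i, ∃ y : Fin s → Λ, ∑ k, y k * algebraMap R Λ (μ k) = a i - algebraMap R Λ (c (a i)) := by
    intro i
    have := hc (a i)
    rw [hmap] at this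
    exact (Ideal.mem_span_range_iff_exists_fun).mp this
  choose y hy using hy
  let e : Fin n × Fin s ≃ Fin (n * s) := finProdFinEquiv
  -- substitution
  let sub : Fin n → MvPolynomial (Fin (n * s)) R := fun i =>
    MvPolynomial.C (c (a i)) + ∑ k, MvPolynomial.C (μ k) * MvPolynomial.X (e (i, k))
  let G : Fin m → MvPolynomial (Fin (n * s)) R := fun j => MvPolynomial.bind₁ sub (F j)
  let y' : Fin (n * s) → Λ := fun t => y (e.symm t).1 (e.symm t).2
  -- evaluation of sub at y'
  have hsuby : ∀ i, MvPolynomial.eval y' (MvPolynomial.map (algebraMap R Λ) (sub i)) = a i := by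
    intro i
    simp only [sub, map_add, map_sum, map_mul, MvPolynomial.map_C, MvPolynomial.map_X,
      MvPolynomial.eval_C, MvPolynomial.eval_X, y', Equiv.symm_apply_apply]
    have := hy i
    rw [eq_sub_iff_add_eq] at this
    refine Eq.trans ?_ this
    rw [add_comm]
    congr 1
    refine Finset.sum_congr rfl fun k _ => ?_
    rw [mul_comm]
  have hev : ∀ (q : MvPolynomial (Fin (n * s)) R),
      MvPolynomial.eval y' (MvPolynomial.map (algebraMap R Λ) q) = MvPolynomial.aeval y' q := by
    intro q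
    rw [MvPolynomial.eval_map, MvPolynomial.aeval_def]
  have hev' : ∀ (q : MvPolynomial (Fin n) R),
      MvPolynomial.eval a (MvPolynomial.map (algebraMap R Λ) q) = MvPolynomial.aeval a q := by
    intro q
    rw [MvPolynomial.eval_map, MvPolynomial.aeval_def]
  have hGy : ∀ j, MvPolynomial.eval y' (MvPolynomial.map (algebraMap R Λ) (G j)) = 0 := by
    intro j
    rw [← ha j, hev, hev']
    simp only [G]
    rw [MvPolynomial.aeval_bind₁]
    have hfun : (fun i => MvPolynomial.aeval y' (sub i)) = a :=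
      funext fun i => by rw [← hev, hsuby]
    rw [hfun]
  obtain ⟨z, hz⟩ := hex (n * s) m G ⟨y', hGy⟩
  have hμI : ∀ k, μ k ∈ I := fun k => by
    rw [← hμ]; exact Ideal.subset_span ⟨k, rfl⟩
  refine ⟨fun i => MvPolynomial.eval z (sub i), fun j => ?_, fun i => ?_⟩
  · have h1 := hz j
    simp only [G] at h1
    rw [← h1]
    have h2 := MvPolynomial.aeval_bind₁ (R := R) (S := R) z sub (F j)
    simp only [MvPolynomial.aeval_eq_eval] at h2
    exact h2.symm
  · have hb : MvPolynomial.eval z (sub i) = c (a i) + ∑ k, μ k * z (e (i, k)) := by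
      simp [sub]
    show a i - algebraMap R Λ (MvPolynomial.eval z (sub i)) ∈ _
    rw [hb, map_add, map_sum]
    have h3 : a i - (algebraMap R Λ (c (a i)) + ∑ k, algebraMap R Λ (μ k * z (e (i, k)))) =
        (a i - algebraMap R Λ (c (a i))) - ∑ k, algebraMap R Λ (μ k * z (e (i, k))) := by ring
    rw [h3]
    refine Ideal.sub_mem _ (hc (a i)) (Ideal.sum_mem _ fun k _ => ?_)
    exact Ideal.mem_map_of_mem _ (Ideal.mul_mem_right _ _ (hμI k))

end Groth.Agent.Lib.Helper3.ArtinAA2
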