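import Mathlib
import Groth.Prelude.Def_Smoothing
import Groth.Agent.Lib.Helper27.SmoothSection
import Groth.Agent.Lib.Helper20.FPApprox

set_option autoImplicit false
universe u
open CategoryTheory CategoryTheory.Limits

namespace Groth.Agent.Lib.Helper3.ArtinEt

set_option backward.isDefEq.respectTransparency.types false
set_option maxHeartbeats 400000

open Groth.Agent.Lib.Helper20 in
/-- Core: étale-neighbourhood approximation for a functor preserving filtered colimits, from
ind-smoothness (Popescu) and the étale section lemma for smooth algebras. -/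
theorem coreU (A : Type u) [CommRing A] (Λ : Type u) [CommRing Λ] [Algebra A Λ]
    (hind : Smoothing.IndSmooth A Λ)
    (J : Ideal A) (ev : Λ →ₐ[A] A ⧸ J)
    (F : Under (CommRingCat.of A) ⥤ Type u)
    (hF : ∀ (K : Type u) [SmallCategory K] [IsFiltered K], PreservesColimitsOfShape K F)
    (π : Under.mk (CommRingCat.ofHom (algebraMap A Λ)) ⟶
      Under.mk (CommRingCat.ofHom (algebraMap A (A ⧸ J))))
    (hπ : π.right = CommRingCat.ofHom ev.toRingHom)
    (ξ : F.obj (Under.mk (CommRingCat.ofHom (algebraMap A Λ)))) :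
    ∃ (A' : Type u) (_ : CommRing A') (_ : Algebra A A') (_ : Algebra.Etale A A')
      (ψ : A' →ₐ[A] A ⧸ J)
      (φ : Under.mk (CommRingCat.ofHom (algebraMap A A')) ⟶
        Under.mk (CommRingCat.ofHom (algebraMap A (A ⧸ J))))
      (_ : φ.right = CommRingCat.ofHom ψ.toRingHom)
      (ξ' : F.obj (Under.mk (CommRingCat.ofHom (algebraMap A A')))),
      F.map φ ξ' = F.map π ξ := by
  classical
  have hcof : ∀ S₀ : Finset Λ, ∃ j : FPApprox.Pres A Λ, (fun _ => True) j ∧ S₀ ⊆ j.S := by
    intro S₀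
    refine ⟨⟨S₀, ⊥, Submodule.fg_bot, ?_⟩, trivial, Finset.Subset.refl _⟩
    intro x hx
    rw [Ideal.mem_bot] at hx
    rw [hx, map_zero]
  obtain ⟨hd, hn, ⟨hc⟩⟩ := FPApprox.exists_isColimit (A := A) (B := Λ) (fun _ => True) hcof
    (fun _ _ _ _ _ _ => trivial)
  haveI := hd
  haveI := hn
  haveI := hF (FPApprox.GoodPres (A := A) (B := Λ) (fun _ => True))
  have hc' := isColimitOfPreserves F hc
  obtain ⟨j, y, hy⟩ := Types.jointly_surjective_of_isColimit hc' ξ
  -- the stage
  haveI : Algebra.FinitePresentation A j.1.Alg := j.1.finitePresentation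
  obtain ⟨B, _, _, hsm, g, h, hgh⟩ := hind j.1.Alg j.1.finitePresentation j.1.leg
  haveI := hsm
  obtain ⟨A', _, _, het, ψ, τ, -, hτ⟩ :=
    Groth.Agent.Lib.Helper27.SmoothSection.exists_etale_section J (ev.comp h)
  let gU : Under.mk (CommRingCat.ofHom (algebraMap A j.1.Alg)) ⟶
      Under.mk (CommRingCat.ofHom (algebraMap A B)) :=
    Under.homMk (CommRingCat.ofHom g.toRingHom) (by ext a; exact g.commutes a)
  let hU : Under.mk (CommRingCat.ofHom (algebraMap A B)) ⟶
      Under.mk (CommRingCat.ofHom (algebraMap A Λ)) :=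
    Under.homMk (CommRingCat.ofHom h.toRingHom) (by ext a; exact h.commutes a)
  let τU : Under.mk (CommRingCat.ofHom (algebraMap A B)) ⟶
      Under.mk (CommRingCat.ofHom (algebraMap A A')) :=
    Under.homMk (CommRingCat.ofHom τ.toRingHom) (by ext a; exact τ.commutes a)
  let φ : Under.mk (CommRingCat.ofHom (algebraMap A A')) ⟶
      Under.mk (CommRingCat.ofHom (algebraMap A (A ⧸ J))) :=
    Under.homMk (CommRingCat.ofHom ψ.toRingHom) (by ext a; exact ψ.commutes a)
  have hι : (FPApprox.cocone (A := A) (B := Λ) (fun _ => True)).ι.app j = gU ≫ hU := by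
    apply Under.UnderMorphism.ext
    ext x
    exact (AlgHom.congr_fun hgh x).symm
  have hξ : ξ = F.map hU (F.map gU y) := by
    rw [← hy]
    have e0 : F.map ((FPApprox.cocone (A := A) (B := Λ) (fun _ => True)).ι.app j) y =
        F.map (gU ≫ hU) y := congrArg (fun m => F.map m y) hι
    exact e0.trans (Functor.map_comp_apply F gU hU y)
  have hm : τU ≫ φ = hU ≫ π := by
    apply Under.UnderMorphism.ext
    rw [Under.comp_right, Under.comp_right, hπ]
    ext b
    exact AlgHom.congr_fun hτ b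
  refine ⟨A', inferInstance, inferInstance, het, ψ, φ, rfl, F.map τU (F.map gU y), ?_⟩
  rw [hξ]
  have e1 := Functor.map_comp_apply F τU φ (F.map gU y)
  have e2 := Functor.map_comp_apply F hU π (F.map gU y)
  rw [← e1, ← e2, hm]

/-- Étale-neighbourhood approximation for a functor preserving filtered colimits, from
ind-smoothness (`mkUnder`/`toUnder` form). -/
theorem core (A : Type u) [CommRing A] (Λ : Type u) [CommRing Λ] [Algebra A Λ]
    (hind : Smoothing.IndSmooth A Λ) (I : Ideal A) (ev : Λ →ₐ[A] A ⧸ I)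
    (F : Under (CommRingCat.of A) ⥤ Type u)
    (hF : ∀ (J : Type u) [SmallCategory J] [IsFiltered J], PreservesColimitsOfShape J F)
    (ξ : F.obj (CommRingCat.mkUnder (CommRingCat.of A) Λ)) :
    ∃ (A' : Type u) (_ : CommRing A') (_ : Algebra A A') (_ : Algebra.Etale A A')
      (ψ : A' →ₐ[A] A ⧸ I) (ξ' : F.obj (CommRingCat.mkUnder (CommRingCat.of A) A')),
      F.map ψ.toUnder ξ' = F.map ev.toUnder ξ := by
  obtain ⟨A', _, _, het, ψ, φ, hφ, ξ', h⟩ := coreU A Λ hind I ev F hF ev.toUnder rfl ξ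
  have hφ' : φ = ψ.toUnder := Under.UnderMorphism.ext hφ
  subst hφ'
  exact ⟨A', inferInstance, inferInstance, het, ψ, ξ', h⟩

/-- The same in `CommAlgCat` form. -/
theorem core' (A : Type u) [CommRing A] (Λ : Type u) [CommRing Λ] [Algebra A Λ]
    (hind : Smoothing.IndSmooth A Λ) (I : Ideal A) (ev : Λ →ₐ[A] A ⧸ I)
    (F : CommAlgCat.{u} A ⥤ Type u) [PreservesFilteredColimits F]
    (ξ : F.obj (CommAlgCat.of A Λ)) :
    ∃ (A' : Type u) (_ : CommRing A') (_ : Algebra A A') (_ : Algebra.Etale A A')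
      (ψ : A' →ₐ[A] A ⧸ I) (ξ' : F.obj (CommAlgCat.of A A')),
      F.map (CommAlgCat.ofHom ψ) ξ' = F.map (CommAlgCat.ofHom ev) ξ := by
  let e := commAlgCatEquivUnder (CommRingCat.of A)
  let F' : Under (CommRingCat.of A) ⥤ Type u := e.inverse ⋙ F
  have hF' : ∀ (J : Type u) [SmallCategory J] [IsFiltered J], PreservesColimitsOfShape J F' := by
    intro J _ _
    haveI : PreservesColimitsOfShape J F :=
      PreservesFilteredColimitsOfSize.preserves_filtered_colimits J
    infer_instance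
  let ξ₁ : F'.obj (CommRingCat.mkUnder (CommRingCat.of A) Λ) :=
    F.map (e.unitIso.hom.app (CommAlgCat.of A Λ)) ξ
  obtain ⟨A', _, _, het, ψ, ξ'₁, h⟩ := core A Λ hind I ev F' hF' ξ₁
  refine ⟨A', inferInstance, inferInstance, het, ψ,
    F.map (e.unitIso.inv.app (CommAlgCat.of A A')) ξ'₁, ?_⟩
  have n1 : e.unitIso.inv.app (CommAlgCat.of A A') ≫ CommAlgCat.ofHom ψ =
      e.inverse.map (e.functor.map (CommAlgCat.ofHom ψ)) ≫
        e.unitIso.inv.app (CommAlgCat.of A (A ⧸ I)) :=
    (e.unitIso.inv.naturality (CommAlgCat.ofHom ψ)).symm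
  have n2 : e.unitIso.hom.app (CommAlgCat.of A Λ) ≫
      e.inverse.map (e.functor.map (CommAlgCat.ofHom ev)) =
      CommAlgCat.ofHom ev ≫ e.unitIso.hom.app (CommAlgCat.of A (A ⧸ I)) :=
    (e.unitIso.hom.naturality (CommAlgCat.ofHom ev)).symm
  have h' : F.map (e.inverse.map (e.functor.map (CommAlgCat.ofHom ψ))) ξ'₁ =
      F.map (e.inverse.map (e.functor.map (CommAlgCat.ofHom ev)))
        (F.map (e.unitIso.hom.app (CommAlgCat.of A Λ)) ξ) := h
  calc F.map (CommAlgCat.ofHom ψ) (F.map (e.unitIso.inv.app (CommAlgCat.of A A')) ξ'₁)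
      = F.map (e.unitIso.inv.app (CommAlgCat.of A A') ≫ CommAlgCat.ofHom ψ) ξ'₁ :=
        (FunctorToTypes.map_comp_apply F _ _ ξ'₁).symm
    _ = F.map (e.inverse.map (e.functor.map (CommAlgCat.ofHom ψ)) ≫
          e.unitIso.inv.app (CommAlgCat.of A (A ⧸ I))) ξ'₁ := by rw [n1]
    _ = F.map (e.unitIso.inv.app (CommAlgCat.of A (A ⧸ I)))
          (F.map (e.inverse.map (e.functor.map (CommAlgCat.ofHom ψ))) ξ'₁) :=
        FunctorToTypes.map_comp_apply F _ _ ξ'₁
    _ = F.map (e.unitIso.inv.app (CommAlgCat.of A (A ⧸ I)))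
          (F.map (e.inverse.map (e.functor.map (CommAlgCat.ofHom ev)))
            (F.map (e.unitIso.hom.app (CommAlgCat.of A Λ)) ξ)) := by rw [h']
    _ = F.map (e.unitIso.inv.app (CommAlgCat.of A (A ⧸ I)))
          (F.map (e.unitIso.hom.app (CommAlgCat.of A Λ) ≫
            e.inverse.map (e.functor.map (CommAlgCat.ofHom ev))) ξ) := by
        rw [FunctorToTypes.map_comp_apply]
    _ = F.map (e.unitIso.inv.app (CommAlgCat.of A (A ⧸ I)))
          (F.map (CommAlgCat.ofHom ev ≫ e.unitIso.hom.app (CommAlgCat.of A (A ⧸ I))) ξ) := by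
        rw [n2]
    _ = F.map (CommAlgCat.ofHom ev ≫ e.unitIso.hom.app (CommAlgCat.of A (A ⧸ I)) ≫
          e.unitIso.inv.app (CommAlgCat.of A (A ⧸ I))) ξ := by
        rw [← FunctorToTypes.map_comp_apply, Category.assoc]
    _ = F.map (CommAlgCat.ofHom ev) ξ := by
        rw [Iso.hom_inv_id_app]
        exact congrArg (fun f => F.map f ξ) (Category.comp_id (CommAlgCat.ofHom ev))

end Groth.Agent.Lib.Helper3.ArtinEt
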