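import Mathlib
import Groth.Prelude.Def_Smoothing
import Groth.Agent.Lib.Helper27.SmoothSection

set_option autoImplicit false
universe u

namespace Groth.Agent.Lib.Helper3.ArtinEtMap

/-- Étale-neighbourhood approximation of an algebra map into an ind-smooth algebra: a map from a
finitely presented `C`-algebra `P` to an ind-smooth `C`-algebra `Λ` can be realised, modulo `J`,
by a map from `P` to an étale `C`-algebra `C'` with `C'/JC' = C/J`. -/
theorem exists_etale_map (C : Type u) [CommRing C] (Λ : Type u) [CommRing Λ] [Algebra C Λ]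
    (hind : Smoothing.IndSmooth C Λ) (J : Ideal C) (ev : Λ →ₐ[C] C ⧸ J)
    (P : Type u) [CommRing P] [Algebra C P] [Algebra.FinitePresentation C P] (f : P →ₐ[C] Λ) :
    ∃ (C' : Type u) (_ : CommRing C') (_ : Algebra C C') (_ : Algebra.Etale C C')
      (ψ : C' →ₐ[C] C ⧸ J) (t : P →ₐ[C] C'),
      RingHom.ker ψ.toRingHom = J.map (algebraMap C C') ∧ ψ.comp t = ev.comp f := by
  obtain ⟨D, _, _, hsm, g, h, hgh⟩ := hind P inferInstance f
  haveI := hsm
  obtain ⟨C', _, _, het, ψ, τ, hker, hτ⟩ :=
    Groth.Agent.Lib.Helper27.SmoothSection.exists_etale_section J (ev.comp h)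
  refine ⟨C', inferInstance, inferInstance, het, ψ, τ.comp g, hker, ?_⟩
  rw [← AlgHom.comp_assoc, hτ, AlgHom.comp_assoc, hgh]

end Groth.Agent.Lib.Helper3.ArtinEtMap
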