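import Groth.Agent.Lib.Helper3.SplitCrit

/-!
# Algebra maps out of Azumaya algebras into algebras of the same rank are bijective (helper3)
-/

set_option autoImplicit false
universe u v w

open TensorProduct

namespace Groth.Agent.Lib.Helper3.AzHomBij

open Groth.Agent.Lib.Helper3.Az

variable {T : Type u} [CommRing T] {C : Type v} [Ring C] [Algebra T C] [IsAzumaya T C]
  {D : Type w} [Ring D] [Algebra T D] [Module.Finite T D] [Module.Projective T D]

/-- an algebra map from an Azumaya algebra to a finite projective algebra of the same (positive)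
rank is bijective -/
theorem bijective_of_rank (φ : C →ₐ[T] D)
    (hrk : ∀ q : PrimeSpectrum T, Module.rankAtStalk C q = Module.rankAtStalk D q)
    (hpos : ∀ q : PrimeSpectrum T, 0 < Module.rankAtStalk D q) : Function.Bijective φ := by
  have hbij : Function.Bijective φ.toLinearMap := by
    apply bijective_of_forall_prime
    intro q hq
    refine ⟨q.ResidueField, inferInstance, inferInstance, ⟨⟨⊥, Ideal.isPrime_bot⟩, ?_⟩, ?_⟩
    · change Ideal.comap (algebraMap T q.ResidueField) ⊥ = q
      rw [← RingHom.ker_eq_comap_bot, Ideal.ker_algebraMap_residueField]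
    set κ := q.ResidueField
    haveI : IsAzumaya κ (κ ⊗[T] C) := isAzumaya_baseChange T κ C
    haveI : IsSimpleRing (κ ⊗[T] C) := Groth.Agent.S5719.isSimpleRing_of_isAzumaya_field κ _
    let Θ : κ ⊗[T] C →ₐ[κ] κ ⊗[T] D := Algebra.TensorProduct.map (AlgHom.id κ κ) φ
    have hΘ : ∀ x, Θ x = φ.toLinearMap.baseChange κ x := by
      intro x
      induction x using TensorProduct.induction_on with
      | zero => simp
      | tmul s c => rfl
      | add x y hx hy => rw [map_add, map_add, hx, hy]
    have hrkD := Module.rankAtStalk_eq (M := D) ⟨q, hq⟩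
    have hrkC := Module.rankAtStalk_eq (M := C) ⟨q, hq⟩
    have hposq := hpos ⟨q, hq⟩
    have hfinD : Module.finrank κ (κ ⊗[T] D) = Module.rankAtStalk D ⟨q, hq⟩ := hrkD.symm
    have hfinC : Module.finrank κ (κ ⊗[T] C) = Module.rankAtStalk C ⟨q, hq⟩ := hrkC.symm
    haveI : Nontrivial (κ ⊗[T] D) := by
      apply Module.nontrivial_of_finrank_pos (R := κ)
      rw [hfinD]; exact hposq
    have hinj : Function.Injective Θ := RingHom.injective (Θ : κ ⊗[T] C →+* κ ⊗[T] D)
    have hdim : Module.finrank κ (κ ⊗[T] C) = Module.finrank κ (κ ⊗[T] D) := by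
      rw [hfinC, hfinD, hrk]
    have hΘbij : Function.Bijective Θ := by
      refine ⟨hinj, ?_⟩
      have hinj' : Function.Injective Θ.toLinearMap := hinj
      haveI : FiniteDimensional κ (κ ⊗[T] C) := inferInstance
      haveI : FiniteDimensional κ (κ ⊗[T] D) := inferInstance
      have := @LinearMap.injective_iff_surjective_of_finrank_eq_finrank κ (κ ⊗[T] C) _ _ _
        (κ ⊗[T] D) _ _ _ _ hdim Θ.toLinearMap
      exact this.mp hinj'
    have : (φ.toLinearMap.baseChange κ : κ ⊗[T] C → κ ⊗[T] D) = Θ := funext fun x => (hΘ x).symm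
    rw [this]
    exact hΘbij
  exact hbij

end Groth.Agent.Lib.Helper3.AzHomBij
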