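import Groth.Agent.Lib.Helper3.SkolemNoetherLocal
import Groth.Agent.Lib.Helper3.PiTensor
import Groth.Agent.Lib.Helper3.EtCover
import Mathlib.RingTheory.Etale.Pi
import Groth.Prelude.Def_AzInv
import Groth.Prelude.Def_W4c2azumayainvolQEt

/-!
# Automorphisms of Azumaya algebras over a ring with involution are inner locally on the fixed ring (helper3)
-/

set_option autoImplicit false
universe u v w

open TensorProduct Polynomial

namespace Groth.Agent.Lib.Helper3.AzInvInner

open Groth.Agent.Lib.Helper3.SN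

section general

variable {R : Type u} [CommRing R] {A : Type v} [Ring A] [Algebra R A]

/-- a local non-generator lies in `pA` -/
lemma mem_smul_top_of_forall_ne [IsAzumaya R A] (u : A ≃ₐ[R] A) (c : A)
    (hc : ∀ x, u x * c = c * x) (p : Ideal R)
    (h : ∀ f, f ∉ p → ∀ d, c * d ≠ algebraMap R A f) : c ∈ p • (⊤ : Submodule R A) := by
  set I := idealOf u c hc with hI
  have hmem : ∀ y, y ∈ I ↔ ∃ a, y = c * a := by
    intro y
    rw [hI, idealOf, TwoSidedIdeal.mem_mk']
    rfl
  have hpa := Groth.Agent.S8128.part_a R A I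
  set J := (TwoSidedIdeal.asIdeal I).comap (algebraMap R A) with hJ
  have hle : J ≤ p := by
    intro f hf
    by_contra hfp
    rw [hJ, Ideal.mem_comap, TwoSidedIdeal.mem_asIdeal, hmem] at hf
    obtain ⟨d, hd⟩ := hf
    exact h f hfp d hd.symm
  have hcI : c ∈ TwoSidedIdeal.asIdeal I := by
    rw [TwoSidedIdeal.mem_asIdeal, hmem]
    exact ⟨1, (mul_one _).symm⟩
  rw [hpa] at hcI
  exact Submodule.smul_mono_left hle (map_le_smul_top J c hcI)

/-- `pA ∩ R = p` -/
lemma mem_of_algebraMap_mem_smul_top [Module.Finite R A] [FaithfulSMul R A] (p : Ideal R)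
    [p.IsPrime] (g : R) (hg : algebraMap R A g ∈ p • (⊤ : Submodule R A)) : g ∈ p := by
  have hrange : LinearMap.range (algebraMap R (Module.End R A) g) ≤ p • (⊤ : Submodule R A) := by
    rintro _ ⟨a, rfl⟩
    have h1 := mul_mem_smul_top p a _ hg
    have h2 : a * algebraMap R A g = algebraMap R (Module.End R A) g a := by
      rw [Module.algebraMap_end_apply, Algebra.smul_def, Algebra.commutes]
    rwa [h2] at h1
  obtain ⟨P, hPm, -, hPc, hP0⟩ :=
    LinearMap.exists_monic_and_natDegree_eq_and_coeff_mem_pow_and_aeval_eq_zero R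
      (algebraMap R (Module.End R A) g) p hrange
  rw [Polynomial.aeval_algebraMap_apply] at hP0
  have hPg : P.eval g = 0 := by
    apply FaithfulSMul.algebraMap_injective R A
    rw [map_zero, Algebra.algebraMap_eq_smul_one]
    have := congrArg (fun φ : Module.End R A => φ 1) hP0
    simpa [Module.algebraMap_end_apply] using this
  rw [Polynomial.eval_eq_sum_range, Finset.sum_range_succ, hPm.coeff_natDegree, one_mul] at hPg
  have hsum : ∑ x ∈ Finset.range P.natDegree, P.coeff x * g ^ x ∈ p := by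
    apply Ideal.sum_mem
    intro k hk
    apply Ideal.mul_mem_right
    have hk' : k < P.natDegree := Finset.mem_range.mp hk
    exact Ideal.pow_le_self (by omega) (hPc k)
  have hpow : g ^ P.natDegree ∈ p := by
    have : g ^ P.natDegree = -(∑ x ∈ Finset.range P.natDegree, P.coeff x * g ^ x) := by
      linear_combination hPg
    rw [this]
    exact p.neg_mem hsum
  exact Ideal.IsPrime.mem_of_pow_mem inferInstance _ hpow

end general


section fixed

variable {S : Type u} {R : Type v} [CommRing S] [CommRing R] [Algebra S R]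
  (lam : R ≃ₐ[S] R) (hfix : RInv.IsFixedRing S R lam.toRingEquiv)

include hfix in
lemma exists_of_fixed (r : R) (hr : lam r = r) : ∃ s : S, algebraMap S R s = r :=
  (hfix.2 r).mp hr

include hfix in
/-- `R` is integral over the fixed ring -/
theorem isIntegral (hlam : ∀ r, lam (lam r) = r) : Algebra.IsIntegral S R := by
  constructor
  intro r
  obtain ⟨s₁, hs₁⟩ := exists_of_fixed lam hfix (r + lam r) (by rw [map_add, hlam]; ring)
  obtain ⟨s₂, hs₂⟩ := exists_of_fixed lam hfix (r * lam r) (by rw [map_mul, hlam]; ring)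
  refine ⟨X ^ 2 + (C s₂ - C s₁ * X), ?_, ?_⟩
  · apply Polynomial.monic_X_pow_add
    refine lt_of_le_of_lt (Polynomial.degree_sub_le _ _) ?_
    refine max_lt (lt_of_le_of_lt Polynomial.degree_C_le (by norm_num)) ?_
    refine lt_of_le_of_lt (Polynomial.degree_C_mul_X_le _) (by norm_num)
  · simp [hs₁, hs₂]
    ring

end fixed


section gen

variable {S : Type u} {R : Type v} [CommRing S] [CommRing R] [Algebra S R]
  (lam : R ≃ₐ[S] R) (hlam : ∀ r, lam (lam r) = r) (hfix : RInv.IsFixedRing S R lam.toRingEquiv)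
  {A : Type w} [Ring A] [Algebra S A] [Algebra R A] [IsScalarTower S R A] [IsAzumaya R A]
  (ψ : A ≃ₐ[R] A)

/-- generator at one prime, in the form needed -/
lemma exists_gen_at (p : Ideal R) [p.IsPrime] (c : A) (hc : ∀ x, ψ x * c = c * x)
    (hcp : c ∉ p • (⊤ : Submodule R A)) : ∃ g, g ∉ p ∧ ∃ d, c * d = algebraMap R A g := by
  by_contra hcon
  push Not at hcon
  exact hcp (mem_smul_top_of_forall_ne ψ c hc p (fun f hf d => hcon f hf d))

include hlam hfix in
theorem exists_generator_over (q : Ideal S) [q.IsPrime] :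
    ∃ (f : S) (_ : f ∉ q) (c d : A), (∀ x, ψ x * c = c * x) ∧ c * d = algebraMap S A f := by
  haveI := isIntegral lam hfix hlam
  obtain ⟨p₁, -, hp₁prime, hp₁over⟩ := Ideal.exists_ideal_over_prime_of_isIntegral q
    (⊥ : Ideal R) (by
      intro x hx
      rw [Ideal.mem_comap, Ideal.mem_bot] at hx
      have : x = 0 := hfix.1 (by rw [hx, map_zero])
      rw [this]; exact q.zero_mem)
  set p₂ : Ideal R := p₁.comap (lam : R →+* R) with hp₂
  haveI hp₂prime : p₂.IsPrime := Ideal.comap_isPrime _ _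
  have hmem₂ : ∀ x, x ∈ p₂ ↔ lam x ∈ p₁ := fun x => Iff.rfl
  -- key: find c, d, g with g ∉ p₁, g ∉ p₂
  obtain ⟨c, hc, g, d, hg₁, hg₂, hcd⟩ : ∃ c : A, (∀ x, ψ x * c = c * x) ∧
      ∃ (g : R) (d : A), g ∉ p₁ ∧ g ∉ p₂ ∧ c * d = algebraMap R A g := by
    obtain ⟨g₁, hg₁, c₁, d₁, hc₁, hcd₁⟩ := exists_local_generator ψ p₁
    obtain ⟨g₂, hg₂, c₂, d₂, hc₂, hcd₂⟩ := exists_local_generator ψ p₂
    by_cases h21 : p₂ ≤ p₁
    · exact ⟨c₁, hc₁, g₁, d₁, hg₁, fun h => hg₁ (h21 h), hcd₁⟩
    by_cases h12 : p₁ ≤ p₂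
    · exact ⟨c₂, hc₂, g₂, d₂, fun h => hg₂ (h12 h), hg₂, hcd₂⟩
    obtain ⟨r₁, hr₁2, hr₁1⟩ := Set.not_subset.mp h21
    obtain ⟨r₂, hr₂1, hr₂2⟩ := Set.not_subset.mp h12
    set c := r₁ • c₁ + r₂ • c₂ with hcdef
    have hc : ∀ x, ψ x * c = c * x := by
      intro x
      rw [hcdef, mul_add, add_mul, mul_smul_comm, mul_smul_comm, smul_mul_assoc, smul_mul_assoc,
        hc₁, hc₂]
    have hA : c ∉ p₁ • (⊤ : Submodule R A) := by
      intro hmem
      have h2 : r₂ • c₂ ∈ p₁ • (⊤ : Submodule R A) := Submodule.smul_mem_smul hr₂1 trivial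
      have h1 : r₁ • c₁ ∈ p₁ • (⊤ : Submodule R A) := by
        have := Submodule.sub_mem _ hmem h2
        rwa [hcdef, add_sub_cancel_right] at this
      have h3 := mem_smul_top_mul p₁ d₁ _ h1
      have e1 : r₁ • algebraMap R A g₁ = algebraMap R A (r₁ * g₁) := by
        rw [Algebra.smul_def, map_mul]
      rw [smul_mul_assoc, hcd₁, e1] at h3
      have h4 := mem_of_algebraMap_mem_smul_top p₁ _ h3
      rcases hp₁prime.mem_or_mem h4 with h | h
      · exact hr₁1 h
      · exact hg₁ h
    have hB : c ∉ p₂ • (⊤ : Submodule R A) := by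
      intro hmem
      have h1 : r₁ • c₁ ∈ p₂ • (⊤ : Submodule R A) := Submodule.smul_mem_smul hr₁2 trivial
      have h2 : r₂ • c₂ ∈ p₂ • (⊤ : Submodule R A) := by
        have := Submodule.sub_mem _ hmem h1
        rwa [hcdef, add_sub_cancel_left] at this
      have h3 := mem_smul_top_mul p₂ d₂ _ h2
      have e1 : r₂ • algebraMap R A g₂ = algebraMap R A (r₂ * g₂) := by
        rw [Algebra.smul_def, map_mul]
      rw [smul_mul_assoc, hcd₂, e1] at h3
      have h4 := mem_of_algebraMap_mem_smul_top p₂ _ h3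
      rcases hp₂prime.mem_or_mem h4 with h | h
      · exact hr₂2 h
      · exact hg₂ h
    obtain ⟨g, hg, d, hd⟩ := exists_gen_at ψ p₁ c hc hA
    obtain ⟨g', hg', d', hd'⟩ := exists_gen_at ψ p₂ c hc hB
    by_cases hgp₂ : g ∈ p₂
    · by_cases hg'p₁ : g' ∈ p₁
      · refine ⟨c, hc, g + g', d + d', ?_, ?_, ?_⟩
        · intro h
          exact hg (by simpa using p₁.sub_mem h hg'p₁)
        · intro h
          exact hg' (by simpa using p₂.sub_mem h hgp₂)
        · rw [mul_add, hd, hd', map_add]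
      · exact ⟨c, hc, g', d', hg'p₁, hg', hd'⟩
    · exact ⟨c, hc, g, d, hg, hgp₂, hd⟩
  -- the norm
  obtain ⟨f, hf⟩ := exists_of_fixed lam hfix (g * lam g) (by rw [map_mul, hlam]; ring)
  refine ⟨f, ?_, c, d * algebraMap R A (lam g), hc, ?_⟩
  · intro hfq
    have h1 : algebraMap S R f ∈ p₁ := by
      rw [← hp₁over] at hfq
      exact hfq
    rw [hf] at h1
    rcases hp₁prime.mem_or_mem h1 with h | h
    · exact hg₁ h
    · exact hg₂ h
  · rw [← mul_assoc, hcd, ← map_mul, ← hf, ← IsScalarTower.algebraMap_apply]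

end gen


section inner

variable {S : Type u} [CommRing S] {A : Type w} [Ring A] [Algebra S A]

theorem inner_away (φ : A ≃ₐ[S] A) (f : S) (c d : A) (hc : ∀ x, φ x * c = c * x)
    (hcd : c * d = algebraMap S A f) :
    ∃ u : (Localization.Away f ⊗[S] A)ˣ, ∀ a : Localization.Away f ⊗[S] A,
      Algebra.TensorProduct.map (AlgHom.id (Localization.Away f) (Localization.Away f))
        (φ : A →ₐ[S] A) a = (u : Localization.Away f ⊗[S] A) * a *
          (u⁻¹ : (Localization.Away f ⊗[S] A)ˣ) := by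
  set T := Localization.Away f with hT
  set fi : T := IsLocalization.Away.invSelf f with hfi
  have hffi : algebraMap S T f * fi = 1 := IsLocalization.Away.mul_invSelf f
  have hone : (fi ⊗ₜ[S] (algebraMap S A f) : T ⊗[S] A) = 1 := by
    rw [Algebra.algebraMap_eq_smul_one, ← TensorProduct.smul_tmul, Algebra.smul_def, hffi]
    rfl
  set U : T ⊗[S] A := (1 : T) ⊗ₜ[S] c with hU
  set V : T ⊗[S] A := fi ⊗ₜ[S] d with hV
  have hUV : U * V = 1 := by
    rw [hU, hV, Algebra.TensorProduct.tmul_mul_tmul, one_mul, hcd, hone]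
  have hVU' : (fi ⊗ₜ[S] φ d : T ⊗[S] A) * U = 1 := by
    rw [hU, Algebra.TensorProduct.tmul_mul_tmul, mul_one, hc d, hcd, hone]
  have hVU : V * U = 1 := by
    have : (fi ⊗ₜ[S] φ d : T ⊗[S] A) = V := by
      calc (fi ⊗ₜ[S] φ d : T ⊗[S] A) = (fi ⊗ₜ[S] φ d) * (U * V) := by rw [hUV, mul_one]
        _ = ((fi ⊗ₜ[S] φ d) * U) * V := by rw [mul_assoc]
        _ = V := by rw [hVU', one_mul]
    rw [← this]; exact hVU'
  refine ⟨⟨U, V, hUV, hVU⟩, ?_⟩
  intro a
  show _ = U * a * V
  have key : ∀ a : T ⊗[S] A,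
      Algebra.TensorProduct.map (AlgHom.id T T) (φ : A →ₐ[S] A) a * U = U * a := by
    intro a
    induction a with
    | zero => simp
    | tmul s x =>
      rw [Algebra.TensorProduct.map_tmul, hU, Algebra.TensorProduct.tmul_mul_tmul,
        Algebra.TensorProduct.tmul_mul_tmul, mul_one, one_mul]
      simp only [AlgHom.coe_id, id_eq]
      congr 1
      exact hc x
    | add x y hx hy => rw [map_add, add_mul, mul_add, hx, hy]
  calc Algebra.TensorProduct.map (AlgHom.id T T) (φ : A →ₐ[S] A) a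
      = Algebra.TensorProduct.map (AlgHom.id T T) (φ : A →ₐ[S] A) a * (U * V) := by
        rw [hUV, mul_one]
    _ = (Algebra.TensorProduct.map (AlgHom.id T T) (φ : A →ₐ[S] A) a * U) * V := by
        rw [mul_assoc]
    _ = U * a * V := by rw [key a]

end inner


section away

variable {S : Type u} [CommRing S]

/-- a prime not containing `f` is in the image of `Spec S_f` -/
lemma mem_range_comap_away (q : PrimeSpectrum S) (f : S) (hf : f ∉ q.asIdeal) :
    q ∈ Set.range (PrimeSpectrum.comap (algebraMap S (Localization.Away f))) := by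
  have hdisj : Disjoint (Submonoid.powers f : Set S) (q.asIdeal : Set S) := by
    rw [Set.disjoint_left]
    rintro _ ⟨m, rfl⟩ hm
    exact hf (q.isPrime.mem_of_pow_mem _ hm)
  refine ⟨⟨q.asIdeal.map (algebraMap S (Localization.Away f)),
      IsLocalization.isPrime_of_isPrime_disjoint (Submonoid.powers f) _ _ q.isPrime hdisj⟩, ?_⟩
  ext1
  exact IsLocalization.comap_map_of_isPrime_disjoint (Submonoid.powers f) _ q.isPrime hdisj

end away

section main

variable {S : Type u} {R : Type v} [CommRing S] [CommRing R] [Algebra S R]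
  (lam : R ≃ₐ[S] R) (hlam : ∀ r, lam (lam r) = r) (hfix : RInv.IsFixedRing S R lam.toRingEquiv)
  {A : Type w} [Ring A] [Algebra S A] [Algebra R A] [IsScalarTower S R A] [IsAzumaya R A]
  (ψ : A ≃ₐ[R] A)

open Groth.Agent.Lib.Helper3 in
include hlam hfix in
theorem main :
    ∃ (S' : Type u) (_ : CommRing S') (_ : Algebra S S') (_ : Algebra.Etale S S')
      (_ : Module.FaithfullyFlat S S') (u : (S' ⊗[S] A)ˣ),
      ∀ x : S' ⊗[S] A,
        Algebra.TensorProduct.congr (AlgEquiv.refl : S' ≃ₐ[S'] S') (ψ.restrictScalars S) x =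
          ↑u * x * ↑u⁻¹ := by
  classical
  have hloc : ∀ q : PrimeSpectrum S, ∃ f : S, f ∉ q.asIdeal ∧
      ∃ u : (Localization.Away f ⊗[S] A)ˣ, ∀ a : Localization.Away f ⊗[S] A,
        Algebra.TensorProduct.map (AlgHom.id (Localization.Away f) (Localization.Away f))
          ((ψ.restrictScalars S : A ≃ₐ[S] A) : A →ₐ[S] A) a =
          (u : Localization.Away f ⊗[S] A) * a * (u⁻¹ : (Localization.Away f ⊗[S] A)ˣ) := by
    intro q
    obtain ⟨f, hf, c, d, hc, hcd⟩ := exists_generator_over lam hlam hfix ψ q.asIdeal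
    exact ⟨f, hf, inner_away (ψ.restrictScalars S) f c d hc hcd⟩
  choose f hf u hu using hloc
  haveI : ∀ q, Algebra.Etale S (Localization.Away (f q)) := fun q =>
    Algebra.Etale.of_isLocalizationAway (f q)
  obtain ⟨s, hFF⟩ := EtCover.exists_finite_cover (fun q => Localization.Away (f q))
    (fun q => mem_range_comap_away q (f q) (hf q))
  let T : s → Type u := fun i => Localization.Away (f i)
  obtain ⟨U, hU⟩ := PiTensor.exists_glue S T A (fun i => (u i : T i ⊗[S] A))
  obtain ⟨V, hV⟩ := PiTensor.exists_glue S T A (fun i => ((u i)⁻¹ : (T i ⊗[S] A)ˣ))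
  have hUV : U * V = 1 := by
    apply PiTensor.ext_prj S T A
    intro i
    rw [map_mul, hU, hV, map_one, Units.mul_inv]
  have hVU : V * U = 1 := by
    apply PiTensor.ext_prj S T A
    intro i
    rw [map_mul, hU, hV, map_one, Units.inv_mul]
  refine ⟨∀ i : s, T i, inferInstance, inferInstance, inferInstance, hFF, ⟨U, V, hUV, hVU⟩, ?_⟩
  intro x
  show _ = U * x * V
  apply PiTensor.ext_prj S T A
  intro i
  rw [map_mul, map_mul, hU, hV, ← hu]
  rw [Algebra.TensorProduct.congr_apply]
  induction x using TensorProduct.induction_on with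
  | zero => simp
  | tmul t a => rfl
  | add x y hx hy => rw [map_add, map_add, map_add, map_add, hx, hy]

end main

end Groth.Agent.Lib.Helper3.AzInvInner
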