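import Groth.Agent.Lib.Helper3.FixedBC

/-!
# Base change of lam-involutions (helper3)
-/

set_option autoImplicit false
universe u u' u'' v w

open TensorProduct

namespace Groth.Agent.Lib.Helper3.LamInvBC

open AzInv Groth.Agent.Lib.Helper3.FixedBC

variable {S : Type u} {R : Type v} [CommRing S] [CommRing R] [Algebra S R]
  {A : Type w} [Ring A] [Algebra S A] [Algebra R A] [IsScalarTower S R A]
  (lam : R ≃ₐ[S] R) (t : LamInv R A lam)
  (S' : Type u') [CommRing S'] [Algebra S S']

lemma bc_mul (x y : S' ⊗[S] A) :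
    t.bc S lam S' (x * y) = t.bc S lam S' y * t.bc S lam S' x := by
  induction x using TensorProduct.induction_on with
  | zero => simp
  | add x₁ x₂ h₁ h₂ => rw [add_mul, map_add, map_add, h₁, h₂, mul_add]
  | tmul s a =>
    induction y using TensorProduct.induction_on with
    | zero => simp
    | add y₁ y₂ h₁ h₂ => rw [mul_add, map_add, map_add, h₁, h₂, add_mul]
    | tmul s' a' =>
      rw [Algebra.TensorProduct.tmul_mul_tmul, LamInv.bc_tmul, LamInv.bc_tmul, LamInv.bc_tmul,
        Algebra.TensorProduct.tmul_mul_tmul, t.map_mul, mul_comm]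

lemma bc_one : t.bc S lam S' 1 = 1 := by
  rw [Algebra.TensorProduct.one_def, LamInv.bc_tmul, t.map_one]

lemma bc_invol (x : S' ⊗[S] A) : t.bc S lam S' (t.bc S lam S' x) = x := by
  induction x using TensorProduct.induction_on with
  | zero => simp
  | add x₁ x₂ h₁ h₂ => rw [map_add, map_add, h₁, h₂]
  | tmul s a => rw [LamInv.bc_tmul, LamInv.bc_tmul, t.invol]

lemma bc_surjective : Function.Surjective (t.bc S lam S') :=
  fun x => ⟨t.bc S lam S' x, bc_invol lam t S' x⟩

/-- `t.bc` on the centre is `id ⊗ lam` -/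
lemma bc_mu (z : S' ⊗[S] R) :
    t.bc S lam S' (mu S S' R A z) = mu S S' R A (LinearMap.lTensor S' lam.toLinearMap z) := by
  induction z using TensorProduct.induction_on with
  | zero => simp
  | add x₁ x₂ h₁ h₂ => rw [map_add, map_add, map_add, map_add, h₁, h₂]
  | tmul s r =>
    rw [mu_tmul, LamInv.bc_tmul, LinearMap.lTensor_tmul, mu_tmul, t.map_algebraMap]
    rfl

/-- compatibility with an automorphism commuting with `t` -/
lemma bc_comm (ψ : A ≃ₐ[R] A) (hψ : IsInvHom t t ψ) (x : S' ⊗[S] A) :
    t.bc S lam S' (Algebra.TensorProduct.congr (AlgEquiv.refl : S' ≃ₐ[S'] S')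
      (ψ.restrictScalars S) x) =
    Algebra.TensorProduct.congr (AlgEquiv.refl : S' ≃ₐ[S'] S') (ψ.restrictScalars S)
      (t.bc S lam S' x) := by
  induction x using TensorProduct.induction_on with
  | zero => simp
  | add x₁ x₂ h₁ h₂ => rw [map_add, map_add, map_add, map_add, h₁, h₂]
  | tmul s a =>
    rw [Algebra.TensorProduct.congr_apply, Algebra.TensorProduct.map_tmul, LamInv.bc_tmul,
      LamInv.bc_tmul, Algebra.TensorProduct.congr_apply, Algebra.TensorProduct.map_tmul]
    congr 1
    exact (hψ a).symm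

/-- functoriality in the base -/
lemma bc_map {S'' : Type u''} [CommRing S''] [Algebra S S''] (β : S' →ₐ[S] S'')
    (x : S' ⊗[S] A) :
    Algebra.TensorProduct.map β (AlgHom.id S A) (t.bc S lam S' x) =
      t.bc S lam S'' (Algebra.TensorProduct.map β (AlgHom.id S A) x) := by
  induction x using TensorProduct.induction_on with
  | zero => simp
  | add x₁ x₂ h₁ h₂ => rw [map_add, map_add, map_add, map_add, h₁, h₂]
  | tmul s a =>
    rw [LamInv.bc_tmul, Algebra.TensorProduct.map_tmul, Algebra.TensorProduct.map_tmul,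
      LamInv.bc_tmul]
    rfl

/-- elements `s ⊗ 1` are central -/
lemma tmul_one_central (s : S') (w : S' ⊗[S] A) :
    (s ⊗ₜ[S] (1 : A)) * w = w * (s ⊗ₜ[S] (1 : A)) := by
  induction w using TensorProduct.induction_on with
  | zero => simp
  | add x₁ x₂ h₁ h₂ => rw [mul_add, add_mul, h₁, h₂]
  | tmul s' a =>
    rw [Algebra.TensorProduct.tmul_mul_tmul, Algebra.TensorProduct.tmul_mul_tmul, mul_comm,
      one_mul, mul_one]

end Groth.Agent.Lib.Helper3.LamInvBC
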