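import Groth.Agent.Lib.Helper3.AzInvInner
import Groth.Agent.Lib.Helper3.LamInvBC

/-!
# Automorphisms of Azumaya algebras with involution are locally conjugation by unitary elements (helper3)
-/

set_option autoImplicit false
universe u v w

open TensorProduct

namespace Groth.Agent.Lib.Helper3.AzInvUnitary

open AzInv Groth.Agent.Lib.Helper3.FixedBC Groth.Agent.Lib.Helper3.LamInvBC

attribute [local instance] Algebra.TensorProduct.rightAlgebra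

variable {S : Type u} {R : Type v} [CommRing S] [CommRing R] [Algebra S R]
  (lam : R ≃ₐ[S] R) (hlam : ∀ r, lam (lam r) = r) (hfix : RInv.IsFixedRing S R lam.toRingEquiv)
  {A : Type w} [Ring A] [Algebra S A] [Algebra R A] [IsScalarTower S R A] [IsAzumaya R A]
  (t : LamInv R A lam) (ψ : A ≃ₐ[R] A) (hψ : IsInvHom t t ψ)

/-- `mu` is injective -/
lemma mu_injective (S' : Type u) [CommRing S'] [Algebra S S'] :
    Function.Injective (mu S S' R A) := by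
  haveI := isAzumaya_bc (S := S) (S' := S') (R := R) (A := A)
  intro x y hxy
  have h := congrArg (cbc S S' R A) hxy
  rw [cbc_mu, cbc_mu] at h
  apply FaithfulSMul.algebraMap_injective (S' ⊗[S] R) ((S' ⊗[S] R) ⊗[R] A)
  rw [Algebra.TensorProduct.algebraMap_apply, Algebra.TensorProduct.algebraMap_apply]
  exact h

include hfix in
/-- `S' → S' ⊗ A` is injective for flat `S'` -/
lemma algebraMap_injective (S' : Type u) [CommRing S'] [Algebra S S'] [Module.Flat S S'] :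
    Function.Injective (algebraMap S' (S' ⊗[S] A)) := by
  have h1 : Function.Injective (algebraMap S A) := by
    rw [IsScalarTower.algebraMap_eq S R A]
    exact (FaithfulSMul.algebraMap_injective R A).comp hfix.1
  exact Algebra.TensorProduct.includeLeft_injective (S := S') h1

include hfix in
/-- central unit fixed by the involution comes from a unit of `S'` -/
theorem exists_unit_of_central_fixed (S' : Type u) [CommRing S'] [Algebra S S'] [Module.Flat S S']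
    (z : (S' ⊗[S] A)ˣ) (hz : ∀ y, (z : S' ⊗[S] A) * y = y * z)
    (hzt : t.bc S lam S' (z : S' ⊗[S] A) = z) :
    ∃ s : S'ˣ, (s : S') ⊗ₜ[S] (1 : A) = (z : S' ⊗[S] A) := by
  -- helper: central fixed element comes from S'
  have key : ∀ w : S' ⊗[S] A, (∀ y, w * y = y * w) → t.bc S lam S' w = w →
      ∃ s : S', s ⊗ₜ[S] (1 : A) = w := by
    intro w hw hwt
    obtain ⟨w₀, hw₀⟩ := exists_mu_eq_of_central (S := S) (S' := S') (R := R) w hw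
    have h1 : mu S S' R A (LinearMap.lTensor S' lam.toLinearMap w₀) = mu S S' R A w₀ := by
      rw [← bc_mu, hw₀, hwt]
    have h2 := mu_injective (S := S) (R := R) (A := A) S' h1
    obtain ⟨s, hs⟩ := exists_of_fixed_bc lam hfix w₀ h2
    refine ⟨s, ?_⟩
    rw [← hw₀, ← hs, mu_tmul, map_one]
  obtain ⟨s, hs⟩ := key z hz hzt
  have hzi : ∀ y, ((z⁻¹ : (S' ⊗[S] A)ˣ) : S' ⊗[S] A) * y = y * (z⁻¹ : (S' ⊗[S] A)ˣ) := by
    intro y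
    have h := hz ((z⁻¹ : (S' ⊗[S] A)ˣ) * y * (z⁻¹ : (S' ⊗[S] A)ˣ))
    simp only [← mul_assoc, Units.mul_inv, one_mul] at h
    rw [mul_assoc, mul_assoc, Units.inv_mul, mul_one] at h
    exact h.symm
  have hzit : t.bc S lam S' ((z⁻¹ : (S' ⊗[S] A)ˣ) : S' ⊗[S] A) = (z⁻¹ : (S' ⊗[S] A)ˣ) := by
    have h1 : t.bc S lam S' ((z⁻¹ : (S' ⊗[S] A)ˣ) : S' ⊗[S] A) * (z : S' ⊗[S] A) = 1 := by
      rw [← hzt, ← bc_mul, Units.mul_inv, bc_one]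
    calc t.bc S lam S' ((z⁻¹ : (S' ⊗[S] A)ˣ) : S' ⊗[S] A)
        = t.bc S lam S' ((z⁻¹ : (S' ⊗[S] A)ˣ) : S' ⊗[S] A) * (z * (z⁻¹ : (S' ⊗[S] A)ˣ)) := by
          rw [Units.mul_inv, mul_one]
      _ = (z⁻¹ : (S' ⊗[S] A)ˣ) := by rw [← mul_assoc, h1, one_mul]
  obtain ⟨s', hs'⟩ := key _ hzi hzit
  have hss' : s * s' = 1 := by
    apply algebraMap_injective (A := A) lam hfix S'
    rw [Algebra.TensorProduct.algebraMap_apply, Algebra.TensorProduct.algebraMap_apply, map_one]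
    have : (s * s') ⊗ₜ[S] (1 : A) = (s ⊗ₜ[S] (1 : A)) * (s' ⊗ₜ[S] (1 : A)) := by
      rw [Algebra.TensorProduct.tmul_mul_tmul, mul_one]
    rw [Algebra.algebraMap_self, RingHom.id_apply, this, hs, hs', Units.mul_inv]
    rfl
  exact ⟨⟨s, s', hss', by rw [mul_comm, hss']⟩, hs⟩


include hlam hfix hψ in
theorem main
    (hsq : ∀ (S₁ : Type u) [CommRing S₁] [Algebra S S₁] [Algebra.Etale S S₁] (x : S₁ˣ),
      ∃ (S₂ : Type u) (_ : CommRing S₂) (_ : Algebra S₁ S₂) (_ : Algebra.Etale S₁ S₂)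
        (_ : Module.FaithfullyFlat S₁ S₂) (y : S₂), y * y = algebraMap S₁ S₂ ↑x) :
    ∃ (S' : Type u) (_ : CommRing S') (_ : Algebra S S') (_ : Algebra.Etale S S')
      (_ : Module.FaithfullyFlat S S') (u : (S' ⊗[S] A)ˣ),
      t.bc S lam S' (↑u : S' ⊗[S] A) * ↑u = 1 ∧
        ∀ x : S' ⊗[S] A,
          Algebra.TensorProduct.congr (AlgEquiv.refl : S' ≃ₐ[S'] S') (ψ.restrictScalars S) x =
            ↑u * x * ↑u⁻¹ := by
  obtain ⟨S₁, _, _, _, _, u₁, hu₁⟩ := AzInvInner.main lam hlam hfix ψ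
  set t₁ := t.bc S lam S₁ with ht₁
  -- the central unit z = t(u) u
  have htu : t₁ (u₁ : S₁ ⊗[S] A) * t₁ ((u₁⁻¹ : (S₁ ⊗[S] A)ˣ) : S₁ ⊗[S] A) = 1 := by
    rw [← bc_mul, Units.inv_mul, bc_one]
  have htu' : t₁ ((u₁⁻¹ : (S₁ ⊗[S] A)ˣ) : S₁ ⊗[S] A) * t₁ (u₁ : S₁ ⊗[S] A) = 1 := by
    rw [← bc_mul, Units.mul_inv, bc_one]
  let tu : (S₁ ⊗[S] A)ˣ := ⟨t₁ u₁, t₁ ((u₁⁻¹ : (S₁ ⊗[S] A)ˣ) : S₁ ⊗[S] A), htu, htu'⟩
  let z : (S₁ ⊗[S] A)ˣ := tu * u₁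
  have hzval : (z : S₁ ⊗[S] A) = t₁ u₁ * u₁ := rfl
  have hzc : ∀ y, (z : S₁ ⊗[S] A) * y = y * z := by
    intro y
    obtain ⟨x, rfl⟩ := bc_surjective lam t S₁ y
    have h1 := bc_comm lam t S₁ ψ hψ x
    rw [hu₁, hu₁, bc_mul, bc_mul] at h1
    -- h1 : t(u⁻¹) * (t x * t u) = u * t x * u⁻¹
    have h2 : t₁ x * t₁ (u₁ : S₁ ⊗[S] A) = t₁ (u₁ : S₁ ⊗[S] A) * (u₁ * t₁ x * (u₁⁻¹ : (S₁ ⊗[S] A)ˣ)) := by
      rw [← h1, ← mul_assoc, htu, one_mul]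
    rw [hzval]
    calc t₁ (u₁ : S₁ ⊗[S] A) * u₁ * t₁ x
        = t₁ (u₁ : S₁ ⊗[S] A) * (u₁ * t₁ x * (u₁⁻¹ : (S₁ ⊗[S] A)ˣ)) * u₁ := by
          simp only [mul_assoc, Units.inv_mul, mul_one]
      _ = t₁ x * (t₁ (u₁ : S₁ ⊗[S] A) * u₁) := by rw [← h2, mul_assoc]
  have hzt : t₁ (z : S₁ ⊗[S] A) = z := by
    rw [hzval, bc_mul, bc_invol]
  obtain ⟨s₀, hs₀⟩ := exists_unit_of_central_fixed lam hfix t S₁ z hzc hzt
  obtain ⟨S₂, _, _, _, _, y, hy⟩ := hsq S₁ s₀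
  letI : Algebra S S₂ := Algebra.compHom S₂ (algebraMap S S₁)
  haveI : IsScalarTower S S₁ S₂ := IsScalarTower.of_algebraMap_eq (fun _ => rfl)
  haveI : Algebra.Etale S S₂ := Algebra.Etale.comp S S₁ S₂
  haveI : Module.FaithfullyFlat S S₂ := Module.FaithfullyFlat.trans S S₁ S₂
  have hyu : IsUnit y := by
    have : IsUnit (y * y) := by rw [hy]; exact (s₀.isUnit).map _
    exact isUnit_of_mul_isUnit_left this
  obtain ⟨yu, rfl⟩ := hyu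
  let β : S₁ →ₐ[S] S₂ := IsScalarTower.toAlgHom S S₁ S₂
  let βA : S₁ ⊗[S] A →ₐ[S] S₂ ⊗[S] A := Algebra.TensorProduct.map β (AlgHom.id S A)
  let U₁ : (S₂ ⊗[S] A)ˣ := Units.map βA.toMonoidHom u₁
  have hU₁ : (U₁ : S₂ ⊗[S] A) = βA u₁ := rfl
  have hU₁i : ((U₁⁻¹ : (S₂ ⊗[S] A)ˣ) : S₂ ⊗[S] A) = βA ((u₁⁻¹ : (S₁ ⊗[S] A)ˣ) : S₁ ⊗[S] A) := rfl
  let Y : (S₂ ⊗[S] A)ˣ :=
    Units.map (Algebra.TensorProduct.includeLeft : S₂ →ₐ[S] S₂ ⊗[S] A).toMonoidHom yu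
  have hY : (Y : S₂ ⊗[S] A) = (yu : S₂) ⊗ₜ[S] (1 : A) := rfl
  have hYi : ((Y⁻¹ : (S₂ ⊗[S] A)ˣ) : S₂ ⊗[S] A) = ((yu⁻¹ : S₂ˣ) : S₂) ⊗ₜ[S] (1 : A) := rfl
  have hYc : ∀ w, ((Y⁻¹ : (S₂ ⊗[S] A)ˣ) : S₂ ⊗[S] A) * w = w * (Y⁻¹ : (S₂ ⊗[S] A)ˣ) := by
    intro w
    rw [hYi]
    exact tmul_one_central S₂ _ w
  refine ⟨S₂, inferInstance, inferInstance, inferInstance, inferInstance, U₁ * Y⁻¹, ?_, ?_⟩
  · -- unitary
    rw [Units.val_mul, bc_mul, hYi, LamInv.bc_tmul, t.map_one, ← hYi, hU₁, ← bc_map, ← ht₁,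
      mul_assoc, ← mul_assoc (βA (t₁ u₁)), ← map_mul, ← hzval, ← hs₀, hYc, hYi]
    have hβ : βA ((s₀ : S₁) ⊗ₜ[S] (1 : A)) = (β s₀) ⊗ₜ[S] (1 : A) := rfl
    rw [hβ, Algebra.TensorProduct.tmul_mul_tmul, Algebra.TensorProduct.tmul_mul_tmul, mul_one,
      mul_one]
    have : β s₀ = (yu : S₂) * yu := hy.symm
    rw [this, mul_assoc, mul_assoc, ← mul_assoc (yu : S₂) ((yu⁻¹ : S₂ˣ) : S₂), Units.mul_inv,
      one_mul, Units.mul_inv]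
    rfl
  · intro x
    have hinv : ((U₁ * Y⁻¹)⁻¹ : (S₂ ⊗[S] A)ˣ) = Y * U₁⁻¹ := by
      rw [mul_inv_rev, inv_inv]
    rw [hinv, Units.val_mul, Units.val_mul]
    have e1 : ∀ x : S₂ ⊗[S] A, (U₁ : S₂ ⊗[S] A) * (Y⁻¹ : (S₂ ⊗[S] A)ˣ) * x *
        (Y * (U₁⁻¹ : (S₂ ⊗[S] A)ˣ)) = U₁ * x * (U₁⁻¹ : (S₂ ⊗[S] A)ˣ) := by
      intro x
      rw [mul_assoc (U₁ : S₂ ⊗[S] A), hYc, mul_assoc (U₁ : S₂ ⊗[S] A), mul_assoc x, ← mul_assoc _ (Y : S₂ ⊗[S] A),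
        Units.inv_mul, one_mul, ← mul_assoc]
    rw [e1]
    induction x using TensorProduct.induction_on with
    | zero => simp
    | add x₁ x₂ h₁ h₂ => rw [map_add, h₁, h₂, mul_add, add_mul]
    | tmul s a =>
      have h1 : (s ⊗ₜ[S] a : S₂ ⊗[S] A) = (s ⊗ₜ[S] (1 : A)) * βA ((1 : S₁) ⊗ₜ[S] a) := by
        show _ = (s ⊗ₜ[S] (1 : A)) * ((β 1) ⊗ₜ[S] a)
        rw [map_one, Algebra.TensorProduct.tmul_mul_tmul, mul_one, one_mul]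
      have h2 : Algebra.TensorProduct.congr (AlgEquiv.refl : S₂ ≃ₐ[S₂] S₂) (ψ.restrictScalars S)
          (s ⊗ₜ[S] a) = (s ⊗ₜ[S] (1 : A)) * βA (Algebra.TensorProduct.congr
            (AlgEquiv.refl : S₁ ≃ₐ[S₁] S₁) (ψ.restrictScalars S) ((1 : S₁) ⊗ₜ[S] a)) := by
        rw [Algebra.TensorProduct.congr_apply, Algebra.TensorProduct.map_tmul,
          Algebra.TensorProduct.congr_apply, Algebra.TensorProduct.map_tmul]
        show _ = (s ⊗ₜ[S] (1 : A)) * ((β 1) ⊗ₜ[S] _)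
        rw [map_one, Algebra.TensorProduct.tmul_mul_tmul, mul_one, one_mul]
        rfl
      rw [h2, hu₁, map_mul, map_mul, ← hU₁, ← hU₁i]
      conv_rhs => rw [h1]
      rw [← mul_assoc, ← mul_assoc, ← mul_assoc, tmul_one_central S₂ s (U₁ : S₂ ⊗[S] A)]

end Groth.Agent.Lib.Helper3.AzInvUnitary
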