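import Mathlib
import Groth.Agent.Lib.Helper58.HenselPairIdemLift

set_option autoImplicit false

universe u
namespace Groth.Agent.Lib.Helper3.AzLift1
open Polynomial IsLocalRing

/-- idempotent lifting along a map from a module-finite (possibly noncommutative) algebra over a
henselian local ring to an algebra over the residue field -/
theorem exists_idem_lift (R : Type u) [CommRing R] [HenselianLocalRing R] {C : Type u} [Ring C]
    [Algebra R C] [Module.Finite R C] {E' : Type u} [Ring E'] [Algebra R E']
    [Algebra (R ⧸ maximalIdeal R) E'] [IsScalarTower R (R ⧸ maximalIdeal R) E']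
    (Φ : C →ₐ[R] E') (a₀ : C) (hidem : IsIdempotentElem (Φ a₀))
    (hmem : a₀ * a₀ - a₀ ∈ (maximalIdeal R • ⊤ : Submodule R C)) :
    ∃ ε : C, IsIdempotentElem ε ∧ Φ ε = Φ a₀ := by
  set y := a₀ * a₀ - a₀ with hy
  have hrange : LinearMap.range (LinearMap.mulLeft R y) ≤ (maximalIdeal R • ⊤ : Submodule R C) := by
    rintro _ ⟨c, rfl⟩
    rw [LinearMap.mulLeft_apply]
    have key : ∀ z ∈ (maximalIdeal R • ⊤ : Submodule R C), z * c ∈
        (maximalIdeal R • ⊤ : Submodule R C) := by
      intro z hz
      refine Submodule.smul_induction_on hz (fun r hr n _ => ?_) (fun x y hx hy => ?_)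
      · rw [smul_mul_assoc]
        exact Submodule.smul_mem_smul hr Submodule.mem_top
      · rw [add_mul]; exact Submodule.add_mem _ hx hy
    exact key y hmem
  obtain ⟨p, hpm, -, hcoeff, hp⟩ :=
    LinearMap.exists_monic_and_natDegree_eq_and_coeff_mem_pow_and_aeval_eq_zero R
      (LinearMap.mulLeft R y) (maximalIdeal R) hrange
  have hmap : p.map (Ideal.Quotient.mk (maximalIdeal R)) = X ^ p.natDegree := by
    ext i
    rw [coeff_map, coeff_X_pow]
    split_ifs with h
    · rw [h, hpm.coeff_natDegree, map_one]
    · rcases lt_or_gt_of_ne h with h' | h'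
      · rw [Ideal.Quotient.eq_zero_iff_mem]
        have := hcoeff i
        have hle : maximalIdeal R ^ (p.natDegree - i) ≤ maximalIdeal R :=
          Ideal.pow_le_self (by omega)
        exact hle this
      · rw [coeff_eq_zero_of_natDegree_lt h', map_zero]
  have hya : aeval y p = 0 := by
    have h1 : aeval (Algebra.lmul R C y) p = Algebra.lmul R C (aeval y p) :=
      Polynomial.aeval_algHom_apply (Algebra.lmul R C) y p
    have h2 : (Algebra.lmul R C y : Module.End R C) = LinearMap.mulLeft R y := rfl
    rw [h2, hp] at h1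
    have h3 := LinearMap.congr_fun h1 1
    simpa using h3.symm
  exact Groth.Agent.Lib.Helper58.HenselPair.exists_idempotent_lift_of_aeval_eq_zero
    (maximalIdeal R) Φ a₀ hidem p hpm p.natDegree hmap hya

/-- a linear map of finite modules over a local ring, with projective target, which is bijective
modulo the maximal ideal, is bijective -/
theorem bijective_of_residue {R : Type u} [CommRing R] [IsLocalRing R] {M N M₀ N₀ : Type u}
    [AddCommGroup M] [Module R M] [Module.Finite R M]
    [AddCommGroup N] [Module R N] [Module.Finite R N] [Module.Projective R N]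
    [AddCommGroup M₀] [Module R M₀] [AddCommGroup N₀] [Module R N₀]
    (f : M →ₗ[R] N) (πM : M →ₗ[R] M₀) (πN : N →ₗ[R] N₀) (f₀ : M₀ → N₀)
    (hf₀ : ∀ x, f₀ (πM x) = πN (f x))
    (hinj : ∀ x, f₀ (πM x) = 0 → πM x = 0)
    (hkM : LinearMap.ker πM ≤ (maximalIdeal R • ⊤ : Submodule R M))
    (hkN : LinearMap.ker πN = (maximalIdeal R • ⊤ : Submodule R N))
    (hsurj : ∀ n, ∃ x, πN (f x) = πN n) : Function.Bijective f := by
  have hjac : maximalIdeal R ≤ Ideal.jacobson (⊥ : Ideal R) :=
    (IsLocalRing.jacobson_eq_maximalIdeal ⊥ bot_ne_top).ge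
  have hs : Function.Surjective f := by
    rw [← LinearMap.range_eq_top]
    apply top_le_iff.mp
    apply Submodule.le_of_le_smul_of_le_jacobson_bot (I := maximalIdeal R) Module.Finite.fg_top hjac
    intro n _
    obtain ⟨x, hx⟩ := hsurj n
    have h1 : n - f x ∈ LinearMap.ker πN := by
      rw [LinearMap.mem_ker, map_sub, hx, sub_self]
    rw [hkN] at h1
    have : n = f x + (n - f x) := by abel
    rw [this]
    exact Submodule.add_mem_sup (LinearMap.mem_range_self f x) h1
  refine ⟨?_, hs⟩
  obtain ⟨g, hg⟩ := Module.projective_lifting_property f LinearMap.id hs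
  set p : M →ₗ[R] M := LinearMap.id - g ∘ₗ f with hp
  have hfp : ∀ x, f (p x) = 0 := by
    intro x
    have := LinearMap.congr_fun hg (f x)
    simp only [LinearMap.comp_apply, LinearMap.id_apply] at this
    simp [hp, this]
  have hpx : ∀ x, f x = 0 → p x = x := by
    intro x hx
    simp [hp, hx]
  have hKm : ∀ x, f x = 0 → x ∈ (maximalIdeal R • ⊤ : Submodule R M) := by
    intro x hx
    apply hkM
    rw [LinearMap.mem_ker]
    apply hinj
    rw [hf₀, hx, map_zero]
  have hK : LinearMap.ker f = Submodule.map p ⊤ := by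
    apply le_antisymm
    · intro x hx
      exact ⟨x, Submodule.mem_top, hpx x hx⟩
    · rintro _ ⟨x, -, rfl⟩
      exact hfp x
  have hfg : (LinearMap.ker f).FG := by
    rw [hK]
    exact Submodule.FG.map p Module.Finite.fg_top
  have hle : LinearMap.ker f ≤ maximalIdeal R • LinearMap.ker f := by
    intro x hx
    have h1 := hKm x hx
    have h2 : p x ∈ Submodule.map p (maximalIdeal R • ⊤ : Submodule R M) := ⟨x, h1, rfl⟩
    rw [Submodule.map_smul'', ← hK, hpx x hx] at h2
    exact h2
  have := Submodule.eq_bot_of_le_smul_of_le_jacobson_bot (maximalIdeal R) _ hfg hle hjac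
  exact LinearMap.ker_eq_bot.mp this

end Groth.Agent.Lib.Helper3.AzLift1
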