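import Groth.Agent.Lib.Helper3.Azumaya
import Mathlib.RingTheory.TensorProduct.IsBaseChangeHom
import Mathlib.RingTheory.TensorProduct.Finite
import Mathlib.RingTheory.Flat.Basic

set_option autoImplicit false

namespace Groth.Agent.Lib.Helper3.Az

open TensorProduct MulOpposite

section bcEnd

variable (R : Type*) [CommRing R] (S : Type*) [CommRing S] [Algebra R S]
variable (M : Type*) [AddCommGroup M] [Module R M]

/-- The base change map `S ⊗ End_R M → End_S (S ⊗ M)`. -/
noncomputable def bcEnd : S ⊗[R] (M →ₗ[R] M) →ₗ[S] (S ⊗[R] M →ₗ[S] S ⊗[R] M) :=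
  (LinearMap.baseChangeHom R S M M).liftBaseChange S

@[simp] lemma bcEnd_tmul (s : S) (f : M →ₗ[R] M) :
    bcEnd R S M (s ⊗ₜ f) = s • f.baseChange S := by
  simp [bcEnd]

lemma bcEnd_bijective_of_free [Module.Free R M] [Module.Finite R M] :
    Function.Bijective (bcEnd R S M) := by
  have j := TensorProduct.isBaseChange R M S
  have h := IsBaseChange.end j
  have key : ∀ f : M →ₗ[R] M, j.endHom f = f.baseChange S := by
    intro f
    ext m
    have := IsBaseChange.endHom_comp_apply j f m
    simpa using this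
  have : ∀ x, bcEnd R S M x = h.equiv x := by
    intro x
    induction x using TensorProduct.induction_on with
    | zero => simp
    | tmul s f => rw [bcEnd_tmul, IsBaseChange.equiv_tmul, key]
    | add x y hx hy => rw [map_add, map_add, hx, hy]
  rw [show (bcEnd R S M : _ → _) = h.equiv from funext this]
  exact h.equiv.bijective

variable {R M} in
/-- conjugation over `S`. -/
lemma baseChange_retract {N : Type*} [AddCommGroup N] [Module R N] (i : M →ₗ[R] N)
    (p : N →ₗ[R] M) (hpi : p ∘ₗ i = LinearMap.id) :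
    p.baseChange S ∘ₗ i.baseChange S = LinearMap.id := by
  rw [← LinearMap.baseChange_comp, hpi, LinearMap.baseChange_id]

lemma bcEnd_bijective [Module.Finite R M] [Module.Projective R M] :
    Function.Bijective (bcEnd R S M) := by
  obtain ⟨n, s, g, -, -, hsg⟩ := Module.Finite.exists_comp_eq_id_of_projective R M
  have hS := baseChange_retract S g s hsg
  refine bijective_of_retract (bcEnd R S M) (bcEnd R S (Fin n → R))
    ((conj g s).lTensor S) ((conj s g).lTensor S)
    (conj (g.baseChange S) (s.baseChange S)) (conj (s.baseChange S) (g.baseChange S))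
    ?_ ?_ ?_ ?_ (bcEnd_bijective_of_free R S (Fin n → R))
  · intro x
    induction x using TensorProduct.induction_on with
    | zero => simp
    | tmul t f => simp [conj_conj g s hsg]
    | add x y hx hy => simp only [map_add, hx, hy]
  · intro ψ
    exact conj_conj _ _ hS ψ
  · intro x
    induction x using TensorProduct.induction_on with
    | zero => simp
    | tmul t f =>
      simp only [LinearMap.lTensor_tmul, bcEnd_tmul, map_smul]
      congr 1
      ext m
      simp
    | add x y hx hy => simp only [map_add, hx, hy]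
  · intro x
    induction x using TensorProduct.induction_on with
    | zero => simp
    | tmul t f =>
      simp only [LinearMap.lTensor_tmul, bcEnd_tmul, map_smul]
      congr 1
      ext m
      simp
    | add x y hx hy => simp only [map_add, hx, hy]

end bcEnd


section BaseChangeAzumaya

variable (R : Type*) [CommRing R] (S : Type*) [CommRing S] [Algebra R S]
variable (A : Type*) [Ring A] [Algebra R A]

lemma faithfulSMul_baseChange [Module.Finite R A] [Module.Projective R A] [FaithfulSMul R A] :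
    FaithfulSMul S (S ⊗[R] A) := by
  refine ⟨fun {s₁ s₂} h => ?_⟩
  rw [← sub_eq_zero]
  set s := s₁ - s₂ with hs
  have h0 : ∀ t : S ⊗[R] A, s • t = 0 := fun t => by rw [hs, sub_smul, h t, sub_self]
  apply eq_zero_of_forall_mul_dual (R := R) A (S := S) s
  intro φ a
  have := congrArg ((TensorProduct.rid R S).toLinearMap ∘ₗ φ.lTensor S) (h0 (1 ⊗ₜ a))
  simpa [TensorProduct.smul_tmul', Algebra.smul_def, mul_comm] using this

/-- `a ⊗ a'ᵒᵖ ↦ (1 ⊗ a) ⊗ (1 ⊗ a')ᵒᵖ`. -/
noncomputable def psi : A ⊗[R] Aᵐᵒᵖ →ₗ[R] (S ⊗[R] A) ⊗[S] (S ⊗[R] A)ᵐᵒᵖ :=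
  TensorProduct.lift (LinearMap.mk₂ R
    (fun (a : A) (a' : Aᵐᵒᵖ) => ((1 : S) ⊗ₜ[R] a) ⊗ₜ[S] op ((1 : S) ⊗ₜ[R] a'.unop))
    (fun a₁ a₂ a' => by simp only [tmul_add, add_tmul])
    (fun r a a' => by simp only [tmul_smul, smul_tmul'])
    (fun a a₁ a₂ => by simp only [unop_add, tmul_add, op_add])
    (fun r a a' => by
      simp only [unop_smul, tmul_smul, op_smul]))

@[simp] lemma psi_tmul (a : A) (a' : Aᵐᵒᵖ) :
    psi R S A (a ⊗ₜ a') = ((1 : S) ⊗ₜ[R] a) ⊗ₜ[S] op ((1 : S) ⊗ₜ[R] a'.unop) := rfl

/-- `s ⊗ (a ⊗ a'ᵒᵖ) ↦ (s ⊗ a) ⊗ (1 ⊗ a')ᵒᵖ`. -/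
noncomputable def Phi : S ⊗[R] (A ⊗[R] Aᵐᵒᵖ) →ₗ[S] (S ⊗[R] A) ⊗[S] (S ⊗[R] A)ᵐᵒᵖ :=
  (psi R S A).liftBaseChange S

lemma Phi_surjective : Function.Surjective (Phi R S A) := by
  intro t
  induction t using TensorProduct.induction_on with
  | zero => exact ⟨0, map_zero _⟩
  | add x y hx hy =>
    obtain ⟨x', rfl⟩ := hx
    obtain ⟨y', rfl⟩ := hy
    exact ⟨x' + y', map_add _ _ _⟩
  | tmul x y =>
    induction x using TensorProduct.induction_on with
    | zero => exact ⟨0, by simp⟩
    | add x₁ x₂ h₁ h₂ =>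
      obtain ⟨x₁', h₁'⟩ := h₁
      obtain ⟨x₂', h₂'⟩ := h₂
      exact ⟨x₁' + x₂', by rw [map_add, h₁', h₂', add_tmul]⟩
    | tmul s a =>
      induction y using MulOpposite.rec' with
      | h z =>
        induction z using TensorProduct.induction_on with
        | zero => exact ⟨0, by simp⟩
        | add z₁ z₂ h₁ h₂ =>
          obtain ⟨z₁', h₁'⟩ := h₁
          obtain ⟨z₂', h₂'⟩ := h₂
          exact ⟨z₁' + z₂', by rw [map_add, h₁', h₂', op_add, tmul_add]⟩
        | tmul s' a' =>
          refine ⟨(s' * s) ⊗ₜ (a ⊗ₜ op a'), ?_⟩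
          have e1 : s • ((1 : S) ⊗ₜ[R] a) = s ⊗ₜ[R] a := by
            rw [TensorProduct.smul_tmul', smul_eq_mul, mul_one]
          have e2 : s' • op ((1 : S) ⊗ₜ[R] a') = op (s' ⊗ₜ[R] a') := by
            rw [← op_smul, TensorProduct.smul_tmul', smul_eq_mul, mul_one]
          rw [Phi, LinearMap.liftBaseChange_tmul, psi_tmul, unop_op, mul_smul,
            TensorProduct.smul_tmul', TensorProduct.smul_tmul', TensorProduct.smul_tmul, e1, e2]

lemma mulLeftRight_comp_Phi (x : S ⊗[R] (A ⊗[R] Aᵐᵒᵖ)) :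
    AlgHom.mulLeftRight S (S ⊗[R] A) (Phi R S A x) =
      bcEnd R S A ((AlgHom.mulLeftRight R A).toLinearMap.baseChange S x) := by
  induction x using TensorProduct.induction_on with
  | zero => simp
  | add x y hx hy => simp only [map_add, hx, hy]
  | tmul s m =>
    rw [Phi, LinearMap.liftBaseChange_tmul, map_smul, LinearMap.baseChange_tmul, bcEnd_tmul]
    congr 1
    induction m using TensorProduct.induction_on with
    | zero => simp
    | add x y hx hy => simp only [map_add, hx, hy, LinearMap.baseChange_add]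
    | tmul a a' =>
      induction a' using MulOpposite.rec' with
      | h a' =>
        ext m
        simp [Algebra.TensorProduct.tmul_mul_tmul]

theorem isAzumaya_baseChange [IsAzumaya R A] : IsAzumaya S (S ⊗[R] A) := by
  have := faithfulSMul_baseChange R S A
  refine { bij := ?_ }
  have hΘ : Function.Bijective (fun x : S ⊗[R] (A ⊗[R] Aᵐᵒᵖ) =>
      bcEnd R S A ((AlgHom.mulLeftRight R A).toLinearMap.baseChange S x)) := by
    refine Function.Bijective.comp (bcEnd_bijective R S A) ?_
    have : ((AlgHom.mulLeftRight R A).toLinearMap.baseChange S : _ → _) =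
        (LinearEquiv.ofBijective (AlgHom.mulLeftRight R A).toLinearMap
          IsAzumaya.bij).baseChange R S _ _ := by
      ext x; rfl
    rw [this]
    exact LinearEquiv.bijective _
  constructor
  · intro x y hxy
    obtain ⟨x', rfl⟩ := Phi_surjective R S A x
    obtain ⟨y', rfl⟩ := Phi_surjective R S A y
    rw [mulLeftRight_comp_Phi, mulLeftRight_comp_Phi] at hxy
    rw [hΘ.1 hxy]
  · intro f
    obtain ⟨x, hx⟩ := hΘ.2 f
    exact ⟨Phi R S A x, by rw [mulLeftRight_comp_Phi]; exact hx⟩

end BaseChangeAzumaya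

end Groth.Agent.Lib.Helper3.Az
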