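import Mathlib
import Groth.Agent.Lib.Helper3.AzLift1
import Groth.Agent.Lib.Helper3.AzumayaBaseChange

set_option autoImplicit false

universe u
namespace Groth.Agent.Lib.Helper3.AzLift2
open TensorProduct IsLocalRing MulOpposite

section residue
variable (R : Type u) [CommRing R] [IsLocalRing R] (M : Type u) [AddCommGroup M] [Module R M]

theorem exists_one_tmul (z : ResidueField R ⊗[R] M) : ∃ x : M, z = (1 : ResidueField R) ⊗ₜ[R] x := by
  induction z using TensorProduct.induction_on with
  | zero => exact ⟨0, by simp⟩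
  | tmul c x =>
    obtain ⟨r, rfl⟩ := IsLocalRing.residue_surjective c
    refine ⟨r • x, ?_⟩
    rw [← TensorProduct.smul_tmul]
    congr 1
    rw [Algebra.smul_def, mul_one]
    rfl
  | add z w hz hw =>
    obtain ⟨x, rfl⟩ := hz
    obtain ⟨y, rfl⟩ := hw
    exact ⟨x + y, by rw [TensorProduct.tmul_add]⟩

theorem one_tmul_eq_zero_iff (x : M) :
    (1 : ResidueField R) ⊗ₜ[R] x = 0 ↔ x ∈ (maximalIdeal R • ⊤ : Submodule R M) := by
  have h := TensorProduct.quotTensorEquivQuotSMul_mk_tmul (M := M) (maximalIdeal R) 1 x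
  rw [one_smul] at h
  constructor
  · intro h0
    have h1 : (Submodule.Quotient.mk x : M ⧸ (maximalIdeal R • ⊤ : Submodule R M)) = 0 := by
      rw [← h]
      have : ((Ideal.Quotient.mk (maximalIdeal R)) 1 ⊗ₜ[R] x :
          (R ⧸ maximalIdeal R) ⊗[R] M) = 0 := h0
      rw [this, map_zero]
    exact (Submodule.Quotient.mk_eq_zero _).mp h1
  · intro hx
    have h1 : (Submodule.Quotient.mk x : M ⧸ (maximalIdeal R • ⊤ : Submodule R M)) = 0 :=
      (Submodule.Quotient.mk_eq_zero _).mpr hx
    rw [← h] at h1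
    have := (TensorProduct.quotTensorEquivQuotSMul M (maximalIdeal R)).injective
      (h1.trans (map_zero _).symm)
    exact this

end residue

section psi
variable (R : Type u) [CommRing R] [IsLocalRing R] (A B : Type u) [Ring A] [Algebra R A]
  [Ring B] [Algebra R B]
  (e₀ : (ResidueField R ⊗[R] A) ≃ₐ[ResidueField R] (ResidueField R ⊗[R] B))

/-- `a ↦ e₀ (1 ⊗ a)` -/
noncomputable def fA : A →ₐ[R] ResidueField R ⊗[R] B :=
  ((e₀ : (ResidueField R ⊗[R] A) →ₐ[ResidueField R] (ResidueField R ⊗[R] B)).restrictScalars R).comp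
    (Algebra.TensorProduct.includeRight)

theorem fA_apply (a : A) : fA R A B e₀ a = e₀ ((1 : ResidueField R) ⊗ₜ[R] a) := rfl

/-- left multiplication by `e₀ (1 ⊗ a)` -/
noncomputable def lam : A →ₐ[R] Module.End (ResidueField R) (ResidueField R ⊗[R] B) :=
  ((Algebra.lmul (ResidueField R) (ResidueField R ⊗[R] B)).restrictScalars R).comp (fA R A B e₀)

theorem lam_apply (a : A) (z : ResidueField R ⊗[R] B) : lam R A B e₀ a z = fA R A B e₀ a * z := rfl

/-- right multiplication by `1 ⊗ b` -/
noncomputable def rho : Bᵐᵒᵖ →ₐ[R] Module.End (ResidueField R) (ResidueField R ⊗[R] B) where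
  toFun b := LinearMap.mulRight (ResidueField R) ((1 : ResidueField R) ⊗ₜ[R] b.unop)
  map_one' := by
    ext z
    simp [Algebra.TensorProduct.one_def]
  map_mul' x y := by
    apply LinearMap.ext
    intro z
    simp only [unop_mul, LinearMap.mulRight_apply, Module.End.mul_apply]
    rw [mul_assoc, Algebra.TensorProduct.tmul_mul_tmul, mul_one]
  map_zero' := by
    ext z
    simp
  map_add' x y := by
    apply LinearMap.ext
    intro z
    simp [TensorProduct.tmul_add, mul_add]
  commutes' r := by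
    apply LinearMap.ext
    intro z
    simp only [LinearMap.mulRight_apply, Module.algebraMap_end_apply]
    have h1 : (algebraMap R Bᵐᵒᵖ r).unop = algebraMap R B r := rfl
    rw [h1, Algebra.algebraMap_eq_smul_one, TensorProduct.tmul_smul, mul_smul_comm,
      ← Algebra.TensorProduct.one_def, mul_one]

theorem rho_apply (b : Bᵐᵒᵖ) (z : ResidueField R ⊗[R] B) :
    rho R B b z = z * ((1 : ResidueField R) ⊗ₜ[R] b.unop) := rfl

/-- the action of `A ⊗ Bᵐᵒᵖ` on the special fibre of `B` -/
noncomputable def psi : A ⊗[R] Bᵐᵒᵖ →ₐ[R] Module.End (ResidueField R) (ResidueField R ⊗[R] B) :=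
  Algebra.TensorProduct.lift (lam R A B e₀) (rho R B) (fun a b => by
    apply LinearMap.ext
    intro z
    simp only [Module.End.mul_apply, lam_apply, rho_apply, mul_assoc])

theorem psi_tmul (a : A) (b : Bᵐᵒᵖ) (z : ResidueField R ⊗[R] B) :
    psi R A B e₀ (a ⊗ₜ[R] b) z = fA R A B e₀ a * z * ((1 : ResidueField R) ⊗ₜ[R] b.unop) := by
  have h : psi R A B e₀ (a ⊗ₜ[R] b) = lam R A B e₀ a * rho R B b :=
    Algebra.TensorProduct.lift_tmul _ _ _ a b
  rw [h, Module.End.mul_apply, lam_apply, rho_apply, mul_assoc]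

theorem psi_surjective [IsAzumaya (ResidueField R) (ResidueField R ⊗[R] B)] :
    Function.Surjective (psi R A B e₀) := by
  intro f
  obtain ⟨t, rfl⟩ := (IsAzumaya.bij (R := ResidueField R) (A := ResidueField R ⊗[R] B)).2 f
  induction t using TensorProduct.induction_on with
  | zero => exact ⟨0, by simp⟩
  | tmul x y =>
    obtain ⟨a, ha⟩ := exists_one_tmul R A (e₀.symm x)
    obtain ⟨b, hb⟩ := exists_one_tmul R B y.unop
    refine ⟨a ⊗ₜ[R] op b, ?_⟩
    apply LinearMap.ext
    intro z
    rw [psi_tmul, AlgHom.mulLeftRight_apply, fA_apply, ← ha, AlgEquiv.apply_symm_apply, unop_op,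
      ← hb]
  | add t s ht hs =>
    obtain ⟨c, hc⟩ := ht
    obtain ⟨d, hd⟩ := hs
    exact ⟨c + d, by rw [map_add, hc, hd, map_add]⟩

theorem ker_psi_le [IsAzumaya R A] [IsAzumaya R B] (c : A ⊗[R] Bᵐᵒᵖ)
    (hc : psi R A B e₀ c = 0) : c ∈ (maximalIdeal R • ⊤ : Submodule R (A ⊗[R] Bᵐᵒᵖ)) := by
  haveI : IsAzumaya (ResidueField R) (ResidueField R ⊗[R] B) :=
    Groth.Agent.Lib.Helper3.Az.isAzumaya_baseChange R (ResidueField R) B
  haveI : Module.Free R A := Module.free_of_flat_of_isLocalRing
  haveI : Module.Free R B := Module.free_of_flat_of_isLocalRing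
  haveI : Module.Free R Bᵐᵒᵖ := Module.Free.of_equiv (MulOpposite.opLinearEquiv R (M := B))
  haveI : Module.Finite R Bᵐᵒᵖ := Module.Finite.equiv (MulOpposite.opLinearEquiv R (M := B))
  let ψb : ResidueField R ⊗[R] (A ⊗[R] Bᵐᵒᵖ) →ₗ[ResidueField R]
      Module.End (ResidueField R) (ResidueField R ⊗[R] B) :=
    (psi R A B e₀).toLinearMap.liftBaseChange (ResidueField R)
  have hψb : ∀ c, ψb ((1 : ResidueField R) ⊗ₜ[R] c) = psi R A B e₀ c := by
    intro c
    simp [ψb]
  have hsurj : Function.Surjective ψb := by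
    intro f
    obtain ⟨c, rfl⟩ := psi_surjective R A B e₀ f
    exact ⟨_, hψb c⟩
  have hAB : Module.finrank R A = Module.finrank R B := by
    rw [← Module.finrank_baseChange (R := ResidueField R) (S := R) (M' := A),
      ← Module.finrank_baseChange (R := ResidueField R) (S := R) (M' := B)]
    exact e₀.toLinearEquiv.finrank_eq
  have hfr : Module.finrank (ResidueField R) (ResidueField R ⊗[R] (A ⊗[R] Bᵐᵒᵖ)) =
      Module.finrank (ResidueField R)
        (Module.End (ResidueField R) (ResidueField R ⊗[R] B)) := by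
    rw [Module.finrank_baseChange, Module.finrank_tensorProduct, Module.finrank_linearMap,
      Module.finrank_baseChange, hAB,
      (MulOpposite.opLinearEquiv R (M := B)).symm.finrank_eq]
  have hinj : Function.Injective ψb :=
    (LinearMap.injective_iff_surjective_of_finrank_eq_finrank hfr).mpr hsurj
  rw [← one_tmul_eq_zero_iff]
  apply hinj
  rw [hψb, hc, map_zero]

end psi

end Groth.Agent.Lib.Helper3.AzLift2
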