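import Mathlib
import Groth.Agent.Lib.Helper3.AzLift2

set_option autoImplicit false

universe u
namespace Groth.Agent.Lib.Helper3.AzLift3
noncomputable section
open TensorProduct IsLocalRing MulOpposite
open Groth.Agent.Lib.Helper3.AzLift2

section
variable (R : Type u) [CommRing R] [HenselianLocalRing R] (A B : Type u) [Ring A] [Algebra R A]
  [IsAzumaya R A] [Ring B] [Algebra R B] [IsAzumaya R B]
  (e₀ : (ResidueField R ⊗[R] A) ≃ₐ[ResidueField R] (ResidueField R ⊗[R] B))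

theorem smul_residue_eq_zero {M : Type u} [AddCommGroup M] [Module R M] (r : R)
    (hr : r ∈ maximalIdeal R) (z : ResidueField R ⊗[R] M) : r • z = 0 := by
  obtain ⟨x, rfl⟩ := exists_one_tmul R M z
  rw [← TensorProduct.tmul_smul]
  rw [one_tmul_eq_zero_iff]
  exact Submodule.smul_mem_smul hr Submodule.mem_top

/-- the lifted idempotent -/
theorem exists_idem : ∃ (φ : (ResidueField R ⊗[R] B) →ₗ[ResidueField R] ResidueField R)
    (ε : A ⊗[R] Bᵐᵒᵖ), φ 1 = 1 ∧ IsIdempotentElem ε ∧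
      psi R A B e₀ ε = φ.smulRight (1 : ResidueField R ⊗[R] B) := by
  haveI : IsAzumaya (ResidueField R) (ResidueField R ⊗[R] B) :=
    Groth.Agent.Lib.Helper3.Az.isAzumaya_baseChange R (ResidueField R) B
  haveI : Nontrivial (ResidueField R ⊗[R] B) := by
    by_contra h
    rw [not_nontrivial_iff_subsingleton] at h
    have h1 : (1 : ResidueField R) = 0 := by
      apply FaithfulSMul.eq_of_smul_eq_smul (α := ResidueField R ⊗[R] B)
      intro z
      exact Subsingleton.elim _ _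
    exact one_ne_zero h1
  obtain ⟨φ, hφ⟩ := Module.Projective.exists_dual_eq_one (ResidueField R)
    (one_ne_zero : (1 : ResidueField R ⊗[R] B) ≠ 0)
  set ε₀ : Module.End (ResidueField R) (ResidueField R ⊗[R] B) :=
    LinearMap.smulRight φ (1 : ResidueField R ⊗[R] B) with hε₀def
  have hε₀ : IsIdempotentElem ε₀ := by
    apply LinearMap.ext
    intro z
    simp only [Module.End.mul_apply, hε₀def, LinearMap.smulRight_apply, map_smul, hφ]
    rw [one_smul]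
  obtain ⟨a₀, ha₀⟩ := psi_surjective R A B e₀ ε₀
  have hmem : a₀ * a₀ - a₀ ∈ (maximalIdeal R • ⊤ : Submodule R (A ⊗[R] Bᵐᵒᵖ)) :=
    ker_psi_le R A B e₀ _ (by rw [map_sub, map_mul, ha₀, hε₀.eq, sub_self])
  letI : Algebra (R ⧸ maximalIdeal R) (Module.End (ResidueField R) (ResidueField R ⊗[R] B)) :=
    inferInstanceAs (Algebra (ResidueField R) (Module.End (ResidueField R) (ResidueField R ⊗[R] B)))
  haveI : IsScalarTower R (R ⧸ maximalIdeal R)
      (Module.End (ResidueField R) (ResidueField R ⊗[R] B)) :=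
    inferInstanceAs (IsScalarTower R (ResidueField R)
      (Module.End (ResidueField R) (ResidueField R ⊗[R] B)))
  haveI : Module.Finite R Bᵐᵒᵖ := Module.Finite.equiv (MulOpposite.opLinearEquiv R (M := B))
  obtain ⟨ε, hε, hψε⟩ := AzLift1.exists_idem_lift R (psi R A B e₀) a₀
    (by rw [ha₀]; exact hε₀) hmem
  rw [ha₀] at hψε
  exact ⟨φ, ε, hφ, hε, hψε⟩

theorem main : ∃ e : A ≃ₐ[R] B, ∀ a : A,
    e₀ ((1 : ResidueField R) ⊗ₜ[R] a) = (1 : ResidueField R) ⊗ₜ[R] (e a) := by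
  obtain ⟨φ, ε, hφ, hε, hψε⟩ := exists_idem R A B e₀
  haveI : Module.Finite R Bᵐᵒᵖ := Module.Finite.equiv (MulOpposite.opLinearEquiv R (M := B))
  haveI : Module.Projective R Bᵐᵒᵖ :=
    Module.Projective.of_equiv (MulOpposite.opLinearEquiv R (M := B))
  let P : (A ⊗[R] Bᵐᵒᵖ) →ₗ[R] (A ⊗[R] Bᵐᵒᵖ) := LinearMap.mulRight R ε
  let V : Submodule R (A ⊗[R] Bᵐᵒᵖ) := LinearMap.range P
  have hP : ∀ c, P c = c * ε := fun c => rfl
  have hV : ∀ w : V, (w : A ⊗[R] Bᵐᵒᵖ) * ε = w := by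
    rintro ⟨_, c, rfl⟩
    show (P c) * ε = P c
    rw [hP, mul_assoc, hε.eq]
  let s : (A ⊗[R] Bᵐᵒᵖ) →ₗ[R] V := P.rangeRestrict
  have hs1 : ∀ c, (s c : A ⊗[R] Bᵐᵒᵖ) = c * ε := fun c => rfl
  have hs : ∀ w : V, s w = w := fun w => Subtype.ext (hV w)
  haveI : Module.Finite R V := Module.Finite.range P
  haveI : Module.Projective R V :=
    Module.Projective.of_split V.subtype s (by ext w; exact congrArg Subtype.val (hs w))
  have hψV : ∀ (w : V) (z : ResidueField R ⊗[R] B),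
      psi R A B e₀ w z = φ z • psi R A B e₀ w 1 := by
    intro w z
    have h1 : psi R A B e₀ (w : A ⊗[R] Bᵐᵒᵖ) = psi R A B e₀ w * psi R A B e₀ ε := by
      rw [← map_mul, hV]
    rw [h1, hψε, Module.End.mul_apply, LinearMap.smulRight_apply, map_smul, Module.End.mul_apply,
      LinearMap.smulRight_apply, hφ, one_smul]
  let θ : V →ₗ[R] ResidueField R ⊗[R] B :=
    { toFun := fun w => psi R A B e₀ w 1
      map_add' := fun w w' => by
        simp only [Submodule.coe_add, map_add, LinearMap.add_apply]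
      map_smul' := fun r w => by
        simp only [Submodule.coe_smul, map_smul, LinearMap.smul_apply, RingHom.id_apply] }
  have hθ : ∀ w : V, θ w = psi R A B e₀ w 1 := fun w => rfl
  let πA : A →ₗ[R] ResidueField R ⊗[R] A := TensorProduct.mk R (ResidueField R) A 1
  let πB : B →ₗ[R] ResidueField R ⊗[R] B := TensorProduct.mk R (ResidueField R) B 1
  have hπA : ∀ a, πA a = (1 : ResidueField R) ⊗ₜ[R] a := fun a => rfl
  have hπB : ∀ b, πB b = (1 : ResidueField R) ⊗ₜ[R] b := fun b => rfl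
  let iA : A →ₗ[R] A ⊗[R] Bᵐᵒᵖ := (TensorProduct.mk R A Bᵐᵒᵖ).flip 1
  let iB : B →ₗ[R] A ⊗[R] Bᵐᵒᵖ :=
    (TensorProduct.mk R A Bᵐᵒᵖ 1) ∘ₗ (MulOpposite.opLinearEquiv R (M := B)).toLinearMap
  have hiA : ∀ a, iA a = a ⊗ₜ[R] (1 : Bᵐᵒᵖ) := fun a => rfl
  have hiB : ∀ b, iB b = (1 : A) ⊗ₜ[R] op b := fun b => rfl
  let β : B →ₗ[R] V := s ∘ₗ iB
  have hβ : ∀ b, (β b : A ⊗[R] Bᵐᵒᵖ) = ((1 : A) ⊗ₜ[R] op b) * ε := fun b => rfl
  have hfA1 : fA R A B e₀ 1 = 1 := map_one _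
  have hε1 : psi R A B e₀ ε 1 = 1 := by
    rw [hψε, LinearMap.smulRight_apply, hφ, one_smul]
  have hθs : ∀ c, θ (s c) = psi R A B e₀ c 1 := by
    intro c
    rw [hθ, hs1, map_mul, Module.End.mul_apply, hε1]
  have hθβ : ∀ b, θ (β b) = πB b := by
    intro b
    show θ (s (iB b)) = _
    rw [hθs, hiB, psi_tmul, hfA1, one_mul, one_mul, unop_op, hπB]
  have hkB : LinearMap.ker πB = (maximalIdeal R • ⊤ : Submodule R B) := by
    ext b
    rw [LinearMap.mem_ker, hπB]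
    exact one_tmul_eq_zero_iff R B b
  have hkA : LinearMap.ker πA = (maximalIdeal R • ⊤ : Submodule R A) := by
    ext a
    rw [LinearMap.mem_ker, hπA]
    exact one_tmul_eq_zero_iff R A a
  have hkθ : LinearMap.ker θ = (maximalIdeal R • ⊤ : Submodule R V) := by
    apply le_antisymm
    · intro w hw
      rw [LinearMap.mem_ker, hθ] at hw
      have h0 : psi R A B e₀ (w : A ⊗[R] Bᵐᵒᵖ) = 0 := by
        apply LinearMap.ext
        intro z
        rw [hψV, hw, smul_zero, LinearMap.zero_apply]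
      have h1 := ker_psi_le R A B e₀ _ h0
      have h2 : s (w : A ⊗[R] Bᵐᵒᵖ) ∈ Submodule.map s
          (maximalIdeal R • ⊤ : Submodule R (A ⊗[R] Bᵐᵒᵖ)) := ⟨_, h1, rfl⟩
      rw [Submodule.map_smul'', hs] at h2
      exact Submodule.smul_mono le_rfl le_top h2
    · rw [Submodule.smul_le]
      intro r hr w _
      rw [LinearMap.mem_ker, map_smul]
      exact smul_residue_eq_zero R r hr _
  have hsurjβ : ∀ w : V, ∃ b : B, θ (β b) = θ w := by
    intro w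
    obtain ⟨b, hb⟩ := exists_one_tmul R B (θ w)
    exact ⟨b, by rw [hθβ, hπB]; exact hb.symm⟩
  have hβbij : Function.Bijective β :=
    AzLift1.bijective_of_residue (R := R) (M := B) (N := V) (M₀ := ResidueField R ⊗[R] B)
      (N₀ := ResidueField R ⊗[R] B) β πB θ (fun z : ResidueField R ⊗[R] B => z)
      (fun b => (hθβ b).symm) (fun x h => h) hkB.le hkθ hsurjβ
  let βe : B ≃ₗ[R] V := LinearEquiv.ofBijective β hβbij
  let el : A →ₗ[R] B := βe.symm.toLinearMap ∘ₗ s ∘ₗ iA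
  have hβel : ∀ a, β (el a) = s (iA a) := fun a => βe.apply_symm_apply _
  have hKE : ∀ a, ((1 : A) ⊗ₜ[R] op (el a)) * ε = (a ⊗ₜ[R] (1 : Bᵐᵒᵖ)) * ε := by
    intro a
    exact congrArg Subtype.val (hβel a)
  have hel1 : el 1 = 1 := by
    apply hβbij.1
    rw [hβel]
    apply Subtype.ext
    rw [hs1, hβ, hiA]
    rfl
  have helmul : ∀ a a', el (a * a') = el a * el a' := by
    intro a a'
    apply hβbij.1
    apply Subtype.ext
    show ((1 : A) ⊗ₜ[R] op (el (a * a'))) * ε = ((1 : A) ⊗ₜ[R] op (el a * el a')) * ε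
    have h1 : ((1 : A) ⊗ₜ[R] op (el a * el a') : A ⊗[R] Bᵐᵒᵖ) =
        ((1 : A) ⊗ₜ[R] op (el a')) * ((1 : A) ⊗ₜ[R] op (el a)) := by
      rw [Algebra.TensorProduct.tmul_mul_tmul, mul_one, ← op_mul]
    have h2 : ((a * a') ⊗ₜ[R] (1 : Bᵐᵒᵖ) : A ⊗[R] Bᵐᵒᵖ) =
        (a ⊗ₜ[R] (1 : Bᵐᵒᵖ)) * (a' ⊗ₜ[R] (1 : Bᵐᵒᵖ)) := by
      rw [Algebra.TensorProduct.tmul_mul_tmul, mul_one]
    have h3 : ((1 : A) ⊗ₜ[R] op (el a')) * (a ⊗ₜ[R] (1 : Bᵐᵒᵖ)) =
        (a ⊗ₜ[R] (1 : Bᵐᵒᵖ)) * ((1 : A) ⊗ₜ[R] op (el a') : A ⊗[R] Bᵐᵒᵖ) := by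
      rw [Algebra.TensorProduct.tmul_mul_tmul, Algebra.TensorProduct.tmul_mul_tmul, mul_one,
        one_mul, mul_one, one_mul]
    calc ((1 : A) ⊗ₜ[R] op (el (a * a'))) * ε = ((a * a') ⊗ₜ[R] (1 : Bᵐᵒᵖ)) * ε := hKE _
      _ = (a ⊗ₜ[R] (1 : Bᵐᵒᵖ)) * ((a' ⊗ₜ[R] (1 : Bᵐᵒᵖ)) * ε) := by rw [h2, mul_assoc]
      _ = (a ⊗ₜ[R] (1 : Bᵐᵒᵖ)) * (((1 : A) ⊗ₜ[R] op (el a')) * ε) := by rw [hKE]
      _ = ((1 : A) ⊗ₜ[R] op (el a')) * ((a ⊗ₜ[R] (1 : Bᵐᵒᵖ)) * ε) := by
        rw [← mul_assoc, ← h3, mul_assoc]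
      _ = ((1 : A) ⊗ₜ[R] op (el a')) * (((1 : A) ⊗ₜ[R] op (el a)) * ε) := by rw [hKE]
      _ = ((1 : A) ⊗ₜ[R] op (el a * el a')) * ε := by rw [h1, mul_assoc]
  let eA : A →ₐ[R] B := AlgHom.ofLinearMap el hel1 helmul
  have heA : ∀ a, eA a = el a := fun a => rfl
  have hcompat : ∀ a, e₀ ((1 : ResidueField R) ⊗ₜ[R] a) = (1 : ResidueField R) ⊗ₜ[R] (el a) := by
    intro a
    have h1 : θ (β (el a)) = θ (s (iA a)) := by rw [hβel]
    rw [hθβ, hθs, hiA, psi_tmul, hπB] at h1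
    rw [h1, fA_apply, unop_one, ← Algebra.TensorProduct.one_def, mul_one, mul_one]
  have hbij : Function.Bijective el :=
    AzLift1.bijective_of_residue (R := R) (M := A) (N := B) (M₀ := ResidueField R ⊗[R] A)
      (N₀ := ResidueField R ⊗[R] B) el πA πB (fun z => e₀ z)
      (fun a => by rw [hπA, hπB]; exact hcompat a)
      (fun a h => by
        have := e₀.injective (h.trans (map_zero e₀).symm)
        exact this)
      hkA.le hkB
      (fun b => by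
        obtain ⟨a, ha⟩ := exists_one_tmul R A (e₀.symm ((1 : ResidueField R) ⊗ₜ[R] b))
        refine ⟨a, ?_⟩
        rw [hπB, hπB, ← hcompat, ← ha, AlgEquiv.apply_symm_apply])
  exact ⟨AlgEquiv.ofBijective eA hbij, fun a => hcompat a⟩

end

end

end Groth.Agent.Lib.Helper3.AzLift3
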