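import Groth.Agent.Lib.Helper3.SkolemNoetherLocal
import Mathlib.Algebra.Azumaya.Matrix
import Mathlib.RingTheory.MatrixAlgebra
import Mathlib.LinearAlgebra.Matrix.Charpoly.Basic
import Mathlib.LinearAlgebra.Matrix.Charpoly.Coeff
import Mathlib.RingTheory.TensorProduct.IncludeLeftSubRight
import Mathlib.RingTheory.Flat.FaithfullyFlat.Algebra
import Mathlib.Algebra.Polynomial.Lifts
import Mathlib.RingTheory.Localization.Away.Basic

/-!
# Reduced characteristic polynomial of an Azumaya algebra by faithfully flat descent (helper3)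

* `charpoly_algEquiv`: algebra automorphisms of `M_n(T)` preserve characteristic polynomials
  (they are Zariski-locally inner).
* `bcSplit`: base change of a splitting `S ⊗ A ≃ M_n(S)` along `S → T`.
* `charpoly_compat`, `exists_redCharpoly`, `redCharpoly_indep`, `aeval_redCharpoly`.
-/

set_option autoImplicit false
universe u v w

open TensorProduct Polynomial

namespace Groth.Agent.Lib.Helper3.RedChar

section conj

variable {T : Type u} [CommRing T] {n : ℕ}

/-- if `c` is killed, in every `T_f` from a family of `f` not contained in any prime, then `c = 0` -/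
lemma eq_zero_of_forall_prime_exists_pow_mul (c : T)
    (h : ∀ q : Ideal T, q.IsPrime → ∃ f : T, f ∉ q ∧ ∃ N : ℕ, f ^ N * c = 0) : c = 0 := by
  by_contra hc
  let I : Ideal T := Ideal.span {c} |>.annihilator
  have hI : I ≠ ⊤ := by
    intro htop
    have : (1 : T) ∈ I := by rw [htop]; trivial
    rw [Submodule.mem_annihilator_span_singleton] at this
    exact hc (by simpa using this)
  obtain ⟨m, hm, hIm⟩ := Ideal.exists_le_maximal I hI
  obtain ⟨f, hf, N, hN⟩ := h m hm.isPrime
  apply hf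
  have : f ^ N ∈ I := by
    rw [Submodule.mem_annihilator_span_singleton]
    simpa [smul_eq_mul] using hN
  exact hm.isPrime.mem_of_pow_mem N (hIm this)

theorem charpoly_algEquiv (θ : Matrix (Fin n) (Fin n) T ≃ₐ[T] Matrix (Fin n) (Fin n) T)
    (M : Matrix (Fin n) (Fin n) T) : (θ M).charpoly = M.charpoly := by
  rcases Nat.eq_zero_or_pos n with hn | hn
  · subst hn
    congr 1
    exact Subsingleton.elim _ _
  haveI : Nonempty (Fin n) := ⟨⟨0, hn⟩⟩
  haveI : IsAzumaya T (Matrix (Fin n) (Fin n) T) := IsAzumaya.matrix T (Fin n)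
  ext k
  rw [← sub_eq_zero]
  apply eq_zero_of_forall_prime_exists_pow_mul
  intro q hq
  obtain ⟨f, hf, u, hu⟩ := SN.locally_inner θ q
  refine ⟨f, hf, ?_⟩
  set S := Localization.Away f
  let μ : S ⊗[T] Matrix (Fin n) (Fin n) T ≃ₐ[T] Matrix (Fin n) (Fin n) S :=
    (matrixEquivTensor (Fin n) T S).symm
  have hμ : ∀ X : Matrix (Fin n) (Fin n) T, μ (1 ⊗ₜ X) = X.map (algebraMap T S) := by
    intro X
    simp [μ]
  have h1 : μ ((1 : S) ⊗ₜ[T] θ M) =
      μ (u : S ⊗[T] Matrix (Fin n) (Fin n) T) * μ ((1 : S) ⊗ₜ[T] M) *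
        μ ((u⁻¹ : (S ⊗[T] Matrix (Fin n) (Fin n) T)ˣ) : S ⊗[T] Matrix (Fin n) (Fin n) T) := by
    have h2 := hu ((1 : S) ⊗ₜ[T] M)
    rw [Algebra.TensorProduct.map_tmul] at h2
    rw [← map_mul, ← map_mul, ← h2]
    rfl
  have key : (θ M).map (algebraMap T S) =
      μ (u : S ⊗[T] Matrix (Fin n) (Fin n) T) * M.map (algebraMap T S) *
        μ ((u⁻¹ : (S ⊗[T] Matrix (Fin n) (Fin n) T)ˣ) : S ⊗[T] Matrix (Fin n) (Fin n) T) := by
    rw [hμ (θ M), hμ M] at h1
    exact h1
  let U : (Matrix (Fin n) (Fin n) S)ˣ := Units.map μ.toAlgHom.toRingHom.toMonoidHom u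
  have key2 : ((θ M).map (algebraMap T S)).charpoly = (M.map (algebraMap T S)).charpoly := by
    have hU : (U : Matrix (Fin n) (Fin n) S) = μ (u : S ⊗[T] Matrix (Fin n) (Fin n) T) := rfl
    have hUinv : ((U⁻¹ : (Matrix (Fin n) (Fin n) S)ˣ) : Matrix (Fin n) (Fin n) S) =
        μ ((u⁻¹ : (S ⊗[T] Matrix (Fin n) (Fin n) T)ˣ) : S ⊗[T] Matrix (Fin n) (Fin n) T) := rfl
    have h3 := Matrix.charpoly_units_conj U (M.map (algebraMap T S))
    rw [key, ← hU, ← hUinv, Matrix.coe_units_inv]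
    exact h3
  rw [Matrix.charpoly_map, Matrix.charpoly_map] at key2
  have h0 : algebraMap T S ((θ M).charpoly.coeff k - M.charpoly.coeff k) = 0 := by
    rw [map_sub, ← Polynomial.coeff_map, ← Polynomial.coeff_map, key2, sub_self]
  rw [← map_zero (algebraMap T S)] at h0
  obtain ⟨⟨_, N, rfl⟩, hN⟩ := (IsLocalization.eq_iff_exists (Submonoid.powers f) S).mp h0
  exact ⟨N, by simpa using hN⟩

end conj

section bc

variable {R : Type u} [CommRing R] {A : Type v} [Ring A] [Algebra R A]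
  {S : Type w} [CommRing S] [Algebra R S] {n : ℕ}

/-- matrices over `T` as the base change of matrices over `S` -/
noncomputable def matBC (S : Type*) [CommRing S] (T : Type*) [CommRing T] [Algebra S T] (n : ℕ) :
    T ⊗[S] Matrix (Fin n) (Fin n) S ≃ₐ[T] Matrix (Fin n) (Fin n) T :=
  AlgEquiv.ofRingEquiv (f := (matrixEquivTensor (Fin n) S T).symm.toRingEquiv) (by
    intro t
    rw [Algebra.TensorProduct.algebraMap_apply]
    change (matrixEquivTensor (Fin n) S T).symm (algebraMap T T t ⊗ₜ[S] 1) = _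
    rw [matrixEquivTensor_apply_symm, Matrix.map_one _ (map_zero _) (map_one _)]
    simp [Algebra.algebraMap_eq_smul_one])

lemma matBC_tmul (S : Type*) [CommRing S] (T : Type*) [CommRing T] [Algebra S T] (n : ℕ)
    (t : T) (M : Matrix (Fin n) (Fin n) S) :
    matBC S T n (t ⊗ₜ M) = t • M.map (algebraMap S T) := rfl

/-- noncommutative version of `Algebra.TensorProduct.cancelBaseChange` -/
noncomputable def cancelBC (R : Type*) [CommRing R] (S : Type*) [CommRing S] [Algebra R S]
    (T : Type*) [CommRing T] [Algebra R T] [Algebra S T] [IsScalarTower R S T]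
    (A : Type*) [Ring A] [Algebra R A] : T ⊗[S] (S ⊗[R] A) ≃ₐ[T] T ⊗[R] A :=
  AlgEquiv.symm <| AlgEquiv.ofLinearEquiv
    (TensorProduct.AlgebraTensorModule.cancelBaseChange R S T T A).symm
    (by simp [Algebra.TensorProduct.one_def]) <|
      LinearMap.map_mul_of_map_mul_tmul (fun _ _ _ _ ↦ by simp)

lemma cancelBC_symm_tmul (R : Type*) [CommRing R] (S : Type*) [CommRing S] [Algebra R S]
    (T : Type*) [CommRing T] [Algebra R T] [Algebra S T] [IsScalarTower R S T]
    (A : Type*) [Ring A] [Algebra R A] (t : T) (a : A) :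
    (cancelBC R S T A).symm (t ⊗ₜ a) = t ⊗ₜ (1 ⊗ₜ a) :=
  TensorProduct.AlgebraTensorModule.cancelBaseChange_symm_tmul R S T t a

lemma cancelBC_tmul (R : Type*) [CommRing R] (S : Type*) [CommRing S] [Algebra R S]
    (T : Type*) [CommRing T] [Algebra R T] [Algebra S T] [IsScalarTower R S T]
    (A : Type*) [Ring A] [Algebra R A] (t : T) (s : S) (a : A) :
    cancelBC R S T A (t ⊗ₜ (s ⊗ₜ a)) = (s • t) ⊗ₜ a :=
  TensorProduct.AlgebraTensorModule.cancelBaseChange_tmul R S T t a s

/-- base change of a splitting along `f : S → T` -/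
noncomputable def bcSplit (φ : (S ⊗[R] A) ≃ₐ[S] Matrix (Fin n) (Fin n) S)
    {T : Type*} [CommRing T] [Algebra R T] (f : S →ₐ[R] T) :
    T ⊗[R] A ≃ₐ[T] Matrix (Fin n) (Fin n) T :=
  letI := f.toRingHom.toAlgebra
  haveI : IsScalarTower R S T := IsScalarTower.of_algebraMap_eq (fun r => (f.commutes r).symm)
  ((cancelBC R S T A).symm.trans
    (Algebra.TensorProduct.congr (AlgEquiv.refl) φ)).trans (matBC S T n)

lemma bcSplit_tmul (φ : (S ⊗[R] A) ≃ₐ[S] Matrix (Fin n) (Fin n) S)
    {T : Type*} [CommRing T] [Algebra R T] (f : S →ₐ[R] T) (x : A) :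
    bcSplit φ f (1 ⊗ₜ x) = (φ (1 ⊗ₜ x)).map f := by
  letI := f.toRingHom.toAlgebra
  haveI : IsScalarTower R S T := IsScalarTower.of_algebraMap_eq (fun r => (f.commutes r).symm)
  change matBC S T n ((Algebra.TensorProduct.congr (AlgEquiv.refl) φ)
    ((cancelBC R S T A).symm (1 ⊗ₜ x))) = _
  rw [cancelBC_symm_tmul, Algebra.TensorProduct.congr_apply,
    Algebra.TensorProduct.map_tmul, matBC_tmul]
  have : ((AlgEquiv.refl : T ≃ₐ[T] T) : T →ₐ[T] T) (1 : T) = 1 := map_one _
  rw [this, one_smul]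
  rfl

end bc

section compat

variable {R : Type u} [CommRing R] {A : Type v} [Ring A] [Algebra R A] {n : ℕ}

theorem charpoly_compat {S : Type*} [CommRing S] [Algebra R S] {S' : Type*} [CommRing S']
    [Algebra R S'] (φ : (S ⊗[R] A) ≃ₐ[S] Matrix (Fin n) (Fin n) S)
    (ψ : (S' ⊗[R] A) ≃ₐ[S'] Matrix (Fin n) (Fin n) S')
    {T : Type*} [CommRing T] [Algebra R T] (f₁ : S →ₐ[R] T) (f₂ : S' →ₐ[R] T) (a : A) :
    (φ (1 ⊗ₜ a)).charpoly.map (f₁ : S →+* T) = (ψ (1 ⊗ₜ a)).charpoly.map (f₂ : S' →+* T) := by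
  have h := charpoly_algEquiv ((bcSplit φ f₁).symm.trans (bcSplit ψ f₂)) (bcSplit φ f₁ (1 ⊗ₜ a))
  rw [AlgEquiv.trans_apply, AlgEquiv.symm_apply_apply, bcSplit_tmul, bcSplit_tmul] at h
  have h1 := Matrix.charpoly_map (φ (1 ⊗ₜ a)) (f₁ : S →+* T)
  have h2 := Matrix.charpoly_map (ψ (1 ⊗ₜ a)) (f₂ : S' →+* T)
  rw [← h1, ← h2]
  exact h.symm

theorem exists_descent {S : Type*} [CommRing S] [Algebra R S] [Module.FaithfullyFlat R S]
    (P : S[X])
    (h : P.map ((Algebra.TensorProduct.includeLeft : S →ₐ[R] S ⊗[R] S) : S →+* S ⊗[R] S) =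
      P.map ((Algebra.TensorProduct.includeRight : S →ₐ[R] S ⊗[R] S) : S →+* S ⊗[R] S)) :
    ∃ p : R[X], p.map (algebraMap R S) = P := by
  have hmem : P ∈ Polynomial.lifts (algebraMap R S) := by
    rw [Polynomial.lifts_iff_coeff_lifts]
    intro k
    have hk := congrArg (fun Q => Q.coeff k) h
    simp only [Polynomial.coeff_map] at hk
    have hex := Algebra.IsEffective.of_faithfullyFlat R S (P.coeff k)
    have : Algebra.TensorProduct.includeLeftSubRight R S (P.coeff k) = 0 := by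
      rw [Algebra.TensorProduct.includeLeftSubRight_apply, sub_eq_zero]
      exact hk
    obtain ⟨r, hr⟩ := hex.mp this
    exact ⟨r, hr⟩
  exact (Polynomial.mem_lifts _).mp hmem

/-- the reduced characteristic polynomial: descent of the characteristic polynomial along a
faithfully flat splitting -/
theorem exists_redCharpoly {S : Type*} [CommRing S] [Algebra R S] [Module.FaithfullyFlat R S]
    (φ : (S ⊗[R] A) ≃ₐ[S] Matrix (Fin n) (Fin n) S) (a : A) :
    ∃ p : R[X], p.map (algebraMap R S) = (φ (1 ⊗ₜ a)).charpoly :=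
  exists_descent _ (charpoly_compat φ φ _ _ a)

theorem redCharpoly_indep {S : Type*} [CommRing S] [Algebra R S] [Module.FaithfullyFlat R S]
    {S' : Type*} [CommRing S'] [Algebra R S']
    (φ : (S ⊗[R] A) ≃ₐ[S] Matrix (Fin n) (Fin n) S)
    (ψ : (S' ⊗[R] A) ≃ₐ[S'] Matrix (Fin n) (Fin n) S') (a : A) (p : R[X])
    (hp : p.map (algebraMap R S) = (φ (1 ⊗ₜ a)).charpoly) :
    p.map (algebraMap R S') = (ψ (1 ⊗ₜ a)).charpoly := by
  have h := charpoly_compat φ ψ (Algebra.TensorProduct.includeLeft : S →ₐ[R] S ⊗[R] S')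
    (Algebra.TensorProduct.includeRight : S' →ₐ[R] S ⊗[R] S') a
  rw [← hp, Polynomial.map_map] at h
  have hinj : Function.Injective
      ((Algebra.TensorProduct.includeRight : S' →ₐ[R] S ⊗[R] S') : S' →+* S ⊗[R] S') := by
    exact Module.FaithfullyFlat.tensorProduct_mk_injective (A := R) (B := S) S'
  apply Polynomial.map_injective _ hinj
  rw [← h, Polynomial.map_map]
  congr 1
  ext r
  simp [Algebra.TensorProduct.algebraMap_apply, Algebra.algebraMap_eq_smul_one, TensorProduct.smul_tmul]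

theorem aeval_redCharpoly {S : Type*} [CommRing S] [Algebra R S] [Module.FaithfullyFlat R S]
    (φ : (S ⊗[R] A) ≃ₐ[S] Matrix (Fin n) (Fin n) S) (a : A) (p : R[X])
    (hp : p.map (algebraMap R S) = (φ (1 ⊗ₜ a)).charpoly) : Polynomial.aeval a p = 0 := by
  let ι : A →ₐ[R] Matrix (Fin n) (Fin n) S :=
    (φ.toAlgHom.restrictScalars R).comp (Algebra.TensorProduct.includeRight : A →ₐ[R] S ⊗[R] A)
  have hι : Function.Injective ι := by
    intro x y hxy
    have : (1 : S) ⊗ₜ[R] x = 1 ⊗ₜ y := φ.injective hxy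
    exact Module.FaithfullyFlat.tensorProduct_mk_injective (A := R) (B := S) A this
  apply hι
  rw [map_zero, ← Polynomial.aeval_algHom_apply]
  change Polynomial.aeval (φ (1 ⊗ₜ a)) p = 0
  have := Matrix.aeval_self_charpoly (φ (1 ⊗ₜ a))
  rw [← hp, Polynomial.aeval_map_algebraMap] at this
  exact this

end compat

end Groth.Agent.Lib.Helper3.RedChar
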