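import Mathlib.FieldTheory.PrimitiveElement
import Mathlib.FieldTheory.Minpoly.IsIntegrallyClosed
import Mathlib.RingTheory.Localization.Integral
import Mathlib.RingTheory.AdjoinRoot
import Mathlib.RingTheory.PowerBasis
import Mathlib.LinearAlgebra.Matrix.NonsingularInverse
import Mathlib.LinearAlgebra.Matrix.ToLinearEquiv
import Mathlib.RingTheory.LocalRing.ResidueField.Ideal
import Groth.Agent.Lib.Helper3.RedCharpoly
import Groth.Agent.Lib.Helper3.AzumayaBaseChange
import Groth.Agent.Lib.Helper1.CSASplitField
import Groth.Agent.S5719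

/-!
# Stage 1 of the splitting of Azumaya algebras (helper3)

For an Azumaya algebra `A` over `R` and a prime `p`, there is a monic `F ∈ R[X]` and a prime `p₁`
of `R₁ = R[X]/(F)`, the only prime over `p`, whose residue field splits `A`.
-/

set_option autoImplicit false
universe u v w

open TensorProduct Polynomial

namespace Groth.Agent.Lib.Helper3.FiniteSplit


section det

variable {R : Type*} [CommRing R] {R₁ : Type*} [CommRing R₁] [Algebra R R₁] {n : ℕ}
  {κ : Type*} {L : Type*} [Field κ] [Field L] [Algebra R κ] [Algebra κ L] [Algebra R L]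
  [IsScalarTower R κ L]

/-- determinant (norm) trick: an element of a finite free algebra which is nonzero in a residue
field extension divides an element of the base which is nonzero in the residue field. -/
theorem exists_dvd_of_ne_zero (b : Module.Basis (Fin n) R R₁) (ψ : R₁ →ₐ[R] L)
    (hb : LinearIndependent κ (fun i => ψ (b i))) (g : R₁) (hg : ψ g ≠ 0) :
    ∃ f : R, algebraMap R κ f ≠ 0 ∧ g ∣ algebraMap R R₁ f := by
  classical
  set M := Algebra.leftMulMatrix b g with hM
  have hcol : ∀ j, g * b j = ∑ i, M i j • b i := by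
    intro j
    conv_lhs => rw [← b.sum_repr (g * b j)]
    apply Finset.sum_congr rfl
    intro i _
    rw [hM, Algebra.leftMulMatrix_eq_repr_mul]
  refine ⟨M.det, ?_, ?_⟩
  · intro h0
    have h1 : (M.map (algebraMap R κ)).det = 0 := by
      rw [← RingHom.mapMatrix_apply, ← RingHom.map_det, h0]
    obtain ⟨v, hv, hMv⟩ := Matrix.exists_mulVec_eq_zero_iff.mpr h1
    apply hv
    have h2 : ψ g * ∑ j, v j • ψ (b j) = 0 := by
      rw [Finset.mul_sum]
      have : ∀ j, ψ g * v j • ψ (b j) = ∑ i, (v j * algebraMap R κ (M i j)) • ψ (b i) := by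
        intro j
        rw [mul_smul_comm, ← map_mul, hcol j, map_sum, Finset.smul_sum]
        apply Finset.sum_congr rfl
        intro i _
        rw [map_smul, mul_smul, ← algebraMap_smul κ (M i j) (ψ (b i))]
      simp_rw [this]
      rw [Finset.sum_comm]
      apply Finset.sum_eq_zero
      intro i _
      rw [← Finset.sum_smul]
      have h3 := congrFun hMv i
      simp only [Matrix.mulVec, dotProduct, Matrix.map_apply, Pi.zero_apply] at h3
      have h4 : ∑ j, v j * algebraMap R κ (M i j) = 0 := by
        rw [← h3]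
        apply Finset.sum_congr rfl
        intro j _
        rw [mul_comm]
      rw [h4, zero_smul]
    have h5 := (mul_eq_zero.mp h2).resolve_left hg
    have h6 := (Fintype.linearIndependent_iff.mp hb) v h5
    ext i
    exact h6 i
  · refine ⟨Matrix.toLin b b M.adjugate 1, ?_⟩
    have h1 : Matrix.toLin b b M = LinearMap.mulLeft R g := by
      rw [hM, ← Algebra.toMatrix_lmul_eq, Matrix.toLin_toMatrix]
    have h2 : (Matrix.toLin b b M) (Matrix.toLin b b M.adjugate 1) = M.det • (1 : R₁) := by
      rw [← LinearMap.comp_apply, ← Matrix.toLin_mul, Matrix.mul_adjugate, map_smul, Matrix.toLin_one]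
      rfl
    rw [h1] at h2
    rw [Algebra.algebraMap_eq_smul_one, ← h2]
    rfl

end det


section prim

variable (R : Type u) [CommRing R] (p : Ideal R) [p.IsPrime] (L : Type v) [Field L]
  [Algebra p.ResidueField L] [Module.Finite p.ResidueField L] [Algebra.IsSeparable p.ResidueField L]

theorem exists_monic_lift_minpoly :
    ∃ (F : R[X]) (β : L), F.Monic ∧ F.map (algebraMap R p.ResidueField) = minpoly p.ResidueField β ∧
      IntermediateField.adjoin p.ResidueField {β} = ⊤ := by
  obtain ⟨α, hα⟩ := Field.exists_primitive_element p.ResidueField L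
  have hαint : IsIntegral p.ResidueField α := Algebra.IsIntegral.isIntegral α
  set g := minpoly p.ResidueField α with hg
  have hgm : g.Monic := minpoly.monic hαint
  let M := nonZeroDivisors (R ⧸ p)
  set d := IsLocalization.commonDenom M g.support g.coeff with hd
  set c : p.ResidueField := algebraMap (R ⧸ p) p.ResidueField d with hc
  have hc0 : c ≠ 0 := by
    rw [hc]
    exact IsFractionRing.to_map_ne_zero_of_mem_nonZeroDivisors d.2
  have hq := IsLocalization.scaleRoots_commonDenom_mem_lifts M g (by
    rw [hgm.leadingCoeff]; exact one_mem _)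
  rw [← hd, ← hc] at hq
  have hqmin : minpoly p.ResidueField (c • α) = g.scaleRoots c :=
    IsIntegrallyClosed.minpoly_smul hc0 hαint
  have hqm : (g.scaleRoots c).Monic := (monic_scaleRoots_iff c).mpr hgm
  have hq' : g.scaleRoots c ∈ Polynomial.lifts (algebraMap R p.ResidueField) := by
    rw [Polynomial.lifts_iff_coeff_lifts] at hq ⊢
    intro n
    obtain ⟨a, ha⟩ := hq n
    obtain ⟨a, rfl⟩ := Ideal.Quotient.mk_surjective a
    exact ⟨a, by rw [← ha]; rfl⟩
  obtain ⟨f, hf1, -, hf2⟩ := Polynomial.lifts_and_natDegree_eq_and_monic hq' hqm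
  refine ⟨f, c • α, hf2, by rw [hf1, hqmin], ?_⟩
  rw [eq_top_iff, ← hα, IntermediateField.adjoin_simple_le_iff]
  have h1 : α = c⁻¹ • (c • α) := by rw [smul_smul, inv_mul_cancel₀ hc0, one_smul]
  have h2 : c⁻¹ • (c • α) ∈ IntermediateField.adjoin p.ResidueField {c • α} :=
    IntermediateField.smul_mem _ (IntermediateField.mem_adjoin_simple_self p.ResidueField (c • α))
  rwa [← h1] at h2

end prim

section pb

variable {K : Type*} {L : Type*} [Field K] [Field L] [Algebra K L] [FiniteDimensional K L]

/-- power basis of `L/K` with prescribed generator -/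
noncomputable def pbOfAdjoinEqTop (β : L) (h : IntermediateField.adjoin K {β} = ⊤) :
    PowerBasis K L :=
  (IntermediateField.adjoin.powerBasis (Algebra.IsIntegral.isIntegral (R := K) β)).map
    ((IntermediateField.equivOfEq h).trans IntermediateField.topEquiv)

lemma pbOfAdjoinEqTop_gen (β : L) (h : IntermediateField.adjoin K {β} = ⊤) :
    (pbOfAdjoinEqTop β h).gen = β := by
  simp [pbOfAdjoinEqTop]

lemma pbOfAdjoinEqTop_dim (β : L) (h : IntermediateField.adjoin K {β} = ⊤) :
    (pbOfAdjoinEqTop β h).dim = (minpoly K β).natDegree := by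
  simp [pbOfAdjoinEqTop]

end pb


section stage1

variable (R : Type u) [CommRing R] (A : Type u) [Ring A] [Algebra R A] [IsAzumaya R A]
  (p : Ideal R) [p.IsPrime]

open Groth.Agent.Lib.Helper1 in
theorem exists_finite_free_residue_split :
    ∃ (F : R[X]), F.Monic ∧ 0 < F.natDegree ∧
      (F.map (algebraMap R p.ResidueField)).Separable ∧
      ∃ (p₁ : Ideal (AdjoinRoot F)) (_ : p₁.IsPrime),
      (∀ g : AdjoinRoot F, g ∉ p₁ → ∃ f : R, f ∉ p ∧ g ∣ algebraMap R (AdjoinRoot F) f) ∧
      ∃ r : ℕ, 0 < r ∧ Nonempty (p₁.ResidueField ⊗[AdjoinRoot F] (AdjoinRoot F ⊗[R] A)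
        ≃ₐ[p₁.ResidueField] Matrix (Fin r) (Fin r) p₁.ResidueField) := by
  classical
  obtain ⟨hcentral, hsimple⟩ := (Groth.Agent.S5719.result R A).mp inferInstance p
  obtain ⟨L, _, _, hfin, hsep, n, hn, ⟨eL⟩⟩ :=
    CSA.exists_separable_splitting p.ResidueField (p.ResidueField ⊗[R] A)
  letI : Algebra R L := ((algebraMap p.ResidueField L).comp (algebraMap R p.ResidueField)).toAlgebra
  haveI : IsScalarTower R p.ResidueField L := IsScalarTower.of_algebraMap_eq (fun _ => rfl)
  obtain ⟨F, β, hF, hFmap, hadj⟩ := exists_monic_lift_minpoly R p L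
  have hβint : IsIntegral p.ResidueField β := Algebra.IsIntegral.isIntegral β
  have hβ : F.eval₂ (Algebra.ofId R L : R →+* L) β = 0 := by
    have h1 : (Algebra.ofId R L : R →+* L) =
        (algebraMap p.ResidueField L).comp (algebraMap R p.ResidueField) := rfl
    rw [h1, ← Polynomial.eval₂_map, hFmap]
    exact minpoly.aeval _ _
  have hdeg : F.natDegree = (minpoly p.ResidueField β).natDegree := by
    rw [← hFmap, hF.natDegree_map]
  refine ⟨F, hF, by rw [hdeg]; exact minpoly.natDegree_pos hβint,
    by rw [hFmap]; exact Algebra.IsSeparable.isSeparable p.ResidueField β, ?_⟩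
  let ψ : AdjoinRoot F →ₐ[R] L := AdjoinRoot.liftAlgHom F (Algebra.ofId R L) β hβ
  have hψroot : ψ (AdjoinRoot.root F) = β := AdjoinRoot.liftAlgHom_root _ _ _ _
  refine ⟨RingHom.ker ψ.toRingHom, RingHom.ker_isPrime _, ?_, ?_⟩
  · intro g hg
    have hg' : ψ g ≠ 0 := hg
    have hb : LinearIndependent p.ResidueField
        (fun i => ψ ((AdjoinRoot.powerBasis' hF).basis i)) := by
      have h1 := linearIndependent_pow (K := p.ResidueField) β
      have h2 : (fun i => ψ ((AdjoinRoot.powerBasis' hF).basis i)) =
          (fun i : Fin (minpoly p.ResidueField β).natDegree => β ^ (i : ℕ)) ∘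
            (Fin.cast (by rw [AdjoinRoot.powerBasis'_dim, hdeg])) := by
        ext1 i
        simp only [Function.comp_apply, PowerBasis.coe_basis, AdjoinRoot.powerBasis'_gen, map_pow,
          hψroot, Fin.val_cast]
      rw [h2]
      exact h1.comp _ (Fin.cast_injective _)
    obtain ⟨f, hf, hdvd⟩ := exists_dvd_of_ne_zero (κ := p.ResidueField)
      (AdjoinRoot.powerBasis' hF).basis ψ hb g hg'
    exact ⟨f, fun h => hf ((Ideal.algebraMap_residueField_eq_zero).mpr h), hdvd⟩
  · refine ⟨n, Nat.pos_of_ne_zero hn, ?_⟩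
    set p₁ : Ideal (AdjoinRoot F) := RingHom.ker ψ.toRingHom with hp₁
    haveI : p₁.IsPrime := RingHom.ker_isPrime _
    -- `p₁` lies over `p`
    have hp : p = p₁.comap (Algebra.ofId R (AdjoinRoot F)) := by
      ext x
      rw [Ideal.mem_comap, hp₁, RingHom.mem_ker]
      have h1 : ψ.toRingHom (Algebra.ofId R (AdjoinRoot F) x) =
          algebraMap p.ResidueField L (algebraMap R p.ResidueField x) := ψ.commutes x
      rw [h1, map_eq_zero_iff _ (algebraMap p.ResidueField L).injective,
        Ideal.algebraMap_residueField_eq_zero]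
    let ι₀ : p.ResidueField →ₐ[R] p₁.ResidueField :=
      Ideal.ResidueField.mapₐ p p₁ (Algebra.ofId R (AdjoinRoot F)) hp
    letI : Algebra p.ResidueField p₁.ResidueField := ι₀.toRingHom.toAlgebra
    haveI : IsScalarTower R p.ResidueField p₁.ResidueField :=
      IsScalarTower.of_algebraMap_eq (fun x => (ι₀.commutes x).symm)
    let pb := pbOfAdjoinEqTop (K := p.ResidueField) β hadj
    let y : p₁.ResidueField := algebraMap (AdjoinRoot F) p₁.ResidueField (AdjoinRoot.root F)
    have hy : Polynomial.aeval y (minpoly p.ResidueField pb.gen) = 0 := by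
      rw [pbOfAdjoinEqTop_gen, ← hFmap, Polynomial.aeval_def, Polynomial.eval₂_map,
        ← IsScalarTower.algebraMap_eq R p.ResidueField p₁.ResidueField,
        IsScalarTower.algebraMap_eq R (AdjoinRoot F) p₁.ResidueField, ← Polynomial.hom_eval₂,
        AdjoinRoot.algebraMap_eq, AdjoinRoot.eval₂_root, map_zero]
    let j₀ : L →ₐ[p.ResidueField] p₁.ResidueField := pb.lift y hy
    let jL : L →ₐ[R] p₁.ResidueField := j₀.restrictScalars R
    let φ₁ : L ⊗[R] A ≃ₐ[L] Matrix (Fin n) (Fin n) L :=
      (RedChar.cancelBC R p.ResidueField L A).symm.trans eL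
    exact ⟨(RedChar.cancelBC R (AdjoinRoot F) p₁.ResidueField A).trans (RedChar.bcSplit φ₁ jL)⟩

end stage1

end Groth.Agent.Lib.Helper3.FiniteSplit
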