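import Mathlib.LinearAlgebra.Matrix.ToLin
import Mathlib.Data.Matrix.Basis
import Mathlib.LinearAlgebra.LinearIndependent.Lemmas
import Mathlib.FieldTheory.Separable
import Mathlib.Algebra.Polynomial.AlgebraMap

/-!
# Cyclic (companion) matrices (helper3)

`N c`: the matrix whose rows are `e_1, …, e_{r-1}, c`. Its powers `N^i`, `i < r`, are linearly
independent, span its centralizer, and `E_{j0} N^i = E_{ji}`.
-/

set_option autoImplicit false
universe u v w

open Matrix Polynomial

namespace Groth.Agent.Lib.Helper3.CycMat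

variable {K : Type*} [CommRing K] {r : ℕ}

/-- the cyclic ("companion") matrix: row `i` is `e_{i+1}` for `i + 1 < r`, the last row is `c` -/
def N (c : Fin r → K) : Matrix (Fin r) (Fin r) K :=
  Matrix.of fun i j => if (i : ℕ) + 1 = (j : ℕ) then 1 else if (i : ℕ) + 1 = r then c j else 0

lemma single_vecMul (i : Fin r) (M : Matrix (Fin r) (Fin r) K) :
    (Pi.single i (1 : K)) ᵥ* M = M i := by
  ext j
  simp [Matrix.vecMul, dotProduct, Pi.single_apply]

lemma N_row (c : Fin r → K) (i : Fin r) (h : (i : ℕ) + 1 < r) :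
    N c i = Pi.single (⟨(i : ℕ) + 1, h⟩ : Fin r) (1 : K) := by
  ext j
  simp only [N, Matrix.of_apply, Pi.single_apply]
  by_cases hj : (i : ℕ) + 1 = (j : ℕ)
  · rw [if_pos hj, if_pos]
    exact Fin.ext hj.symm
  · rw [if_neg hj, if_neg (by omega), if_neg]
    intro hj'
    apply hj
    rw [hj']

/-- `e_0ᵀ N^i = e_iᵀ` -/
lemma single_zero_vecMul_pow (hr : 0 < r) (cc : Fin r → K) (i : Fin r) :
    (Pi.single (⟨0, hr⟩ : Fin r) (1 : K)) ᵥ* (N cc ^ (i : ℕ)) = Pi.single i (1 : K) := by
  obtain ⟨i, hi⟩ := i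
  induction i with
  | zero => simp
  | succ m ih =>
    have hm : m < r := by omega
    rw [pow_succ, ← Matrix.vecMul_vecMul]
    have := ih hm
    simp only at this
    rw [this, single_vecMul, N_row _ _ (by simpa using hi)]

lemma row_eq (hr : 0 < r) (c : Fin r → K) (X : Matrix (Fin r) (Fin r) K) (i : Fin r) :
    X i = (Pi.single (⟨0, hr⟩ : Fin r) (1 : K)) ᵥ* (N c ^ (i : ℕ) * X) := by
  rw [← Matrix.vecMul_vecMul, single_zero_vecMul_pow, single_vecMul]

lemma row_zero_sum (hr : 0 < r) (c : Fin r → K) (a : Fin r → K) :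
    (∑ i : Fin r, a i • N c ^ (i : ℕ)) ⟨0, hr⟩ = a := by
  have h := row_eq hr c (∑ i : Fin r, a i • N c ^ (i : ℕ)) ⟨0, hr⟩
  rw [h]
  simp only [pow_zero, one_mul]
  rw [Matrix.vecMul_sum]
  simp_rw [Matrix.vecMul_smul, single_zero_vecMul_pow]
  ext j
  simp [Finset.sum_apply, Pi.single_apply]

theorem linearIndependent_pow (hr : 0 < r) (c : Fin r → K) :
    LinearIndependent K (fun i : Fin r => N c ^ (i : ℕ)) := by
  rw [Fintype.linearIndependent_iff]
  intro a ha i
  have := row_zero_sum hr c a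
  rw [ha] at this
  rw [← this]
  rfl

theorem eq_sum_of_commute (hr : 0 < r) (c : Fin r → K) (Y : Matrix (Fin r) (Fin r) K)
    (hY : N c * Y = Y * N c) : Y = ∑ i : Fin r, Y ⟨0, hr⟩ i • N c ^ (i : ℕ) := by
  set Z := ∑ i : Fin r, Y ⟨0, hr⟩ i • N c ^ (i : ℕ) with hZ
  have hcY : ∀ m : ℕ, N c ^ m * Y = Y * N c ^ m := fun m => (Commute.pow_left hY m).eq
  have hcZ : ∀ m : ℕ, N c ^ m * Z = Z * N c ^ m := by
    intro m
    rw [hZ, Finset.mul_sum, Finset.sum_mul]
    apply Finset.sum_congr rfl
    intro i _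
    rw [Matrix.mul_smul, Matrix.smul_mul, ← pow_add, ← pow_add, add_comm]
  have h0 : Z ⟨0, hr⟩ = Y ⟨0, hr⟩ := row_zero_sum hr c _
  ext i j
  have h1 := row_eq hr c Y i
  have h2 := row_eq hr c Z i
  rw [hcY, ← Matrix.vecMul_vecMul, single_vecMul] at h1
  rw [hcZ, ← Matrix.vecMul_vecMul, single_vecMul, h0] at h2
  rw [h1, h2]

theorem single_mul_pow (hr : 0 < r) (c : Fin r → K) (j i : Fin r) :
    Matrix.single j (⟨0, hr⟩ : Fin r) (1 : K) * N c ^ (i : ℕ) = Matrix.single j i (1 : K) := by
  ext a b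
  have h := congrFun (single_zero_vecMul_pow hr c i) b
  rw [single_vecMul] at h
  by_cases ha : a = j
  · subst ha
    simp [Matrix.mul_apply, Matrix.single_apply, h, Pi.single_apply, eq_comm]
  · simp [Matrix.mul_apply, Matrix.single_apply, ha, Ne.symm ha]

section field

variable {K : Type*} [Field K] {r : ℕ}


lemma smul_pow' (u : K) (M : Matrix (Fin r) (Fin r) K) (i : ℕ) : (u • M) ^ i = u ^ i • M ^ i :=
  smul_pow u M i

theorem linearIndependent_pow_smul (hr : 0 < r) (c : Fin r → K) (u : K) (hu : u ≠ 0) :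
    LinearIndependent K (fun i : Fin r => (u • N c) ^ (i : ℕ)) := by
  have h := linearIndependent_pow hr c
  have h2 : (fun i : Fin r => (u • N c) ^ (i : ℕ)) =
      fun i : Fin r => (Units.mk0 (u ^ (i : ℕ)) (pow_ne_zero _ hu)) • (N c ^ (i : ℕ)) := by
    ext1 i
    rw [smul_pow]
    rfl
  rw [h2]
  exact h.units_smul _

theorem mem_span_of_commute_smul (hr : 0 < r) (c : Fin r → K) (u : K) (hu : u ≠ 0)
    (Y : Matrix (Fin r) (Fin r) K) (hY : (u • N c) * Y = Y * (u • N c)) :
    Y ∈ Submodule.span K (Set.range fun i : Fin r => (u • N c) ^ (i : ℕ)) := by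
  have hY' : N c * Y = Y * N c := by
    rw [Matrix.smul_mul, Matrix.mul_smul] at hY
    exact smul_right_injective _ hu hY
  rw [eq_sum_of_commute hr c Y hY']
  apply Submodule.sum_mem
  intro i _
  have : N c ^ (i : ℕ) = (u ^ (i : ℕ))⁻¹ • (u • N c) ^ (i : ℕ) := by
    rw [smul_pow, smul_smul, inv_mul_cancel₀ (pow_ne_zero _ hu), one_smul]
  rw [this, smul_smul]
  exact Submodule.smul_mem _ _ (Submodule.subset_span ⟨i, rfl⟩)

theorem bijective_linearCombination_smul (hr : 0 < r) (c : Fin r → K) (u : K) (hu : u ≠ 0)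
    (v : Fin r → K) (hv : ∀ j, v j ≠ 0) :
    Function.Bijective (Fintype.linearCombination K
      (fun ji : Fin r × Fin r =>
        (v ji.1 • Matrix.single ji.1 (⟨0, hr⟩ : Fin r) (1 : K)) * (u • N c) ^ (ji.2 : ℕ))) := by
  have hfam : (fun ji : Fin r × Fin r =>
        (v ji.1 • Matrix.single ji.1 (⟨0, hr⟩ : Fin r) (1 : K)) * (u • N c) ^ (ji.2 : ℕ)) =
      fun ji : Fin r × Fin r => (v ji.1 * u ^ (ji.2 : ℕ)) • Matrix.single ji.1 ji.2 (1 : K) := by
    ext1 ji
    rw [smul_pow, Matrix.smul_mul, Matrix.mul_smul, single_mul_pow, smul_smul]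
  rw [hfam]
  have hne : ∀ ji : Fin r × Fin r, v ji.1 * u ^ (ji.2 : ℕ) ≠ 0 :=
    fun ji => mul_ne_zero (hv ji.1) (pow_ne_zero _ hu)
  constructor
  · rw [← LinearMap.ker_eq_bot, LinearMap.ker_eq_bot']
    intro a ha
    ext ⟨j, i⟩
    have := congrFun (congrFun ha j) i
    rw [Fintype.linearCombination_apply] at this
    simp only [Matrix.sum_apply, Matrix.smul_apply, Matrix.single_apply, smul_eq_mul,
      Matrix.zero_apply] at this
    rw [Finset.sum_eq_single (j, i)] at this
    · simp only [and_self, if_true, mul_one] at this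
      exact (mul_eq_zero.mp this).resolve_right (hne (j, i))
    · intro b _ hb
      rw [if_neg, mul_zero, mul_zero]
      intro h
      exact hb (Prod.ext h.1 h.2)
    · intro h; exact absurd (Finset.mem_univ _) h
  · intro Y
    refine ⟨fun ji => Y ji.1 ji.2 * (v ji.1 * u ^ (ji.2 : ℕ))⁻¹, ?_⟩
    rw [Fintype.linearCombination_apply]
    ext j i
    simp only [Matrix.sum_apply, Matrix.smul_apply, Matrix.single_apply, smul_eq_mul]
    rw [Finset.sum_eq_single (j, i)]
    · simp only [and_self, if_true, mul_one]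
      rw [mul_assoc, inv_mul_cancel₀ (hne (j, i)), mul_one]
    · intro b _ hb
      rw [if_neg, mul_zero, mul_zero]
      intro h
      exact hb (Prod.ext h.1 h.2)
    · intro h; exact absurd (Finset.mem_univ _) h

end field


section CH

variable {K : Type*} [CommRing K] {r : ℕ}

/-- the last row of `N c` is `c` -/
lemma N_last_row (hr : 0 < r) (c : Fin r → K) : N c ⟨r - 1, by omega⟩ = c := by
  ext j
  simp only [N, Matrix.of_apply]
  by_cases hj : r - 1 + 1 = (j : ℕ)
  · exfalso
    have := j.2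
    omega
  · rw [if_neg hj, if_pos (by omega)]

/-- Cayley–Hamilton for the companion matrix -/
theorem pow_eq_sum (hr : 0 < r) (c : Fin r → K) :
    N c ^ r = ∑ i : Fin r, c i • N c ^ (i : ℕ) := by
  have hcomm : N c * N c ^ r = N c ^ r * N c := by rw [← pow_succ, ← pow_succ']
  rw [eq_sum_of_commute hr c (N c ^ r) hcomm]
  congr 1
  ext1 i
  congr 1
  -- row `0` of `N^r`
  have h1 : (N c ^ r) ⟨0, hr⟩ = c := by
    have h2 : N c ^ r = N c ^ (r - 1) * N c := by
      rw [← pow_succ]
      congr 1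
      omega
    rw [← single_vecMul ⟨0, hr⟩ (N c ^ r), h2, ← Matrix.vecMul_vecMul]
    have h3 := single_zero_vecMul_pow hr c ⟨r - 1, by omega⟩
    simp only at h3
    rw [h3, single_vecMul, N_last_row hr c]
  rw [h1]

end CH

section uniq

variable {K : Type*} [Field K] {B : Type*} [Ring B] [Algebra K B] {r : ℕ}

/-- two monic polynomials of degree `r` killing an element whose first `r` powers are independent
are equal -/
theorem monic_unique (M : B) (hli : LinearIndependent K (fun i : Fin r => M ^ (i : ℕ)))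
    (p q : K[X]) (hp : p.Monic) (hq : q.Monic) (hpd : p.natDegree = r) (hqd : q.natDegree = r)
    (hpM : aeval M p = 0) (hqM : aeval M q = 0) : p = q := by
  by_contra hne
  have hsub : p - q ≠ 0 := sub_ne_zero.mpr hne
  have hdeg : (p - q).degree < (r : WithBot ℕ) := by
    have := Polynomial.degree_sub_lt (p := p) (q := q)
      (by rw [Polynomial.degree_eq_natDegree hp.ne_zero,
        Polynomial.degree_eq_natDegree hq.ne_zero, hpd, hqd]) hp.ne_zero
      (by rw [hp.leadingCoeff, hq.leadingCoeff])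
    rwa [Polynomial.degree_eq_natDegree hp.ne_zero, hpd] at this
  have hnat : (p - q).natDegree < r := (Polynomial.natDegree_lt_iff_degree_lt hsub).mpr hdeg
  have h0 : aeval M (p - q) = 0 := by rw [map_sub, hpM, hqM, sub_zero]
  rw [Polynomial.as_sum_range' (p - q) r hnat, map_sum] at h0
  have h1 : ∑ i : Fin r, (p - q).coeff (i : ℕ) • M ^ (i : ℕ) = 0 := by
    rw [← h0, Finset.sum_range]
    apply Finset.sum_congr rfl
    intro i _
    rw [← Polynomial.C_mul_X_pow_eq_monomial, map_mul, aeval_C, map_pow, aeval_X, Algebra.smul_def]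
  have h2 := Fintype.linearIndependent_iff.mp hli _ h1
  apply hsub
  ext i
  rw [Polynomial.coeff_zero]
  by_cases hi : i < r
  · exact h2 ⟨i, hi⟩
  · exact Polynomial.coeff_eq_zero_of_natDegree_lt (by omega)

end uniq

section sep

variable (K : Type*) [Field K] (r : ℕ)

/-- a companion matrix all of whose nonzero scalings are killed by a separable monic polynomial of
degree `r` -/
theorem exists_separable_companion (hr : 0 < r) :
    ∃ c : Fin r → K, ∀ u : K, u ≠ 0 → ∃ P : K[X], P.Monic ∧ P.natDegree = r ∧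
      aeval (u • N c) P = 0 ∧ P.Separable := by
  classical
  by_cases hchar : (r : K) = 0
  · -- `r = 0` in `K`, so `r ≥ 2`; use `X^r - u^(r-1) X`
    have hr2 : 2 ≤ r := by
      rcases Nat.lt_or_ge r 2 with h | h
      · have : r = 1 := by omega
        subst this
        simp at hchar
      · exact h
    refine ⟨Pi.single (⟨1, by omega⟩ : Fin r) 1, fun u hu => ?_⟩
    set c : Fin r → K := Pi.single (⟨1, by omega⟩ : Fin r) 1 with hc
    have hN : N c ^ r = N c := by
      rw [pow_eq_sum hr c, Finset.sum_eq_single (⟨1, by omega⟩ : Fin r)]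
      · simp [hc]
      · intro i _ hi
        rw [hc, Pi.single_eq_of_ne hi, zero_smul]
      · intro h; exact absurd (Finset.mem_univ _) h
    have hlt : (C (u ^ (r - 1)) * X : K[X]).degree < (X ^ r : K[X]).degree := by
      rw [Polynomial.degree_X_pow]
      calc (C (u ^ (r - 1)) * X : K[X]).degree ≤ 1 := Polynomial.degree_C_mul_X_le _
        _ < (r : WithBot ℕ) := by exact_mod_cast hr2
    refine ⟨X ^ r - C (u ^ (r - 1)) * X, (Polynomial.monic_X_pow r).sub_of_left hlt, ?_, ?_, ?_⟩
    · apply Polynomial.natDegree_eq_of_degree_eq_some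
      rw [Polynomial.degree_sub_eq_left_of_degree_lt hlt, Polynomial.degree_X_pow]
    · rw [map_sub, map_pow, aeval_X, map_mul, aeval_C, aeval_X, _root_.smul_pow, hN,
        Algebra.algebraMap_eq_smul_one, smul_mul_assoc, one_mul, smul_smul, ← pow_succ]
      have : r - 1 + 1 = r := by omega
      rw [this, sub_self]
    · rw [Polynomial.separable_def]
      have hd : Polynomial.derivative (X ^ r - C (u ^ (r - 1)) * X : K[X]) = C (-(u ^ (r - 1))) := by
        rw [Polynomial.derivative_sub, Polynomial.derivative_X_pow, Polynomial.derivative_C_mul,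
          Polynomial.derivative_X, mul_one, hchar, map_zero, zero_mul, zero_sub, map_neg]
      rw [hd]
      have hunit : IsUnit (C (-(u ^ (r - 1))) : K[X]) :=
        Polynomial.isUnit_C.mpr (IsUnit.mk0 _ (neg_ne_zero.mpr (pow_ne_zero _ hu)))
      exact ⟨0, ↑(hunit.unit⁻¹), by rw [zero_mul, zero_add, IsUnit.val_inv_mul]⟩
  · -- use `X^r - u^r`
    refine ⟨Pi.single (⟨0, hr⟩ : Fin r) 1, fun u hu => ?_⟩
    set c : Fin r → K := Pi.single (⟨0, hr⟩ : Fin r) 1 with hc
    have hN : N c ^ r = 1 := by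
      rw [pow_eq_sum hr c, Finset.sum_eq_single (⟨0, hr⟩ : Fin r)]
      · simp [hc]
      · intro i _ hi
        rw [hc, Pi.single_eq_of_ne hi, zero_smul]
      · intro h; exact absurd (Finset.mem_univ _) h
    refine ⟨X ^ r - C (u ^ r), Polynomial.monic_X_pow_sub_C _ hr.ne', Polynomial.natDegree_X_pow_sub_C,
      ?_, Polynomial.separable_X_pow_sub_C _ hchar (pow_ne_zero _ hu)⟩
    rw [map_sub, map_pow, aeval_X, aeval_C, _root_.smul_pow, hN, Algebra.algebraMap_eq_smul_one, sub_self]

end sep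

end Groth.Agent.Lib.Helper3.CycMat
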