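import Mathlib.RingTheory.LocalRing.Module
import Mathlib.RingTheory.TensorProduct.Basic
import Mathlib.LinearAlgebra.TensorProduct.Pi
import Mathlib.Algebra.Algebra.Bilinear
import Mathlib.RingTheory.Finiteness.Prod
import Mathlib.LinearAlgebra.FreeModule.Finite.Basic

/-!
# Lifting regular elements over a local ring (helper3)

`regular_lift`: `Λ` local, `A` a finite free `Λ`-algebra, `ξ : A` such that in `k ⊗ A` the powers
`x^i`, `i < r` (`x = 1 ⊗ ξ`) are linearly independent and span the centralizer of `x`. Then the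
`ξ^i`, `i < r`, are linearly independent over `Λ` and `ξ^r` lies in their span.
-/

set_option autoImplicit false
universe u v w

open TensorProduct Polynomial

namespace Groth.Agent.Lib.Helper3.RegLift

section local_

variable {Λ : Type u} [CommRing Λ] [IsLocalRing Λ] {A : Type v} [Ring A] [Algebra Λ A]

local notation "k" => IsLocalRing.ResidueField Λ

/-- `ad ξ = [ξ, -]` -/
def adMap (Λ : Type*) [CommRing Λ] {A : Type*} [Ring A] [Algebra Λ A] (ξ : A) : A →ₗ[Λ] A :=
  LinearMap.mulLeft Λ ξ - LinearMap.mulRight Λ ξ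

lemma adMap_apply (ξ a : A) : adMap Λ ξ a = ξ * a - a * ξ := rfl

lemma adMap_lTensor (ξ : A) (z : k ⊗[Λ] A) :
    (adMap Λ ξ).lTensor k z = (1 ⊗ₜ ξ) * z - z * (1 ⊗ₜ ξ) := by
  induction z using TensorProduct.induction_on with
  | zero => simp
  | tmul c a =>
    rw [LinearMap.lTensor_tmul, adMap_apply, Algebra.TensorProduct.tmul_mul_tmul,
      Algebra.TensorProduct.tmul_mul_tmul, one_mul, mul_one, TensorProduct.tmul_sub]
  | add x y hx hy => rw [map_add, hx, hy, mul_add, add_mul]; abel

/-- powers map -/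
noncomputable def powMap (ξ : A) (r : ℕ) : (Fin r → Λ) →ₗ[Λ] A :=
  Fintype.linearCombination Λ (fun i : Fin r => ξ ^ (i : ℕ))

lemma powMap_apply (ξ : A) (r : ℕ) (c : Fin r → Λ) : powMap ξ r c = ∑ i, c i • ξ ^ (i : ℕ) := by
  simp [powMap, Fintype.linearCombination_apply]

lemma adMap_pow (ξ : A) (m : ℕ) : adMap Λ ξ (ξ ^ m) = 0 := by
  rw [adMap_apply, ← pow_succ', ← pow_succ, sub_self]

lemma adMap_powMap (ξ : A) (r : ℕ) (c : Fin r → Λ) : adMap Λ ξ (powMap ξ r c) = 0 := by
  rw [powMap_apply, map_sum]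
  apply Finset.sum_eq_zero
  intro i _
  rw [map_smul, adMap_pow, smul_zero]

theorem regular_lift [Module.Finite Λ A] [Module.Free Λ A] (ξ : A) (r : ℕ)
    (hli : LinearIndependent k (fun i : Fin r => ((1 : k) ⊗ₜ[Λ] ξ) ^ (i : ℕ)))
    (hcent : ∀ z : k ⊗[Λ] A, (1 ⊗ₜ ξ) * z = z * (1 ⊗ₜ ξ) →
      z ∈ Submodule.span k (Set.range fun i : Fin r => ((1 : k) ⊗ₜ[Λ] ξ) ^ (i : ℕ))) :
    LinearIndependent Λ (fun i : Fin r => ξ ^ (i : ℕ)) ∧
      ξ ^ r ∈ Submodule.span Λ (Set.range fun i : Fin r => ξ ^ (i : ℕ)) := by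
  have hpow : ∀ i : ℕ, ((1 : k) ⊗ₜ[Λ] ξ) ^ i = (1 : k) ⊗ₜ[Λ] (ξ ^ i) := by
    intro i
    rw [Algebra.TensorProduct.tmul_pow, one_pow]
  -- linear independence over Λ
  have hliΛ : LinearIndependent Λ (fun i : Fin r => ξ ^ (i : ℕ)) := by
    apply Module.IsLocalRing.linearIndependent_of_flat
    convert hli using 1
    ext i
    simp [hpow]
  refine ⟨hliΛ, ?_⟩
  set φ := powMap (Λ := Λ) ξ r with hφ
  -- φ̄ is injective
  have hφbar : Function.Injective (φ.lTensor k) := by
    have h1 : Function.Injective (φ.baseChange k) := by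
      rw [← LinearMap.ker_eq_bot, LinearMap.ker_eq_bot']
      intro w hw
      -- transport to `Fin r → k`
      let e := TensorProduct.piScalarRight Λ k k (Fin r)
      have hw' : w = e.symm (e w) := (e.symm_apply_apply w).symm
      have key : ∀ c : Fin r → k, φ.baseChange k (e.symm c) =
          ∑ i, c i • ((1 : k) ⊗ₜ[Λ] ξ) ^ (i : ℕ) := by
        intro c
        have hc : e.symm c = ∑ i, c i • ((1 : k) ⊗ₜ[Λ] (Pi.single i (1 : Λ) : Fin r → Λ)) := by
          apply e.injective
          rw [LinearEquiv.apply_symm_apply, map_sum]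
          ext j
          simp [e, Finset.sum_apply, Pi.single_apply]
        rw [hc, map_sum]
        apply Finset.sum_congr rfl
        intro i _
        rw [map_smul, LinearMap.baseChange_tmul, hpow]
        congr 2
        rw [hφ, powMap_apply]
        simp [Pi.single_apply]
      rw [hw', key] at hw
      have := (Fintype.linearIndependent_iff.mp hli) (e w) hw
      rw [hw']
      have h0 : e w = 0 := funext this
      rw [h0, map_zero]
    intro a b hab
    apply h1
    simpa [LinearMap.baseChange_eq_ltensor] using hab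
  obtain ⟨π, hπ⟩ :=
    (IsLocalRing.split_injective_iff_lTensor_residueField_injective φ).mpr hφbar
  -- T = (π, ad ξ)
  set T : A →ₗ[Λ] (Fin r → Λ) × A := π.prod (adMap Λ ξ) with hT
  have hTbar : Function.Injective (T.lTensor k) := by
    rw [← LinearMap.ker_eq_bot, LinearMap.ker_eq_bot']
    intro z hz
    have h1 : π.lTensor k z = 0 := by
      have : (LinearMap.fst Λ (Fin r → Λ) A) ∘ₗ T = π := LinearMap.fst_prod _ _
      rw [← this, LinearMap.lTensor_comp, LinearMap.comp_apply, hz, map_zero]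
    have h2 : (adMap Λ ξ).lTensor k z = 0 := by
      have : (LinearMap.snd Λ (Fin r → Λ) A) ∘ₗ T = adMap Λ ξ := LinearMap.snd_prod _ _
      rw [← this, LinearMap.lTensor_comp, LinearMap.comp_apply, hz, map_zero]
    rw [adMap_lTensor, sub_eq_zero] at h2
    have h3 := hcent z h2
    have hle : Submodule.span k (Set.range fun i : Fin r => ((1 : k) ⊗ₜ[Λ] ξ) ^ (i : ℕ)) ≤
        LinearMap.range (φ.baseChange k) := by
      rw [Submodule.span_le]
      rintro _ ⟨i, rfl⟩
      refine ⟨(1 : k) ⊗ₜ[Λ] (Pi.single i (1 : Λ) : Fin r → Λ), ?_⟩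
      rw [LinearMap.baseChange_tmul]
      change _ = ((1 : k) ⊗ₜ[Λ] ξ) ^ (i : ℕ)
      rw [hpow]
      congr 1
      rw [hφ, powMap_apply]
      simp [Pi.single_apply]
    obtain ⟨w, hw⟩ := hle h3
    have hw2 : φ.lTensor k w = z := by
      rw [← hw, LinearMap.baseChange_eq_ltensor]
    have h4 : π.lTensor k (φ.lTensor k w) = w := by
      rw [← LinearMap.comp_apply, ← LinearMap.lTensor_comp, hπ, LinearMap.lTensor_id,
        LinearMap.id_apply]
    rw [hw2, h1] at h4
    rw [← hw2, ← h4, map_zero]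
  obtain ⟨T', hT'⟩ := (IsLocalRing.split_injective_iff_lTensor_residueField_injective T).mpr hTbar
  have hTinj : Function.Injective T := fun a b hab => by
    have := congrArg T' hab
    rwa [← LinearMap.comp_apply, ← LinearMap.comp_apply, hT', LinearMap.id_apply,
      LinearMap.id_apply] at this
  have hy : ξ ^ r - φ (π (ξ ^ r)) = 0 := by
    apply hTinj
    rw [map_zero]
    have hTy : ∀ y, T y = (π y, adMap Λ ξ y) := fun y => rfl
    rw [hTy, map_sub, map_sub]
    have : π (φ (π (ξ ^ r))) = π (ξ ^ r) := by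
      rw [← LinearMap.comp_apply, hπ, LinearMap.id_apply]
    rw [this, sub_self, adMap_pow, hφ, adMap_powMap, sub_self]
    rfl
  rw [sub_eq_zero] at hy
  rw [hy, hφ, powMap]
  rw [← Fintype.range_linearCombination]
  exact LinearMap.mem_range_self _ _

end local_

end Groth.Agent.Lib.Helper3.RegLift
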