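import Groth.Agent.Lib.Helper3.SplitCrit
import Mathlib.RingTheory.AdjoinRoot
import Mathlib.LinearAlgebra.Matrix.ToLin

/-!
# Splitting an Azumaya algebra by a monogenic maximal commutative subalgebra (helper3)

`exists_split`: `A` Azumaya over `T` of constant rank `r^2`, `Q` monic of degree `r` with
`Q(ξ) = 0`, and `b_j ξ^i` a `T`-basis of `A`. Then `AdjoinRoot Q ⊗ A ≃ M_r(AdjoinRoot Q)`.
-/

set_option autoImplicit false
universe u v w

open TensorProduct Polynomial

namespace Groth.Agent.Lib.Helper3.RegSplit

open Groth.Agent.Lib.Helper3.Az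

section RMod

variable {T : Type*} [CommRing T] {A : Type v} [Ring A] [Algebra T A]
  {S : Type w} [CommRing S] [Algebra T S]

/-- `A` as an `S`-module through right multiplication by `ι s`. -/
def RMod (_ι : S →ₐ[T] A) : Type v := A

variable (ι : S →ₐ[T] A)

instance : AddCommGroup (RMod ι) := inferInstanceAs (AddCommGroup A)
instance : Module T (RMod ι) := inferInstanceAs (Module T A)
instance : Module A (RMod ι) := inferInstanceAs (Module A A)
instance : IsScalarTower T A (RMod ι) := inferInstanceAs (IsScalarTower T A A)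

instance : Module S (RMod ι) where
  smul l v := ((show A from v) * ι l : A)
  one_smul v := by change ((show A from v) * ι 1 : A) = v; rw [map_one, mul_one]
  mul_smul l l' v := by
    change ((show A from v) * ι (l * l') : A) = ((show A from v) * ι l') * ι l
    rw [mul_comm l l', map_mul, mul_assoc]
  smul_zero l := by change ((0 : A) * ι l : A) = 0; rw [zero_mul]
  smul_add l v w := by
    change (((show A from v) + (show A from w)) * ι l : A) =
      (show A from v) * ι l + (show A from w) * ι l
    rw [add_mul]
  add_smul l l' v := by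
    change ((show A from v) * ι (l + l') : A) = (show A from v) * ι l + (show A from v) * ι l'
    rw [map_add, mul_add]
  zero_smul v := by change ((show A from v) * ι 0 : A) = 0; rw [map_zero, mul_zero]

theorem RMod.smul_def (l : S) (v : RMod ι) : l • v = ((show A from v) * ι l : A) := rfl

theorem RMod.smul_def' (a : A) (v : RMod ι) : a • v = (a * (show A from v) : A) := rfl

instance : IsScalarTower T S (RMod ι) where
  smul_assoc c l v := by
    change ((show A from v) * ι (c • l) : A) = c • ((show A from v) * ι l : A)
    rw [map_smul, mul_smul_comm]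

instance : SMulCommClass A S (RMod ι) where
  smul_comm a l v := by
    change (a * ((show A from v) * ι l) : A) = (a * (show A from v)) * ι l
    rw [mul_assoc]

/-- the map `S ⊗ A → End_S(A)` -/
noncomputable def splitHom : S ⊗[T] A →ₐ[S] Module.End S (RMod ι) :=
  Algebra.TensorProduct.lift (Algebra.ofId S (Module.End S (RMod ι)))
    (Algebra.lsmul T S (RMod ι)) (fun l a => by
      ext v
      change l • (a • v) = a • (l • v)
      exact (smul_comm a l v).symm)

end RMod

section main

variable {T : Type u} [CommRing T] {A : Type u} [Ring A] [Algebra T A] [IsAzumaya T A]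

/-- the lift `AdjoinRoot Q → A`, `root ↦ ξ` -/
noncomputable def liftHom (Q : T[X]) (ξ : A) (h : Polynomial.aeval ξ Q = 0) : AdjoinRoot Q →ₐ[T] A :=
  Ideal.Quotient.liftₐ (Ideal.span {Q}) (Polynomial.aeval ξ) (by
    intro a ha
    obtain ⟨c, rfl⟩ := Ideal.mem_span_singleton'.mp ha
    rw [map_mul, h, mul_zero])

lemma liftHom_root (Q : T[X]) (ξ : A) (h : Polynomial.aeval ξ Q = 0) :
    liftHom Q ξ h (AdjoinRoot.root Q) = ξ := by
  exact (Ideal.Quotient.lift_mk (Ideal.span {Q}) _ _).trans (Polynomial.aeval_X ξ)

theorem exists_split (r : ℕ) (hr : 0 < r)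
    (hrk : ∀ q : PrimeSpectrum T, Module.rankAtStalk A q = r ^ 2)
    (Q : T[X]) (hQ : Q.Monic) (hdeg : Q.natDegree = r) (ξ : A) (hξ : Polynomial.aeval ξ Q = 0)
    (b : Fin r → A)
    (hbij : Function.Bijective
      (Fintype.linearCombination T (fun ji : Fin r × Fin r => b ji.1 * ξ ^ (ji.2 : ℕ)))) :
    Nonempty (AdjoinRoot Q ⊗[T] A ≃ₐ[AdjoinRoot Q]
      Matrix (Fin r) (Fin r) (AdjoinRoot Q)) := by
  set S := AdjoinRoot Q
  set ι := liftHom Q ξ hξ with hι
  have hιroot : ∀ m : ℕ, ι (AdjoinRoot.root Q ^ m) = ξ ^ m := by
    intro m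
    rw [map_pow, hι, liftHom_root]
  -- the S-linear map β : S^r → RMod
  let bR : Fin r → RMod ι := fun j => b j
  let β : (Fin r → S) →ₗ[S] RMod ι := Fintype.linearCombination S bR
  have hβapply : ∀ w : Fin r → S, β w = ∑ j, w j • bR j :=
    fun w => Fintype.linearCombination_apply S _ w
  have hβ : Function.Bijective β := by
    -- compare with Ξ
    let pb := AdjoinRoot.powerBasis' hQ
    have hdim : pb.dim = r := by rw [AdjoinRoot.powerBasis'_dim, hdeg]
    -- T-linear iso (Fin r × Fin r → T) ≃ (Fin r → S)
    let bS : Module.Basis (Fin r) T S := pb.basis.reindex (finCongr hdim)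
    have hbS : ∀ i : Fin r, bS i = AdjoinRoot.root Q ^ (i : ℕ) := by
      intro i
      simp [bS, pb, AdjoinRoot.powerBasis'_gen]
    let e1 : (Fin r × Fin r → T) ≃ₗ[T] (Fin r → S) :=
      (LinearEquiv.curry T T (Fin r) (Fin r)).trans
        (LinearEquiv.piCongrRight fun _ => bS.equivFun.symm)
    have key : ∀ v, (β.restrictScalars T) (e1 v) =
        Fintype.linearCombination T (fun ji : Fin r × Fin r => b ji.1 * ξ ^ (ji.2 : ℕ)) v := by
      intro v
      rw [LinearMap.coe_restrictScalars, hβapply, Fintype.linearCombination_apply,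
        Fintype.sum_prod_type]
      apply Finset.sum_congr rfl
      intro j _
      have : e1 v j = ∑ i : Fin r, v (j, i) • bS i := by
        simp [e1, Module.Basis.equivFun_symm_apply]
      rw [this, RMod.smul_def, map_sum, Finset.mul_sum]
      apply Finset.sum_congr rfl
      intro i _
      rw [map_smul, hbS, hιroot, mul_smul_comm]
    have h2 : Function.Bijective ((β.restrictScalars T) ∘ e1) := by
      have : ((β.restrictScalars T) ∘ e1) =
          Fintype.linearCombination T (fun ji : Fin r × Fin r => b ji.1 * ξ ^ (ji.2 : ℕ)) :=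
        funext key
      rw [this]
      exact hbij
    have h3 := (Function.Bijective.of_comp_iff (β.restrictScalars T) e1.bijective).mp h2
    exact h3
  let eβ : (Fin r → S) ≃ₗ[S] RMod ι := LinearEquiv.ofBijective β hβ
  haveI : Module.Free S (RMod ι) := Module.Free.of_equiv eβ
  haveI : Module.Finite S (RMod ι) := Module.Finite.equiv eβ
  haveI : IsAzumaya S (S ⊗[T] A) := isAzumaya_baseChange T S A
  have hbijρ : Function.Bijective (splitHom ι) := by
    apply SplitCrit.bijective_of_rank
    · intro q
      haveI : Nontrivial S := q.nontrivial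
      rw [Module.rankAtStalk_baseChange, hrk, ← Module.rankAtStalk_eq_of_equiv eβ,
        Module.rankAtStalk_eq_finrank_of_free]
      simp
    · intro q
      haveI : Nontrivial S := q.nontrivial
      rw [← Module.rankAtStalk_eq_of_equiv eβ, Module.rankAtStalk_eq_finrank_of_free]
      simpa using hr
  exact ⟨((AlgEquiv.ofBijective (splitHom ι) hbijρ).trans (eβ.symm.conjAlgEquiv S)).trans
    LinearMap.toMatrixAlgEquiv'⟩

end main

end Groth.Agent.Lib.Helper3.RegSplit
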