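import Mathlib.Algebra.Module.FinitePresentation
import Mathlib.RingTheory.LocalRing.Module
import Mathlib.RingTheory.Localization.BaseChange
import Mathlib.RingTheory.LocalRing.ResidueField.Ideal
import Mathlib.RingTheory.AdjoinRoot
import Mathlib.RingTheory.Spectrum.Prime.FreeLocus
import Groth.Agent.Lib.Helper3.RedCharpoly
import Groth.Agent.Lib.Helper3.RegLift
import Groth.Agent.Lib.Helper3.RegSplit
import Groth.Agent.Lib.Helper3.CycMat
import Groth.Agent.Lib.Helper3.AzumayaBaseChange

/-!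
# Local splitting of Azumaya algebras (helper3)

If the fibre of an Azumaya algebra `A` over `T` at a prime `q` is a matrix algebra, then there is
`g ∉ q` and a monic polynomial `Q` over `T_g` of degree `r` such that `A` is split by
`T_g[X]/(Q)`.
-/

set_option autoImplicit false
universe u v w

open TensorProduct Polynomial

namespace Groth.Agent.Lib.Helper3.LocSplit

section frac

variable {T : Type u} [CommRing T] (q : Ideal T) [q.IsPrime] {M : Type v} [AddCommGroup M] [Module T M]

/-- every element of `κ(q) ⊗ M` becomes a pure tensor `1 ⊗ m` after multiplying by a unit coming from `T` -/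
theorem exists_smul_eq_one_tmul (z : q.ResidueField ⊗[T] M) :
    ∃ (m : M) (t : T), t ∉ q ∧ (algebraMap T q.ResidueField t) • z = 1 ⊗ₜ[T] m := by
  induction z using TensorProduct.induction_on with
  | zero => exact ⟨0, 1, fun h => (Ideal.IsPrime.ne_top inferInstance) (q.eq_top_of_isUnit_mem h isUnit_one), by simp⟩
  | tmul c m =>
    obtain ⟨x, rfl⟩ := IsLocalRing.residue_surjective (R := Localization.AtPrime q) c
    obtain ⟨⟨a, s⟩, rfl⟩ := IsLocalization.mk'_surjective q.primeCompl x
    refine ⟨a • m, s.1, s.2, ?_⟩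
    rw [TensorProduct.smul_tmul', smul_eq_mul]
    have : algebraMap T q.ResidueField s.1 * IsLocalRing.residue (Localization.AtPrime q) (IsLocalization.mk' _ a s) = algebraMap T q.ResidueField a := by
      rw [IsScalarTower.algebraMap_apply T (Localization.AtPrime q) q.ResidueField,
        IsScalarTower.algebraMap_apply T (Localization.AtPrime q) q.ResidueField a]
      change IsLocalRing.residue _ _ * _ = IsLocalRing.residue _ _
      rw [← map_mul, IsLocalization.mk'_spec']
    rw [this, Algebra.algebraMap_eq_smul_one, TensorProduct.smul_tmul]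
  | add z₁ z₂ h₁ h₂ =>
    obtain ⟨m₁, t₁, ht₁, e₁⟩ := h₁
    obtain ⟨m₂, t₂, ht₂, e₂⟩ := h₂
    refine ⟨t₂ • m₁ + t₁ • m₂, t₁ * t₂, fun h => (Ideal.IsPrime.mem_or_mem inferInstance h).elim ht₁ ht₂, ?_⟩
    rw [smul_add, map_mul, mul_smul, smul_comm, e₁, mul_smul, e₂, TensorProduct.tmul_add]
    congr 1
    · rw [Algebra.algebraMap_eq_smul_one, smul_assoc, one_smul, TensorProduct.tmul_smul]
    · rw [Algebra.algebraMap_eq_smul_one, smul_assoc, one_smul, TensorProduct.tmul_smul]

end frac


section lc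

variable {R : Type*} [CommRing R] {M N : Type*} [AddCommGroup M] [Module R M]
  [AddCommGroup N] [Module R N] {ι : Type*} [Fintype ι] [DecidableEq ι]

lemma lc_map (L : M →ₗ[R] N) (w : ι → M) :
    Fintype.linearCombination R (fun i => L (w i)) = L ∘ₗ Fintype.linearCombination R w := by
  ext c
  simp [Fintype.linearCombination_apply]

lemma bijective_lc_equiv (E : M ≃ₗ[R] N) (w : ι → M) :
    Function.Bijective (Fintype.linearCombination R (fun i => E (w i))) ↔
      Function.Bijective (Fintype.linearCombination R w) := by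
  have h := lc_map E.toLinearMap w
  simp only [LinearEquiv.coe_coe] at h
  rw [h, LinearMap.coe_comp, LinearEquiv.coe_coe]
  exact Function.Bijective.of_comp_iff' E.bijective _

lemma bijective_lc_basis (B : Module.Basis ι R M) (L : M →ₗ[R] N) :
    Function.Bijective (Fintype.linearCombination R (fun i => L (B i))) ↔ Function.Bijective L := by
  rw [lc_map L B]
  have : Fintype.linearCombination R (⇑B) = B.equivFun.symm.toLinearMap := by
    ext c
    simp [Fintype.linearCombination_apply, Module.Basis.equivFun_symm_apply]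
  rw [this, LinearMap.coe_comp, LinearEquiv.coe_coe]
  exact Function.Bijective.of_comp_iff _ B.equivFun.symm.bijective

lemma bijective_lc_iff (w : ι → M) :
    Function.Bijective (Fintype.linearCombination R w) ↔
      LinearIndependent R w ∧ Submodule.span R (Set.range w) = ⊤ := by
  have h1 : Function.Injective (Fintype.linearCombination R w) ↔ LinearIndependent R w := by
    rw [Fintype.linearIndependent_iff, injective_iff_map_eq_zero]
    constructor
    · intro h g hg i
      have := h g (by rw [Fintype.linearCombination_apply]; exact hg)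
      rw [this]; rfl
    · intro h g hg
      ext i
      exact h g (by rw [← Fintype.linearCombination_apply]; exact hg) i
  rw [Function.Bijective, ← LinearMap.range_eq_top, Fintype.range_linearCombination, h1]

end lc

section bridge

variable {T : Type u} [CommRing T] {A : Type v} [AddCommGroup A] [Module T A]
  {ι : Type w} [Fintype ι] [DecidableEq ι]

lemma map_bijective_iff_baseChange (S : Submonoid T) {M : Type*} [AddCommGroup M] [Module T M]
    (l : M →ₗ[T] A) :
    Function.Bijective (LocalizedModule.map S l) ↔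
      Function.Bijective (l.baseChange (Localization S)) := by
  have key : ∀ x, LocalizedModule.equivTensorProduct S A (LocalizedModule.map S l x) =
      l.baseChange (Localization S) (LocalizedModule.equivTensorProduct S M x) := by
    intro x
    induction x using LocalizedModule.induction_on with
    | h m s =>
      rw [LocalizedModule.map_mk, LocalizedModule.equivTensorProduct_apply_mk,
        LocalizedModule.equivTensorProduct_apply_mk, LinearMap.baseChange_tmul]
  have h2 : (l.baseChange (Localization S) : _ → _) =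
      (LocalizedModule.equivTensorProduct S A) ∘ (LocalizedModule.map S l) ∘
        (LocalizedModule.equivTensorProduct S M).symm := by
    ext y
    simp only [Function.comp_apply]
    rw [key, LinearEquiv.apply_symm_apply]
  rw [h2]
  rw [Function.Bijective.of_comp_iff' (LocalizedModule.equivTensorProduct S A).bijective,
    Function.Bijective.of_comp_iff _ (LocalizedModule.equivTensorProduct S M).symm.bijective]

lemma map_bijective_iff (S : Submonoid T) (v : ι → A) :
    Function.Bijective (LocalizedModule.map S (Fintype.linearCombination T v)) ↔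
      Function.Bijective (Fintype.linearCombination (Localization S)
        (fun i => (1 : Localization S) ⊗ₜ[T] v i)) := by
  rw [map_bijective_iff_baseChange]
  rw [← bijective_lc_basis ((Pi.basisFun T ι).baseChange (Localization S))
    ((Fintype.linearCombination T v).baseChange (Localization S))]
  have : (fun i => ((Fintype.linearCombination T v).baseChange (Localization S))
      (((Pi.basisFun T ι).baseChange (Localization S)) i)) =
      fun i => (1 : Localization S) ⊗ₜ[T] v i := by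
    ext1 i
    rw [Module.Basis.baseChange_apply, LinearMap.baseChange_tmul, Pi.basisFun_apply,
      Fintype.linearCombination_apply_single, one_smul]
  rw [this]

theorem exists_bijective_spread [Module.Finite T A] [Module.FinitePresentation T A]
    (q : Ideal T) [q.IsPrime] (v : ι → A)
    (hv : Function.Bijective (Fintype.linearCombination (Localization.AtPrime q)
      (fun i => (1 : Localization.AtPrime q) ⊗ₜ[T] v i))) :
    ∃ g₀, g₀ ∉ q ∧ ∀ g, g₀ ∣ g → Function.Bijective (Fintype.linearCombination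
      (Localization.Away g) (fun i => (1 : Localization.Away g) ⊗ₜ[T] v i)) := by
  have h1 := (map_bijective_iff q.primeCompl v).mpr hv
  obtain ⟨g₀, hg₀, h⟩ := exists_bijective_map_powers q.primeCompl
    (LocalizedModule.mkLinearMap q.primeCompl (ι → T))
    (LocalizedModule.mkLinearMap q.primeCompl A) (Fintype.linearCombination T v) (by exact h1)
  exact ⟨g₀, hg₀, fun g hg => (map_bijective_iff (Submonoid.powers g) v).mp (h g hg)⟩

end bridge


section rel

variable {T : Type u} [CommRing T] {A : Type v} [Ring A] [Algebra T A] (q : Ideal T) [q.IsPrime]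

lemma one_tmul_pow (T' : Type*) [CommRing T'] [Algebra T T'] (ξ : A) (i : ℕ) :
    ((1 : T') ⊗ₜ[T] ξ) ^ i = (1 : T') ⊗ₜ[T] (ξ ^ i) := by
  rw [Algebra.TensorProduct.tmul_pow, one_pow]

/-- a monic relation over the local ring descends to an equation in `A` with denominators -/
theorem exists_rel (ξ : A) (r : ℕ)
    (h : ((1 : Localization.AtPrime q) ⊗ₜ[T] ξ) ^ r ∈ Submodule.span (Localization.AtPrime q)
      (Set.range fun i : Fin r => ((1 : Localization.AtPrime q) ⊗ₜ[T] ξ) ^ (i : ℕ))) :
    ∃ (s s' : T) (α : Fin r → T), s ∉ q ∧ s' ∉ q ∧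
      s' • (s • ξ ^ r - ∑ i, α i • ξ ^ (i : ℕ)) = 0 := by
  obtain ⟨a, ha⟩ := (Submodule.mem_span_range_iff_exists_fun _).mp h
  obtain ⟨s, hs⟩ := IsLocalization.exist_integer_multiples q.primeCompl (Finset.univ : Finset (Fin r)) a
  choose α hα using fun i => hs i (Finset.mem_univ i)
  have hloc : IsLocalizedModule q.primeCompl (TensorProduct.mk T (Localization.AtPrime q) A 1) :=
    (isLocalizedModule_iff_isBaseChange q.primeCompl (Localization.AtPrime q) _).mpr
      (TensorProduct.isBaseChange T A (Localization.AtPrime q))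
  have hz : TensorProduct.mk T (Localization.AtPrime q) A 1
      ((s : T) • ξ ^ r - ∑ i, α i • ξ ^ (i : ℕ)) = 0 := by
    rw [map_sub, map_sum, TensorProduct.mk_apply, TensorProduct.tmul_smul, ← one_tmul_pow, ← ha,
      Finset.smul_sum, sub_eq_zero]
    apply Finset.sum_congr rfl
    intro i _
    rw [TensorProduct.mk_apply, TensorProduct.tmul_smul, ← one_tmul_pow, ← algebraMap_smul (Localization.AtPrime q) (α i), hα i,
      smul_assoc]
  obtain ⟨s', hs'⟩ := (IsLocalizedModule.eq_zero_iff q.primeCompl _).mp hz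
  exact ⟨s, s', α, s.2, s'.2, hs'⟩

/-- the relation gives a monic polynomial over every `T`-algebra in which `s`, `s'` are invertible -/
theorem exists_monic_of_rel (ξ : A) (r : ℕ) (s s' : T) (α : Fin r → T)
    (h : s' • (s • ξ ^ r - ∑ i, α i • ξ ^ (i : ℕ)) = 0)
    (T' : Type*) [CommRing T'] [Nontrivial T'] [Algebra T T'] (hs : IsUnit (algebraMap T T' s))
    (hs' : IsUnit (algebraMap T T' s')) :
    ∃ Q : T'[X], Q.Monic ∧ Q.natDegree = r ∧
      Polynomial.aeval ((1 : T') ⊗ₜ[T] ξ) Q = 0 := by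
  obtain ⟨u, hu⟩ := hs
  obtain ⟨u', hu'⟩ := hs'
  set P : T'[X] := ∑ i : Fin r, C ((↑u⁻¹ : T') * algebraMap T T' (α i)) * X ^ (i : ℕ) with hP
  have hlt : P.degree < (X ^ r : T'[X]).degree := by
    rw [Polynomial.degree_X_pow]
    exact Polynomial.degree_sum_fin_lt _
  refine ⟨X ^ r - P, (Polynomial.monic_X_pow r).sub_of_left hlt, ?_, ?_⟩
  · apply Polynomial.natDegree_eq_of_degree_eq_some
    rw [Polynomial.degree_sub_eq_left_of_degree_lt hlt, Polynomial.degree_X_pow]
  · have h1 : (1 : T') ⊗ₜ[T] (s' • (s • ξ ^ r - ∑ i, α i • ξ ^ (i : ℕ))) = 0 := by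
      rw [h, TensorProduct.tmul_zero]
    rw [TensorProduct.tmul_smul, ← algebraMap_smul T' s', ← hu'] at h1
    have h2 := (u'.isUnit.smul_eq_zero).mp h1
    rw [TensorProduct.tmul_sub, TensorProduct.tmul_smul, TensorProduct.tmul_sum,
      ← algebraMap_smul T' s, ← hu] at h2
    have h3 : ((↑u⁻¹ : T') • ((↑u : T') • ((1 : T') ⊗ₜ[T] (ξ ^ r)) -
        ∑ i, (1 : T') ⊗ₜ[T] (α i • ξ ^ (i : ℕ)))) = 0 := by rw [h2, smul_zero]
    rw [smul_sub, smul_smul, Units.inv_mul, one_smul, Finset.smul_sum] at h3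
    rw [map_sub, map_pow, Polynomial.aeval_X, hP, map_sum, one_tmul_pow, ← h3]
    congr 1
    apply Finset.sum_congr rfl
    intro i _
    rw [map_mul, Polynomial.aeval_C, map_pow, Polynomial.aeval_X, one_tmul_pow,
      TensorProduct.tmul_smul, ← algebraMap_smul T' (α i), smul_smul, Algebra.algebraMap_eq_smul_one ((↑u⁻¹ : T') * _),
      smul_mul_assoc, one_mul]

end rel


section main

variable {T : Type u} [CommRing T] {A : Type u} [Ring A] [Algebra T A] [IsAzumaya T A]
  (q : Ideal T) [q.IsPrime]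

local notation "Kq" => Ideal.ResidueField q
local notation "Λq" => Localization.AtPrime q

open CycMat in
theorem local_facts (r : ℕ) (hr : 0 < r)
    (e : q.ResidueField ⊗[T] A ≃ₐ[q.ResidueField] Matrix (Fin r) (Fin r) q.ResidueField)
    (c : Fin r → q.ResidueField) (ξ : A) (u : q.ResidueField) (hu : u ≠ 0)
    (heξ : e (1 ⊗ₜ ξ) = u • N c) (b : Fin r → A) (vb : Fin r → q.ResidueField)
    (hvb : ∀ j, vb j ≠ 0)
    (heb : ∀ j, e (1 ⊗ₜ b j) = vb j • Matrix.single j (⟨0, hr⟩ : Fin r) (1 : q.ResidueField)) :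
    ((1 : Localization.AtPrime q) ⊗ₜ[T] ξ) ^ r ∈ Submodule.span (Localization.AtPrime q)
      (Set.range fun i : Fin r => ((1 : Localization.AtPrime q) ⊗ₜ[T] ξ) ^ (i : ℕ)) ∧
    Function.Bijective (Fintype.linearCombination (Localization.AtPrime q)
      (fun ji : Fin r × Fin r => (1 : Localization.AtPrime q) ⊗ₜ[T] (b ji.1 * ξ ^ (ji.2 : ℕ)))) := by
  classical
  haveI : Module.Free Λq (Λq ⊗[T] A) := Module.free_of_flat_of_isLocalRing
  let e' : Kq ⊗[Λq] (Λq ⊗[T] A) ≃ₐ[Kq] Matrix (Fin r) (Fin r) Kq :=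
    (RedChar.cancelBC T Λq Kq A).trans e
  have he' : ∀ a : A, e' (1 ⊗ₜ (1 ⊗ₜ a)) = e (1 ⊗ₜ a) := by
    intro a
    change e (RedChar.cancelBC T Λq Kq A (1 ⊗ₜ (1 ⊗ₜ a))) = _
    rw [RedChar.cancelBC_tmul, one_smul]
  have hpow : ∀ i : ℕ, e' (((1 : Kq) ⊗ₜ[Λq] ((1 : Λq) ⊗ₜ[T] ξ)) ^ i) = (u • N c) ^ i := by
    intro i
    rw [map_pow, he', heξ]
  -- linear independence
  have hli : LinearIndependent Kq (fun i : Fin r => ((1 : Kq) ⊗ₜ[Λq] ((1 : Λq) ⊗ₜ[T] ξ)) ^ (i : ℕ)) := by
    have h0 := linearIndependent_pow_smul hr c u hu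
    have h1 := h0.map' e'.symm.toLinearEquiv.toLinearMap (LinearMap.ker_eq_bot.mpr e'.symm.injective)
    have h2 : (fun i : Fin r => ((1 : Kq) ⊗ₜ[Λq] ((1 : Λq) ⊗ₜ[T] ξ)) ^ (i : ℕ)) =
        (⇑e'.symm.toLinearEquiv.toLinearMap ∘ fun i : Fin r => (u • N c) ^ (i : ℕ)) := by
      ext1 i
      simp only [Function.comp_apply]
      rw [← hpow]
      exact (e'.symm_apply_apply _).symm
    rw [h2]
    exact h1
  have hcent : ∀ z : Kq ⊗[Λq] (Λq ⊗[T] A), (1 ⊗ₜ (1 ⊗ₜ ξ)) * z = z * (1 ⊗ₜ (1 ⊗ₜ ξ)) →
      z ∈ Submodule.span Kq (Set.range fun i : Fin r => ((1 : Kq) ⊗ₜ[Λq] ((1 : Λq) ⊗ₜ[T] ξ)) ^ (i : ℕ)) := by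
    intro z hz
    have h1 : (u • N c) * e' z = e' z * (u • N c) := by
      rw [← heξ, ← he', ← map_mul, hz, map_mul]
    have h2 := mem_span_of_commute_smul hr c u hu (e' z) h1
    have h3 := Submodule.apply_mem_span_image_of_mem_span e'.symm.toLinearEquiv.toLinearMap h2
    rw [← Set.range_comp] at h3
    have h4 : (fun i : Fin r => ((1 : Kq) ⊗ₜ[Λq] ((1 : Λq) ⊗ₜ[T] ξ)) ^ (i : ℕ)) =
        (⇑e'.symm.toLinearEquiv.toLinearMap ∘ fun i : Fin r => (u • N c) ^ (i : ℕ)) := by
      ext1 i
      simp only [Function.comp_apply]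
      rw [← hpow]
      exact (e'.symm_apply_apply _).symm
    rw [h4]
    have h5 : e'.symm.toLinearEquiv.toLinearMap (e' z) = z := e'.symm_apply_apply z
    rw [← h5]
    exact h3
  obtain ⟨-, hmem⟩ := RegLift.regular_lift (Λ := Λq) (A := Λq ⊗[T] A) ((1 : Λq) ⊗ₜ[T] ξ) r hli hcent
  refine ⟨hmem, ?_⟩
  -- bijectivity over the local ring
  have hW : ∀ ji : Fin r × Fin r, e' (1 ⊗ₜ ((1 : Λq) ⊗ₜ[T] (b ji.1 * ξ ^ (ji.2 : ℕ)))) =
      (vb ji.1 • Matrix.single ji.1 (⟨0, hr⟩ : Fin r) (1 : Kq)) * (u • N c) ^ (ji.2 : ℕ) := by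
    intro ji
    have h1 : (1 : Kq) ⊗ₜ[T] (b ji.1 * ξ ^ (ji.2 : ℕ)) =
        ((1 : Kq) ⊗ₜ[T] b ji.1) * ((1 : Kq) ⊗ₜ[T] ξ) ^ (ji.2 : ℕ) := by
      rw [one_tmul_pow, Algebra.TensorProduct.tmul_mul_tmul, one_mul]
    rw [he', h1, map_mul, heb, map_pow, heξ]
  have hbijK : Function.Bijective (Fintype.linearCombination Kq
      (fun ji : Fin r × Fin r => (1 : Kq) ⊗ₜ[Λq] ((1 : Λq) ⊗ₜ[T] (b ji.1 * ξ ^ (ji.2 : ℕ))))) := by
    rw [← bijective_lc_equiv e'.toLinearEquiv]
    have : (fun ji : Fin r × Fin r => e'.toLinearEquiv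
        ((1 : Kq) ⊗ₜ[Λq] ((1 : Λq) ⊗ₜ[T] (b ji.1 * ξ ^ (ji.2 : ℕ))))) =
        fun ji : Fin r × Fin r =>
          (vb ji.1 • Matrix.single ji.1 (⟨0, hr⟩ : Fin r) (1 : Kq)) * (u • N c) ^ (ji.2 : ℕ) := by
      ext1 ji
      exact hW ji
    rw [this]
    exact bijective_linearCombination_smul hr c u hu vb hvb
  obtain ⟨hliK, hspK⟩ := (bijective_lc_iff _).mp hbijK
  rw [bijective_lc_iff]
  refine ⟨Module.IsLocalRing.linearIndependent_of_flat _ hliK, ?_⟩
  exact IsLocalRing.span_eq_top_of_tmul_eq_basis _ (Module.Basis.mk hliK hspK.ge) (fun i => by simp)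

open CycMat in
theorem exists_local_split (r : ℕ) (hr : 0 < r)
    (e : q.ResidueField ⊗[T] A ≃ₐ[q.ResidueField] Matrix (Fin r) (Fin r) q.ResidueField)
    (c : Fin r → q.ResidueField) :
    ∃ g, g ∉ q ∧ ∃ (ξ : A) (u : q.ResidueField), u ≠ 0 ∧ e (1 ⊗ₜ ξ) = u • N c ∧
      ∃ Q : (Localization.Away g)[X], Q.Monic ∧ Q.natDegree = r ∧
      Polynomial.aeval ((1 : Localization.Away g) ⊗ₜ[T] ξ) Q = 0 ∧
      Nonempty (AdjoinRoot Q ⊗[T] A ≃ₐ[AdjoinRoot Q] Matrix (Fin r) (Fin r) (AdjoinRoot Q)) := by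
  classical
  have hne : ∀ t : T, t ∉ q → algebraMap T Kq t ≠ 0 := fun t ht h =>
    ht ((Ideal.algebraMap_residueField_eq_zero).mp h)
  -- the lifts
  obtain ⟨ξ, t, ht, hξ⟩ := exists_smul_eq_one_tmul q (e.symm (N c))
  have heξ : e (1 ⊗ₜ ξ) = algebraMap T Kq t • N c := by
    rw [← hξ, map_smul, AlgEquiv.apply_symm_apply]
  choose b tb htb hb using fun j : Fin r =>
    exists_smul_eq_one_tmul q (e.symm (Matrix.single j (⟨0, hr⟩ : Fin r) (1 : Kq)))
  have heb : ∀ j, e (1 ⊗ₜ b j) =
      algebraMap T Kq (tb j) • Matrix.single j (⟨0, hr⟩ : Fin r) (1 : Kq) := by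
    intro j
    rw [← hb j, map_smul, AlgEquiv.apply_symm_apply]
  obtain ⟨hmem, hbijΛ⟩ := local_facts q r hr e c ξ _ (hne t ht) heξ b _ (fun j => hne _ (htb j)) heb
  haveI : Module.FinitePresentation T A := Module.finitePresentation_of_projective T A
  obtain ⟨g₀, hg₀, hspread⟩ := exists_bijective_spread q _ hbijΛ
  obtain ⟨s, s', α, hs, hs', hrel⟩ := exists_rel q ξ r hmem
  have hgq : g₀ * s * s' ∉ q := fun h =>
    ((Ideal.IsPrime.mem_or_mem inferInstance h).elim
      (fun h' => (Ideal.IsPrime.mem_or_mem inferInstance h').elim hg₀ hs) hs')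
  refine ⟨g₀ * s * s', hgq, ξ, _, hne t ht, heξ, ?_⟩
  set g := g₀ * s * s' with hg
  have hbij := hspread g ⟨s * s', by rw [hg, mul_assoc]⟩
  have hug : IsUnit (algebraMap T (Localization.Away g) g) := IsLocalization.Away.algebraMap_isUnit g
  have hus : IsUnit (algebraMap T (Localization.Away g) s) :=
    isUnit_of_dvd_unit (map_dvd _ ⟨g₀ * s', by rw [hg]; ring⟩) hug
  have hus' : IsUnit (algebraMap T (Localization.Away g) s') :=
    isUnit_of_dvd_unit (map_dvd _ ⟨g₀ * s, by rw [hg]; ring⟩) hug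
  haveI : Nontrivial (Localization.Away g) := by
    let φ : Localization.Away g →+* Kq := IsLocalization.Away.lift g
      (g := algebraMap T Kq) (IsUnit.mk0 _ (hne g hgq))
    exact φ.domain_nontrivial
  obtain ⟨Q, hQ, hdeg, hQξ⟩ := exists_monic_of_rel ξ r s s' α hrel (Localization.Away g) hus hus'
  refine ⟨Q, hQ, hdeg, hQξ, ?_⟩
  haveI : IsAzumaya (Localization.Away g) (Localization.Away g ⊗[T] A) :=
    Az.isAzumaya_baseChange T (Localization.Away g) A
  have hbij' : Function.Bijective (Fintype.linearCombination (Localization.Away g)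
      (fun ji : Fin r × Fin r => ((1 : Localization.Away g) ⊗ₜ[T] b ji.1) *
        ((1 : Localization.Away g) ⊗ₜ[T] ξ) ^ (ji.2 : ℕ))) := by
    have h1 : (fun ji : Fin r × Fin r => ((1 : Localization.Away g) ⊗ₜ[T] b ji.1) *
        ((1 : Localization.Away g) ⊗ₜ[T] ξ) ^ (ji.2 : ℕ)) =
        fun ji : Fin r × Fin r => (1 : Localization.Away g) ⊗ₜ[T] (b ji.1 * ξ ^ (ji.2 : ℕ)) := by
      ext1 ji
      rw [one_tmul_pow, Algebra.TensorProduct.tmul_mul_tmul, one_mul]
    rw [h1]
    exact hbij
  have hrk : ∀ p : PrimeSpectrum (Localization.Away g),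
      Module.rankAtStalk (Localization.Away g ⊗[T] A) p = r ^ 2 := by
    intro p
    have e1 := LinearEquiv.ofBijective _ hbij'
    haveI : Module.Free (Localization.Away g) (Localization.Away g ⊗[T] A) :=
      Module.Free.of_equiv e1
    rw [Module.rankAtStalk_eq_finrank_of_free, Pi.natCast_apply, ← e1.finrank_eq]
    simp [pow_two]
  obtain ⟨φ⟩ := RegSplit.exists_split (T := Localization.Away g)
    (A := Localization.Away g ⊗[T] A) r hr hrk Q hQ hdeg ((1 : Localization.Away g) ⊗ₜ[T] ξ) hQξ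
    (fun j => (1 : Localization.Away g) ⊗ₜ[T] b j) hbij'
  exact ⟨(RedChar.cancelBC T (Localization.Away g) (AdjoinRoot Q) A).symm.trans φ⟩

end main


section sep

variable {T : Type u} [CommRing T] {A : Type u} [Ring A] [Algebra T A] [IsAzumaya T A]
  (q : Ideal T) [q.IsPrime]

open CycMat in
theorem exists_local_split_sep (r : ℕ) (hr : 0 < r)
    (e : q.ResidueField ⊗[T] A ≃ₐ[q.ResidueField] Matrix (Fin r) (Fin r) q.ResidueField) :
    ∃ g, g ∉ q ∧ ∃ Q : (Localization.Away g)[X], Q.Monic ∧ Q.natDegree = r ∧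
      (∃ φK : Localization.Away g →+* q.ResidueField,
        φK.comp (algebraMap T (Localization.Away g)) = algebraMap T q.ResidueField ∧
        (Q.map φK).Separable) ∧
      Nonempty (AdjoinRoot Q ⊗[T] A ≃ₐ[AdjoinRoot Q] Matrix (Fin r) (Fin r) (AdjoinRoot Q)) := by
  classical
  obtain ⟨c, hc⟩ := exists_separable_companion q.ResidueField r hr
  obtain ⟨g, hg, ξ, u, hu, heξ, Q, hQ, hdeg, hQξ, hiso⟩ := exists_local_split q r hr e c
  obtain ⟨P, hPm, hPd, hPM, hPsep⟩ := hc u hu
  refine ⟨g, hg, Q, hQ, hdeg, ?_, hiso⟩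
  have hunit : IsUnit (algebraMap T q.ResidueField g) :=
    IsUnit.mk0 _ (fun h => hg ((Ideal.algebraMap_residueField_eq_zero).mp h))
  let φK : Localization.Away g →+* q.ResidueField := IsLocalization.Away.lift g hunit
  have hφK : ∀ x, φK (algebraMap T (Localization.Away g) x) = algebraMap T q.ResidueField x :=
    fun x => IsLocalization.Away.lift_eq g hunit x
  refine ⟨φK, RingHom.ext hφK, ?_⟩
  let φKa : Localization.Away g →ₐ[T] q.ResidueField := { φK with commutes' := hφK }
  let ψ : Localization.Away g ⊗[T] A →+* Matrix (Fin r) (Fin r) q.ResidueField :=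
    (e : q.ResidueField ⊗[T] A →+* _).comp
      (Algebra.TensorProduct.map φKa (AlgHom.id T A) : _ →+* _)
  have hψ : ∀ (x : Localization.Away g) (a : A), ψ (x ⊗ₜ a) = e (φK x ⊗ₜ a) := fun x a => rfl
  have hcomm : (algebraMap q.ResidueField (Matrix (Fin r) (Fin r) q.ResidueField)).comp φK =
      ψ.comp (algebraMap (Localization.Away g) (Localization.Away g ⊗[T] A)) := by
    ext1 x
    rw [RingHom.comp_apply, RingHom.comp_apply, Algebra.TensorProduct.algebraMap_apply, hψ,
      ← e.commutes, Algebra.TensorProduct.algebraMap_apply]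
    rfl
  have h1 := Polynomial.map_aeval_eq_aeval_map hcomm Q ((1 : Localization.Away g) ⊗ₜ[T] ξ)
  rw [hQξ, map_zero, hψ, map_one, heξ] at h1
  have hli := linearIndependent_pow_smul hr c u hu
  have hEq : Q.map φK = P :=
    monic_unique (u • N c) hli _ _ (hQ.map _) hPm (by rw [hQ.natDegree_map, hdeg]) hPd h1.symm hPM
  rw [hEq]
  exact hPsep

end sep

end Groth.Agent.Lib.Helper3.LocSplit
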