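import Groth.Agent.Lib.Helper3.AzumayaFamily
import Groth.Agent.S5719
import Mathlib.RingTheory.Spectrum.Prime.FreeLocus
import Mathlib.RingTheory.SimpleRing.Basic
import Mathlib.LinearAlgebra.FiniteDimensional.Lemmas

/-!
# Split criterion for Azumaya algebras (helper3)

`bijective_of_rank`: if `C` is an Azumaya `T`-algebra acting on a finite projective `T`-module `P`
with `rank C = (rank P)^2` and `rank P > 0` everywhere, then `C → End_T(P)` is bijective.
-/

set_option autoImplicit false
universe u v w

open TensorProduct

namespace Groth.Agent.Lib.Helper3.SplitCrit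

open Groth.Agent.Lib.Helper3.Az

variable {T : Type u} [CommRing T] {C : Type v} [Ring C] [Algebra T C] [IsAzumaya T C]
  {P : Type w} [AddCommGroup P] [Module T P] [Module.Finite T P] [Module.Projective T P]

/-- Split criterion: an Azumaya algebra acting on a finite projective module of the right rank
is its full endomorphism algebra. -/
theorem bijective_of_rank (ρ : C →ₐ[T] Module.End T P)
    (hrk : ∀ q : PrimeSpectrum T, Module.rankAtStalk C q = (Module.rankAtStalk P q) ^ 2)
    (hpos : ∀ q : PrimeSpectrum T, 0 < Module.rankAtStalk P q) : Function.Bijective ρ := by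
  haveI : Module.Finite T (Module.End T P) := finite_end T P
  haveI : Module.Projective T (Module.End T P) := projective_end T P
  have hbij : Function.Bijective ρ.toLinearMap := by
    apply bijective_of_forall_prime
    intro q hq
    refine ⟨q.ResidueField, inferInstance, inferInstance, ⟨⟨⊥, Ideal.isPrime_bot⟩, ?_⟩, ?_⟩
    · change Ideal.comap (algebraMap T q.ResidueField) ⊥ = q
      rw [← RingHom.ker_eq_comap_bot, Ideal.ker_algebraMap_residueField]
    set κ := q.ResidueField
    haveI : IsAzumaya κ (κ ⊗[T] C) := isAzumaya_baseChange T κ C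
    haveI : IsSimpleRing (κ ⊗[T] C) := Groth.Agent.S5719.isSimpleRing_of_isAzumaya_field κ _
    let Θ : κ ⊗[T] C →ₐ[κ] Module.End κ (κ ⊗[T] P) :=
      (LinearMap.tensorProductEnd T κ P).comp (Algebra.TensorProduct.map (AlgHom.id κ κ) ρ)
    have hΘ : ∀ x, Θ x = bcEnd T κ P (ρ.toLinearMap.baseChange κ x) := by
      intro x
      induction x using TensorProduct.induction_on with
      | zero => simp
      | tmul s c =>
        simp only [Θ, AlgHom.comp_apply, Algebra.TensorProduct.map_tmul, AlgHom.id_apply,
          LinearMap.baseChange_tmul, bcEnd_tmul, AlgHom.toLinearMap_apply]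
        ext p
        simp [LinearMap.tensorProductEnd, LinearMap.tensorProduct, TensorProduct.smul_tmul']
      | add x y hx hy => rw [map_add, map_add, map_add, hx, hy]
    have hrkq := Module.rankAtStalk_eq (M := P) ⟨q, hq⟩
    have hposq := hpos ⟨q, hq⟩
    have hfin : Module.finrank κ (κ ⊗[T] P) = Module.rankAtStalk P ⟨q, hq⟩ := hrkq.symm
    haveI : Nontrivial (κ ⊗[T] P) := by
      apply Module.nontrivial_of_finrank_pos (R := κ)
      rw [hfin]; exact hposq
    haveI : Nontrivial (Module.End κ (κ ⊗[T] P)) := inferInstance
    have hinj : Function.Injective Θ := RingHom.injective (Θ : κ ⊗[T] C →+* Module.End κ (κ ⊗[T] P))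
    have hdim : Module.finrank κ (κ ⊗[T] C) = Module.finrank κ (Module.End κ (κ ⊗[T] P)) := by
      have h1 := Module.rankAtStalk_eq (M := C) ⟨q, hq⟩
      have h1' : Module.finrank κ (κ ⊗[T] C) = Module.rankAtStalk C ⟨q, hq⟩ := h1.symm
      rw [h1', hrk, Module.finrank_linearMap, hfin, sq]
    have hΘbij : Function.Bijective Θ := by
      refine ⟨hinj, ?_⟩
      have hinj' : Function.Injective Θ.toLinearMap := hinj
      haveI : FiniteDimensional κ (κ ⊗[T] C) := inferInstance
      haveI : FiniteDimensional κ (κ ⊗[T] P) := inferInstance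
      haveI : FiniteDimensional κ (Module.End κ (κ ⊗[T] P)) := inferInstance
      have := @LinearMap.injective_iff_surjective_of_finrank_eq_finrank κ (κ ⊗[T] C) _ _ _
        (Module.End κ (κ ⊗[T] P)) _ _ _ _ hdim Θ.toLinearMap
      exact this.mp hinj'
    have hcomp : Function.Bijective (bcEnd T κ P ∘ ρ.toLinearMap.baseChange κ) := by
      have : (bcEnd T κ P ∘ ρ.toLinearMap.baseChange κ) = Θ := funext fun x => (hΘ x).symm
      rw [this]
      exact hΘbij
    exact (Function.Bijective.of_comp_iff' (bcEnd_bijective T κ P) _).mp hcomp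
  exact hbij

end Groth.Agent.Lib.Helper3.SplitCrit
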