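import Mathlib.RingTheory.Flat.FaithfullyFlat.Algebra
import Mathlib.RingTheory.Flat.Stability
import Mathlib.RingTheory.Flat.Localization
import Mathlib.RingTheory.Spectrum.Prime.FreeLocus
import Mathlib.RingTheory.AdjoinRoot
import Mathlib.LinearAlgebra.Matrix.ToLin
import Groth.Agent.Lib.Helper3.SplitCrit
import Groth.Agent.Lib.Helper3.AzumayaBaseChange
import Groth.Agent.Lib.Helper3.FiniteSplit
import Groth.Agent.Lib.Helper3.LocSplit

/-!
# Azumaya algebras are split by faithfully flat extensions (helper3)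

* `exists_local_finite_free_split`: near each prime, an Azumaya algebra is split by a finite free
  extension of a principal localisation.
* `exists_faithfullyFlat_split`: an Azumaya algebra of constant rank `n²` is split by a faithfully
  flat extension.
-/

set_option autoImplicit false
universe u v w

open TensorProduct Polynomial

namespace Groth.Agent.Lib.Helper3.AzSplit


lemma nontrivial_adjoinRoot {T : Type*} [CommRing T] [Nontrivial T] (Q : T[X]) (hQ : Q.Monic)
    (hdeg : 0 < Q.natDegree) : Nontrivial (AdjoinRoot Q) := by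
  have h := (AdjoinRoot.powerBasis' hQ).basis.linearIndependent.ne_zero
    (⟨0, by rw [AdjoinRoot.powerBasis'_dim]; exact hdeg⟩ : Fin (AdjoinRoot.powerBasis' hQ).dim)
  exact ⟨⟨_, 0, h⟩⟩

section stage3

variable (R : Type u) [CommRing R] (A : Type u) [Ring A] [Algebra R A] [IsAzumaya R A]
  (p : Ideal R) [p.IsPrime]

theorem exists_local_finite_free_split :
    ∃ f : R, f ∉ p ∧ ∃ (S : Type u) (_ : CommRing S) (_ : Algebra R S)
      (_ : Algebra (Localization.Away f) S) (_ : IsScalarTower R (Localization.Away f) S),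
      Module.Finite (Localization.Away f) S ∧ Module.Free (Localization.Away f) S ∧
      Nontrivial S ∧
      ∃ r : ℕ, 0 < r ∧ Nonempty (S ⊗[R] A ≃ₐ[S] Matrix (Fin r) (Fin r) S) := by
  classical
  obtain ⟨F, hF, hFdeg, -, p₁, hp₁, hnorm, r, hr, ⟨e₁⟩⟩ :=
    FiniteSplit.exists_finite_free_residue_split R A p
  haveI : IsAzumaya (AdjoinRoot F) (AdjoinRoot F ⊗[R] A) := Az.isAzumaya_baseChange R (AdjoinRoot F) A
  obtain ⟨g, hg, ξ, u, hu, -, Q, hQ, hQdeg, -, ⟨φ⟩⟩ :=
    LocSplit.exists_local_split (T := AdjoinRoot F) (A := AdjoinRoot F ⊗[R] A) p₁ r hr e₁ 0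
  obtain ⟨f, hf, hdvd⟩ := hnorm g hg
  refine ⟨f, hf, ?_⟩
  haveI : Nontrivial (Localization.Away f) := by
    let φ : Localization.Away f →+* p.ResidueField := IsLocalization.Away.lift f
      (g := algebraMap R p.ResidueField)
      (IsUnit.mk0 _ (fun h => hf ((Ideal.algebraMap_residueField_eq_zero).mp h)))
    exact φ.domain_nontrivial
  set F' : (Localization.Away f)[X] := F.map (algebraMap R (Localization.Away f)) with hF'
  have hF'm : F'.Monic := hF.map _
  have hF'deg : 0 < F'.natDegree := by rw [hF', hF.natDegree_map]; exact hFdeg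
  let map₁ : AdjoinRoot F →ₐ[R] AdjoinRoot F' :=
    AdjoinRoot.mapAlgHom (Algebra.ofId R (Localization.Away f)) F F' dvd_rfl
  letI : Algebra (AdjoinRoot F) (AdjoinRoot F') := map₁.toRingHom.toAlgebra
  haveI : IsScalarTower R (AdjoinRoot F) (AdjoinRoot F') :=
    IsScalarTower.of_algebraMap_eq (fun x => (map₁.commutes x).symm)
  have hunit : IsUnit (algebraMap (AdjoinRoot F) (AdjoinRoot F') g) := by
    apply isUnit_of_dvd_unit (map_dvd _ hdvd)
    rw [← IsScalarTower.algebraMap_apply R (AdjoinRoot F) (AdjoinRoot F'),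
      IsScalarTower.algebraMap_apply R (Localization.Away f) (AdjoinRoot F')]
    exact (IsLocalization.Away.algebraMap_isUnit f).map _
  letI : Algebra (Localization.Away g) (AdjoinRoot F') :=
    (IsLocalization.Away.lift g hunit).toAlgebra
  haveI : IsScalarTower (AdjoinRoot F) (Localization.Away g) (AdjoinRoot F') :=
    IsScalarTower.of_algebraMap_eq (fun x => (IsLocalization.Away.lift_eq g hunit x).symm)
  set Q' : (AdjoinRoot F')[X] := Q.map (algebraMap (Localization.Away g) (AdjoinRoot F')) with hQ'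
  have hQ'm : Q'.Monic := hQ.map _
  haveI : Nontrivial (AdjoinRoot F') := nontrivial_adjoinRoot F' hF'm hF'deg
  have hQ'deg : 0 < Q'.natDegree := by rw [hQ', hQ.natDegree_map, hQdeg]; exact hr
  let mapS : AdjoinRoot Q →ₐ[AdjoinRoot F] AdjoinRoot Q' :=
    AdjoinRoot.mapAlgHom (IsScalarTower.toAlgHom (AdjoinRoot F) (Localization.Away g) (AdjoinRoot F'))
      Q Q' dvd_rfl
  haveI : Module.Finite (Localization.Away f) (AdjoinRoot F') := hF'm.finite_adjoinRoot
  haveI : Module.Free (Localization.Away f) (AdjoinRoot F') := hF'm.free_adjoinRoot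
  haveI : Module.Finite (AdjoinRoot F') (AdjoinRoot Q') := hQ'm.finite_adjoinRoot
  haveI : Module.Free (AdjoinRoot F') (AdjoinRoot Q') := hQ'm.free_adjoinRoot
  refine ⟨AdjoinRoot Q', inferInstance, inferInstance, inferInstance, inferInstance,
    Module.Finite.trans (AdjoinRoot F') _, Module.Free.trans (S := AdjoinRoot F'),
    nontrivial_adjoinRoot Q' hQ'm hQ'deg, r, hr, ?_⟩
  exact ⟨(RedChar.cancelBC R (AdjoinRoot F) (AdjoinRoot Q') A).symm.trans (RedChar.bcSplit φ mapS)⟩

end stage3


section cover

variable {R : Type u} [CommRing R] {ι : Type v} [Finite ι] (f : ι → R)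
  (hf : Ideal.span (Set.range f) = ⊤)
  (S : ι → Type w) [∀ i, CommRing (S i)] [∀ i, Algebra R (S i)]
  [∀ i, Algebra (Localization.Away (f i)) (S i)]
  [∀ i, IsScalarTower R (Localization.Away (f i)) (S i)]
  [∀ i, Module.FaithfullyFlat (Localization.Away (f i)) (S i)]

include hf in
theorem faithfullyFlat_pi : Module.FaithfullyFlat R (∀ i, S i) := by
  classical
  haveI := Fintype.ofFinite ι
  haveI : ∀ i, Module.Flat R (S i) := fun i => Module.Flat.trans R (Localization.Away (f i)) (S i)
  haveI : Module.Flat R (∀ i, S i) :=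
    Module.Flat.of_linearEquiv (DirectSum.linearEquivFunOnFintype R ι S).symm
  apply Module.FaithfullyFlat.of_comap_surjective
  intro q
  -- some `f i ∉ q`
  obtain ⟨i, hi⟩ : ∃ i, f i ∉ q.asIdeal := by
    by_contra h
    push Not at h
    have : Ideal.span (Set.range f) ≤ q.asIdeal := by
      rw [Ideal.span_le]
      rintro _ ⟨i, rfl⟩
      exact h i
    rw [hf, top_le_iff] at this
    exact q.isPrime.ne_top this
  -- the prime of `R_f` over `q`
  have hdisj : Disjoint (Submonoid.powers (f i) : Set R) (q.asIdeal : Set R) := by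
    rw [Set.disjoint_left]
    rintro _ ⟨m, rfl⟩ hm
    exact hi (q.isPrime.mem_of_pow_mem _ hm)
  let q' : PrimeSpectrum (Localization.Away (f i)) :=
    ⟨q.asIdeal.map (algebraMap R (Localization.Away (f i))),
      IsLocalization.isPrime_of_isPrime_disjoint (Submonoid.powers (f i)) _ _ q.isPrime hdisj⟩
  have hq' : q'.asIdeal.comap (algebraMap R (Localization.Away (f i))) = q.asIdeal :=
    IsLocalization.comap_map_of_isPrime_disjoint (Submonoid.powers (f i)) _ q.isPrime hdisj
  obtain ⟨Q, hQ⟩ := PrimeSpectrum.comap_surjective_of_faithfullyFlat (B := S i) q'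
  refine ⟨⟨Q.asIdeal.comap (Pi.evalRingHom S i), inferInstance⟩, ?_⟩
  ext1
  change (Q.asIdeal.comap (Pi.evalRingHom S i)).comap (algebraMap R (∀ i, S i)) = q.asIdeal
  rw [Ideal.comap_comap]
  have h1 : (Pi.evalRingHom S i).comp (algebraMap R (∀ i, S i)) =
      (algebraMap (Localization.Away (f i)) (S i)).comp (algebraMap R (Localization.Away (f i))) := by
    ext x
    simp only [RingHom.comp_apply, Pi.evalRingHom_apply, Pi.algebraMap_apply]
    exact IsScalarTower.algebraMap_apply R (Localization.Away (f i)) (S i) x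
  rw [h1, ← Ideal.comap_comap, ← hq']
  congr 1
  exact congrArg PrimeSpectrum.asIdeal hQ

end cover


section rank

variable {R : Type u} [CommRing R] {A : Type v} [Ring A] [Algebra R A] [Module.Finite R A]
  [Module.Projective R A]

/-- the degree of a splitting is determined by the rank -/
theorem rank_eq_of_split {S : Type w} [CommRing S] [Algebra R S] [Nontrivial S] (n r : ℕ)
    (hrk : ∀ p : PrimeSpectrum R, Module.rankAtStalk A p = n ^ 2)
    (e : S ⊗[R] A ≃ₐ[S] Matrix (Fin r) (Fin r) S) : r = n := by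
  obtain ⟨m, hm⟩ := Ideal.exists_maximal S
  let P : PrimeSpectrum S := ⟨m, hm.isPrime⟩
  have h1 : Module.rankAtStalk (S ⊗[R] A) P = n ^ 2 := by
    rw [Module.rankAtStalk_baseChange, hrk]
  have h2 : Module.rankAtStalk (S ⊗[R] A) P = r ^ 2 := by
    rw [Module.rankAtStalk_eq_of_equiv e.toLinearEquiv, Module.rankAtStalk_eq_finrank_of_free]
    simp [Module.finrank_matrix, pow_two]
  rw [h1] at h2
  exact (Nat.pow_left_injective (by norm_num : 2 ≠ 0) h2).symm

end rank

section piMat

variable {R : Type u} [CommRing R] {A : Type v} [Ring A] [Algebra R A]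
  {ι : Type w} (S : ι → Type*) [∀ i, CommRing (S i)] [∀ i, Algebra R (S i)] (n : ℕ)

/-- assemble algebra homs `A → M_n(S i)` into `A → M_n(Π S i)` -/
noncomputable def piMatHom (g : ∀ i, A →ₐ[R] Matrix (Fin n) (Fin n) (S i)) :
    A →ₐ[R] Matrix (Fin n) (Fin n) (∀ i, S i) where
  toFun a := Matrix.of fun j k => fun i => g i a j k
  map_one' := by
    ext j k i
    simp only [Matrix.of_apply, map_one, Matrix.one_apply]
    split_ifs <;> rfl
  map_mul' a b := by
    ext j k i
    simp only [Matrix.of_apply, map_mul, Matrix.mul_apply, Finset.sum_apply, Pi.mul_apply]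
  map_zero' := by
    ext j k i
    simp
  map_add' a b := by
    ext j k i
    simp
  commutes' x := by
    ext j k i
    simp only [Matrix.of_apply, AlgHom.commutes, Matrix.algebraMap_matrix_apply]
    split_ifs <;> simp

end piMat


section glob

variable (R : Type u) [CommRing R] (A : Type u) [Ring A] [Algebra R A] [IsAzumaya R A]

/-- trivial algebras over a trivial ring are isomorphic -/
noncomputable def algEquivOfSubsingleton (S : Type*) [CommRing S] [Subsingleton S] (B C : Type*)
    [Ring B] [Ring C] [Algebra S B] [Algebra S C] : B ≃ₐ[S] C :=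
  haveI hB : Subsingleton B := by
    refine subsingleton_of_zero_eq_one ?_
    rw [← map_one (algebraMap S B), ← map_zero (algebraMap S B), Subsingleton.elim (1 : S) 0]
  haveI hC : Subsingleton C := by
    refine subsingleton_of_zero_eq_one ?_
    rw [← map_one (algebraMap S C), ← map_zero (algebraMap S C), Subsingleton.elim (1 : S) 0]
  { toFun := fun _ => 0
    invFun := fun _ => 0
    left_inv := fun _ => Subsingleton.elim _ _
    right_inv := fun _ => Subsingleton.elim _ _
    map_mul' := fun _ _ => Subsingleton.elim _ _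
    map_add' := fun _ _ => Subsingleton.elim _ _
    commutes' := fun _ => Subsingleton.elim _ _ }

theorem exists_local_finite_free_split' (n : ℕ)
    (hrk : ∀ p : PrimeSpectrum R, Module.rankAtStalk A p = n ^ 2) (p : PrimeSpectrum R) :
    ∃ f : R, f ∉ p.asIdeal ∧ ∃ (S : Type u) (_ : CommRing S) (_ : Algebra R S)
      (_ : Algebra (Localization.Away f) S) (_ : IsScalarTower R (Localization.Away f) S),
      Module.Finite (Localization.Away f) S ∧ Module.Free (Localization.Away f) S ∧
      Nontrivial S ∧ Nonempty (S ⊗[R] A ≃ₐ[S] Matrix (Fin n) (Fin n) S) := by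
  obtain ⟨f, hf, S, i1, i2, i3, i4, h1, h2, h3, r, hr, ⟨e⟩⟩ :=
    exists_local_finite_free_split R A p.asIdeal
  have := rank_eq_of_split n r hrk e
  subst this
  exact ⟨f, hf, S, i1, i2, i3, i4, h1, h2, h3, ⟨e⟩⟩

theorem exists_faithfullyFlat_split (n : ℕ)
    (hrk : ∀ p : PrimeSpectrum R, Module.rankAtStalk A p = n ^ 2) :
    ∃ (S : Type u) (_ : CommRing S) (_ : Algebra R S), Module.FaithfullyFlat R S ∧
      Nonempty (S ⊗[R] A ≃ₐ[S] Matrix (Fin n) (Fin n) S) := by
  classical
  rcases Nat.eq_zero_or_pos n with hn | hn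
  · -- `R` is trivial
    subst hn
    have hA : Subsingleton A := by
      rw [← Module.rankAtStalk_eq_zero_iff_subsingleton (R := R)]
      ext p
      rw [hrk p]; rfl
    haveI : Subsingleton R := by
      refine subsingleton_of_zero_eq_one ?_
      apply FaithfulSMul.eq_of_smul_eq_smul (α := A)
      intro a
      exact Subsingleton.elim _ _
    exact ⟨R, inferInstance, inferInstance, inferInstance, ⟨algEquivOfSubsingleton R _ _⟩⟩
  choose f hf S iCR iAlg iAlgLoc iTower hfin hfree hnt he using
    exists_local_finite_free_split' R A n hrk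
  letI := iCR
  letI := iAlg
  letI := iAlgLoc
  haveI := iTower
  haveI := hfin
  haveI := hfree
  haveI := hnt
  -- the `f p` generate the unit ideal
  have hspan : Ideal.span (Set.range f) = ⊤ := by
    by_contra h
    obtain ⟨m, hm, hle⟩ := Ideal.exists_le_maximal _ h
    exact hf ⟨m, hm.isPrime⟩ (hle (Ideal.subset_span ⟨_, rfl⟩))
  obtain ⟨s', hs', hs'top⟩ := (Ideal.span_eq_top_iff_finite _).mp hspan
  choose P hP using fun x : s' => hs' x.2
  have hspan' : Ideal.span (Set.range fun i : s' => f (P i)) = ⊤ := by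
    rw [← hs'top]
    congr 1
    ext x
    constructor
    · rintro ⟨i, rfl⟩
      change f (P i) ∈ (s' : Set R)
      rw [hP i]; exact i.2
    · intro hx
      exact ⟨⟨x, hx⟩, hP ⟨x, hx⟩⟩
  haveI hFF := faithfullyFlat_pi (fun i : s' => f (P i)) hspan' (fun i : s' => S (P i))
  refine ⟨∀ i : s', S (P i), inferInstance, inferInstance, hFF, ?_⟩
  set T := ∀ i : s', S (P i) with hT
  let g : ∀ i : s', A →ₐ[R] Matrix (Fin n) (Fin n) (S (P i)) := fun i =>
    ((he (P i)).some.toAlgHom.restrictScalars R).comp Algebra.TensorProduct.includeRight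
  let ρ₀ : A →ₐ[R] Matrix (Fin n) (Fin n) T := piMatHom (fun i : s' => S (P i)) n g
  let ρ : T ⊗[R] A →ₐ[T] Matrix (Fin n) (Fin n) T :=
    Algebra.TensorProduct.lift (Algebra.ofId T _) ρ₀ (fun t a => Algebra.commutes t (ρ₀ a))
  haveI : IsAzumaya T (T ⊗[R] A) := Az.isAzumaya_baseChange R T A
  let ρ' : T ⊗[R] A →ₐ[T] Module.End T (Fin n → T) :=
    (Matrix.toLinAlgEquiv' : Matrix (Fin n) (Fin n) T ≃ₐ[T] _).toAlgHom.comp ρ
  have hbij' : Function.Bijective ρ' := by
    apply SplitCrit.bijective_of_rank ρ'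
    · intro q
      haveI : Nontrivial T := q.nontrivial
      rw [Module.rankAtStalk_baseChange, hrk, Module.rankAtStalk_eq_finrank_of_free]
      simp
    · intro q
      haveI : Nontrivial T := q.nontrivial
      rw [Module.rankAtStalk_eq_finrank_of_free]
      simpa using hn
  have hbij : Function.Bijective ρ := by
    have : (ρ' : T ⊗[R] A → _) = (Matrix.toLinAlgEquiv' : Matrix (Fin n) (Fin n) T ≃ₐ[T] _) ∘ ρ := rfl
    rw [this] at hbij'
    exact (Function.Bijective.of_comp_iff' (AlgEquiv.bijective _) _).mp hbij'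
  exact ⟨AlgEquiv.ofBijective ρ hbij⟩

end glob

end Groth.Agent.Lib.Helper3.AzSplit
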