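import Mathlib.RingTheory.Etale.StandardEtale
import Mathlib.FieldTheory.Separable
import Groth.Agent.Lib.Helper3.FiniteSplit

/-!
# Étaleness of `T[X]/(Q)` (helper3)

`etale_adjoinRoot`: `T[X]/(Q)` is étale if `Q` is monic with `Q'(x)` a unit;
`exists_dvd_derivative`: if `Q` is separable over a residue field then `Q'(x)` divides an element
of the base not vanishing there; `etale_adjoinRoot_map`: base change form.
-/

set_option autoImplicit false
universe u v w

open TensorProduct Polynomial

namespace Groth.Agent.Lib.Helper3.EtaleRoot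

section etale

variable {T : Type u} [CommRing T] (Q : T[X])

/-- `T[X]/(Q)` is étale when `Q` is monic and `Q'` is invertible modulo `Q` -/
theorem etale_adjoinRoot (hQ : Q.Monic) (hunit : IsUnit (aeval (AdjoinRoot.root Q) (derivative Q))) :
    Algebra.Etale T (AdjoinRoot Q) := by
  let P : StandardEtalePair T := ⟨Q, hQ, derivative Q, 1, 0, 1, by simp⟩
  have hmap : P.HasMap (AdjoinRoot.root Q) := ⟨AdjoinRoot.aeval_eq Q ▸ by simp, hunit⟩
  let f₁ : P.Ring →ₐ[T] AdjoinRoot Q := P.lift (AdjoinRoot.root Q) hmap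
  let f₂ : AdjoinRoot Q →ₐ[T] P.Ring :=
    AdjoinRoot.liftAlgHom Q (Algebra.ofId T P.Ring) P.X P.hasMap_X.1
  have hf₂ : f₂ (AdjoinRoot.root Q) = P.X := AdjoinRoot.liftAlgHom_root _ _ _ _
  have hf₁ : f₁ P.X = AdjoinRoot.root Q := P.lift_X _ _
  have h12 : f₁.comp f₂ = AlgHom.id T _ := by
    apply AdjoinRoot.algHom_ext
    change f₁ (f₂ (AdjoinRoot.root Q)) = AdjoinRoot.root Q
    rw [hf₂, hf₁]
  have h21 : f₂.comp f₁ = AlgHom.id T _ := by
    apply P.hom_ext
    change f₂ (f₁ P.X) = P.X
    rw [hf₁, hf₂]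
  exact Algebra.Etale.of_equiv (AlgEquiv.ofAlgHom f₁ f₂ h12 h21)

end etale

section det

variable {R : Type*} [CommRing R] {R₁ : Type*} [CommRing R₁] [Algebra R R₁] {n : ℕ}
  {κ : Type*} {L : Type*} [Field κ] [CommRing L] [Algebra R κ] [Algebra κ L] [Algebra R L]
  [IsScalarTower R κ L]

/-- determinant (norm) trick, general form: an element of a finite free algebra which becomes a
unit in a residue algebra divides an element of the base which is nonzero in the residue field. -/
theorem exists_dvd_of_isUnit (b : Module.Basis (Fin n) R R₁) (ψ : R₁ →ₐ[R] L)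
    (hb : LinearIndependent κ (fun i => ψ (b i))) (g : R₁) (hg : IsUnit (ψ g)) :
    ∃ f : R, algebraMap R κ f ≠ 0 ∧ g ∣ algebraMap R R₁ f := by
  classical
  set M := Algebra.leftMulMatrix b g with hM
  have hcol : ∀ j, g * b j = ∑ i, M i j • b i := by
    intro j
    conv_lhs => rw [← b.sum_repr (g * b j)]
    apply Finset.sum_congr rfl
    intro i _
    rw [hM, Algebra.leftMulMatrix_eq_repr_mul]
  refine ⟨M.det, ?_, ?_⟩
  · intro h0
    have h1 : (M.map (algebraMap R κ)).det = 0 := by
      rw [← RingHom.mapMatrix_apply, ← RingHom.map_det, h0]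
    obtain ⟨v, hv, hMv⟩ := Matrix.exists_mulVec_eq_zero_iff.mpr h1
    apply hv
    have h2 : ψ g * ∑ j, v j • ψ (b j) = 0 := by
      rw [Finset.mul_sum]
      have : ∀ j, ψ g * v j • ψ (b j) = ∑ i, (v j * algebraMap R κ (M i j)) • ψ (b i) := by
        intro j
        rw [mul_smul_comm, ← map_mul, hcol j, map_sum, Finset.smul_sum]
        apply Finset.sum_congr rfl
        intro i _
        rw [map_smul, mul_smul, ← algebraMap_smul κ (M i j) (ψ (b i))]
      simp_rw [this]
      rw [Finset.sum_comm]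
      apply Finset.sum_eq_zero
      intro i _
      rw [← Finset.sum_smul]
      have h3 := congrFun hMv i
      simp only [Matrix.mulVec, dotProduct, Matrix.map_apply, Pi.zero_apply] at h3
      have h4 : ∑ j, v j * algebraMap R κ (M i j) = 0 := by
        rw [← h3]
        apply Finset.sum_congr rfl
        intro j _
        rw [mul_comm]
      rw [h4, zero_smul]
    have h5 := (hg.mul_right_eq_zero).mp h2
    have h6 := (Fintype.linearIndependent_iff.mp hb) v h5
    ext i
    exact h6 i
  · refine ⟨Matrix.toLin b b M.adjugate 1, ?_⟩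
    have h1 : Matrix.toLin b b M = LinearMap.mulLeft R g := by
      rw [hM, ← Algebra.toMatrix_lmul_eq, Matrix.toLin_toMatrix]
    have h2 : (Matrix.toLin b b M) (Matrix.toLin b b M.adjugate 1) = M.det • (1 : R₁) := by
      rw [← LinearMap.comp_apply, ← Matrix.toLin_mul, Matrix.mul_adjugate, map_smul, Matrix.toLin_one]
      rfl
    rw [h1] at h2
    rw [Algebra.algebraMap_eq_smul_one, ← h2]
    rfl

end det

section sepDeriv

variable {T : Type u} [CommRing T] (Q : T[X]) {K : Type v} [Field K] [Algebra T K]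

/-- if `Q` is monic and separable modulo a prime (or any map to a field), then `Q'(x)` divides, in
`T[X]/(Q)`, an element of `T` which is nonzero in the field -/
theorem exists_dvd_derivative (hQ : Q.Monic) (hsep : (Q.map (algebraMap T K)).Separable) :
    ∃ f : T, algebraMap T K f ≠ 0 ∧
      aeval (AdjoinRoot.root Q) (derivative Q) ∣ algebraMap T (AdjoinRoot Q) f := by
  set Qb : K[X] := Q.map (algebraMap T K) with hQb
  have hQbm : Qb.Monic := hQ.map _
  let ψ : AdjoinRoot Q →ₐ[T] AdjoinRoot Qb :=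
    AdjoinRoot.mapAlgHom (Algebra.ofId T K) Q Qb dvd_rfl
  have hψroot : ψ (AdjoinRoot.root Q) = AdjoinRoot.root Qb :=
    AdjoinRoot.map_root (Algebra.ofId T K : T →+* K) Q Qb dvd_rfl
  have hb : LinearIndependent K (fun i => ψ ((AdjoinRoot.powerBasis' hQ).basis i)) := by
    have h1 := (AdjoinRoot.powerBasis' hQbm).basis.linearIndependent
    have hdim : (AdjoinRoot.powerBasis' hQ).dim = (AdjoinRoot.powerBasis' hQbm).dim := by
      rw [AdjoinRoot.powerBasis'_dim, AdjoinRoot.powerBasis'_dim, hQb, hQ.natDegree_map]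
    have h2 : (fun i => ψ ((AdjoinRoot.powerBasis' hQ).basis i)) =
        (AdjoinRoot.powerBasis' hQbm).basis ∘ Fin.cast hdim := by
      ext1 i
      simp only [Function.comp_apply, PowerBasis.coe_basis, AdjoinRoot.powerBasis'_gen, map_pow,
        hψroot, Fin.val_cast]
    rw [h2]
    exact h1.comp _ (Fin.cast_injective _)
  have hunit : IsUnit (ψ (aeval (AdjoinRoot.root Q) (derivative Q))) := by
    rw [← Polynomial.aeval_algHom_apply, hψroot]
    obtain ⟨a, b, hab⟩ := hsep
    have h3 := congrArg (aeval (AdjoinRoot.root Qb)) hab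
    have hQ0 : aeval (AdjoinRoot.root Qb) Qb = 0 := by rw [AdjoinRoot.aeval_eq, AdjoinRoot.mk_self]
    rw [map_add, map_mul, map_mul, hQ0, mul_zero, zero_add, map_one] at h3
    have h4 : aeval (AdjoinRoot.root Qb) (derivative Qb) =
        aeval (AdjoinRoot.root Qb) (derivative Q) := by
      rw [hQb, Polynomial.derivative_map, Polynomial.aeval_map_algebraMap]
    rw [h4] at h3
    exact IsUnit.of_mul_eq_one _ (by rw [mul_comm]; exact h3)
  exact exists_dvd_of_isUnit (κ := K) (AdjoinRoot.powerBasis' hQ).basis ψ hb _ hunit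

end sepDeriv

section bc

variable {T : Type u} [CommRing T] (Q : T[X]) (T' : Type v) [CommRing T'] [Algebra T T']

/-- étaleness of `T'[X]/(Q)` from divisibility of a unit by `Q'(x)` -/
theorem etale_adjoinRoot_map (hQ : Q.Monic) (f : T)
    (hdvd : aeval (AdjoinRoot.root Q) (derivative Q) ∣ algebraMap T (AdjoinRoot Q) f)
    (hf : IsUnit (algebraMap T T' f)) :
    Algebra.Etale T' (AdjoinRoot (Q.map (algebraMap T T'))) := by
  set Q' : T'[X] := Q.map (algebraMap T T') with hQ'
  apply etale_adjoinRoot Q' (hQ.map _)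
  let ψ : AdjoinRoot Q →ₐ[T] AdjoinRoot Q' :=
    AdjoinRoot.mapAlgHom (Algebra.ofId T T') Q Q' dvd_rfl
  have hψroot : ψ (AdjoinRoot.root Q) = AdjoinRoot.root Q' :=
    AdjoinRoot.map_root (Algebra.ofId T T' : T →+* T') Q Q' dvd_rfl
  have h1 : ψ (aeval (AdjoinRoot.root Q) (derivative Q)) =
      aeval (AdjoinRoot.root Q') (derivative Q') := by
    rw [← Polynomial.aeval_algHom_apply, hψroot, hQ', Polynomial.derivative_map,
      Polynomial.aeval_map_algebraMap]
  rw [← h1]
  apply isUnit_of_dvd_unit (map_dvd ψ hdvd)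
  rw [AlgHom.commutes, IsScalarTower.algebraMap_apply T T' (AdjoinRoot Q')]
  exact hf.map _

end bc

end Groth.Agent.Lib.Helper3.EtaleRoot
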