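import Groth.Agent.Lib.Helper3.AzSplit
import Groth.Agent.Lib.Helper3.EtaleRoot

/-!
# Azumaya algebras are split by finite étale covers locally (helper3)
-/

set_option autoImplicit false
universe u v w

open TensorProduct Polynomial

namespace Groth.Agent.Lib.Helper3.AzSplit

section stage3et

variable (R : Type u) [CommRing R] (A : Type u) [Ring A] [Algebra R A] [IsAzumaya R A]
  (p : Ideal R) [p.IsPrime]

theorem exists_local_finite_etale_split :
    ∃ f : R, f ∉ p ∧ ∃ (S : Type u) (_ : CommRing S) (_ : Algebra R S)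
      (_ : Algebra (Localization.Away f) S) (_ : IsScalarTower R (Localization.Away f) S),
      Module.Finite (Localization.Away f) S ∧ Algebra.Etale (Localization.Away f) S ∧
      Module.FaithfullyFlat (Localization.Away f) S ∧
      ∃ r : ℕ, 1 ≤ r ∧ Nonempty (S ⊗[R] A ≃ₐ[S] Matrix (Fin r) (Fin r) S) := by
  classical
  obtain ⟨F, hF, hFdeg, hFsep, p₁, hp₁, hnorm, r, hr, ⟨e₁⟩⟩ :=
    FiniteSplit.exists_finite_free_residue_split R A p
  haveI : IsAzumaya (AdjoinRoot F) (AdjoinRoot F ⊗[R] A) := Az.isAzumaya_baseChange R (AdjoinRoot F) A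
  obtain ⟨g, hg, Q, hQ, hQdeg, ⟨φK, hφK, hQsep⟩, ⟨φ⟩⟩ :=
    LocSplit.exists_local_split_sep (T := AdjoinRoot F) (A := AdjoinRoot F ⊗[R] A) p₁ r hr e₁
  -- `Q'(y)` divides some `f' ∈ T_g` not vanishing at `p₁`
  letI : Algebra (Localization.Away g) p₁.ResidueField := φK.toAlgebra
  obtain ⟨f', hf', hdvdQ⟩ := EtaleRoot.exists_dvd_derivative Q (K := p₁.ResidueField) hQ hQsep
  obtain ⟨⟨f'', ⟨_, k, rfl⟩⟩, hf''⟩ := IsLocalization.surj (Submonoid.powers g) f'
  simp only at hf''
  -- hf'' : f' * algebraMap g^k = algebraMap f''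
  have hφ' : ∀ x, φK (algebraMap (AdjoinRoot F) (Localization.Away g) x) =
      algebraMap (AdjoinRoot F) p₁.ResidueField x := fun x => by
    rw [← RingHom.comp_apply, hφK]
  have hgne : algebraMap (AdjoinRoot F) p₁.ResidueField g ≠ 0 := fun h =>
    hg ((Ideal.algebraMap_residueField_eq_zero).mp h)
  have hf''p : f'' ∉ p₁ := by
    intro h
    have h1 : algebraMap (AdjoinRoot F) p₁.ResidueField f'' = 0 :=
      (Ideal.algebraMap_residueField_eq_zero).mpr h
    rw [← hφ', ← hf'', map_mul, hφ', map_pow] at h1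
    rcases mul_eq_zero.mp h1 with h2 | h2
    · exact hf' h2
    · exact pow_ne_zero k hgne h2
  have hgf : g * f'' ∉ p₁ := fun h => (hp₁.mem_or_mem h).elim hg hf''p
  obtain ⟨f₀, hf₀, hdvd⟩ := hnorm (g * f'') hgf
  obtain ⟨f₁, hf₁, hdvdF⟩ := EtaleRoot.exists_dvd_derivative F (K := p.ResidueField) hF hFsep
  have hf₁p : f₁ ∉ p := fun h => hf₁ ((Ideal.algebraMap_residueField_eq_zero).mpr h)
  have hfp : f₀ * f₁ ∉ p := fun h => (Ideal.IsPrime.mem_or_mem inferInstance h).elim hf₀ hf₁p
  refine ⟨f₀ * f₁, hfp, ?_⟩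
  set f := f₀ * f₁ with hf
  haveI : Nontrivial (Localization.Away f) := by
    let φ : Localization.Away f →+* p.ResidueField := IsLocalization.Away.lift f
      (g := algebraMap R p.ResidueField)
      (IsUnit.mk0 _ (fun h => hfp ((Ideal.algebraMap_residueField_eq_zero).mp h)))
    exact φ.domain_nontrivial
  have hfu : IsUnit (algebraMap R (Localization.Away f) f) := IsLocalization.Away.algebraMap_isUnit f
  have hf₀u : IsUnit (algebraMap R (Localization.Away f) f₀) :=
    isUnit_of_dvd_unit (map_dvd _ ⟨f₁, hf⟩) hfu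
  have hf₁u : IsUnit (algebraMap R (Localization.Away f) f₁) :=
    isUnit_of_dvd_unit (map_dvd _ ⟨f₀, by rw [hf, mul_comm]⟩) hfu
  set F' : (Localization.Away f)[X] := F.map (algebraMap R (Localization.Away f)) with hF'
  have hF'm : F'.Monic := hF.map _
  have hF'deg : 0 < F'.natDegree := by rw [hF', hF.natDegree_map]; exact hFdeg
  haveI hEt1 : Algebra.Etale (Localization.Away f) (AdjoinRoot F') :=
    EtaleRoot.etale_adjoinRoot_map F (Localization.Away f) hF f₁ hdvdF hf₁u
  let map₁ : AdjoinRoot F →ₐ[R] AdjoinRoot F' :=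
    AdjoinRoot.mapAlgHom (Algebra.ofId R (Localization.Away f)) F F' dvd_rfl
  letI : Algebra (AdjoinRoot F) (AdjoinRoot F') := map₁.toRingHom.toAlgebra
  haveI : IsScalarTower R (AdjoinRoot F) (AdjoinRoot F') :=
    IsScalarTower.of_algebraMap_eq (fun x => (map₁.commutes x).symm)
  have hunit0 : IsUnit (algebraMap (AdjoinRoot F) (AdjoinRoot F') (g * f'')) := by
    apply isUnit_of_dvd_unit (map_dvd _ hdvd)
    rw [← IsScalarTower.algebraMap_apply R (AdjoinRoot F) (AdjoinRoot F'),
      IsScalarTower.algebraMap_apply R (Localization.Away f) (AdjoinRoot F')]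
    exact hf₀u.map _
  have hunit : IsUnit (algebraMap (AdjoinRoot F) (AdjoinRoot F') g) :=
    isUnit_of_dvd_unit (map_dvd _ ⟨f'', rfl⟩) hunit0
  have hunit'' : IsUnit (algebraMap (AdjoinRoot F) (AdjoinRoot F') f'') :=
    isUnit_of_dvd_unit (map_dvd _ ⟨g, mul_comm _ _⟩) hunit0
  letI : Algebra (Localization.Away g) (AdjoinRoot F') :=
    (IsLocalization.Away.lift g hunit).toAlgebra
  haveI : IsScalarTower (AdjoinRoot F) (Localization.Away g) (AdjoinRoot F') :=
    IsScalarTower.of_algebraMap_eq (fun x => (IsLocalization.Away.lift_eq g hunit x).symm)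
  have hf'u : IsUnit (algebraMap (Localization.Away g) (AdjoinRoot F') f') := by
    have h1 := congrArg (algebraMap (Localization.Away g) (AdjoinRoot F')) hf''
    rw [map_mul, ← IsScalarTower.algebraMap_apply, ← IsScalarTower.algebraMap_apply] at h1
    exact isUnit_of_dvd_unit ⟨_, h1.symm⟩ hunit''
  set Q' : (AdjoinRoot F')[X] := Q.map (algebraMap (Localization.Away g) (AdjoinRoot F')) with hQ'
  have hQ'm : Q'.Monic := hQ.map _
  haveI : Nontrivial (AdjoinRoot F') := nontrivial_adjoinRoot F' hF'm hF'deg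
  have hQ'deg : 0 < Q'.natDegree := by rw [hQ', hQ.natDegree_map, hQdeg]; exact hr
  haveI hEt2 : Algebra.Etale (AdjoinRoot F') (AdjoinRoot Q') :=
    EtaleRoot.etale_adjoinRoot_map Q (AdjoinRoot F') hQ f' hdvdQ hf'u
  let mapS : AdjoinRoot Q →ₐ[AdjoinRoot F] AdjoinRoot Q' :=
    AdjoinRoot.mapAlgHom (IsScalarTower.toAlgHom (AdjoinRoot F) (Localization.Away g) (AdjoinRoot F'))
      Q Q' dvd_rfl
  haveI : Module.Finite (Localization.Away f) (AdjoinRoot F') := hF'm.finite_adjoinRoot
  haveI : Module.Free (Localization.Away f) (AdjoinRoot F') := hF'm.free_adjoinRoot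
  haveI : Module.Finite (AdjoinRoot F') (AdjoinRoot Q') := hQ'm.finite_adjoinRoot
  haveI : Module.Free (AdjoinRoot F') (AdjoinRoot Q') := hQ'm.free_adjoinRoot
  haveI : Nontrivial (AdjoinRoot Q') := nontrivial_adjoinRoot Q' hQ'm hQ'deg
  haveI : Module.Free (Localization.Away f) (AdjoinRoot Q') := Module.Free.trans (S := AdjoinRoot F')
  refine ⟨AdjoinRoot Q', inferInstance, inferInstance, inferInstance, inferInstance,
    Module.Finite.trans (AdjoinRoot F') _, Algebra.Etale.comp _ (AdjoinRoot F') _,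
    inferInstance, r, hr, ?_⟩
  exact ⟨(RedChar.cancelBC R (AdjoinRoot F) (AdjoinRoot Q') A).symm.trans (RedChar.bcSplit φ mapS)⟩

end stage3et

end Groth.Agent.Lib.Helper3.AzSplit
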