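import Groth.Agent.Lib.Helper3.AzSplitEt
import Groth.Agent.Lib.Helper3.EtCover
import Groth.Agent.Lib.Helper3.AzInvInner

/-!
# A global étale cover splitting an Azumaya algebra of constant degree (helper3)
-/

set_option autoImplicit false
universe u

open TensorProduct

namespace Groth.Agent.Lib.Helper3.AzSplitEtCover

open Groth.Agent.Lib.Helper3.AzSplit

variable (R : Type u) [CommRing R] (A : Type u) [Ring A] [Algebra R A] [IsAzumaya R A]
  (n : ℕ) (hrk : ∀ p : PrimeSpectrum R, Module.rankAtStalk (R := R) A p = n ^ 2)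

include hrk in
lemma exists_local (p : PrimeSpectrum R) :
    ∃ (T : Type u) (_ : CommRing T) (_ : Algebra R T) (_ : Algebra.Etale R T),
      p ∈ Set.range (PrimeSpectrum.comap (algebraMap R T)) ∧
      Nonempty (A →ₐ[R] Matrix (Fin n) (Fin n) T) := by
  obtain ⟨f, hf, T, _, _, _, _, -, hEt, hFF, r, hr, ⟨e⟩⟩ :=
    exists_local_finite_etale_split R A p.asIdeal
  haveI : Algebra.Etale R (Localization.Away f) := Algebra.Etale.of_isLocalizationAway f
  haveI : Algebra.Etale R T := Algebra.Etale.comp R (Localization.Away f) T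
  obtain ⟨p', hp'⟩ := AzInvInner.mem_range_comap_away p f hf
  obtain ⟨P, hP⟩ := PrimeSpectrum.comap_surjective_of_faithfullyFlat (B := T) p'
  haveI : Nontrivial T := P.nontrivial
  have hrn : r = n := rank_eq_of_split n r hrk e
  subst hrn
  refine ⟨T, inferInstance, inferInstance, inferInstance, ⟨P, ?_⟩,
    ⟨(e.toAlgHom.restrictScalars R).comp Algebra.TensorProduct.includeRight⟩⟩
  rw [← hp', ← hP]
  ext1
  change Ideal.comap (algebraMap R T) P.asIdeal =
    Ideal.comap (algebraMap R (Localization.Away f)) (Ideal.comap (algebraMap _ T) P.asIdeal)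
  rw [Ideal.comap_comap, ← IsScalarTower.algebraMap_eq]

include hrk in
/-- a global étale cover over which the Azumaya algebra maps to matrices -/
theorem exists_etale_cover_hom :
    ∃ (E : Type u) (_ : CommRing E) (_ : Algebra R E) (_ : Algebra.Etale R E)
      (_ : Module.FaithfullyFlat R E), Nonempty (A →ₐ[R] Matrix (Fin n) (Fin n) E) := by
  classical
  choose T iCR iAlg iEt hT hg using exists_local R A n hrk
  letI := iCR
  letI := iAlg
  haveI := iEt
  obtain ⟨s, hFF⟩ := EtCover.exists_finite_cover T hT
  exact ⟨∀ i : s, T i, inferInstance, inferInstance, inferInstance, hFF,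
    ⟨piMatHom (fun i : s => T i) n (fun i => (hg i).some)⟩⟩

end Groth.Agent.Lib.Helper3.AzSplitEtCover
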