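import Mathlib.Algebra.Azumaya.Basic
import Mathlib.Algebra.Azumaya.Matrix
import Mathlib.RingTheory.Finiteness.Projective
import Mathlib.RingTheory.Finiteness.Nakayama
import Mathlib.LinearAlgebra.FreeModule.Finite.Matrix
import Mathlib.LinearAlgebra.Matrix.ToLin

set_option autoImplicit false

namespace Groth.Agent.Lib.Helper3.Az

open TensorProduct MulOpposite

/-- Transfer of bijectivity along a retract of arrows. -/
lemma bijective_of_retract {X Y X' Y' : Type*} (η : X → Y) (η' : X' → Y') (u : X → X') (v : X' → X)
    (u' : Y → Y') (v' : Y' → Y) (hvu : ∀ x, v (u x) = x) (hvu' : ∀ y, v' (u' y) = y)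
    (h1 : ∀ x, η' (u x) = u' (η x)) (h2 : ∀ x', η (v x') = v' (η' x'))
    (hη' : Function.Bijective η') : Function.Bijective η := by
  constructor
  · intro x y hxy
    have : η' (u x) = η' (u y) := by rw [h1, h1, hxy]
    have := hη'.1 this
    rw [← hvu x, ← hvu y, this]
  · intro y
    obtain ⟨x', hx'⟩ := hη'.2 (u' y)
    exact ⟨v x', by rw [h2, hx', hvu']⟩

section trace

variable {R : Type*} [CommRing R] (P : Type*) [AddCommGroup P] [Module R P]

/-- For a finitely generated projective faithful module the trace ideal is the unit ideal. -/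
lemma one_mem_trace [Module.Finite R P] [Module.Projective R P] [FaithfulSMul R P] :
    (1 : R) ∈ Ideal.span {r : R | ∃ (φ : P →ₗ[R] R) (x : P), φ x = r} := by
  set τ : Ideal R := Ideal.span {r : R | ∃ (φ : P →ₗ[R] R) (x : P), φ x = r} with hτ
  obtain ⟨n, s, g, -, -, hsg⟩ := Module.Finite.exists_comp_eq_id_of_projective R P
  have hle : (⊤ : Submodule R P) ≤ τ • ⊤ := by
    intro x _
    have hx : x = ∑ i, (g x i) • s (Pi.single i 1) := by
      conv_lhs => rw [← LinearMap.id_apply (R := R) x, ← hsg, LinearMap.comp_apply,
        pi_eq_sum_univ' (g x), map_sum]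
      refine Finset.sum_congr rfl (fun i _ => ?_)
      rw [map_smul]
    rw [hx]
    refine Submodule.sum_mem _ (fun i _ => ?_)
    refine Submodule.smul_mem_smul ?_ Submodule.mem_top
    exact Ideal.subset_span ⟨(LinearMap.proj i).comp g, x, rfl⟩
  obtain ⟨r, hr1, hr0⟩ := Submodule.exists_sub_one_mem_and_smul_eq_zero_of_fg_of_le_smul τ
    (⊤ : Submodule R P) Module.Finite.fg_top hle
  have hr : r = 0 := by
    apply FaithfulSMul.eq_of_smul_eq_smul (α := P)
    intro x
    rw [hr0 x Submodule.mem_top, zero_smul]
  rw [hr, zero_sub] at hr1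
  simpa using τ.neg_mem hr1

/-- An element of an `R`-algebra killing all values `φ x` is zero. -/
lemma eq_zero_of_forall_mul_dual [Module.Finite R P] [Module.Projective R P] [FaithfulSMul R P]
    {S : Type*} [CommRing S] [Algebra R S] (s : S)
    (h : ∀ (φ : P →ₗ[R] R) (x : P), s * algebraMap R S (φ x) = 0) : s = 0 := by
  have key : ∀ r ∈ Ideal.span {r : R | ∃ (φ : P →ₗ[R] R) (x : P), φ x = r},
      s * algebraMap R S r = 0 := by
    intro r hr
    induction hr using Submodule.span_induction with
    | mem r hr => obtain ⟨φ, x, rfl⟩ := hr; exact h φ x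
    | zero => simp
    | add a b _ _ ha hb => rw [map_add, mul_add, ha, hb, add_zero]
    | smul a b _ hb => rw [smul_eq_mul, map_mul, mul_left_comm, hb, mul_zero]
  simpa using key 1 (one_mem_trace P)

end trace


section conj

variable {R : Type*} [CommRing R] {M N : Type*} [AddCommGroup M] [Module R M]
  [AddCommGroup N] [Module R N]

/-- `f ↦ a ∘ f ∘ b`. -/
def conj (a : M →ₗ[R] N) (b : N →ₗ[R] M) : Module.End R M →ₗ[R] Module.End R N where
  toFun f := a ∘ₗ f ∘ₗ b
  map_add' f g := by ext; simp
  map_smul' r f := by ext; simp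

@[simp] lemma conj_apply (a : M →ₗ[R] N) (b : N →ₗ[R] M) (f : Module.End R M) (x : N) :
    conj a b f x = a (f (b x)) := rfl

lemma conj_conj (a : M →ₗ[R] N) (b : N →ₗ[R] M) (h : b ∘ₗ a = LinearMap.id) (f : Module.End R M) :
    conj b a (conj a b f) = f := by
  ext x
  have h' : ∀ y, b (a y) = y := fun y => LinearMap.congr_fun h y
  simp [h']

lemma conj_mul (a : M →ₗ[R] N) (b : N →ₗ[R] M) (h : b ∘ₗ a = LinearMap.id)
    (f g : Module.End R M) : conj a b (f * g) = conj a b f * conj a b g := by
  ext x
  have h' : ∀ y, b (a y) = y := fun y => LinearMap.congr_fun h y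
  simp [h']

/-- The opposite of a linear map. -/
def opMap {A B : Type*} [AddCommGroup A] [Module R A] [AddCommGroup B] [Module R B]
    (c : A →ₗ[R] B) : Aᵐᵒᵖ →ₗ[R] Bᵐᵒᵖ :=
  (opLinearEquiv R).toLinearMap ∘ₗ c ∘ₗ (opLinearEquiv R).symm.toLinearMap

@[simp] lemma opMap_op {A B : Type*} [AddCommGroup A] [Module R A] [AddCommGroup B] [Module R B]
    (c : A →ₗ[R] B) (x : A) : opMap c (op x) = op (c x) := rfl

end conj

section EndAzumaya

variable {R : Type*} [CommRing R] {P F : Type*} [AddCommGroup P] [Module R P]
  [AddCommGroup F] [Module R F]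

lemma mulLeftRight_end_bijective_of_retract (i : P →ₗ[R] F) (p : F →ₗ[R] P)
    (hpi : p ∘ₗ i = LinearMap.id)
    (hF : Function.Bijective (AlgHom.mulLeftRight R (Module.End R F))) :
    Function.Bijective (AlgHom.mulLeftRight R (Module.End R P)) := by
  have hpi' : ∀ y, p (i y) = y := fun y => LinearMap.congr_fun hpi y
  refine bijective_of_retract (AlgHom.mulLeftRight R (Module.End R P))
    (AlgHom.mulLeftRight R (Module.End R F))
    (TensorProduct.map (conj i p) (opMap (conj i p)))
    (TensorProduct.map (conj p i) (opMap (conj p i)))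
    (fun φ => conj i p ∘ₗ φ ∘ₗ conj p i) (fun ψ => conj p i ∘ₗ ψ ∘ₗ conj i p) ?_ ?_ ?_ ?_ hF
  · intro x
    induction x using TensorProduct.induction_on with
    | zero => simp
    | tmul f g =>
      induction g using MulOpposite.rec' with
      | h g => simp [conj_conj i p hpi]
    | add x y hx hy => simp only [map_add, hx, hy]
  · intro φ
    refine LinearMap.ext (fun f => ?_)
    change conj p i (conj i p (φ (conj p i (conj i p f)))) = φ f
    rw [conj_conj i p hpi, conj_conj i p hpi]
  · intro x
    induction x using TensorProduct.induction_on with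
    | zero => ext; simp
    | tmul f g =>
      induction g using MulOpposite.rec' with
      | h g =>
        ext h x
        simp
    | add x y hx hy => simp only [map_add, hx, hy, LinearMap.comp_add, LinearMap.add_comp]
  · intro x
    induction x using TensorProduct.induction_on with
    | zero => ext; simp
    | tmul f g =>
      induction g using MulOpposite.rec' with
      | h g =>
        ext h x
        simp
    | add x y hx hy => simp only [map_add, hx, hy, LinearMap.comp_add, LinearMap.add_comp]

/-- The endomorphism algebra of a faithful finitely generated projective module is Azumaya. -/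
theorem isAzumaya_end (R : Type*) [CommRing R] (P : Type*) [AddCommGroup P] [Module R P]
    [Module.Finite R P] [Module.Projective R P] [FaithfulSMul R P] :
    IsAzumaya R (Module.End R P) := by
  obtain ⟨n, s, g, -, -, hsg⟩ := Module.Finite.exists_comp_eq_id_of_projective R P
  have hcc : ∀ f, conj s g (conj g s f) = f := conj_conj g s hsg
  have : Module.Projective R (Module.End R P) :=
    Module.Projective.of_split (conj g s) (conj s g) (LinearMap.ext hcc)
  have : Module.Finite R (Module.End R P) :=
    Module.Finite.of_surjective (conj s g) (fun f => ⟨conj g s f, hcc f⟩)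
  have : FaithfulSMul R (Module.End R P) :=
    ⟨fun {r₁ r₂} h => FaithfulSMul.eq_of_smul_eq_smul (α := P)
      (fun x => by simpa using LinearMap.congr_fun (h 1) x)⟩
  refine { bij := ?_ }
  rcases subsingleton_or_nontrivial R with hR | hR
  · have := Module.subsingleton R (Module.End R P ⊗[R] (Module.End R P)ᵐᵒᵖ)
    have := Module.subsingleton R (Module.End R (Module.End R P))
    exact ⟨Function.injective_of_subsingleton _, Function.surjective_to_subsingleton _⟩
  · have hn : Nonempty (Fin n) := by
      by_contra hne
      rw [not_nonempty_iff] at hne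
      have : Subsingleton P := ⟨fun x y => by
        rw [← LinearMap.id_apply (R := R) x, ← LinearMap.id_apply (R := R) y, ← hsg,
          LinearMap.comp_apply, LinearMap.comp_apply, Subsingleton.elim (g x) (g y)]⟩
      have : (0 : R) = 1 :=
        FaithfulSMul.eq_of_smul_eq_smul (α := P) (fun x => Subsingleton.elim _ _)
      exact zero_ne_one this
    have : IsAzumaya R (Matrix (Fin n) (Fin n) R) := IsAzumaya.matrix R (Fin n)
    have : IsAzumaya R (Module.End R (Fin n → R)) := IsAzumaya.of_AlgEquiv R _ _ Matrix.toLinAlgEquiv'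
    exact mulLeftRight_end_bijective_of_retract g s hsg IsAzumaya.bij

end EndAzumaya

end Groth.Agent.Lib.Helper3.Az
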