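import Groth.Agent.Lib.Helper3.AzumayaBaseChange
import Mathlib.RingTheory.SimpleModule.Basic
import Mathlib.RingTheory.Spectrum.Prime.RingHom
import Mathlib.RingTheory.Nilpotent.Basic
import Mathlib.RingTheory.Nilpotent.Lemmas

set_option autoImplicit false

namespace Groth.Agent.Lib.Helper3.Az

open TensorProduct MulOpposite

section SpecSurj

variable {R : Type*} [CommRing R] {S : Type*} [CommRing S] [Algebra R S]

/-- If `Spec S → Spec R` is surjective and `C` is a finitely generated `R`-module with
`S ⊗ C = 0`, then `C = 0`. -/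
lemma subsingleton_of_subsingleton_baseChange
    (hS : Function.Surjective (PrimeSpectrum.comap (algebraMap R S)))
    (C : Type*) [AddCommGroup C] [Module R C] [Module.Finite R C]
    [Subsingleton (S ⊗[R] C)] : Subsingleton C := by
  by_contra hC
  rw [not_subsingleton_iff_nontrivial] at hC
  obtain ⟨N, hN⟩ := (eq_top_or_exists_le_coatom (⊥ : Submodule R C)).resolve_left bot_ne_top
  have hsimple : IsSimpleModule R (C ⧸ N) := isSimpleModule_iff_isCoatom.mpr hN.1
  obtain ⟨m, hm, ⟨e⟩⟩ := isSimpleModule_iff_quot_maximal.mp hsimple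
  obtain ⟨q, hq⟩ := hS ⟨m, hm.isPrime⟩
  have hq' : q.asIdeal.comap (algebraMap R S) = m := congrArg PrimeSpectrum.asIdeal hq
  -- R/m → S/q
  let ρ : (R ⧸ m) →ₗ[R] (S ⧸ q.asIdeal) :=
    Submodule.liftQ m ((Ideal.Quotient.mkₐ R q.asIdeal).toLinearMap ∘ₗ Algebra.linearMap R S) (by
      intro r hr
      rw [LinearMap.mem_ker, LinearMap.comp_apply]
      rw [← hq', Ideal.mem_comap] at hr
      exact Ideal.Quotient.eq_zero_iff_mem.mpr hr)
  let f : C →ₗ[R] (S ⧸ q.asIdeal) := ρ ∘ₗ e.toLinearMap ∘ₗ N.mkQ
  obtain ⟨c₀, hc₀⟩ : ∃ c, e (N.mkQ c) = 1 := by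
    obtain ⟨y, hy⟩ := e.surjective 1
    obtain ⟨c, rfl⟩ := N.mkQ_surjective y
    exact ⟨c, hy⟩
  have h1 : f.liftBaseChange S (1 ⊗ₜ c₀) = 1 := by
    rw [LinearMap.liftBaseChange_tmul, one_smul]
    change ρ (e (N.mkQ c₀)) = 1
    rw [hc₀]
    change ρ (Submodule.Quotient.mk 1) = 1
    rw [Submodule.liftQ_apply]
    simp
  have h0 : f.liftBaseChange S (1 ⊗ₜ c₀) = 0 := by
    rw [Subsingleton.elim ((1 : S) ⊗ₜ[R] c₀) 0, map_zero]
  have : (1 : S ⧸ q.asIdeal) = 0 := h1.symm.trans h0
  have hnt : Nontrivial (S ⧸ q.asIdeal) := Ideal.Quotient.nontrivial_iff.mpr q.2.ne_top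
  exact one_ne_zero this

/-- Descent of bijectivity of a linear map between finitely generated projective modules along a
ring map surjective on spectra. -/
lemma bijective_of_bijective_baseChange
    (hS : Function.Surjective (PrimeSpectrum.comap (algebraMap R S)))
    {M N : Type*} [AddCommGroup M] [Module R M] [AddCommGroup N] [Module R N]
    [Module.Finite R M] [Module.Finite R N] [Module.Projective R N]
    (u : M →ₗ[R] N) (hu : Function.Bijective (u.baseChange S)) : Function.Bijective u := by
  -- surjectivity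
  have hsurj : Function.Surjective u := by
    have : Subsingleton (S ⊗[R] (N ⧸ LinearMap.range u)) := by
      refine ⟨fun a b => ?_⟩
      have key : ∀ t : S ⊗[R] (N ⧸ LinearMap.range u), t = 0 := by
        intro t
        obtain ⟨n, rfl⟩ := LinearMap.lTensor_surjective S (LinearMap.range u).mkQ_surjective t
        obtain ⟨m, rfl⟩ := hu.2 n
        change ((LinearMap.range u).mkQ.baseChange S) ((u.baseChange S) m) = 0
        rw [← LinearMap.comp_apply, ← LinearMap.baseChange_comp]
        have : (LinearMap.range u).mkQ ∘ₗ u = 0 := by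
          ext x
          simp
        rw [this, LinearMap.baseChange_zero, LinearMap.zero_apply]
      rw [key a, key b]
    have hC := subsingleton_of_subsingleton_baseChange hS (N ⧸ LinearMap.range u)
    rw [← LinearMap.range_eq_top, ← Submodule.Quotient.subsingleton_iff]
    exact hC
  refine ⟨?_, hsurj⟩
  -- injectivity
  obtain ⟨σ, hσ⟩ := Module.projective_lifting_property u LinearMap.id hsurj
  let ρ : M →ₗ[R] LinearMap.ker u :=
    (LinearMap.id - σ ∘ₗ u).codRestrict (LinearMap.ker u) (fun x => by
      rw [LinearMap.mem_ker, LinearMap.sub_apply, map_sub, LinearMap.id_apply,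
        LinearMap.comp_apply]
      have := LinearMap.congr_fun hσ (u x)
      rw [LinearMap.comp_apply, LinearMap.id_apply] at this
      rw [this, sub_self])
  have hρι : ρ ∘ₗ (LinearMap.ker u).subtype = LinearMap.id := by
    ext ⟨x, hx⟩
    rw [LinearMap.mem_ker] at hx
    simp [ρ, hx]
  have hfin : Module.Finite R (LinearMap.ker u) :=
    Module.Finite.of_surjective ρ (fun x => ⟨x, LinearMap.congr_fun hρι x⟩)
  have : Subsingleton (S ⊗[R] (LinearMap.ker u)) := by
    refine ⟨fun a b => ?_⟩
    have key : ∀ t : S ⊗[R] (LinearMap.ker u), t = 0 := by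
      intro t
      have h1 : (u.baseChange S) (((LinearMap.ker u).subtype.baseChange S) t) = 0 := by
        rw [← LinearMap.comp_apply, ← LinearMap.baseChange_comp]
        have : u ∘ₗ (LinearMap.ker u).subtype = 0 := by
          ext ⟨x, hx⟩
          exact hx
        rw [this, LinearMap.baseChange_zero, LinearMap.zero_apply]
      have h2 : ((LinearMap.ker u).subtype.baseChange S) t = 0 :=
        hu.1 (h1.trans (map_zero _).symm)
      have h3 := congrArg (ρ.baseChange S) h2
      rw [← LinearMap.comp_apply, ← LinearMap.baseChange_comp, hρι, LinearMap.baseChange_id,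
        LinearMap.id_apply, map_zero] at h3
      exact h3
    rw [key a, key b]
  have hK := subsingleton_of_subsingleton_baseChange hS (LinearMap.ker u)
  rw [← LinearMap.ker_eq_bot]
  exact Submodule.subsingleton_iff_eq_bot.mp hK

end SpecSurj


section EndFinite

variable (R : Type*) [CommRing R] (P : Type*) [AddCommGroup P] [Module R P]
  [Module.Finite R P] [Module.Projective R P]

lemma finite_end : Module.Finite R (Module.End R P) := by
  obtain ⟨n, s, g, -, -, hsg⟩ := Module.Finite.exists_comp_eq_id_of_projective R P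
  have hcc : ∀ f, conj s g (conj g s f) = f := conj_conj g s hsg
  exact Module.Finite.of_surjective (conj s g) (fun f => ⟨conj g s f, hcc f⟩)

lemma projective_end : Module.Projective R (Module.End R P) := by
  obtain ⟨n, s, g, -, -, hsg⟩ := Module.Finite.exists_comp_eq_id_of_projective R P
  have hcc : ∀ f, conj s g (conj g s f) = f := conj_conj g s hsg
  exact Module.Projective.of_split (conj g s) (conj s g) (LinearMap.ext hcc)

end EndFinite

section PhiBij

variable (R : Type*) [CommRing R] (S : Type*) [CommRing S] [Algebra R S]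
variable (A : Type*) [Ring A] [Algebra R A]

/-- `Phi` as a linear equivalence. -/
noncomputable def PhiEquiv :
    S ⊗[R] (A ⊗[R] Aᵐᵒᵖ) ≃ₗ[S] (S ⊗[R] A) ⊗[S] (S ⊗[R] A)ᵐᵒᵖ :=
  TensorProduct.AlgebraTensorModule.distribBaseChange R S A Aᵐᵒᵖ ≪≫ₗ
    TensorProduct.congr (LinearEquiv.refl S _)
      (((opLinearEquiv R (M := A)).baseChange R S _ _).symm ≪≫ₗ opLinearEquiv S)

lemma Phi_eq_PhiEquiv (x : S ⊗[R] (A ⊗[R] Aᵐᵒᵖ)) : Phi R S A x = PhiEquiv R S A x := by
  induction x using TensorProduct.induction_on with
  | zero => simp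
  | add x y hx hy => simp only [map_add, hx, hy]
  | tmul s m =>
    induction m using TensorProduct.induction_on with
    | zero => simp
    | add x y hx hy => simp only [tmul_add, map_add, hx, hy]
    | tmul a a' =>
      induction a' using MulOpposite.rec' with
      | h a' =>
        rw [Phi, LinearMap.liftBaseChange_tmul, psi_tmul, unop_op, TensorProduct.smul_tmul',
          TensorProduct.smul_tmul', smul_eq_mul, mul_one]
        simp only [PhiEquiv, LinearEquiv.trans_apply,
          TensorProduct.AlgebraTensorModule.distribBaseChange_tmul, TensorProduct.congr_tmul,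
          LinearEquiv.refl_apply]
        congr 1

lemma Phi_bijective : Function.Bijective (Phi R S A) := by
  rw [show (Phi R S A : _ → _) = PhiEquiv R S A from funext (Phi_eq_PhiEquiv R S A)]
  exact (PhiEquiv R S A).bijective

end PhiBij

section Descent

variable (R : Type*) [CommRing R] (S : Type*) [CommRing S] [Algebra R S]
variable (B : Type*) [Ring B] [Algebra R B]

theorem isAzumaya_of_baseChange (hS : Function.Surjective (PrimeSpectrum.comap (algebraMap R S)))
    [Module.Finite R B] [Module.Projective R B] [IsAzumaya S (S ⊗[R] B)] : IsAzumaya R B := by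
  -- kernel of `R → S` is nil
  have hnil : ∀ r : R, algebraMap R S r = 0 → IsNilpotent r := by
    intro r hr
    rw [nilpotent_iff_mem_prime]
    intro p hp
    obtain ⟨q, hq⟩ := hS ⟨p, hp⟩
    have hq' : q.asIdeal.comap (algebraMap R S) = p := congrArg PrimeSpectrum.asIdeal hq
    rw [← hq', Ideal.mem_comap, hr]
    exact q.asIdeal.zero_mem
  have hann : ∀ r : R, (∀ b : B, r • b = 0) → IsNilpotent r := by
    intro r hr
    apply hnil
    apply FaithfulSMul.eq_of_smul_eq_smul (α := S ⊗[R] B)
    intro t
    rw [zero_smul, algebraMap_smul]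
    induction t using TensorProduct.induction_on with
    | zero => simp
    | add x y hx hy => rw [smul_add, hx, hy, add_zero]
    | tmul s b => rw [← TensorProduct.tmul_smul, hr, tmul_zero]
  -- trace ideal is everything
  have htrace : (1 : R) ∈ Ideal.span {r : R | ∃ (φ : B →ₗ[R] R) (x : B), φ x = r} := by
    set τ : Ideal R := Ideal.span {r : R | ∃ (φ : B →ₗ[R] R) (x : B), φ x = r} with hτ
    obtain ⟨n, s, g, -, -, hsg⟩ := Module.Finite.exists_comp_eq_id_of_projective R B
    have hle : (⊤ : Submodule R B) ≤ τ • ⊤ := by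
      intro x _
      have hx : x = ∑ i, (g x i) • s (Pi.single i 1) := by
        conv_lhs => rw [← LinearMap.id_apply (R := R) x, ← hsg, LinearMap.comp_apply,
          pi_eq_sum_univ' (g x), map_sum]
        refine Finset.sum_congr rfl (fun i _ => ?_)
        rw [map_smul]
      rw [hx]
      refine Submodule.sum_mem _ (fun i _ => ?_)
      refine Submodule.smul_mem_smul ?_ Submodule.mem_top
      exact Ideal.subset_span ⟨(LinearMap.proj i).comp g, x, rfl⟩
    obtain ⟨r, hr1, hr0⟩ := Submodule.exists_sub_one_mem_and_smul_eq_zero_of_fg_of_le_smul τ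
      (⊤ : Submodule R B) Module.Finite.fg_top hle
    have hr : IsNilpotent r := hann r (fun b => hr0 b Submodule.mem_top)
    have hu : IsUnit (r - 1) := hr.isUnit_sub_one
    have : τ = ⊤ := Ideal.eq_top_of_isUnit_mem _ hr1 hu
    rw [this]; trivial
  have hfaith : FaithfulSMul R B := by
    refine ⟨fun {r₁ r₂} h => ?_⟩
    rw [← sub_eq_zero]
    set r := r₁ - r₂ with hr
    have h0 : ∀ b : B, r • b = 0 := fun b => by rw [hr, sub_smul, h b, sub_self]
    have key : ∀ t ∈ Ideal.span {r : R | ∃ (φ : B →ₗ[R] R) (x : B), φ x = r}, r * t = 0 := by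
      intro t ht
      induction ht using Submodule.span_induction with
      | mem t ht =>
        obtain ⟨φ, x, rfl⟩ := ht
        rw [← smul_eq_mul, ← map_smul, h0, map_zero]
      | zero => simp
      | add a b _ _ ha hb => rw [mul_add, ha, hb, add_zero]
      | smul a b _ hb => rw [smul_eq_mul, mul_left_comm, hb, mul_zero]
    simpa using key 1 htrace
  refine { bij := ?_ }
  -- descent of bijectivity
  have hfinop : Module.Finite R Bᵐᵒᵖ := Module.Finite.equiv (opLinearEquiv R (M := B))
  have := finite_end R B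
  have := projective_end R B
  refine bijective_of_bijective_baseChange (S := S) hS (AlgHom.mulLeftRight R B).toLinearMap ?_
  have h1 : Function.Bijective (fun x : S ⊗[R] (B ⊗[R] Bᵐᵒᵖ) =>
      AlgHom.mulLeftRight S (S ⊗[R] B) (Phi R S B x)) :=
    Function.Bijective.comp IsAzumaya.bij (Phi_bijective R S B)
  have h2 : (fun x : S ⊗[R] (B ⊗[R] Bᵐᵒᵖ) =>
      AlgHom.mulLeftRight S (S ⊗[R] B) (Phi R S B x)) =
      (bcEnd R S B) ∘ ((AlgHom.mulLeftRight R B).toLinearMap.baseChange S) := by
    funext x
    exact mulLeftRight_comp_Phi R S B x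
  rw [h2] at h1
  exact (Function.Bijective.of_comp_iff' (bcEnd_bijective R S B) _).mp h1

end Descent

end Groth.Agent.Lib.Helper3.Az
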