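import Groth.Agent.Lib.Helper3.Azumaya
import Mathlib.LinearAlgebra.TensorProduct.Opposite
import Mathlib.LinearAlgebra.Contraction
import Mathlib.RingTheory.TensorProduct.Finite
import Mathlib.RingTheory.Flat.Basic

set_option autoImplicit false

namespace Groth.Agent.Lib.Helper3.Az

open TensorProduct MulOpposite

section TensorAzumaya

variable (R : Type*) [CommRing R] (A B : Type*) [Ring A] [Algebra R A] [Ring B] [Algebra R B]

lemma faithfulSMul_tensor [Module.Finite R A] [Module.Projective R A] [FaithfulSMul R A]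
    [Module.Finite R B] [Module.Projective R B] [FaithfulSMul R B] :
    FaithfulSMul R (A ⊗[R] B) := by
  refine ⟨fun {r₁ r₂} h => ?_⟩
  rw [← sub_eq_zero]
  set r := r₁ - r₂ with hr
  have h0 : ∀ t : A ⊗[R] B, r • t = 0 := fun t => by rw [hr, sub_smul, h t, sub_self]
  apply eq_zero_of_forall_mul_dual (R := R) A (S := R) r
  intro φ a
  apply eq_zero_of_forall_mul_dual (R := R) B (S := R) (r * algebraMap R R (φ a))
  intro ψ b
  have := congrArg ((TensorProduct.lid R R).toLinearMap ∘ₗ TensorProduct.map φ ψ) (h0 (a ⊗ₜ b))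
  simpa [mul_assoc] using this

/-- the comparison `(A ⊗ Aᵐᵒᵖ) ⊗ (B ⊗ Bᵐᵒᵖ) ≃ (A ⊗ B) ⊗ (A ⊗ B)ᵐᵒᵖ`. -/
noncomputable def swapEquiv :
    (A ⊗[R] Aᵐᵒᵖ) ⊗[R] (B ⊗[R] Bᵐᵒᵖ) ≃ₗ[R] (A ⊗[R] B) ⊗[R] (A ⊗[R] B)ᵐᵒᵖ :=
  TensorProduct.tensorTensorTensorComm R A Aᵐᵒᵖ B Bᵐᵒᵖ ≪≫ₗ
    TensorProduct.congr (LinearEquiv.refl R _) (Algebra.TensorProduct.opAlgEquiv R R A B).toLinearEquiv

lemma mulLeftRight_comp_swapEquiv :
    (AlgHom.mulLeftRight R (A ⊗[R] B)).toLinearMap ∘ₗ (swapEquiv R A B).toLinearMap =
      homTensorHomMap (RingHom.id R) A B A B ∘ₗ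
        TensorProduct.map (AlgHom.mulLeftRight R A).toLinearMap (AlgHom.mulLeftRight R B).toLinearMap := by
  apply TensorProduct.ext'
  intro x y
  induction x using TensorProduct.induction_on with
  | zero => simp
  | add x₁ x₂ h₁ h₂ => simp only [add_tmul, map_add, h₁, h₂]
  | tmul a a' =>
    induction y using TensorProduct.induction_on with
    | zero => simp
    | add y₁ y₂ h₁ h₂ => simp only [tmul_add, map_add, h₁, h₂]
    | tmul b b' =>
      induction a' using MulOpposite.rec' with
      | h a' =>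
        induction b' using MulOpposite.rec' with
        | h b' =>
          apply TensorProduct.ext'
          intro u v
          simp [swapEquiv, Algebra.TensorProduct.opAlgEquiv_tmul]

theorem isAzumaya_tensor [IsAzumaya R A] [IsAzumaya R B] : IsAzumaya R (A ⊗[R] B) := by
  have := faithfulSMul_tensor R A B
  refine { bij := ?_ }
  have hΘ : Function.Bijective (homTensorHomMap (RingHom.id R) A B A B ∘ₗ
      TensorProduct.map (AlgHom.mulLeftRight R A).toLinearMap
        (AlgHom.mulLeftRight R B).toLinearMap) := by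
    rw [LinearMap.coe_comp]
    refine Function.Bijective.comp ?_ ?_
    · rw [← homTensorHomEquiv_toLinearMap]
      exact (homTensorHomEquiv R A B A B).bijective
    · exact (TensorProduct.congr
        (LinearEquiv.ofBijective (AlgHom.mulLeftRight R A).toLinearMap IsAzumaya.bij)
        (LinearEquiv.ofBijective (AlgHom.mulLeftRight R B).toLinearMap IsAzumaya.bij)).bijective
  rw [← mulLeftRight_comp_swapEquiv, LinearMap.coe_comp] at hΘ
  exact (Function.Bijective.of_comp_iff _ (swapEquiv R A B).bijective).mp hΘ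

end TensorAzumaya

end Groth.Agent.Lib.Helper3.Az
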