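import Groth.Agent.Lib.Helper3.RamPrimes

/-! Branch points of a quotient by an involution and primes with trivial residual involution
(helper3). -/

set_option autoImplicit false
universe u v

open TensorProduct IsLocalRing

namespace Groth.Agent.Lib.Helper3.BranchLocus

open AzInv Groth.Agent.Lib.Helper3.AdaptedLocal Groth.Agent.Lib.Helper80.RInvLib RInv

variable {S : Type u} {R : Type v} [CommRing S] [CommRing R] [Algebra S R]

/-- two primes over the same prime of the fixed ring coincide as soon as the involution is trivial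
modulo one of them -/
theorem eq_of_comap_eq_of_trivial {lam : R ≃+* R} (hlam : Function.Involutive lam)
    (hS : IsFixedRing S R lam) (q q' : Ideal R) [q.IsPrime] [q'.IsPrime]
    (hqq' : q'.comap (algebraMap S R) = q.comap (algebraMap S R))
    (hq : ∀ r : R, lam r - r ∈ q) : q' = q := by
  apply le_antisymm
  · intro r hr
    obtain ⟨n, hn⟩ := exists_norm hlam hS r
    have h1 : algebraMap S R n ∈ q' := by rw [hn]; exact q'.mul_mem_right _ hr
    have h2 : n ∈ q'.comap (algebraMap S R) := h1
    rw [hqq'] at h2
    have h3 : r * lam r ∈ q := by rw [← hn]; exact h2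
    rcases Ideal.IsPrime.mem_or_mem inferInstance h3 with h | h
    · exact h
    · have : r = lam r - (lam r - r) := by ring
      rw [this]
      exact q.sub_mem h (hq r)
  · intro r hr
    have hlr : lam r ∈ q := by
      have : lam r = r + (lam r - r) := by ring
      rw [this]
      exact q.add_mem hr (hq r)
    obtain ⟨n, hn⟩ := exists_norm hlam hS r
    obtain ⟨t, ht⟩ := exists_trace hlam hS r
    have h1 : n ∈ q.comap (algebraMap S R) := by
      show algebraMap S R n ∈ q
      rw [hn]
      exact q.mul_mem_right _ hr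
    have h2 : t ∈ q.comap (algebraMap S R) := by
      show algebraMap S R t ∈ q
      rw [ht]
      exact q.add_mem hr hlr
    rw [← hqq'] at h1 h2
    have h3 : r * lam r ∈ q' := by rw [← hn]; exact h1
    have h4 : r + lam r ∈ q' := by rw [← ht]; exact h2
    rcases Ideal.IsPrime.mem_or_mem inferInstance h3 with h | h
    · exact h
    · have : r = (r + lam r) - lam r := by ring
      rw [this]
      exact q'.sub_mem h4 h

/-- a prime modulo which the involution is trivial lies over a branch point -/
theorem not_qe_of_trivial {lam : R ≃+* R} (hlam : Function.Involutive lam)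
    (hS : IsFixedRing S R lam) (q : PrimeSpectrum R) (hq : ∀ r : R, lam r - r ∈ q.asIdeal) :
    ¬ RInv.IsQuadEtale
      (Localization.AtPrime (PrimeSpectrum.comap (algebraMap S R) q).asIdeal)
      (Localization.AtPrime (PrimeSpectrum.comap (algebraMap S R) q).asIdeal ⊗[S] R) :=
  RamPrimes.not_qe_of_ramified (lamAlg hS) hlam hS q hq

/-- over a branch point there is a prime modulo which the involution is trivial -/
theorem exists_trivial_over {lam : R ≃+* R} (hlam : Function.Involutive lam)
    (hS : IsFixedRing S R lam) (p : PrimeSpectrum S)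
    (hram : ¬ RInv.IsQuadEtale (Localization.AtPrime p.asIdeal)
      (Localization.AtPrime p.asIdeal ⊗[S] R)) :
    ∃ q : PrimeSpectrum R, q.asIdeal.comap (algebraMap S R) = p.asIdeal ∧
      ∀ r : R, lam r - r ∈ q.asIdeal := by
  haveI := p.isPrime
  set Sq := Localization.AtPrime p.asIdeal with hSq
  have hfixA : IsFixedRing S R (lamAlg hS).toRingEquiv := hS
  have hq : (maximalIdeal Sq).comap (algebraMap S Sq) = p.asIdeal :=
    IsLocalization.AtPrime.comap_maximalIdeal Sq p.asIdeal
  have hσ' : ∀ z, (lamBC Sq hS).toRingEquiv z = sig (lamAlg hS) Sq z := by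
    intro z
    induction z using TensorProduct.induction_on with
    | zero => simp
    | tmul s r =>
      show lamBC Sq hS (s ⊗ₜ[S] r) = _
      rw [lamBC_tmul, sig_tmul]
      rfl
    | add x y hx hy => rw [map_add, map_add, hx, hy]
  have hfix' := isFixedRing_baseChange Sq hS
  obtain ⟨hloc, hjac⟩ := RamLocal.ramified_local (lamAlg hS) hlam hfixA p hram Sq hq
    (lamBC Sq hS).toRingEquiv hσ' hfix'
  haveI := hloc
  have hσm : ∀ z, sig (lamAlg hS) Sq z - z ∈ maximalIdeal (Sq ⊗[S] R) := fun z =>
    (mem_ringJacobson_iff.mp (hjac z)) _ (maximalIdeal.isMaximal _)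
  let ι : R →+* Sq ⊗[S] R := (Algebra.TensorProduct.includeRight : R →ₐ[S] Sq ⊗[S] R).toRingHom
  have hι : ∀ r, ι r = (1 : Sq) ⊗ₜ[S] r := fun r => rfl
  refine ⟨⟨(maximalIdeal (Sq ⊗[S] R)).comap ι, Ideal.IsPrime.comap ι⟩, ?_, ?_⟩
  · ext s
    show ι (algebraMap S R s) ∈ maximalIdeal (Sq ⊗[S] R) ↔ s ∈ p.asIdeal
    rw [hι, one_tmul_algebraMap]
    constructor
    · intro hmem
      by_contra hs
      have hu : IsUnit (algebraMap S Sq s) :=
        IsLocalization.map_units Sq (⟨s, hs⟩ : p.asIdeal.primeCompl)
      exact (IsLocalRing.mem_maximalIdeal _).mp hmem (hu.map _)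
    · intro hs
      have hnu : ¬ IsUnit (algebraMap S Sq s) := by
        have : algebraMap S Sq s ∈ maximalIdeal Sq := by
          have : s ∈ (maximalIdeal Sq).comap (algebraMap S Sq) := by rw [hq]; exact hs
          exact this
        exact (IsLocalRing.mem_maximalIdeal _).mp this
      exact algebraMap_mem_of_not_isUnit (lamBC_involutive Sq hlam hS) hfix' hnu
        (maximalIdeal.isMaximal _)
  · intro r
    show ι (lam r - r) ∈ maximalIdeal (Sq ⊗[S] R)
    have := hσm ((1 : Sq) ⊗ₜ[S] r)
    rw [sig_tmul] at this
    rw [map_sub, hι, hι]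
    exact this

end Groth.Agent.Lib.Helper3.BranchLocus
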