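import Groth.Agent.Lib.Helper3.BranchLocus

/-! The branch locus of a quotient by an involution is closed, and the involution is trivial on
its reduced preimage (helper3). -/

set_option autoImplicit false
universe u v

open TensorProduct IsLocalRing Polynomial

namespace Groth.Agent.Lib.Helper3.BranchLocus

open Groth.Agent.Lib.Helper80.RInvLib RInv

variable {S : Type u} {R : Type v} [CommRing S] [CommRing R] [Algebra S R]

/-- `R` is integral over the fixed ring of an involution -/
theorem isIntegral_of_isFixedRing {lam : R ≃+* R} (hlam : Function.Involutive lam)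
    (hS : IsFixedRing S R lam) : (algebraMap S R).IsIntegral := by
  intro r
  obtain ⟨n, hn⟩ := exists_norm hlam hS r
  obtain ⟨t, ht⟩ := exists_trace hlam hS r
  refine ⟨X ^ 2 - C t * X + C n, ?_, ?_⟩
  · have h1 : (X ^ 2 - C t * X + C n : S[X]) = X ^ 2 + (-(C t * X) + C n) := by ring
    rw [h1]
    apply Polynomial.monic_X_pow_add
    have : (-(C t * X) + C n : S[X]).degree ≤ 1 := by
      refine (Polynomial.degree_add_le _ _).trans (max_le ?_ ?_)
      · rw [Polynomial.degree_neg]
        exact (Polynomial.degree_C_mul_X_le t)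
      · exact (Polynomial.degree_C_le).trans (by norm_num)
    exact lt_of_le_of_lt this (by norm_num)
  · rw [eval₂_add, eval₂_sub, eval₂_mul, eval₂_pow, eval₂_X, eval₂_C, eval₂_C, hn, ht]
    ring

/-- the branch locus -/
def branch (S : Type u) (R : Type v) [CommRing S] [CommRing R] [Algebra S R] :
    Set (PrimeSpectrum S) :=
  {p : PrimeSpectrum S | ¬ RInv.IsQuadEtale (Localization.AtPrime p.asIdeal)
    (Localization.AtPrime p.asIdeal ⊗[S] R)}

/-- the branch locus is the image of the locus where the involution is trivial -/
theorem branch_eq_image {lam : R ≃+* R} (hlam : Function.Involutive lam)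
    (hS : IsFixedRing S R lam) :
    branch S R = PrimeSpectrum.comap (algebraMap S R) ''
      PrimeSpectrum.zeroLocus (Set.range fun r : R => lam r - r) := by
  ext p
  constructor
  · intro hp
    obtain ⟨q, hq1, hq2⟩ := exists_trivial_over hlam hS p hp
    refine ⟨q, ?_, PrimeSpectrum.ext hq1⟩
    rintro _ ⟨r, rfl⟩
    exact hq2 r
  · rintro ⟨q, hq, rfl⟩
    exact not_qe_of_trivial hlam hS q (fun r => hq ⟨r, rfl⟩)

theorem isClosed_branch {lam : R ≃+* R} (hlam : Function.Involutive lam)
    (hS : IsFixedRing S R lam) : IsClosed (branch S R) := by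
  rw [branch_eq_image hlam hS]
  exact PrimeSpectrum.isClosedMap_comap_of_isIntegral _ (isIntegral_of_isFixedRing hlam hS) _
    (PrimeSpectrum.isClosed_zeroLocus _)

/-- a prime of `R` containing the extension of the vanishing ideal of the branch locus has trivial
residual involution -/
theorem trivial_of_map_le {lam : R ≃+* R} (hlam : Function.Involutive lam)
    (hS : IsFixedRing S R lam) (q : Ideal R) [q.IsPrime]
    (hq : (PrimeSpectrum.vanishingIdeal (branch S R)).map (algebraMap S R) ≤ q) (r : R) :
    lam r - r ∈ q := by
  have h1 : PrimeSpectrum.vanishingIdeal (branch S R) ≤ q.comap (algebraMap S R) :=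
    Ideal.map_le_iff_le_comap.mp hq
  let p : PrimeSpectrum S := ⟨q.comap (algebraMap S R), inferInstance⟩
  have hp : p ∈ PrimeSpectrum.zeroLocus (PrimeSpectrum.vanishingIdeal (branch S R) : Set S) := h1
  rw [PrimeSpectrum.zeroLocus_vanishingIdeal_eq_closure, (isClosed_branch hlam hS).closure_eq] at hp
  obtain ⟨q₀, hq1, hq2⟩ := exists_trivial_over hlam hS p hp
  haveI := q₀.isPrime
  have : q = q₀.asIdeal := eq_of_comap_eq_of_trivial hlam hS q₀.asIdeal q hq1.symm hq2
  rw [this]
  exact hq2 r

/-- the involution is trivial modulo the radical of the extension of the vanishing ideal of the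
branch locus -/
theorem sub_mem_radical {lam : R ≃+* R} (hlam : Function.Involutive lam)
    (hS : IsFixedRing S R lam) (r : R) :
    lam r - r ∈ ((PrimeSpectrum.vanishingIdeal (branch S R)).map (algebraMap S R)).radical := by
  rw [Ideal.radical_eq_sInf, Ideal.mem_sInf]
  rintro q ⟨hq1, hq2⟩
  haveI := hq2
  exact trivial_of_map_le hlam hS q hq1 r

end Groth.Agent.Lib.Helper3.BranchLocus
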