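import Mathlib
import Groth.Agent.Lib.Helper96.NormalInv
import Groth.Prelude.Def_SGA3

/-! Points calculus for the invariants of a Hopf algebra under right translation by a normal
subgroup: the antipode and the comultiplication preserve the invariants. -/

set_option autoImplicit false

open TensorProduct WithConv
universe u
namespace Groth.Agent.Lib.Helper3.CE1

open Groth.Agent.Lib.Helper96

variable (R : Type u) [CommRing R] {A : Type u} [CommRing A] [HopfAlgebra R A] (I : Ideal A)

/-- right translation by the subgroup `Spec A/I` -/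
noncomputable def rho : A →ₐ[R] A ⊗[R] (A ⧸ I) :=
  (Algebra.TensorProduct.map (AlgHom.id R A) (Ideal.Quotient.mkₐ R I)).comp
    (Bialgebra.comulAlgHom R A)

/-- `a ↦ a ⊗ 1` -/
noncomputable def iota : A →ₐ[R] A ⊗[R] (A ⧸ I) := Algebra.TensorProduct.includeLeft

/-- the universal point of the subgroup -/
noncomputable def hh : A →ₐ[R] A ⊗[R] (A ⧸ I) :=
  (Algebra.TensorProduct.includeRight).comp (Ideal.Quotient.mkₐ R I)

/-- the invariants under right translation -/
noncomputable def inv : Subalgebra R A := AlgHom.equalizer (rho R I) (iota R I)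

theorem mem_inv (a : A) : a ∈ inv R I ↔ rho R I a = iota R I a := AlgHom.mem_equalizer _ _ _

section pts
variable {R} {T : Type u} [CommRing T] [Algebra R T]

/-- inverse of a point -/
noncomputable def xi (x : A →ₐ[R] T) : A →ₐ[R] T := x.comp (HopfAlgebra.antipodeAlgHom R A)

theorem xi_apply (x : A →ₐ[R] T) (a : A) : xi x a = x (HopfAlgebra.antipode R a) := rfl

theorem conv_apply (x y : A →ₐ[R] T) (a : A) :
    ofConv (toConv x * toConv y) a =
      Algebra.TensorProduct.lift x y (fun _ _ => Commute.all _ _) (Coalgebra.comul (R := R) a) := by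
  have := AlgHom.convMul_apply (toConv x) (toConv y) a
  simpa using this

theorem xi_mul_self (x : A →ₐ[R] T) : toConv (xi x) * toConv x = 1 := NormalInv.inv_mul x
theorem self_mul_xi (x : A →ₐ[R] T) : toConv x * toConv (xi x) = 1 := NormalInv.mul_inv x

theorem xi_xi (x : A →ₐ[R] T) : toConv (xi (xi x)) = toConv x :=
  left_inv_eq_right_inv (xi_mul_self (xi x)) (xi_mul_self x)

theorem xi_conv (x y : A →ₐ[R] T) :
    toConv (xi (ofConv (toConv x * toConv y))) = toConv (xi y) * toConv (xi x) := by
  refine left_inv_eq_right_inv (xi_mul_self (ofConv (toConv x * toConv y))) ?_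
  simp only [toConv_ofConv]
  rw [mul_assoc, ← mul_assoc (toConv y), self_mul_xi, one_mul, self_mul_xi]

theorem comp_conv {T' : Type u} [CommRing T'] [Algebra R T'] (f : T →ₐ[R] T')
    (x y : A →ₐ[R] T) :
    f.comp (ofConv (toConv x * toConv y)) = ofConv (toConv (f.comp x) * toConv (f.comp y)) := by
  have := AlgHom.comp_convMul_distrib f (toConv x) (toConv y)
  simpa using this

theorem lift_eq_of {B : Type u} [CommRing B] [Algebra R B] (x : A →ₐ[R] T) (y : B →ₐ[R] T)
    (F : A ⊗[R] B →ₐ[R] T) (hx : ∀ a, F (a ⊗ₜ 1) = x a) (hy : ∀ b, F (1 ⊗ₜ b) = y b) :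
    Algebra.TensorProduct.lift x y (fun _ _ => Commute.all _ _) = F := by
  ext b
  · simp [hx]
  · simp [hy]

end pts

section pts2
variable {T : Type u} [CommRing T] [Algebra R T]

/-- an invariant function is unchanged by right multiplication by a point of the subgroup -/
theorem inv_right {a : A} (ha : a ∈ inv R I) (x h : A →ₐ[R] T) (hI : ∀ i ∈ I, h i = 0) :
    ofConv (toConv x * toConv h) a = x a := by
  rw [conv_apply]
  let hbar : (A ⧸ I) →ₐ[R] T := Ideal.Quotient.liftₐ I h hI
  have e : (Algebra.TensorProduct.lift x hbar (fun _ _ => Commute.all _ _)).comp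
      (Algebra.TensorProduct.map (AlgHom.id R A) (Ideal.Quotient.mkₐ R I)) =
      Algebra.TensorProduct.lift x h (fun _ _ => Commute.all _ _) := by
    ext b
    · simp [hbar]
    · simp only [AlgHom.comp_apply, Algebra.TensorProduct.includeRight_apply,
        Algebra.TensorProduct.map_tmul, map_one, Algebra.TensorProduct.lift_tmul, one_mul, hbar]
      rfl
  rw [← e, AlgHom.comp_apply]
  have h1 : Algebra.TensorProduct.map (AlgHom.id R A) (Ideal.Quotient.mkₐ R I)
      (Coalgebra.comul (R := R) a) = rho R I a := rfl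
  rw [h1, (mem_inv R I a).mp ha]
  simp [iota]

theorem rho_eq : rho R I = ofConv (toConv (iota R I) * toConv (hh R I)) := by
  apply AlgHom.ext
  intro a
  rw [conv_apply]
  have e : Algebra.TensorProduct.lift (iota R I) (hh R I) (fun _ _ => Commute.all _ _) =
      Algebra.TensorProduct.map (AlgHom.id R A) (Ideal.Quotient.mkₐ R I) := by
    ext b <;> simp [iota, hh]
  rw [e]
  rfl

theorem hh_zero (i : A) (hi : i ∈ I) : hh R I i = 0 := by
  have : Ideal.Quotient.mk I i = 0 := by
    rw [Ideal.Quotient.eq_zero_iff_mem]; exact hi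
  simp [hh, this]

/-- right invariance, in `lift` form -/
theorem lift_inv_right (x y n : A →ₐ[R] T) (hn : ∀ i ∈ I, n i = 0) {a : A} (ha : a ∈ inv R I) :
    Algebra.TensorProduct.lift x (ofConv (toConv y * toConv n)) (fun _ _ => Commute.all _ _)
      (Coalgebra.comul (R := R) a) =
    Algebra.TensorProduct.lift x y (fun _ _ => Commute.all _ _) (Coalgebra.comul (R := R) a) := by
  rw [← conv_apply, ← conv_apply, toConv_ofConv, ← mul_assoc]
  have := inv_right R I ha (ofConv (toConv x * toConv y)) n hn
  rwa [toConv_ofConv] at this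

variable {R I}
variable (hN : SGA3.IsNormalHopfIdeal R A I)

include hN in
/-- conjugates of points of a normal subgroup are points of the subgroup -/
theorem conj_zero (g h : A →ₐ[R] T)
    (hI : ∀ i ∈ I, h i = 0) (i : A) (hi : i ∈ I) :
    ofConv (toConv g * toConv h * toConv (xi g)) i = 0 := by
  have := hN T g h hI i hi
  rwa [NormalInv.conv3_eq] at this

include hN in
/-- left invariance, in `lift` form -/
theorem lift_inv_left (x n y : A →ₐ[R] T) (hn : ∀ i ∈ I, n i = 0) {a : A} (ha : a ∈ inv R I) :
    Algebra.TensorProduct.lift (ofConv (toConv x * toConv n)) y (fun _ _ => Commute.all _ _)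
      (Coalgebra.comul (R := R) a) =
    Algebra.TensorProduct.lift x y (fun _ _ => Commute.all _ _) (Coalgebra.comul (R := R) a) := by
  rw [← conv_apply, ← conv_apply, toConv_ofConv]
  have h3 : toConv x * toConv n * toConv y =
      toConv x * toConv y * (toConv (xi y) * toConv n * toConv (xi (xi y))) := by
    rw [xi_xi]
    simp only [mul_assoc]
    rw [← mul_assoc (toConv y) (toConv (xi y)), self_mul_xi, one_mul]
  rw [h3]
  have h4 := inv_right R I ha (ofConv (toConv x * toConv y))
    (ofConv (toConv (xi y) * toConv n * toConv (xi (xi y))))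
    (fun i hi => conj_zero hN (xi y) n hn i hi)
  rwa [toConv_ofConv, toConv_ofConv] at h4

include hN in
/-- generic form: the antipode of an invariant function is right-invariant -/
theorem antipode_inv_gen (hS : ∀ i ∈ I, HopfAlgebra.antipode R i ∈ I) {a : A}
    (ha : a ∈ inv R I) (g h : A →ₐ[R] T) (hh0 : ∀ i ∈ I, h i = 0) :
    ofConv (toConv g * toConv h) (HopfAlgebra.antipode R a) = g (HopfAlgebra.antipode R a) := by
  have h1 : ofConv (toConv g * toConv h) (HopfAlgebra.antipode R a) =
      xi (ofConv (toConv g * toConv h)) a := rfl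
  have h2 : xi (ofConv (toConv g * toConv h)) = ofConv (toConv (xi h) * toConv (xi g)) := by
    have := xi_conv g h
    exact toConv_injective this
  have hkill : ∀ i ∈ I, xi h i = 0 := fun i hi => hh0 _ (hS i hi)
  have h3 : toConv (xi h) * toConv (xi g) =
      toConv (xi g) * (toConv g * toConv (xi h) * toConv (xi g)) := by
    simp only [← mul_assoc]
    rw [xi_mul_self, one_mul]
  rw [h1, h2, h3]
  have h4 := inv_right R I ha (xi g) (ofConv (toConv g * toConv (xi h) * toConv (xi g)))
    (fun i hi => conj_zero hN g (xi h) hkill i hi)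
  rw [toConv_ofConv] at h4
  rw [h4]
  rfl

include hN in
/-- the antipode preserves the invariants of a normal subgroup -/
theorem antipode_mem_inv (hS : ∀ i ∈ I, HopfAlgebra.antipode R i ∈ I) {a : A}
    (ha : a ∈ inv R I) : HopfAlgebra.antipode R a ∈ inv R I := by
  rw [mem_inv, rho_eq]
  exact antipode_inv_gen hN hS ha (iota R I) (hh R I) (hh_zero R I)

end pts2

section comul
variable {R I}

/-- first invariance of the comultiplication of an invariant function (no normality needed) -/
theorem comul_inv_right {a : A} (ha : a ∈ inv R I) :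
    Algebra.TensorProduct.map (AlgHom.id R A) (rho R I) (Coalgebra.comul (R := R) a) =
      Algebra.TensorProduct.map (AlgHom.id R A) (iota R I) (Coalgebra.comul (R := R) a) := by
  have hn : ∀ i ∈ I, ((Algebra.TensorProduct.includeRight :
      A ⊗[R] (A ⧸ I) →ₐ[R] A ⊗[R] (A ⊗[R] (A ⧸ I))).comp (hh R I)) i = 0 := fun i hi => by
    rw [AlgHom.comp_apply, hh_zero R I i hi, map_zero]
  have key := lift_inv_right R I (T := A ⊗[R] (A ⊗[R] (A ⧸ I)))
    (Algebra.TensorProduct.includeLeft)
    ((Algebra.TensorProduct.includeRight).comp (iota R I))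
    ((Algebra.TensorProduct.includeRight).comp (hh R I)) hn ha
  have hyn := comp_conv (T := A ⊗[R] (A ⧸ I)) (T' := A ⊗[R] (A ⊗[R] (A ⧸ I)))
    (Algebra.TensorProduct.includeRight) (iota R I) (hh R I)
  rw [← rho_eq] at hyn
  rw [← hyn] at key
  have e1 := lift_eq_of (T := A ⊗[R] (A ⊗[R] (A ⧸ I))) (Algebra.TensorProduct.includeLeft)
    ((Algebra.TensorProduct.includeRight).comp (rho R I))
    (Algebra.TensorProduct.map (AlgHom.id R A) (rho R I)) (fun a => by simp) (fun b => by simp)
  have e2 := lift_eq_of (T := A ⊗[R] (A ⊗[R] (A ⧸ I))) (Algebra.TensorProduct.includeLeft)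
    ((Algebra.TensorProduct.includeRight).comp (iota R I))
    (Algebra.TensorProduct.map (AlgHom.id R A) (iota R I)) (fun a => by simp) (fun b => by simp)
  rw [e1, e2] at key
  exact key

/-- second invariance of the comultiplication of an invariant function -/
theorem comul_inv_left (hN : SGA3.IsNormalHopfIdeal R A I) {a : A} (ha : a ∈ inv R I) :
    Algebra.TensorProduct.map (rho R I) (AlgHom.id R A) (Coalgebra.comul (R := R) a) =
      Algebra.TensorProduct.map (iota R I) (AlgHom.id R A) (Coalgebra.comul (R := R) a) := by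
  have hn : ∀ i ∈ I, ((Algebra.TensorProduct.includeLeft :
      A ⊗[R] (A ⧸ I) →ₐ[R] (A ⊗[R] (A ⧸ I)) ⊗[R] A).comp (hh R I)) i = 0 := fun i hi => by
    rw [AlgHom.comp_apply, hh_zero R I i hi, map_zero]
  have key := lift_inv_left (T := (A ⊗[R] (A ⧸ I)) ⊗[R] A) hN
    ((Algebra.TensorProduct.includeLeft).comp (iota R I))
    ((Algebra.TensorProduct.includeLeft).comp (hh R I))
    (Algebra.TensorProduct.includeRight) hn ha
  have hyn := comp_conv (T := A ⊗[R] (A ⧸ I)) (T' := (A ⊗[R] (A ⧸ I)) ⊗[R] A)
    (Algebra.TensorProduct.includeLeft) (iota R I) (hh R I)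
  rw [← rho_eq] at hyn
  rw [← hyn] at key
  have e1 := lift_eq_of (T := (A ⊗[R] (A ⧸ I)) ⊗[R] A)
    ((Algebra.TensorProduct.includeLeft).comp (rho R I)) (Algebra.TensorProduct.includeRight)
    (Algebra.TensorProduct.map (rho R I) (AlgHom.id R A)) (fun a => by simp) (fun b => by simp)
  have e2 := lift_eq_of (T := (A ⊗[R] (A ⧸ I)) ⊗[R] A)
    ((Algebra.TensorProduct.includeLeft).comp (iota R I)) (Algebra.TensorProduct.includeRight)
    (Algebra.TensorProduct.map (iota R I) (AlgHom.id R A)) (fun a => by simp) (fun b => by simp)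
  rw [e1, e2] at key
  exact key

end comul

end Groth.Agent.Lib.Helper3.CE1
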