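import Mathlib
import Groth.Agent.Lib.Helper3.CE1

set_option autoImplicit false

open TensorProduct
universe u
namespace Groth.Agent.Lib.Helper3.CE2

open Groth.Agent.Lib.Helper3

section linalg
variable {R : Type u} [CommRing R] {A B C : Type u} [AddCommGroup A] [Module R A]
  [AddCommGroup B] [Module R B] [AddCommGroup C] [Module R C]

theorem mem_range_map_of_exact (j : B →ₗ[R] A) (d : A →ₗ[R] C) (hjd : Function.Exact j d)
    (hj : Function.Injective j) [Module.Flat R A] [Module.Flat R B] [Module.Flat R C]
    (z : A ⊗[R] A) (h1 : d.lTensor A z = 0) (h2 : d.rTensor A z = 0) :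
    z ∈ LinearMap.range (TensorProduct.map j j) := by
  obtain ⟨w, hw⟩ := (Module.Flat.lTensor_exact A hjd z).mp h1
  have h3 : (j.lTensor C) (d.rTensor B w) = 0 := by
    have : (j.lTensor C) (d.rTensor B w) = d.rTensor A (j.lTensor A w) := by
      rw [← LinearMap.comp_apply, ← LinearMap.comp_apply, LinearMap.lTensor_comp_rTensor,
        LinearMap.rTensor_comp_lTensor]
    rw [this, hw, h2]
  have hinj : Function.Injective (j.lTensor C) :=
    Module.Flat.lTensor_preserves_injective_linearMap j hj
  have h4 : d.rTensor B w = 0 := hinj (by rw [h3, map_zero])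
  obtain ⟨v, hv⟩ := (Module.Flat.rTensor_exact B hjd w).mp h4
  refine ⟨v, ?_⟩
  rw [← hw, ← hv, ← LinearMap.comp_apply, LinearMap.lTensor_comp_rTensor]

end linalg

section hopf
variable {R : Type u} [CommRing R] {A : Type u} [CommRing A] [HopfAlgebra R A] {I : Ideal A}

/-- the difference of the two maps cutting out the invariants -/
noncomputable def dd (R : Type u) [CommRing R] {A : Type u} [CommRing A] [HopfAlgebra R A]
    (I : Ideal A) : A →ₗ[R] A ⊗[R] (A ⧸ I) :=
  (CE1.rho R I).toLinearMap - (CE1.iota R I).toLinearMap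

theorem exact_val_dd : Function.Exact (CE1.inv R I).val.toLinearMap (dd R I) := by
  intro a
  constructor
  · intro h
    have : a ∈ CE1.inv R I := by
      rw [CE1.mem_inv]
      have h' : CE1.rho R I a - CE1.iota R I a = 0 := h
      exact sub_eq_zero.mp h'
    exact ⟨⟨a, this⟩, rfl⟩
  · rintro ⟨b, rfl⟩
    have := (CE1.mem_inv R I b.1).mp b.2
    show CE1.rho R I b.1 - CE1.iota R I b.1 = 0
    rw [this, sub_self]

theorem lTensor_dd (z : A ⊗[R] A) :
    (dd R I).lTensor A z = Algebra.TensorProduct.map (AlgHom.id R A) (CE1.rho R I) z -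
      Algebra.TensorProduct.map (AlgHom.id R A) (CE1.iota R I) z := by
  induction z using TensorProduct.induction_on with
  | zero => simp
  | tmul x y => simp [dd, TensorProduct.tmul_sub]
  | add x y hx hy => rw [map_add, hx, hy, map_add, map_add]; abel

theorem rTensor_dd (z : A ⊗[R] A) :
    (dd R I).rTensor A z = Algebra.TensorProduct.map (CE1.rho R I) (AlgHom.id R A) z -
      Algebra.TensorProduct.map (CE1.iota R I) (AlgHom.id R A) z := by
  induction z using TensorProduct.induction_on with
  | zero => simp
  | tmul x y =>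
    rw [LinearMap.rTensor_tmul]
    have : dd R I x = CE1.rho R I x - CE1.iota R I x := rfl
    rw [this, TensorProduct.sub_tmul]
    simp
  | add x y hx hy => rw [map_add, hx, hy, map_add, map_add]; abel

/-- the comultiplication preserves the invariants of a normal flat subgroup -/
theorem comul_mem_range (hN : SGA3.IsNormalHopfIdeal R A I) [Module.Flat R A]
    [Module.Flat R (A ⧸ I)] [Module.Flat R (CE1.inv R I)] {a : A} (ha : a ∈ CE1.inv R I) :
    Coalgebra.comul (R := R) a ∈ LinearMap.range
      (TensorProduct.map (CE1.inv R I).val.toLinearMap (CE1.inv R I).val.toLinearMap) := by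
  refine mem_range_map_of_exact _ (dd R I) exact_val_dd Subtype.val_injective _ ?_ ?_
  · rw [lTensor_dd, CE1.comul_inv_right ha, sub_self]
  · rw [rTensor_dd, CE1.comul_inv_left hN ha, sub_self]

end hopf

end Groth.Agent.Lib.Helper3.CE2
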