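import Mathlib
import Groth.Agent.Lib.Helper3.CE2

set_option autoImplicit false

open TensorProduct WithConv
universe u
namespace Groth.Agent.Lib.Helper3.CE3

open Groth.Agent.Lib.Helper3

section gen
variable {R : Type u} [CommRing R] {A : Type u} [CommRing A] [HopfAlgebra R A] (e : A)

/-- the separability idempotent: generic form -/
theorem sep_gen (he : IsIdempotentElem e) {T : Type u} [CommRing T] [Algebra R T]
    (x y : A →ₐ[R] T) {b : A} (hb : b ∈ CE1.inv R (Ideal.span ({1 - e} : Set A))) :
    (y b - x b) * (ofConv (toConv (CE1.xi x) * toConv y) e) = 0 := by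
  set n := ofConv (toConv (CE1.xi x) * toConv y) with hn
  set ε' := n e with hε'
  have hid : IsIdempotentElem ε' := he.map n
  let q := Ideal.Quotient.mkₐ R (Ideal.span ({1 - ε'} : Set T))
  have hq : ∀ i ∈ Ideal.span ({1 - e} : Set A), (q.comp n) i = 0 := by
    intro i hi
    obtain ⟨c, rfl⟩ := Ideal.mem_span_singleton'.mp hi
    have h0 : q (1 - ε') = 0 := by
      rw [Ideal.Quotient.mkₐ_eq_mk, Ideal.Quotient.eq_zero_iff_mem]
      exact Ideal.subset_span rfl
    rw [AlgHom.comp_apply, map_mul, map_mul, map_sub, map_one, ← hε', h0, mul_zero]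
  have h1 := CE1.inv_right R _ hb (q.comp x) (q.comp n) hq
  rw [← CE1.comp_conv] at h1
  have h2 : toConv x * toConv n = toConv y := by
    rw [hn, toConv_ofConv, ← mul_assoc, CE1.self_mul_xi, one_mul]
  rw [h2, ofConv_toConv, AlgHom.comp_apply, AlgHom.comp_apply] at h1
  have h3 : y b - x b ∈ Ideal.span ({1 - ε'} : Set T) := by
    rw [← Ideal.Quotient.eq]
    exact h1
  obtain ⟨c, hc⟩ := Ideal.mem_span_singleton'.mp h3
  rw [← hc, mul_assoc, sub_mul, one_mul, hid.eq, sub_self, mul_zero]

/-- the separability idempotent in `A ⊗ A` -/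
noncomputable def tA : A ⊗[R] A :=
  Algebra.TensorProduct.map (HopfAlgebra.antipodeAlgHom R A) (AlgHom.id R A)
    (Coalgebra.comul (R := R) e)

theorem sep_AA (he : IsIdempotentElem e) {b : A}
    (hb : b ∈ CE1.inv R (Ideal.span ({1 - e} : Set A))) :
    ((1 : A) ⊗ₜ[R] b - b ⊗ₜ[R] (1 : A)) * tA (R := R) e = 0 := by
  have key := sep_gen e he (T := A ⊗[R] A) Algebra.TensorProduct.includeLeft
    Algebra.TensorProduct.includeRight hb
  rw [CE1.conv_apply] at key
  have e1 := CE1.lift_eq_of (T := A ⊗[R] A) (CE1.xi Algebra.TensorProduct.includeLeft)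
    Algebra.TensorProduct.includeRight
    (Algebra.TensorProduct.map (HopfAlgebra.antipodeAlgHom R A) (AlgHom.id R A))
    (fun a => by simp [CE1.xi]) (fun b => by simp)
  rw [e1] at key
  exact key

theorem lmul_tA : Algebra.TensorProduct.lmul' R (tA (R := R) e) =
    algebraMap R A (Coalgebra.counit (R := R) e) := by
  have key : ∀ z : A ⊗[R] A, Algebra.TensorProduct.lmul' R
      (Algebra.TensorProduct.map (HopfAlgebra.antipodeAlgHom R A) (AlgHom.id R A) z) =
      LinearMap.mul' R A ((HopfAlgebra.antipode R).rTensor A z) := by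
    intro z
    induction z using TensorProduct.induction_on with
    | zero => simp
    | tmul x y => simp
    | add x y hx hy => rw [map_add, map_add, hx, hy, map_add, map_add]
  rw [tA, key, HopfAlgebra.mul_antipode_rTensor_comul_apply]

end gen

section unram
variable {R : Type u} [CommRing R] {A : Type u} [CommRing A] [HopfAlgebra R A]

/-- the antipode restricted to a stable subalgebra -/
noncomputable def SB (B : Subalgebra R A) (hS : ∀ b ∈ B, HopfAlgebra.antipode R b ∈ B) :
    B →ₗ[R] B where
  toFun b := ⟨HopfAlgebra.antipode R b.1, hS b.1 b.2⟩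
  map_add' x y := Subtype.ext (by simp)
  map_smul' r x := Subtype.ext (by simp)

theorem formallyUnramified_of_sep (B : Subalgebra R A) [Module.Flat R A] [Module.Flat R B]
    [Algebra.EssFiniteType R B]
    (hΔ : ∀ b ∈ B, Coalgebra.comul (R := R) b ∈
      LinearMap.range (TensorProduct.map B.val.toLinearMap B.val.toLinearMap))
    (hS : ∀ b ∈ B, HopfAlgebra.antipode R b ∈ B) (e : A) (heB : e ∈ B)
    (hε : Coalgebra.counit (R := R) e = 1)
    (hsep : ∀ b ∈ B, ((1 : A) ⊗ₜ[R] b - b ⊗ₜ[R] (1 : A)) * tA (R := R) e = 0) :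
    Algebra.FormallyUnramified R B := by
  obtain ⟨w, hw⟩ := hΔ e heB
  set t : B ⊗[R] B := TensorProduct.map (SB B hS) LinearMap.id w with ht
  let J : B ⊗[R] B →ₐ[R] A ⊗[R] A := Algebra.TensorProduct.map B.val B.val
  have hJ : Function.Injective J :=
    TensorProduct.map_injective_of_flat_flat B.val.toLinearMap B.val.toLinearMap
      Subtype.val_injective Subtype.val_injective
  have hJt : J t = tA (R := R) e := by
    have h1 : ∀ z : B ⊗[R] B, J (TensorProduct.map (SB B hS) LinearMap.id z) =
        Algebra.TensorProduct.map (HopfAlgebra.antipodeAlgHom R A) (AlgHom.id R A)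
          (TensorProduct.map B.val.toLinearMap B.val.toLinearMap z) := by
      intro z
      induction z using TensorProduct.induction_on with
      | zero => simp
      | tmul x y => simp [J, SB]
      | add x y hx hy => simp only [map_add, hx, hy]
    rw [ht, h1, hw, tA]
  rw [Algebra.FormallyUnramified.iff_exists_tensorProduct]
  refine ⟨t, fun s => hJ ?_, Subtype.val_injective ?_⟩
  · rw [map_mul, map_sub, map_zero, hJt]
    have h1 : J ((1 : B) ⊗ₜ[R] s) = (1 : A) ⊗ₜ[R] s.1 := by simp [J]
    have h2 : J (s ⊗ₜ[R] (1 : B)) = s.1 ⊗ₜ[R] (1 : A) := by simp [J]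
    rw [h1, h2]
    exact hsep s.1 s.2
  · have h1 : ∀ z : B ⊗[R] B, (Algebra.TensorProduct.lmul' R z : B).1 =
        Algebra.TensorProduct.lmul' R (J z) := by
      intro z
      induction z using TensorProduct.induction_on with
      | zero => simp
      | tmul x y => simp [J]
      | add x y hx hy => simp only [map_add, ← hx, ← hy]; rfl
    rw [h1, hJt, lmul_tA, hε, map_one]
    rfl

end unram

end Groth.Agent.Lib.Helper3.CE3
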