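import Mathlib
import Groth.Agent.Lib.Helper3.CE3
import Groth.Agent.S15063
import Groth.Agent.Lib.Helper95.HG5

set_option autoImplicit false

open TensorProduct WithConv
universe u
namespace Groth.Agent.Lib.Helper3.CE4

open Groth.Agent.Lib.Helper3
open Groth.Agent.Lib.Helper69.HopfUnit
open Groth.Agent.Lib.Helper95

section gen
variable {R : Type u} [CommRing R] {A : Type u} [CommRing A] [HopfAlgebra R A] (I : Ideal A)

/-- `ε ⊗ id : A ⊗ A/I → A/I` -/
noncomputable def psi : A ⊗[R] (A ⧸ I) →ₐ[R] (A ⧸ I) :=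
  Algebra.TensorProduct.lift ((Algebra.ofId R (A ⧸ I)).comp (Bialgebra.counitAlgHom R A))
    (AlgHom.id R _) (fun _ _ => Commute.all _ _)

theorem psi_comp_rho : (psi (R := R) I).comp (CE1.rho R I) = Ideal.Quotient.mkₐ R I := by
  rw [CE1.rho_eq, CE1.comp_conv]
  have hg : (psi (R := R) I).comp (CE1.iota R I) = ofConv (1 : WithConv (A →ₐ[R] A ⧸ I)) := by
    ext a
    simp [psi, CE1.iota, AlgHom.convOne_def]
  have hh : (psi (R := R) I).comp (CE1.hh R I) = Ideal.Quotient.mkₐ R I := by
    ext a
    simp [psi, CE1.hh]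
  rw [hg, hh, toConv_ofConv, one_mul, ofConv_toConv]

theorem mk_eq_of_mem_inv {b : A} (hb : b ∈ CE1.inv R I) :
    Ideal.Quotient.mk I b = algebraMap R (A ⧸ I) (Coalgebra.counit (R := R) b) := by
  have h1 := DFunLike.congr_fun (psi_comp_rho (R := R) I) b
  rw [AlgHom.comp_apply, (CE1.mem_inv R I b).mp hb] at h1
  rw [Ideal.Quotient.mkₐ_eq_mk] at h1
  rw [← h1]
  simp [psi, CE1.iota]

end gen

section hens
variable (R : Type u) [CommRing R]
    (A : Type u) [CommRing A] [HopfAlgebra R A]
    (e : A) (he : IsIdempotentElem e) (hε : Bialgebra.counitAlgHom R A e = 1)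

local notation "II" => Ideal.span ({1 - e} : Set A)

theorem theta_comp_rho :
    (Groth.Agent.S15063.theta R A e hε).comp (CE1.rho R II) = AlgHom.id R A := by
  rw [CE1.rho_eq, CE1.comp_conv]
  have hg : (Groth.Agent.S15063.theta R A e hε).comp (CE1.iota R II) = AlgHom.id R A := by
    ext a
    simp [Groth.Agent.S15063.theta, CE1.iota]
  have hh₀ : (Groth.Agent.S15063.theta R A e hε).comp (CE1.hh R II) =
      ofConv (1 : WithConv (A →ₐ[R] A)) := by
    ext a
    simp [Groth.Agent.S15063.theta, CE1.hh, AlgHom.convOne_def, epsBar] <;> rfl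
  rw [hg, hh₀, toConv_ofConv, mul_one, ofConv_toConv]

include he hε in
theorem e_mem_inv [Nontrivial R] [IsLocalRing (A ⧸ II)] [Module.Finite R A] :
    e ∈ CE1.inv R II := by
  rw [CE1.mem_inv]
  have hf : IsIdempotentElem (CE1.rho R II e) := he.map _
  have hg : IsIdempotentElem (CE1.iota R II e) := he.map _
  apply Groth.Agent.Lib.Helper58.HenselPair.idempotent_eq_of_sub_mem_jacobson hf hg
  rw [Ideal.jacobson, Ideal.mem_sInf]
  rintro M ⟨-, hM⟩
  have key := Groth.Agent.S15063.sub_mem_of_isMaximal' R A e hε M (CE1.rho R II e)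
  have h1 : Groth.Agent.S15063.theta R A e hε (CE1.rho R II e) = e := by
    have := DFunLike.congr_fun (theta_comp_rho R A e hε) e
    simpa using this
  rw [h1] at key
  exact key

include he hε in
theorem augIdealSpan_eq [Nontrivial R] [IsLocalRing (A ⧸ II)] [Module.Finite R A] :
    SGA3.augIdealSpan R A (CE1.inv R II) = II := by
  apply le_antisymm
  · rw [SGA3.augIdealSpan, Ideal.span_le]
    rintro a ⟨haB, ha0⟩
    have := mk_eq_of_mem_inv (R := R) II haB
    rw [ha0, map_zero] at this
    exact Ideal.Quotient.eq_zero_iff_mem.mp this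
  · rw [Ideal.span_le, Set.singleton_subset_iff]
    apply Ideal.subset_span
    refine ⟨Subalgebra.sub_mem _ (Subalgebra.one_mem _) (e_mem_inv R A e he hε), ?_⟩
    have h1 : Coalgebra.counit (R := R) e = 1 := hε
    rw [map_sub, h1, Bialgebra.counit_one, sub_self]

end hens

section final
variable (R : Type u) [CommRing R] [HenselianLocalRing R] [IsNoetherianRing R]
    (A : Type u) [CommRing A] [HopfAlgebra R A] [Module.Finite R A] [Module.Flat R A]
    (e : A) (he : IsIdempotentElem e) (hε : Bialgebra.counitAlgHom R A e = 1)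
    [IsLocalRing (A ⧸ Ideal.span ({1 - e} : Set A))]

local notation "II" => Ideal.span ({1 - e} : Set A)

include he hε in
theorem faithfullyFlat : Module.FaithfullyFlat (CE1.inv R II) A := by
  haveI : (II).IsHopfIdeal R := isHopfIdeal R A e hε he
  haveI : Module.Flat R (A ⧸ II) := flat_quotient R A e he
  haveI : Module.Finite R (A ⧸ II) :=
    Module.Finite.of_surjective (Ideal.Quotient.mkₐ R II).toLinearMap
      (Ideal.Quotient.mkₐ_surjective R II)
  haveI : Module.FinitePresentation R A := Module.finitePresentation_of_finite R A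
  haveI : Module.FinitePresentation R (A ⧸ II) := Module.finitePresentation_of_finite R _
  haveI : Module.Projective R A := Module.Flat.projective_of_finitePresentation
  haveI : Module.Projective R (A ⧸ II) := Module.Flat.projective_of_finitePresentation
  obtain ⟨⟨hfin, hflat, -⟩, -⟩ :=
    HG3.main (HG4.ρ R II) (HG4.hco II) (HG4.hcounit II) (HG4.hfree II) (HG4.hint II)
  let σ : CE1.inv R II →+* HG5.Cs R II :=
    { toFun := fun x => ⟨x.1, (HG5.mem_equalizer_iff R II x.1).mp x.2⟩
      map_one' := rfl
      map_mul' := fun _ _ => rfl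
      map_zero' := rfl
      map_add' := fun _ _ => rfl }
  have hσ : Function.Bijective σ :=
    ⟨fun x y h => Subtype.ext (congrArg (fun z : HG5.Cs R II => z.1) h),
      fun y => ⟨⟨y.1, (HG5.mem_equalizer_iff R II y.1).mpr y.2⟩, rfl⟩⟩
  have hcomp : algebraMap (CE1.inv R II) A = (HG5.Cs R II).subtype.comp σ := rfl
  haveI : Module.Flat (CE1.inv R II) A := by
    rw [← RingHom.flat_algebraMap_iff, hcomp]
    exact RingHom.Flat.comp (RingHom.Flat.of_bijective hσ) hflat
  haveI : Algebra.IsIntegral R A := Algebra.IsIntegral.of_finite R A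
  haveI : Algebra.IsIntegral (CE1.inv R II) A := Algebra.IsIntegral.tower_top R
  haveI : FaithfulSMul (CE1.inv R II) A :=
    (faithfulSMul_iff_algebraMap_injective _ _).mpr Subtype.val_injective
  exact Module.FaithfullyFlat.of_comap_surjective (Algebra.IsIntegral.comap_surjective _ _)

include he hε in
theorem main :
    SGA3.IsHopfSubalgebra R A (CE1.inv R II) ∧ Algebra.Etale R (CE1.inv R II) ∧
      Module.FaithfullyFlat (CE1.inv R II) A ∧ SGA3.augIdealSpan R A (CE1.inv R II) = II := by
  haveI hFF : Module.FaithfullyFlat (CE1.inv R II) A := faithfullyFlat R A e he hε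
  haveI : Module.Flat R (CE1.inv R II) := T2.flat_of_faithfullyFlat_of_flat (A := A)
  haveI : Module.Finite R (CE1.inv R II) :=
    Module.Finite.of_injective (CE1.inv R II).val.toLinearMap Subtype.val_injective
  haveI : Module.Flat R (A ⧸ II) := flat_quotient R A e he
  have hN : SGA3.IsNormalHopfIdeal R A II := Groth.Agent.S15063.result R A e he hε
  haveI : (II).IsHopfIdeal R := isHopfIdeal R A e hε he
  have hS : ∀ i ∈ II, HopfAlgebra.antipode R i ∈ II :=
    fun i hi => Ideal.IsHopfIdeal.antipode_mem hi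
  have hHopf : SGA3.IsHopfSubalgebra R A (CE1.inv R II) :=
    ⟨fun b hb => CE2.comul_mem_range hN hb, fun b hb => CE1.antipode_mem_inv hN hS hb⟩
  refine ⟨hHopf, ?_, hFF, augIdealSpan_eq R A e he hε⟩
  haveI : Algebra.FinitePresentation R (CE1.inv R II) :=
    Algebra.FinitePresentation.of_finiteType.mp inferInstance
  haveI : Algebra.FormallyUnramified R (CE1.inv R II) :=
    CE3.formallyUnramified_of_sep (CE1.inv R II) hHopf.1 hHopf.2 e (e_mem_inv R A e he hε) hε
      (fun b hb => CE3.sep_AA e he hb)
  exact Algebra.Etale.of_formallyUnramified_of_flat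

end final

end Groth.Agent.Lib.Helper3.CE4
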