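import Mathlib.RingTheory.Spectrum.Prime.RingHom
import Mathlib.RingTheory.Flat.Basic
import Mathlib.RingTheory.Flat.FaithfullyFlat.Basic
import Mathlib.LinearAlgebra.Basis.VectorSpace
import Mathlib.RingTheory.Ideal.Quotient.Basic

/-! A common field for two algebras whose spectra meet over a prime (helper3). -/

set_option autoImplicit false
universe u

open TensorProduct

namespace Groth.Agent.Lib.Helper3.CommonField

/-- two algebras whose spectra hit a common prime map to a common field -/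
theorem exists_common_field {R : Type u} [CommRing R] (T₁ T₂ : Type u) [CommRing T₁] [CommRing T₂]
    [Algebra R T₁] [Algebra R T₂] (q : PrimeSpectrum R)
    (h₁ : q ∈ Set.range (PrimeSpectrum.comap (algebraMap R T₁)))
    (h₂ : q ∈ Set.range (PrimeSpectrum.comap (algebraMap R T₂))) :
    ∃ (K₀ : Type u) (_ : Field K₀) (_ : Algebra R K₀),
      Nonempty (T₁ →ₐ[R] K₀) ∧ Nonempty (T₂ →ₐ[R] K₀) := by
  set κ := q.asIdeal.ResidueField with hκ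
  haveI : Nontrivial (κ ⊗[R] T₁) := (PrimeSpectrum.nontrivial_iff_mem_rangeComap q).mpr h₁
  haveI : Nontrivial (κ ⊗[R] T₂) := (PrimeSpectrum.nontrivial_iff_mem_rangeComap q).mpr h₂
  haveI : Nontrivial ((κ ⊗[R] T₁) ⊗[κ] (κ ⊗[R] T₂)) :=
    Algebra.TensorProduct.nontrivial_of_algebraMap_injective_of_flat_left (R := κ)
      (κ ⊗[R] T₁) (κ ⊗[R] T₂) (algebraMap κ (κ ⊗[R] T₂)).injective
  obtain ⟨m, hm⟩ := Ideal.exists_maximal ((κ ⊗[R] T₁) ⊗[κ] (κ ⊗[R] T₂))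
  letI : Field (((κ ⊗[R] T₁) ⊗[κ] (κ ⊗[R] T₂)) ⧸ m) := Ideal.Quotient.field m
  let ψ₁ : T₁ →+* ((κ ⊗[R] T₁) ⊗[κ] (κ ⊗[R] T₂)) ⧸ m :=
    (Ideal.Quotient.mk m).comp
      ((Algebra.TensorProduct.includeLeft : (κ ⊗[R] T₁) →ₐ[κ] (κ ⊗[R] T₁) ⊗[κ] (κ ⊗[R] T₂)).toRingHom.comp
        (Algebra.TensorProduct.includeRight : T₁ →ₐ[R] κ ⊗[R] T₁).toRingHom)
  let ψ₂ : T₂ →+* ((κ ⊗[R] T₁) ⊗[κ] (κ ⊗[R] T₂)) ⧸ m :=
    (Ideal.Quotient.mk m).comp
      ((Algebra.TensorProduct.includeRight : (κ ⊗[R] T₂) →ₐ[κ] (κ ⊗[R] T₁) ⊗[κ] (κ ⊗[R] T₂)).toRingHom.comp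
        (Algebra.TensorProduct.includeRight : T₂ →ₐ[R] κ ⊗[R] T₂).toRingHom)
  have hcompat : ∀ r : R, ψ₁ (algebraMap R T₁ r) = ψ₂ (algebraMap R T₂ r) := by
    intro r
    show Ideal.Quotient.mk m (((1 : κ) ⊗ₜ[R] algebraMap R T₁ r) ⊗ₜ[κ] (1 : κ ⊗[R] T₂)) =
      Ideal.Quotient.mk m ((1 : κ ⊗[R] T₁) ⊗ₜ[κ] ((1 : κ) ⊗ₜ[R] algebraMap R T₂ r))
    congr 1
    have e1 : ((1 : κ) ⊗ₜ[R] algebraMap R T₁ r : κ ⊗[R] T₁) =
        algebraMap R κ r • (1 : κ ⊗[R] T₁) := by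
      rw [Algebra.TensorProduct.one_def, TensorProduct.smul_tmul', smul_eq_mul, mul_one]
      have : algebraMap R T₁ r = r • (1 : T₁) := Algebra.algebraMap_eq_smul_one r
      rw [this, ← TensorProduct.smul_tmul, Algebra.smul_def, mul_one]
    have e2 : ((1 : κ) ⊗ₜ[R] algebraMap R T₂ r : κ ⊗[R] T₂) =
        algebraMap R κ r • (1 : κ ⊗[R] T₂) := by
      rw [Algebra.TensorProduct.one_def, TensorProduct.smul_tmul', smul_eq_mul, mul_one]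
      have : algebraMap R T₂ r = r • (1 : T₂) := Algebra.algebraMap_eq_smul_one r
      rw [this, ← TensorProduct.smul_tmul, Algebra.smul_def, mul_one]
    rw [e1, e2, TensorProduct.smul_tmul]
  letI : Algebra R (((κ ⊗[R] T₁) ⊗[κ] (κ ⊗[R] T₂)) ⧸ m) :=
    (ψ₁.comp (algebraMap R T₁)).toAlgebra
  refine ⟨((κ ⊗[R] T₁) ⊗[κ] (κ ⊗[R] T₂)) ⧸ m, inferInstance, inferInstance,
    ⟨{ ψ₁ with commutes' := fun r => rfl }⟩, ⟨{ ψ₂ with commutes' := fun r => (hcompat r).symm }⟩⟩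

end Groth.Agent.Lib.Helper3.CommonField
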