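import Mathlib.RingTheory.Spectrum.Prime.FreeLocus
import Mathlib.RingTheory.Support
import Mathlib.RingTheory.Nakayama
import Mathlib.RingTheory.Finiteness.Projective

/-!
# Finitely generated projective modules over a connected base (helper3)

Constant rank, faithfulness of non-zero modules, and the decomposition of the range of an idempotent
endomorphism along a smaller idempotent.
-/

set_option autoImplicit false
universe u v
open scoped TensorProduct

namespace Groth.Agent.Lib.Helper3.ConnProj

section faithful

variable {R : Type u} [CommRing R] (M : Type v) [AddCommGroup M] [Module R M]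
  [Module.Finite R M] [Module.Projective R M]

/-- a finitely generated projective module with full support has unit trace ideal -/
lemma one_mem_trace_of_support (hsupp : Module.support R M = Set.univ) :
    (1 : R) ∈ Ideal.span {r : R | ∃ (φ : M →ₗ[R] R) (x : M), φ x = r} := by
  set τ : Ideal R := Ideal.span {r : R | ∃ (φ : M →ₗ[R] R) (x : M), φ x = r} with hτ
  obtain ⟨n, s, g, -, -, hsg⟩ := Module.Finite.exists_comp_eq_id_of_projective R M
  have hle : (⊤ : Submodule R M) ≤ τ • ⊤ := by
    intro x _
    have hx : x = ∑ i, (g x i) • s (Pi.single i 1) := by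
      conv_lhs => rw [← LinearMap.id_apply (R := R) x, ← hsg, LinearMap.comp_apply,
        pi_eq_sum_univ' (g x), map_sum]
      refine Finset.sum_congr rfl (fun i _ => ?_)
      rw [map_smul]
    rw [hx]
    refine Submodule.sum_mem _ (fun i _ => ?_)
    refine Submodule.smul_mem_smul ?_ Submodule.mem_top
    exact Ideal.subset_span ⟨(LinearMap.proj i).comp g, x, rfl⟩
  obtain ⟨r, hr1, hr0⟩ := Submodule.exists_sub_one_mem_and_smul_eq_zero_of_fg_of_le_smul τ
    (⊤ : Submodule R M) Module.Finite.fg_top hle
  -- `r` annihilates `M`, so lies in every prime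
  have hnil : IsNilpotent r := by
    rw [nilpotent_iff_mem_prime]
    intro p hp
    have hmem : (⟨p, hp⟩ : PrimeSpectrum R) ∈ Module.support R M := by rw [hsupp]; trivial
    rw [Module.support_eq_zeroLocus, PrimeSpectrum.mem_zeroLocus] at hmem
    apply hmem
    rw [SetLike.mem_coe, Module.mem_annihilator]
    intro x
    exact hr0 x Submodule.mem_top
  have hu : IsUnit (1 - r) := hnil.isUnit_one_sub
  have hmem : 1 - r ∈ τ := by
    have := τ.neg_mem hr1
    rwa [neg_sub] at this
  have : τ = ⊤ := Ideal.eq_top_of_isUnit_mem τ hmem hu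
  rw [this]
  trivial

lemma eq_zero_of_smul_eq_zero_of_support (hsupp : Module.support R M = Set.univ) (r : R)
    (hr : ∀ x : M, r • x = 0) : r = 0 := by
  have key : ∀ t ∈ Ideal.span {r : R | ∃ (φ : M →ₗ[R] R) (x : M), φ x = r}, r * t = 0 := by
    intro t ht
    induction ht using Submodule.span_induction with
    | mem t ht =>
      obtain ⟨φ, x, rfl⟩ := ht
      rw [← smul_eq_mul, ← map_smul, hr, map_zero]
    | zero => simp
    | add a b _ _ ha hb => rw [mul_add, ha, hb, add_zero]
    | smul a b _ hb => rw [smul_eq_mul, mul_left_comm, hb, mul_zero]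
  simpa using key 1 (one_mem_trace_of_support M hsupp)

variable [ConnectedSpace (PrimeSpectrum R)]

/-- over a connected base the rank of a finitely generated projective module is constant -/
lemma rankAtStalk_const (p q : PrimeSpectrum R) :
    Module.rankAtStalk M p = Module.rankAtStalk M q := by
  haveI : Module.FinitePresentation R M := Module.finitePresentation_of_projective R M
  exact (Module.isLocallyConstant_rankAtStalk (R := R) (M := M)).apply_eq_of_preconnectedSpace p q

lemma subsingleton_of_rankAtStalk_eq_zero (p : PrimeSpectrum R)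
    (h : Module.rankAtStalk M p = 0) : Subsingleton M := by
  rw [← Module.rankAtStalk_eq_zero_iff_subsingleton (R := R)]
  ext q
  rw [rankAtStalk_const M q p, h]
  rfl

lemma support_eq_univ [Nontrivial M] : Module.support R M = Set.univ := by
  rw [Set.eq_univ_iff_forall]
  intro p
  rw [← Module.rankAtStalk_pos_iff_mem_support]
  by_contra h
  have h0 : Module.rankAtStalk M p = 0 := by omega
  have := subsingleton_of_rankAtStalk_eq_zero M p h0
  exact not_subsingleton M this

lemma eq_zero_of_smul_eq_zero [Nontrivial M] (r : R) (hr : ∀ x : M, r • x = 0) : r = 0 :=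
  eq_zero_of_smul_eq_zero_of_support M (support_eq_univ M) r hr

end faithful

section idem

variable {R : Type u} [CommRing R] {N : Type v} [AddCommGroup N] [Module R N]

lemma mem_range_idem {q : Module.End R N} (hq : IsIdempotentElem q) {x : N} :
    x ∈ LinearMap.range q ↔ q x = x := by
  constructor
  · rintro ⟨y, rfl⟩
    rw [← Module.End.mul_apply, hq.eq]
  · intro h
    exact ⟨x, h⟩

instance projective_range_idem [Module.Projective R N] {q : Module.End R N}
    [hq : Fact (IsIdempotentElem q)] : Module.Projective R (LinearMap.range q) :=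
  Module.Projective.of_split (LinearMap.range q).subtype q.rangeRestrict (by
    ext ⟨x, hx⟩
    exact (mem_range_idem hq.out).mp hx)

/-- for idempotents `q' ≤ q`, `range q ≃ range q' × range (q - q')` -/
noncomputable def rangeEquivProd {q q' : Module.End R N} (hq : IsIdempotentElem q)
    (hq' : IsIdempotentElem q') (h1 : q' * q = q') (h2 : q * q' = q') :
    LinearMap.range q ≃ₗ[R] LinearMap.range q' × LinearMap.range (q - q') where
  toFun x := (⟨q' x, ⟨x, rfl⟩⟩, ⟨(q - q') x, ⟨x, rfl⟩⟩)
  map_add' x y := by
    ext
    · simp
    · simp only [Submodule.coe_add, map_add, LinearMap.sub_apply, Prod.mk_add_mk,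
        AddMemClass.mk_add_mk]
  map_smul' r x := by ext <;> simp [smul_sub]
  invFun yz := ⟨(yz.1 : N) + yz.2, by
    have hy : q' (yz.1 : N) = yz.1 := (mem_range_idem hq').mp yz.1.2
    obtain ⟨w, hw⟩ := yz.2.2
    rw [mem_range_idem hq, map_add, ← hy, ← Module.End.mul_apply, h2, ← hw,
      ← Module.End.mul_apply, mul_sub, hq.eq, h2]⟩
  left_inv x := by
    have hx : q (x : N) = x := (mem_range_idem hq).mp x.2
    ext
    simp [hx]
  right_inv yz := by
    have hy : q' (yz.1 : N) = yz.1 := (mem_range_idem hq').mp yz.1.2
    obtain ⟨w, hw⟩ := yz.2.2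
    have hz1 : q' (yz.2 : N) = 0 := by
      rw [← hw, ← Module.End.mul_apply, mul_sub, h1, hq'.eq, sub_self, LinearMap.zero_apply]
    have hz2 : q (yz.2 : N) = yz.2 := by
      rw [← hw, ← Module.End.mul_apply, mul_sub, hq.eq, h2]
    have hy2 : q (yz.1 : N) = yz.1 := by
      rw [← hy, ← Module.End.mul_apply, h2]
    ext
    · simp [hy, hz1]
    · simp [hy, hz1, hz2, hy2]

end idem

end Groth.Agent.Lib.Helper3.ConnProj
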