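import Mathlib.RingTheory.Idempotents
import Mathlib.Algebra.Azumaya.Basic
import Mathlib.Algebra.Algebra.Opposite
import Mathlib.RingTheory.TensorProduct.Maps
import Mathlib.RingTheory.Finiteness.Basic

/-!
# Corners of Azumaya algebras (helper3)

For an idempotent `e` of an Azumaya algebra `A`: the corner `eAe` (Mathlib's `IsIdempotentElem.Corner`)
is an `R`-algebra, Azumaya as soon as it is faithful (`isAzumaya_corner`), and
`A ⊗ (eAe)ᵒᵖ ≃ End_R(Ae)` (`Φ_bijective`).  Both by viewing the relevant `End` as a corner of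
`End_R(A) ≃ A ⊗ Aᵒᵖ`.
-/

set_option autoImplicit false
universe u v
open scoped TensorProduct

namespace Groth.Agent.Lib.Helper3.CornerAz

variable {R : Type*} [CommRing R] {A : Type*} [Ring A] [Algebra R A] {e : A}
  (he : IsIdempotentElem e)

/-- the underlying element of `A` -/
def val (b : he.Corner) : A := b.1

lemma val_injective : Function.Injective (val he) := Subtype.val_injective

lemma e_mul (b : he.Corner) : e * val he b = val he b :=
  ((Subsemigroup.mem_corner_iff he).mp b.2).1
lemma mul_e (b : he.Corner) : val he b * e = val he b :=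
  ((Subsemigroup.mem_corner_iff he).mp b.2).2

@[simp] lemma val_one : val he (1 : he.Corner) = e := rfl
@[simp] lemma val_mul (b c : he.Corner) : val he (b * c) = val he b * val he c := rfl
@[simp] lemma val_add (b c : he.Corner) : val he (b + c) = val he b + val he c := rfl
@[simp] lemma val_zero : val he (0 : he.Corner) = 0 := rfl
@[simp] lemma val_neg (b : he.Corner) : val he (-b) = - val he b := rfl
@[simp] lemma val_sub (b c : he.Corner) : val he (b - c) = val he b - val he c := rfl

/-- `x ↦ e x e` into the corner -/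
def mk (x : A) : he.Corner := ⟨e * x * e, ⟨x, rfl⟩⟩

@[simp] lemma val_mk (x : A) : val he (mk he x) = e * x * e := rfl

lemma mk_val (b : he.Corner) : mk he (val he b) = b := by
  apply val_injective
  rw [val_mk, e_mul, mul_e]

/-- the structure map `R → eAe` -/
def algMap : R →+* he.Corner where
  toFun r := mk he (r • 1)
  map_one' := by
    apply val_injective
    simp [he.eq]
  map_mul' r s := by
    apply val_injective
    simp only [val_mk, val_mul, mul_smul_comm, mul_one, smul_mul_assoc, he.eq]
    rw [smul_smul, mul_comm]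
  map_zero' := by
    apply val_injective
    simp
  map_add' r s := by
    apply val_injective
    simp only [val_mk, val_add, add_smul, mul_add, add_mul]

lemma val_algMap (r : R) : val he (algMap he r) = r • e := by
  change e * (r • 1) * e = r • e
  rw [mul_smul_comm, mul_one, smul_mul_assoc, he.eq]

instance : Algebra R he.Corner :=
  (algMap he).toAlgebra' (fun r b => by
    apply val_injective
    rw [val_mul, val_mul, val_algMap, smul_mul_assoc, mul_smul_comm, e_mul, mul_e])

lemma val_smul (r : R) (b : he.Corner) : val he (r • b) = r • val he b := by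
  rw [Algebra.smul_def]
  change val he (algMap he r * b) = _
  rw [val_mul, val_algMap, smul_mul_assoc, e_mul]

/-- inclusion `eAe → A` as a linear map -/
def valₗ : he.Corner →ₗ[R] A where
  toFun := val he
  map_add' := val_add he
  map_smul' := val_smul he

/-- `x ↦ e x e` as a linear map -/
def mkₗ : A →ₗ[R] he.Corner where
  toFun := mk he
  map_add' x y := by
    apply val_injective
    simp [mul_add, add_mul]
  map_smul' r x := by
    apply val_injective
    rw [val_smul]
    simp

lemma mkₗ_comp_valₗ : mkₗ (R := R) he ∘ₗ valₗ he = LinearMap.id := by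
  ext b
  exact mk_val he b

section azumaya

/-- `ι ⊗ ιᵒᵖ` -/
noncomputable def ιι : he.Corner ⊗[R] he.Cornerᵐᵒᵖ →ₗ[R] A ⊗[R] Aᵐᵒᵖ :=
  TensorProduct.map (valₗ he)
    ((MulOpposite.opLinearEquiv R).toLinearMap ∘ₗ valₗ he ∘ₗ
      (MulOpposite.opLinearEquiv R).symm.toLinearMap)

/-- `π ⊗ πᵒᵖ` -/
noncomputable def ππ : A ⊗[R] Aᵐᵒᵖ →ₗ[R] he.Corner ⊗[R] he.Cornerᵐᵒᵖ :=
  TensorProduct.map (mkₗ he)
    ((MulOpposite.opLinearEquiv R).toLinearMap ∘ₗ mkₗ he ∘ₗ
      (MulOpposite.opLinearEquiv R).symm.toLinearMap)

lemma ππ_ιι (z : he.Corner ⊗[R] he.Cornerᵐᵒᵖ) : ππ (R := R) he (ιι he z) = z := by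
  induction z using TensorProduct.induction_on with
  | zero => simp
  | add x y hx hy => rw [map_add, map_add, hx, hy]
  | tmul b c =>
    simp only [ιι, ππ, TensorProduct.map_tmul, LinearMap.comp_apply, LinearEquiv.coe_coe,
      MulOpposite.coe_opLinearEquiv_symm, MulOpposite.coe_opLinearEquiv, MulOpposite.unop_op]
    change (mk he (val he b)) ⊗ₜ[R] MulOpposite.op (mk he (val he c.unop)) = _
    rw [mk_val, mk_val, MulOpposite.op_unop]

lemma K1 (z : he.Corner ⊗[R] he.Cornerᵐᵒᵖ) (x : A) :
    AlgHom.mulLeftRight R A (ιι he z) x =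
      val he (AlgHom.mulLeftRight R he.Corner z (mk he x)) := by
  induction z using TensorProduct.induction_on with
  | zero => simp
  | add z w hz hw => simp only [map_add, LinearMap.add_apply, hz, hw, val_add]
  | tmul b c =>
    simp only [ιι, TensorProduct.map_tmul, LinearMap.comp_apply, LinearEquiv.coe_coe,
      MulOpposite.coe_opLinearEquiv_symm, MulOpposite.coe_opLinearEquiv,
      AlgHom.mulLeftRight_apply, MulOpposite.unop_op, val_mul, val_mk]
    change val he b * x * val he c.unop = _
    have h1 : val he b * e = val he b := mul_e he b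
    have h2 : e * val he c.unop = val he c.unop := e_mul he _
    calc val he b * x * val he c.unop = (val he b * e) * x * (e * val he c.unop) := by
          rw [h1, h2]
      _ = val he b * (e * x * e) * val he c.unop := by simp only [mul_assoc]

lemma K2 (w : A ⊗[R] Aᵐᵒᵖ) (y : he.Corner) :
    AlgHom.mulLeftRight R he.Corner (ππ he w) y =
      mk he (AlgHom.mulLeftRight R A w (val he y)) := by
  induction w using TensorProduct.induction_on with
  | zero =>
    apply val_injective
    simp
  | add z w hz hw =>
    simp only [map_add, LinearMap.add_apply, hz, hw]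
    apply val_injective
    simp [mul_add, add_mul]
  | tmul a a' =>
    apply val_injective
    simp only [ππ, TensorProduct.map_tmul, LinearMap.comp_apply, LinearEquiv.coe_coe,
      MulOpposite.coe_opLinearEquiv_symm, MulOpposite.coe_opLinearEquiv,
      AlgHom.mulLeftRight_apply, MulOpposite.unop_op, val_mul, val_mk]
    change (e * a * e) * val he y * (e * a'.unop * e) = _
    have h1 : e * val he y = val he y := e_mul he y
    have h2 : val he y * e = val he y := mul_e he y
    calc (e * a * e) * val he y * (e * a'.unop * e)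
        = e * a * (e * val he y * e) * a'.unop * e := by simp only [mul_assoc]
      _ = e * (a * val he y * a'.unop) * e := by rw [h1, h2]; simp only [mul_assoc]

variable [IsAzumaya R A]

theorem mulLeftRight_bijective :
    Function.Bijective (AlgHom.mulLeftRight R he.Corner) := by
  have hA : Function.Bijective (AlgHom.mulLeftRight R A) := IsAzumaya.bij
  constructor
  · rw [injective_iff_map_eq_zero]
    intro z hz
    have h0 : AlgHom.mulLeftRight R A (ιι he z) = 0 := by
      ext x
      rw [K1, hz]
      simp
    have h1 : ιι (R := R) he z = 0 := by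
      apply hA.1
      rw [h0, map_zero]
    rw [← ππ_ιι he z, h1, map_zero]
  · intro φ
    obtain ⟨w, hw⟩ := hA.2 (valₗ he ∘ₗ φ ∘ₗ mkₗ he)
    refine ⟨ππ he w, ?_⟩
    ext y
    rw [K2, hw]
    simp only [LinearMap.comp_apply]
    change mk he (val he (φ (mk he (val he y)))) = φ y
    rw [mk_val, mk_val]

instance : Module.Finite R he.Corner :=
  haveI : Module.Finite R A := IsAzumaya.toFinite
  Module.Finite.of_surjective (mkₗ (R := R) he) (fun b => ⟨val he b, mk_val he b⟩)

instance : Module.Projective R he.Corner :=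
  haveI : Module.Projective R A := IsAzumaya.toProjective
  Module.Projective.of_split (valₗ (R := R) he) (mkₗ he) (mkₗ_comp_valₗ he)

theorem isAzumaya_corner (hfaith : ∀ r : R, r • e = 0 → r = 0) : IsAzumaya R he.Corner :=
  { eq_of_smul_eq_smul := fun {r s} h => by
      have h1 := congrArg (val he) (h 1)
      rw [val_smul, val_smul, val_one, ← sub_eq_zero, ← sub_smul] at h1
      exact sub_eq_zero.mp (hfaith _ h1)
    bij := mulLeftRight_bijective he }

end azumaya

section leftIdeal

/-- the left ideal `Ae` as an `R`-submodule -/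
def Lid (e : A) : Submodule R A := LinearMap.range (LinearMap.mulRight R e)

include he in
lemma mem_Lid {x : A} : x ∈ Lid (R := R) e ↔ x * e = x := by
  constructor
  · rintro ⟨y, rfl⟩
    simp [mul_assoc, he.eq]
  · intro h
    exact ⟨x, h⟩

/-- `x ↦ x e` onto `Ae` -/
def toLid : A →ₗ[R] Lid (R := R) e := (LinearMap.mulRight R e).rangeRestrict

@[simp] lemma coe_toLid (x : A) : ((toLid (R := R) x : Lid (R := R) e) : A) = x * e := rfl

include he in
lemma toLid_coe (m : Lid (R := R) e) : toLid (R := R) (m : A) = m :=
  Subtype.ext ((mem_Lid he).mp m.2)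

/-- left multiplication on `Ae` -/
def lmulLid : A →ₐ[R] Module.End R (Lid (R := R) e) where
  toFun a := (LinearMap.mulLeft R a).restrict (by
    rintro _ ⟨y, rfl⟩
    exact ⟨a * y, by simp [mul_assoc]⟩)
  map_one' := by ext; simp
  map_mul' a b := by ext; simp [mul_assoc]
  map_zero' := by ext; simp
  map_add' a b := by ext; simp [add_mul]
  commutes' r := by ext; simp [Algebra.smul_def]

@[simp] lemma coe_lmulLid (a : A) (m : Lid (R := R) e) :
    ((lmulLid (R := R) a m : Lid (R := R) e) : A) = a * m := rfl

/-- right multiplication by the corner on `Ae` -/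
def rmulLid : he.Cornerᵐᵒᵖ →ₐ[R] Module.End R (Lid (R := R) e) where
  toFun b := (LinearMap.mulRight R (val he b.unop)).restrict (by
    intro x hx
    rw [mem_Lid he] at hx ⊢
    simp only [LinearMap.mulRight_apply, mul_assoc, mul_e])
  map_one' := by
    ext m
    simp only [MulOpposite.unop_one, val_one, LinearMap.coe_restrict_apply,
      LinearMap.mulRight_apply, Module.End.one_apply]
    exact (mem_Lid he).mp m.2
  map_mul' a b := by ext; simp [mul_assoc]
  map_zero' := by ext; simp
  map_add' a b := by ext; simp [mul_add]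
  commutes' r := by
    ext m
    simp only [MulOpposite.algebraMap_apply, MulOpposite.unop_op, LinearMap.coe_restrict_apply,
      LinearMap.mulRight_apply, Module.algebraMap_end_apply, Submodule.coe_smul]
    change (m : A) * val he (algMap he r) = r • (m : A)
    rw [val_algMap, mul_smul_comm, (mem_Lid he).mp m.2]

@[simp] lemma coe_rmulLid (b : he.Cornerᵐᵒᵖ) (m : Lid (R := R) e) :
    ((rmulLid he b m : Lid (R := R) e) : A) = m * val he b.unop := rfl

/-- `A ⊗ (eAe)ᵒᵖ → End_R(Ae)` -/
noncomputable def Φ : A ⊗[R] he.Cornerᵐᵒᵖ →ₐ[R] Module.End R (Lid (R := R) e) :=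
  Algebra.TensorProduct.lift lmulLid (rmulLid he) (fun a b => by
    ext m
    simp [mul_assoc])

lemma Φ_tmul (a : A) (b : he.Cornerᵐᵒᵖ) (m : Lid (R := R) e) :
    ((Φ he (a ⊗ₜ[R] b) m : Lid (R := R) e) : A) = a * m * val he b.unop := by
  have h : Φ he (a ⊗ₜ[R] b) = lmulLid (R := R) a * rmulLid he b :=
    Algebra.TensorProduct.lift_tmul _ _ _ a b
  rw [h, Module.End.mul_apply, coe_lmulLid, coe_rmulLid, mul_assoc]

/-- `id ⊗ ιᵒᵖ` -/
noncomputable def idι : A ⊗[R] he.Cornerᵐᵒᵖ →ₗ[R] A ⊗[R] Aᵐᵒᵖ :=
  TensorProduct.map LinearMap.id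
    ((MulOpposite.opLinearEquiv R).toLinearMap ∘ₗ valₗ he ∘ₗ
      (MulOpposite.opLinearEquiv R).symm.toLinearMap)

/-- `id ⊗ πᵒᵖ` -/
noncomputable def idπ : A ⊗[R] Aᵐᵒᵖ →ₗ[R] A ⊗[R] he.Cornerᵐᵒᵖ :=
  TensorProduct.map LinearMap.id
    ((MulOpposite.opLinearEquiv R).toLinearMap ∘ₗ mkₗ he ∘ₗ
      (MulOpposite.opLinearEquiv R).symm.toLinearMap)

lemma idπ_idι (z : A ⊗[R] he.Cornerᵐᵒᵖ) : idπ (R := R) he (idι he z) = z := by
  induction z using TensorProduct.induction_on with
  | zero => simp
  | add x y hx hy => rw [map_add, map_add, hx, hy]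
  | tmul b c =>
    simp only [idι, idπ, TensorProduct.map_tmul, LinearMap.comp_apply, LinearEquiv.coe_coe,
      MulOpposite.coe_opLinearEquiv_symm, MulOpposite.coe_opLinearEquiv, MulOpposite.unop_op,
      LinearMap.id_apply]
    change b ⊗ₜ[R] MulOpposite.op (mk he (val he c.unop)) = _
    rw [mk_val, MulOpposite.op_unop]

lemma K1' (z : A ⊗[R] he.Cornerᵐᵒᵖ) (x : A) :
    AlgHom.mulLeftRight R A (idι he z) x = ((Φ he z (toLid x) : Lid (R := R) e) : A) := by
  induction z using TensorProduct.induction_on with
  | zero => simp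
  | add z w hz hw => simp only [map_add, LinearMap.add_apply, hz, hw, Submodule.coe_add]
  | tmul b c =>
    rw [Φ_tmul]
    simp only [idι, TensorProduct.map_tmul, LinearMap.comp_apply, LinearEquiv.coe_coe,
      MulOpposite.coe_opLinearEquiv_symm, MulOpposite.coe_opLinearEquiv,
      AlgHom.mulLeftRight_apply, MulOpposite.unop_op, LinearMap.id_apply, coe_toLid]
    change b * x * val he c.unop = _
    have h2 : e * val he c.unop = val he c.unop := e_mul he _
    calc b * x * val he c.unop = b * x * (e * val he c.unop) := by rw [h2]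
      _ = b * (x * e) * val he c.unop := by simp only [mul_assoc]

lemma K2' (w : A ⊗[R] Aᵐᵒᵖ) (m : Lid (R := R) e) :
    Φ he (idπ he w) m = toLid (AlgHom.mulLeftRight R A w (m : A)) := by
  induction w using TensorProduct.induction_on with
  | zero => simp
  | add z w hz hw => simp only [map_add, LinearMap.add_apply, hz, hw]
  | tmul a a' =>
    apply Subtype.ext
    simp only [idπ, TensorProduct.map_tmul, LinearMap.comp_apply, LinearEquiv.coe_coe,
      MulOpposite.coe_opLinearEquiv_symm, MulOpposite.coe_opLinearEquiv,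
      AlgHom.mulLeftRight_apply, LinearMap.id_apply, coe_toLid]
    rw [Φ_tmul]
    change a * (m : A) * (e * a'.unop * e) = _
    have h1 : (m : A) * e = m := (mem_Lid he).mp m.2
    calc a * (m : A) * (e * a'.unop * e) = a * ((m : A) * e) * a'.unop * e := by
          simp only [mul_assoc]
      _ = a * (m : A) * a'.unop * e := by rw [h1]

theorem Φ_bijective [IsAzumaya R A] : Function.Bijective (Φ (R := R) he) := by
  have hA : Function.Bijective (AlgHom.mulLeftRight R A) := IsAzumaya.bij
  constructor
  · rw [injective_iff_map_eq_zero]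
    intro z hz
    have h0 : AlgHom.mulLeftRight R A (idι he z) = 0 := by
      ext x
      rw [K1', hz]
      simp
    have h1 : idι (R := R) he z = 0 := by
      apply hA.1
      rw [h0, map_zero]
    rw [← idπ_idι he z, h1, map_zero]
  · intro φ
    obtain ⟨w, hw⟩ := hA.2 ((Lid (R := R) e).subtype ∘ₗ φ ∘ₗ toLid)
    refine ⟨idπ he w, ?_⟩
    ext m
    rw [K2', hw]
    simp only [LinearMap.comp_apply, Submodule.subtype_apply, coe_toLid]
    rw [toLid_coe he m]
    exact (mem_Lid he).mp (φ m).2

end leftIdeal

end Groth.Agent.Lib.Helper3.CornerAz
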