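import Groth.Agent.Lib.Helper3.CycVec
import Mathlib.RingTheory.Flat.Localization
import Mathlib.RingTheory.Flat.Stability
import Mathlib.RingTheory.Localization.BaseChange
import Mathlib.RingTheory.MvPolynomial.Basic
import Mathlib.RingTheory.TensorProduct.Maps
import Mathlib.LinearAlgebra.Matrix.MvPolynomial
import Mathlib.RingTheory.Adjoin.Basic
import Mathlib.RingTheory.Ideal.Quotient.Operations

/-!
# Flatness of the commutant scheme of a fibrewise regular matrix (helper3)

`flat_quotient`: for fibrewise regular `g`, `A[x_ij]/(Xg - gX)` is flat over `A`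
(locally a polynomial ring in `n` variables; shown as a retract of one after localisation).
-/

set_option autoImplicit false
universe u
open Polynomial TensorProduct

namespace Groth.Agent.Lib.Helper3.CycFlat

open Groth.Agent.Lib.Helper3.CycVec

section coeffs

variable {B : Type u} [CommRing B] {n : ℕ} (g : Matrix (Fin n) (Fin n) B) (v : Fin n → B)

/-- explicit form of `CycVec.exists_aeval_eq`. -/
theorem exists_coeffs_eq (hP : IsUnit (krylov g v)) (x : Matrix (Fin n) (Fin n) B)
    (hx : x * g = g * x) : ∃ a : Fin n → B, x = ∑ j : Fin n, a j • g ^ (j : ℕ) := by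
  obtain ⟨a, ha⟩ := (Matrix.mulVec_surjective_iff_isUnit.mpr hP) (x.mulVec v)
  refine ⟨a, ?_⟩
  set y := ∑ j : Fin n, a j • g ^ (j : ℕ) with hy
  have hyv : y.mulVec v = x.mulVec v := by rw [hy, ← krylov_mulVec, ha]
  have hyg : ∀ k : ℕ, y * g ^ k = g ^ k * y := by
    intro k
    rw [hy, Finset.sum_mul, Finset.mul_sum]
    refine Finset.sum_congr rfl fun j _ => ?_
    rw [Matrix.smul_mul, Matrix.mul_smul, ← pow_add, ← pow_add, add_comm]
  have hxg : ∀ k : ℕ, x * g ^ k = g ^ k * x := by
    intro k
    exact ((Commute.pow_right (show Commute x g from hx) k)).eq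
  have hcol : x * krylov g v = y * krylov g v := by
    ext i j
    rw [mul_krylov_apply, mul_krylov_apply, hxg, hyg, ← Matrix.mulVec_mulVec,
      ← Matrix.mulVec_mulVec, hyv]
  exact hP.mul_left_injective hcol

end coeffs

section setup

variable {A : Type u} [CommRing A] {n : ℕ} (g : Matrix (Fin n) (Fin n) A)

/-- the relation matrix `X g - g X` over the polynomial ring. -/
noncomputable def relMat : Matrix (Fin n) (Fin n) (MvPolynomial (Fin n × Fin n) A) :=
  Matrix.mvPolynomialX (Fin n) (Fin n) A * g.map MvPolynomial.C -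
    g.map MvPolynomial.C * Matrix.mvPolynomialX (Fin n) (Fin n) A

/-- the ideal of the commutant scheme. -/
noncomputable def relIdeal : Ideal (MvPolynomial (Fin n × Fin n) A) :=
  Ideal.span (Set.range fun ij : Fin n × Fin n => relMat g ij.1 ij.2)

/-- image of the relation matrix under an algebra map. -/
lemma relMat_map {R' : Type u} [CommRing R'] [Algebra A R']
    (φ : MvPolynomial (Fin n × Fin n) A →ₐ[A] R') :
    (relMat g).map φ = (Matrix.of fun i j => φ (MvPolynomial.X (i, j))) * g.map (algebraMap A R') -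
      g.map (algebraMap A R') * (Matrix.of fun i j => φ (MvPolynomial.X (i, j))) := by
  have h1 : (Matrix.mvPolynomialX (Fin n) (Fin n) A).map φ =
      Matrix.of fun i j => φ (MvPolynomial.X (i, j)) := by
    ext i j
    simp [Matrix.mvPolynomialX]
  have h2 : (g.map MvPolynomial.C).map φ = g.map (algebraMap A R') := by
    ext i j
    simp
  rw [relMat, Matrix.map_sub (hf := fun a b => map_sub φ a b), Matrix.map_mul, Matrix.map_mul, h1, h2]

lemma relIdeal_le_ker {R' : Type u} [CommRing R'] [Algebra A R']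
    (φ : MvPolynomial (Fin n × Fin n) A →ₐ[A] R')
    (h : (Matrix.of fun i j => φ (MvPolynomial.X (i, j))) * g.map (algebraMap A R') =
      g.map (algebraMap A R') * (Matrix.of fun i j => φ (MvPolynomial.X (i, j)))) :
    ∀ x ∈ relIdeal g, φ x = 0 := by
  intro x hx
  have hle : relIdeal g ≤ RingHom.ker φ.toRingHom := by
    rw [relIdeal, Ideal.span_le]
    rintro _ ⟨ij, rfl⟩
    have := congrFun (congrFun (relMat_map g φ) ij.1) ij.2
    rw [h, sub_self] at this
    exact this
  exact hle hx

end setup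

section tensor

variable {A : Type u} [CommRing A] {n : ℕ} (g : Matrix (Fin n) (Fin n) A)

/-- universal commuting matrix over the quotient -/
noncomputable def Xbar : Matrix (Fin n) (Fin n) (MvPolynomial (Fin n × Fin n) A ⧸ relIdeal g) :=
  Matrix.of fun i j => Ideal.Quotient.mk (relIdeal g) (MvPolynomial.X (i, j))

lemma Xbar_comm : Xbar g * g.map (algebraMap A (MvPolynomial (Fin n × Fin n) A ⧸ relIdeal g)) =
    g.map (algebraMap A (MvPolynomial (Fin n × Fin n) A ⧸ relIdeal g)) * Xbar g := by
  have h1 := relMat_map g (Ideal.Quotient.mkₐ A (relIdeal g))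
  have h0 : (relMat g).map (Ideal.Quotient.mkₐ A (relIdeal g)) = 0 := by
    ext i j
    simp only [Matrix.map_apply, Matrix.zero_apply]
    exact Ideal.Quotient.eq_zero_iff_mem.mpr (Ideal.subset_span ⟨(i, j), rfl⟩)
  rw [h0] at h1
  exact sub_eq_zero.mp h1.symm

lemma map_sum_smul_pow {R₁ R₂ : Type u} [CommRing R₁] [CommRing R₂] (β : R₁ →+* R₂)
    (c : Fin n → R₁) (M : Matrix (Fin n) (Fin n) R₁) :
    (∑ k : Fin n, c k • M ^ (k : ℕ)).map β = ∑ k : Fin n, β (c k) • (M.map β) ^ (k : ℕ) := by
  have h := map_sum (RingHom.mapMatrix (m := Fin n) β) (fun k : Fin n => c k • M ^ (k : ℕ)) Finset.univ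
  simp only [RingHom.mapMatrix_apply] at h
  rw [h]
  refine Finset.sum_congr rfl fun k _ => ?_
  rw [Matrix.map_smul' _ _ _ (fun a b => map_mul β a b)]
  congr 1
  have := (RingHom.mapMatrix (m := Fin n) β).map_pow M (k : ℕ)
  simpa [RingHom.mapMatrix_apply] using this

variable (A' : Type u) [CommRing A'] [Algebra A A']
  (Q : Type u) [CommRing Q] [Algebra A Q] (Xb : Matrix (Fin n) (Fin n) Q)

/-- abstract form: `Q` is the universal `A`-algebra with a matrix commuting with `g`. -/
theorem flat_tensor_of_krylov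
    (hXb : Xb * g.map (algebraMap A Q) = g.map (algebraMap A Q) * Xb)
    (hgen : Algebra.adjoin A (Set.range fun ij : Fin n × Fin n => Xb ij.1 ij.2) = ⊤)
    (huniv : ∀ (Y : Matrix (Fin n) (Fin n) (MvPolynomial (Fin n) A')),
      Y * g.map (algebraMap A (MvPolynomial (Fin n) A')) =
        g.map (algebraMap A (MvPolynomial (Fin n) A')) * Y →
      ∃ φ : Q →ₐ[A] MvPolynomial (Fin n) A', Xb.map φ = Y)
    (v : Fin n → A') (hP : IsUnit (krylov (g.map (algebraMap A A')) v)) :
    Module.Flat A' (A' ⊗[A] Q) := by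
  let incl : Q →ₐ[A] A' ⊗[A] Q := Algebra.TensorProduct.includeRight
  let XT : Matrix (Fin n) (Fin n) (A' ⊗[A] Q) := Xb.map incl
  let gT : Matrix (Fin n) (Fin n) (A' ⊗[A] Q) := g.map (algebraMap A (A' ⊗[A] Q))
  have hgT : (g.map (algebraMap A Q)).map incl = gT := by
    ext i j
    simp [gT]
  have hXT : XT * gT = gT * XT := by
    rw [← hgT, ← Matrix.map_mul, ← Matrix.map_mul, hXb]
  let π : A' →+* A' ⊗[A] Q := algebraMap A' (A' ⊗[A] Q)
  have hPT : IsUnit (krylov gT (π ∘ v)) := by
    have h1 : gT = (g.map (algebraMap A A')).map π := by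
      ext i j
      simp only [gT, Matrix.map_apply, π]
      rw [← IsScalarTower.algebraMap_apply]
    rw [h1, ← krylov_map]
    exact (RingHom.mapMatrix π).isUnit_map hP
  obtain ⟨a, ha⟩ := exists_coeffs_eq gT (π ∘ v) hPT XT hXT
  let g'' : Matrix (Fin n) (Fin n) (MvPolynomial (Fin n) A') :=
    g.map (algebraMap A (MvPolynomial (Fin n) A'))
  let Y : Matrix (Fin n) (Fin n) (MvPolynomial (Fin n) A') :=
    ∑ k : Fin n, (MvPolynomial.X k : MvPolynomial (Fin n) A') • g'' ^ (k : ℕ)
  have hY : Y * g'' = g'' * Y := by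
    simp only [Y]
    rw [Finset.sum_mul, Finset.mul_sum]
    refine Finset.sum_congr rfl fun j _ => ?_
    rw [Matrix.smul_mul, Matrix.mul_smul, ← pow_succ, ← pow_succ']
  obtain ⟨α₁, hα₁⟩ := huniv Y hY
  let α : A' ⊗[A] Q →ₐ[A'] MvPolynomial (Fin n) A' :=
    Algebra.TensorProduct.lift (Algebra.ofId A' _) α₁ (fun _ _ => Commute.all _ _)
  let β : MvPolynomial (Fin n) A' →ₐ[A'] A' ⊗[A] Q := MvPolynomial.aeval a
  have hβY : Y.map β = XT := by
    rw [ha]
    simp only [Y]
    have := map_sum_smul_pow β.toRingHom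
      (fun k => (MvPolynomial.X k : MvPolynomial (Fin n) A')) g''
    rw [show (∑ k : Fin n, (MvPolynomial.X k : MvPolynomial (Fin n) A') • g'' ^ (k : ℕ)).map β =
      (∑ k : Fin n, (MvPolynomial.X k : MvPolynomial (Fin n) A') • g'' ^ (k : ℕ)).map
        β.toRingHom from rfl, this]
    refine Finset.sum_congr rfl fun k _ => ?_
    congr 1
    · simp [β]
    · congr 1
      ext i j
      simp only [g'', gT, Matrix.map_apply]
      rw [IsScalarTower.algebraMap_apply A A' (MvPolynomial (Fin n) A')]
      show β (algebraMap A' (MvPolynomial (Fin n) A') (algebraMap A A' (g i j))) = _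
      rw [AlgHom.commutes, ← IsScalarTower.algebraMap_apply]
  have hret : β.comp α = AlgHom.id A' _ := by
    apply Algebra.TensorProduct.ext
    · apply AlgHom.ext
      intro x
      simp [α]
    · apply AlgHom.ext_of_adjoin_eq_top hgen
      rintro _ ⟨ij, rfl⟩
      have h1 : β (Y ij.1 ij.2) = XT ij.1 ij.2 := by
        rw [← hβY]
        rfl
      have h2 : α₁ (Xb ij.1 ij.2) = Y ij.1 ij.2 := by
        rw [← hα₁]
        rfl
      simp only [AlgHom.coe_comp, AlgHom.coe_restrictScalars', Function.comp_apply,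
        Algebra.TensorProduct.includeRight_apply, AlgHom.coe_id, id_eq]
      simp only [α, Algebra.TensorProduct.lift_tmul, map_one, one_mul]
      rw [h2, h1]
      rfl
  exact Module.Flat.of_retract α.toLinearMap β.toLinearMap
    (LinearMap.ext fun x => AlgHom.congr_fun hret x)

end tensor

section final

variable {A : Type u} [CommRing A] {n : ℕ} (g : Matrix (Fin n) (Fin n) A)

lemma Xbar_gen : Algebra.adjoin A (Set.range fun ij : Fin n × Fin n => Xbar g ij.1 ij.2) = ⊤ := by
  have h1 : Algebra.adjoin A (Set.range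
      (MvPolynomial.X : Fin n × Fin n → MvPolynomial (Fin n × Fin n) A)) = ⊤ :=
    MvPolynomial.adjoin_range_X
  have h2 := congrArg (Subalgebra.map (Ideal.Quotient.mkₐ A (relIdeal g))) h1
  rw [Algebra.map_top, AlgHom.map_adjoin, ← Set.range_comp,
    (AlgHom.range_eq_top _).mpr (Ideal.Quotient.mkₐ_surjective A _)] at h2
  exact h2

lemma Xbar_univ {R' : Type u} [CommRing R'] [Algebra A R'] (Y : Matrix (Fin n) (Fin n) R')
    (hY : Y * g.map (algebraMap A R') = g.map (algebraMap A R') * Y) :
    ∃ φ : (MvPolynomial (Fin n × Fin n) A ⧸ relIdeal g) →ₐ[A] R', (Xbar g).map φ = Y := by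
  let α₀ : MvPolynomial (Fin n × Fin n) A →ₐ[A] R' := MvPolynomial.aeval (fun ij => Y ij.1 ij.2)
  have hα₀ : (Matrix.of fun i j => α₀ (MvPolynomial.X (i, j))) = Y := by
    ext i j
    simp [α₀]
  refine ⟨Ideal.Quotient.liftₐ (relIdeal g) α₀ (relIdeal_le_ker g α₀ (by rw [hα₀]; exact hY)), ?_⟩
  ext i j
  show (MvPolynomial.aeval fun ij : Fin n × Fin n => Y ij.1 ij.2) (MvPolynomial.X (i, j)) = Y i j
  simp

theorem flat_quotient
    (hreg : ∀ (K : Type u) [Field K] (φ : A →+* K),
      Module.finrank K (Subalgebra.centralizer K ({g.map φ} : Set (Matrix (Fin n) (Fin n) K))) = n) :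
    Module.Flat A (MvPolynomial (Fin n × Fin n) A ⧸ relIdeal g) := by
  apply Module.flat_of_isLocalized_maximal A (MvPolynomial (Fin n × Fin n) A ⧸ relIdeal g)
    (fun P _ => Localization.AtPrime P ⊗[A] (MvPolynomial (Fin n × Fin n) A ⧸ relIdeal g))
    (fun P _ => TensorProduct.mk A (Localization.AtPrime P) _ 1)
  intro P hP
  have h1 := hreg (IsLocalRing.ResidueField (Localization.AtPrime P))
    ((IsLocalRing.residue (Localization.AtPrime P)).comp (algebraMap A (Localization.AtPrime P)))
  have h2 : (g.map (algebraMap A (Localization.AtPrime P))).map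
      (IsLocalRing.residue (Localization.AtPrime P)) =
      g.map ((IsLocalRing.residue (Localization.AtPrime P)).comp
        (algebraMap A (Localization.AtPrime P))) := by
    ext i j
    simp
  obtain ⟨v, hv⟩ := exists_isUnit_krylov_of_local (g.map (algebraMap A (Localization.AtPrime P)))
    (by rw [h2]; exact h1)
  haveI := flat_tensor_of_krylov g (Localization.AtPrime P)
    (MvPolynomial (Fin n × Fin n) A ⧸ relIdeal g) (Xbar g) (Xbar_comm g) (Xbar_gen g)
    (fun Y hY => Xbar_univ g Y hY) v hv
  exact Module.Flat.trans A (Localization.AtPrime P) _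

end final

end Groth.Agent.Lib.Helper3.CycFlat
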