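import Mathlib.Algebra.Module.PID
import Mathlib.Algebra.Polynomial.Module.FiniteDimensional
import Mathlib.Algebra.Polynomial.Module.AEval
import Mathlib.LinearAlgebra.Matrix.Charpoly.Coeff
import Mathlib.LinearAlgebra.Matrix.Charpoly.LinearMap
import Mathlib.LinearAlgebra.Matrix.NonsingularInverse
import Mathlib.LinearAlgebra.Matrix.ToLin
import Mathlib.LinearAlgebra.FiniteDimensional.Lemmas
import Mathlib.RingTheory.Ideal.Quotient.Operations
import Mathlib.RingTheory.LocalProperties.Basic
import Mathlib.RingTheory.LocalRing.ResidueField.Basic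
import Mathlib.RingTheory.EuclideanDomain
import Mathlib.Algebra.Algebra.Subalgebra.Centralizer
import Mathlib.RingTheory.Polynomial.Basic

/-!
# Cyclic vectors and commutants of regular matrices (helper3)

* `exists_cyclic_vector` (Frobenius): over a field, a matrix whose commutant has dimension `n`
  has a cyclic vector.
* `exists_aeval_eq`: if the Krylov matrix `[v, gv, …, g^{n-1}v]` is invertible, any matrix
  commuting with `g` is a polynomial in `g`.
* `exists_isUnit_krylov_of_local`: over a local ring, regularity on the residue field gives such `v`.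
* `mul_comm_of_regular`: for fibrewise regular `g`, the commutant of `g_B` is commutative (and
  commutes with anything commuting with `g_B`).
-/

set_option autoImplicit false
universe u
open Polynomial

namespace Groth.Agent.Lib.Helper3.CycVec

section field

variable {K : Type u} [Field K] {n : ℕ} (g : Matrix (Fin n) (Fin n) K)

/-- the `K[X]`-module `Kⁿ` with `X` acting through `g`. -/
abbrev Mod := Module.AEval' (Matrix.toLin' g)

/-- the matrix of a `K[X]`-endomorphism of `Mod g`. -/
noncomputable def matOf : (Mod g →ₗ[K[X]] Mod g) →ₗ[K] Matrix (Fin n) (Fin n) K where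
  toFun θ := LinearMap.toMatrix' ((Module.AEval'.of (Matrix.toLin' g)).symm.toLinearMap ∘ₗ
    (θ.restrictScalars K) ∘ₗ (Module.AEval'.of (Matrix.toLin' g)).toLinearMap)
  map_add' θ θ' := by
    rw [← map_add]
    congr 1
  map_smul' c θ := by
    rw [RingHom.id_apply, ← map_smul]
    congr 1

lemma matOf_mulVec (θ : Mod g →ₗ[K[X]] Mod g) (v : Fin n → K) :
    (matOf g θ).mulVec v =
      (Module.AEval'.of (Matrix.toLin' g)).symm (θ (Module.AEval'.of (Matrix.toLin' g) v)) := by
  simp [matOf, ← Matrix.toLin'_apply]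

lemma matOf_injective : Function.Injective (matOf g) := by
  intro θ θ' h
  ext m
  obtain ⟨v, rfl⟩ := (Module.AEval'.of (Matrix.toLin' g)).surjective m
  have := congrArg (fun N => N.mulVec v) h
  simp only [matOf_mulVec] at this
  exact (Module.AEval'.of (Matrix.toLin' g)).symm.injective this

lemma matOf_comm (θ : Mod g →ₗ[K[X]] Mod g) : matOf g θ * g = g * matOf g θ := by
  apply Matrix.toLin'.injective
  apply LinearMap.ext
  intro v
  rw [Matrix.toLin'_mul, Matrix.toLin'_mul, LinearMap.comp_apply, LinearMap.comp_apply,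
    Matrix.toLin'_apply, Matrix.toLin'_apply, Matrix.toLin'_apply, Matrix.toLin'_apply]
  rw [matOf_mulVec, matOf_mulVec]
  have h1 : Module.AEval'.of (Matrix.toLin' g) (g.mulVec v) =
      (X : K[X]) • Module.AEval'.of (Matrix.toLin' g) v := by
    rw [Module.AEval'.X_smul_of, Matrix.toLin'_apply]
  rw [h1, map_smul, Module.AEval'.of_symm_X_smul, Matrix.toLin'_apply]

variable {ι : Type u} [Fintype ι] [DecidableEq ι] (q : ι → K[X])

/-- the cyclic pieces -/
abbrev W (i : ι) := K[X] ⧸ (Ideal.span {q i} : Ideal K[X])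

variable (E : Mod g ≃ₗ[K[X]] ((i : ι) → W q i))

/-- multiplication by an element of `Λ = Π W i`, transported to `Mod g`. -/
noncomputable def theta : ((i : ι) → W q i) →ₗ[K] (Mod g →ₗ[K[X]] Mod g) where
  toFun lam := E.symm.toLinearMap ∘ₗ (LinearMap.mulLeft K[X] lam) ∘ₗ E.toLinearMap
  map_add' a b := by
    ext m
    simp [add_mul]
  map_smul' c a := by
    ext m
    simp only [LinearMap.coe_comp, LinearEquiv.coe_coe, Function.comp_apply,
      LinearMap.mulLeft_apply, RingHom.id_apply, LinearMap.smul_apply]
    rw [smul_mul_assoc, ← algebraMap_smul K[X] c (a * E m), map_smul, algebraMap_smul]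

lemma theta_apply (lam : (i : ι) → W q i) (m : Mod g) :
    theta g q E lam m = E.symm (lam * E m) := rfl

lemma theta_injective : Function.Injective (theta g q E) := by
  intro a b h
  have := congrArg (fun θ => E (θ (E.symm 1))) h
  simpa [theta_apply] using this

include E in
lemma finrank_pi : Module.finrank K ((i : ι) → W q i) = n := by
  have e1 : (Fin n → K) ≃ₗ[K] ((i : ι) → W q i) :=
    (Module.AEval'.of (Matrix.toLin' g)).trans (E.restrictScalars K)
  rw [← e1.finrank_eq, Module.finrank_fin_fun]

/-- if the commutant has dimension `n`, every commuting matrix is multiplication by an element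
of `Λ`. -/
lemma exists_theta_eq (h : Module.finrank K
      (Subalgebra.centralizer K ({g} : Set (Matrix (Fin n) (Fin n) K))) = n)
    (c : Matrix (Fin n) (Fin n) K) (hc : c * g = g * c) :
    ∃ lam : (i : ι) → W q i, matOf g (theta g q E lam) = c := by
  let Θ : ((i : ι) → W q i) →ₗ[K] Matrix (Fin n) (Fin n) K := (matOf g) ∘ₗ (theta g q E)
  have hinj : Function.Injective Θ := (matOf_injective g).comp (theta_injective g q E)
  have hle : LinearMap.range Θ ≤
      Subalgebra.toSubmodule (Subalgebra.centralizer K ({g} : Set (Matrix (Fin n) (Fin n) K))) := by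
    rintro _ ⟨lam, rfl⟩
    rw [Subalgebra.mem_toSubmodule, Subalgebra.mem_centralizer_iff]
    intro b hb
    rw [Set.mem_singleton_iff] at hb
    subst hb
    exact (matOf_comm b _).symm
  have heq := Submodule.eq_of_le_of_finrank_eq hle (by
    rw [LinearMap.finrank_range_of_inj hinj, finrank_pi g q E, Subalgebra.finrank_toSubmodule, h])
  have hmem : c ∈ LinearMap.range Θ := by
    rw [heq, Subalgebra.mem_toSubmodule, Subalgebra.mem_centralizer_iff]
    intro b hb
    rw [Set.mem_singleton_iff] at hb
    subst hb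
    exact hc.symm
  obtain ⟨lam, hlam⟩ := hmem
  exact ⟨lam, hlam⟩

include E in
lemma isCoprime_of_finrank (h : Module.finrank K
      (Subalgebra.centralizer K ({g} : Set (Matrix (Fin n) (Fin n) K))) = n)
    (hq : ∀ i, q i ≠ 0) (i j : ι) (hij : i ≠ j) : IsCoprime (q i) (q j) := by
  classical
  by_contra hnc
  obtain ⟨c', hc'⟩ := EuclideanDomain.gcd_dvd_left (q i) (q j)
  obtain ⟨c, hc⟩ := EuclideanDomain.gcd_dvd_right (q i) (q j)
  have hd : ¬ IsUnit (EuclideanDomain.gcd (q i) (q j)) :=
    fun hu => hnc (EuclideanDomain.gcd_isUnit_iff.mp hu)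
  let φ : W q i →ₗ[K[X]] W q j := Submodule.mapQ _ _ (LinearMap.mulLeft K[X] c) (by
    intro x hx
    rw [Submodule.mem_comap, LinearMap.mulLeft_apply]
    obtain ⟨y, rfl⟩ := Ideal.mem_span_singleton.mp hx
    rw [Ideal.mem_span_singleton]
    refine ⟨c' * y, ?_⟩
    conv_lhs => rw [hc']
    conv_rhs => rw [hc]
    ring)
  have hφ1 : φ 1 = Ideal.Quotient.mk _ c := by
    show φ (Submodule.Quotient.mk 1) = _
    rw [Submodule.mapQ_apply, LinearMap.mulLeft_apply, mul_one]
    rfl
  let T₀ : ((i : ι) → W q i) →ₗ[K[X]] ((i : ι) → W q i) :=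
    (LinearMap.single K[X] (W q) j) ∘ₗ φ ∘ₗ (LinearMap.proj i)
  let T : Mod g →ₗ[K[X]] Mod g := E.symm.toLinearMap ∘ₗ T₀ ∘ₗ E.toLinearMap
  obtain ⟨lam, hlam⟩ := exists_theta_eq g q E h (matOf g T) (matOf_comm g T)
  have hT : theta g q E lam = T := matOf_injective g hlam
  have hT₀ : ∀ x, lam * x = T₀ x := by
    intro x
    have := congrArg (fun θ => E (θ (E.symm x))) hT
    simpa [theta_apply, T] using this
  have h1 : lam = Pi.single j (φ 1) := by
    have := hT₀ 1
    rw [mul_one] at this
    rw [this]
    simp [T₀]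
  have h2 : lam * Pi.single i 1 = Pi.single j (φ 1) := by
    rw [hT₀]
    simp [T₀]
  have h3 : lam * Pi.single i 1 = 0 := by
    rw [h1]
    ext k
    rw [Pi.mul_apply]
    by_cases hk : k = i
    · subst hk
      rw [Pi.single_eq_of_ne hij, zero_mul]
      rfl
    · rw [Pi.single_eq_of_ne hk, mul_zero]
      rfl
  rw [h3] at h2
  have h4 : φ 1 = 0 := by
    have := congrFun h2 j
    rw [Pi.single_eq_same] at this
    exact this.symm
  rw [hφ1, Ideal.Quotient.eq_zero_iff_mem, Ideal.mem_span_singleton] at h4
  have hc0 : c ≠ 0 := by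
    rintro rfl
    rw [mul_zero] at hc
    exact hq j hc
  rw [hc] at h4
  apply hd
  have h5 : EuclideanDomain.gcd (q i) (q j) * c ∣ 1 * c := by rwa [one_mul]
  exact isUnit_of_dvd_one ((mul_dvd_mul_iff_right hc0).mp h5)

lemma aeval_toLin' (f : K[X]) : aeval (Matrix.toLin' g) f = Matrix.toLin' (aeval g f) := by
  have := Polynomial.aeval_algHom_apply
    (Matrix.toLinAlgEquiv' : Matrix (Fin n) (Fin n) K ≃ₐ[K] _).toAlgHom g f
  exact this

include E in
lemma exists_cyclic_of_coprime (hco : ∀ i j, i ≠ j → IsCoprime (q i) (q j)) :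
    ∃ v : Fin n → K, ∀ w : Fin n → K, ∃ f : K[X], (aeval g f).mulVec v = w := by
  refine ⟨(Module.AEval'.of (Matrix.toLin' g)).symm (E.symm 1), fun w => ?_⟩
  have hpair : Pairwise (Function.onFun IsCoprime fun i => (Ideal.span {q i} : Ideal K[X])) := by
    intro i j hij
    exact (Ideal.isCoprime_span_singleton_iff _ _).mpr (hco i j hij)
  obtain ⟨f, hf⟩ := Ideal.pi_quotient_surjective hpair (E (Module.AEval'.of (Matrix.toLin' g) w))
  refine ⟨f, ?_⟩
  have h1 : E (Module.AEval'.of (Matrix.toLin' g) w) = f • (1 : (i : ι) → W q i) := by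
    ext i
    rw [← hf i, Pi.smul_apply, Pi.one_apply]
    have h0 : (1 : W q i) = Ideal.Quotient.mk _ 1 := rfl
    rw [h0]
    show _ = Submodule.Quotient.mk (f • (1 : K[X]))
    rw [smul_eq_mul, mul_one]
    rfl
  have h2 : Module.AEval'.of (Matrix.toLin' g) w = f • E.symm 1 := by
    rw [← map_smul, ← h1, E.symm_apply_apply]
  have h3 := congrArg (Module.AEval'.of (Matrix.toLin' g)).symm h2
  rw [LinearEquiv.symm_apply_apply, Module.AEval.of_symm_smul] at h3
  rw [h3, aeval_toLin']
  rfl

end field

section main1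

variable {K : Type u} [Field K] {n : ℕ} (g : Matrix (Fin n) (Fin n) K)

/-- **Frobenius**: a matrix over a field whose commutant has dimension `n` has a cyclic vector. -/
theorem exists_cyclic_vector (h : Module.finrank K
      (Subalgebra.centralizer K ({g} : Set (Matrix (Fin n) (Fin n) K))) = n) :
    ∃ v : Fin n → K, ∀ w : Fin n → K, ∃ f : K[X], (aeval g f).mulVec v = w := by
  classical
  have htors : Module.IsTorsion K[X] (Mod g) :=
    Module.AEval.isTorsion_of_finiteDimensional K (Fin n → K) (Matrix.toLin' g)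
  obtain ⟨ι, _, p, hp, e, ⟨E₀⟩⟩ := Module.equiv_directSum_of_isTorsion htors
  let q : ι → K[X] := fun i => p i ^ e i
  let E : Mod g ≃ₗ[K[X]] ((i : ι) → W q i) :=
    E₀.trans (DirectSum.linearEquivFunOnFintype K[X] ι _)
  have hq : ∀ i, q i ≠ 0 := fun i => pow_ne_zero _ (hp i).ne_zero
  exact exists_cyclic_of_coprime g q E (fun i j hij => isCoprime_of_finrank g q E h hq i j hij)

end main1

section krylov

variable {B : Type u} [CommRing B] {n : ℕ} (g : Matrix (Fin n) (Fin n) B) (v : Fin n → B)

/-- the Krylov matrix with columns `v, g v, …, g^{n-1} v`. -/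
def krylov : Matrix (Fin n) (Fin n) B := Matrix.of fun i j => (g ^ (j : ℕ)).mulVec v i

lemma krylov_mulVec (a : Fin n → B) :
    (krylov g v).mulVec a = (∑ j : Fin n, a j • g ^ (j : ℕ)).mulVec v := by
  ext i
  simp only [Matrix.mulVec, dotProduct, krylov, Matrix.of_apply, Matrix.sum_apply,
    Matrix.smul_apply, smul_eq_mul, Finset.sum_mul]
  rw [Finset.sum_comm]
  refine Finset.sum_congr rfl fun j _ => ?_
  refine Finset.sum_congr rfl fun k _ => ?_
  ring

lemma krylov_map {C : Type u} [CommRing C] (π : B →+* C) :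
    (krylov g v).map π = krylov (g.map π) (π ∘ v) := by
  ext i j
  simp only [krylov, Matrix.map_apply, Matrix.of_apply]
  have h1 : g.map π ^ (j : ℕ) = (g ^ (j : ℕ)).map π := by
    have := (RingHom.mapMatrix (m := Fin n) π).map_pow g (j : ℕ)
    simpa [RingHom.mapMatrix_apply] using this.symm
  rw [h1]
  simp only [Matrix.mulVec, dotProduct, Matrix.map_apply, Function.comp_apply, map_sum, map_mul]

end krylov

section cyc

variable {K : Type u} [Field K] {n : ℕ} (g : Matrix (Fin n) (Fin n) K)

lemma isUnit_krylov_of_cyclic (v : Fin n → K)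
    (hv : ∀ w : Fin n → K, ∃ f : K[X], (aeval g f).mulVec v = w) : IsUnit (krylov g v) := by
  rcases Nat.eq_zero_or_pos n with hn | hn
  · subst hn
    exact isUnit_of_subsingleton _
  rw [← Matrix.mulVec_surjective_iff_isUnit]
  intro w
  obtain ⟨f, rfl⟩ := hv w
  have hχ : g.charpoly.Monic := Matrix.charpoly_monic g
  have hdeg : (f %ₘ g.charpoly).natDegree < n := by
    have h1 := Polynomial.natDegree_modByMonic_lt f hχ (by
      intro h
      have := Matrix.charpoly_natDegree_eq_dim g
      rw [h, Polynomial.natDegree_one, Fintype.card_fin] at this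
      omega)
    rwa [Matrix.charpoly_natDegree_eq_dim, Fintype.card_fin] at h1
  have h2 : aeval g f = aeval g (f %ₘ g.charpoly) := by
    conv_lhs => rw [← Polynomial.modByMonic_add_div f g.charpoly]
    rw [map_add, map_mul, Matrix.aeval_self_charpoly, zero_mul, add_zero]
  refine ⟨fun j => (f %ₘ g.charpoly).coeff (j : ℕ), ?_⟩
  rw [krylov_mulVec, h2, Polynomial.aeval_eq_sum_range' hdeg, Finset.sum_range]

end cyc

section comm

variable {B : Type u} [CommRing B] {n : ℕ} (g : Matrix (Fin n) (Fin n) B) (v : Fin n → B)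

lemma mul_krylov_apply (x : Matrix (Fin n) (Fin n) B) (i j : Fin n) :
    (x * krylov g v) i j = ((x * g ^ (j : ℕ)).mulVec v) i := by
  rw [← Matrix.mulVec_mulVec]
  simp [Matrix.mul_apply, krylov, Matrix.mulVec, dotProduct]

/-- if the Krylov matrix of `v` is invertible, every matrix commuting with `g` is a polynomial
in `g`. -/
theorem exists_aeval_eq (hP : IsUnit (krylov g v)) (x : Matrix (Fin n) (Fin n) B)
    (hx : x * g = g * x) : ∃ p : B[X], x = aeval g p := by
  obtain ⟨a, ha⟩ := (Matrix.mulVec_surjective_iff_isUnit.mpr hP) (x.mulVec v)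
  let p : B[X] := ∑ j : Fin n, C (a j) * X ^ (j : ℕ)
  have hp : aeval g p = ∑ j : Fin n, a j • g ^ (j : ℕ) := by
    simp only [p, map_sum, map_mul, aeval_C, map_pow, aeval_X, Algebra.smul_def]
  refine ⟨p, ?_⟩
  have hyv : (aeval g p).mulVec v = x.mulVec v := by rw [hp, ← krylov_mulVec, ha]
  have hyg : ∀ k : ℕ, aeval g p * g ^ k = g ^ k * aeval g p := by
    intro k
    have : Commute (aeval g p) (aeval g (X ^ k : B[X])) := by
      rw [Commute, SemiconjBy, ← map_mul, ← map_mul, mul_comm]
    simpa using this.eq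
  have hxg : ∀ k : ℕ, x * g ^ k = g ^ k * x := by
    intro k
    exact ((Commute.pow_right (show Commute x g from hx) k)).eq
  have hcol : x * krylov g v = aeval g p * krylov g v := by
    ext i j
    rw [mul_krylov_apply, mul_krylov_apply, hxg, hyg, ← Matrix.mulVec_mulVec,
      ← Matrix.mulVec_mulVec, hyv]
  exact hP.mul_left_injective hcol

end comm

section loc

variable {B : Type u} [CommRing B] [IsLocalRing B] {n : ℕ} (g : Matrix (Fin n) (Fin n) B)

theorem exists_isUnit_krylov_of_local
    (h : Module.finrank (IsLocalRing.ResidueField B) (Subalgebra.centralizer (IsLocalRing.ResidueField B)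
      ({g.map (IsLocalRing.residue B)} : Set (Matrix (Fin n) (Fin n) (IsLocalRing.ResidueField B)))) = n) :
    ∃ v : Fin n → B, IsUnit (krylov g v) := by
  obtain ⟨vbar, hv⟩ := exists_cyclic_vector _ h
  have hu := isUnit_krylov_of_cyclic _ vbar hv
  choose v hvv using fun i => IsLocalRing.residue_surjective (vbar i)
  refine ⟨v, ?_⟩
  have hvb : vbar = (IsLocalRing.residue B) ∘ v := by
    ext i
    exact (hvv i).symm
  rw [hvb, ← krylov_map, Matrix.isUnit_iff_isUnit_det] at hu
  rw [Matrix.isUnit_iff_isUnit_det]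
  have hdet : ((krylov g v).map (IsLocalRing.residue B)).det =
      IsLocalRing.residue B ((krylov g v).det) := by
    rw [RingHom.map_det]
    rfl
  rw [hdet] at hu
  exact isUnit_of_map_unit (IsLocalRing.residue B) _ hu

end loc

section glob

lemma commute_aeval {B : Type u} [CommRing B] {n : ℕ} (z g : Matrix (Fin n) (Fin n) B)
    (h : Commute z g) (p : B[X]) : Commute z (aeval g p) := by
  induction p using Polynomial.induction_on' with
  | add p q hp hq => rw [map_add]; exact hp.add_right hq
  | monomial k a =>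
    rw [aeval_monomial]
    exact (Algebra.commute_algebraMap_right a z).mul_right (h.pow_right k)

variable {A B : Type u} [CommRing A] [CommRing B] [Algebra A B] {n : ℕ}
  (g : Matrix (Fin n) (Fin n) A)

/-- fibrewise regular `g`: anything commuting with `g_B` commutes with everything commuting
with `g_B`. -/
theorem mul_comm_of_regular
    (hreg : ∀ (K : Type u) [Field K] (φ : A →+* K),
      Module.finrank K (Subalgebra.centralizer K ({g.map φ} : Set (Matrix (Fin n) (Fin n) K))) = n)
    (x z : Matrix (Fin n) (Fin n) B)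
    (hx : x * g.map (algebraMap A B) = g.map (algebraMap A B) * x)
    (hz : z * g.map (algebraMap A B) = g.map (algebraMap A B) * z) : x * z = z * x := by
  rw [← sub_eq_zero]
  ext i j
  apply eq_zero_of_localization
  intro J hJ
  let ψ : B →+* Localization.AtPrime J := algebraMap B (Localization.AtPrime J)
  have key : (x.map ψ) * (z.map ψ) = (z.map ψ) * (x.map ψ) := by
    have hreg' := hreg (IsLocalRing.ResidueField (Localization.AtPrime J))
      ((IsLocalRing.residue (Localization.AtPrime J)).comp (ψ.comp (algebraMap A B)))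
    have hgL : ((g.map (algebraMap A B)).map ψ).map (IsLocalRing.residue (Localization.AtPrime J)) =
        g.map ((IsLocalRing.residue (Localization.AtPrime J)).comp (ψ.comp (algebraMap A B))) := by
      ext a b
      simp
    obtain ⟨v, hv⟩ := exists_isUnit_krylov_of_local ((g.map (algebraMap A B)).map ψ)
      (by rw [hgL]; exact hreg')
    have hxL : x.map ψ * (g.map (algebraMap A B)).map ψ =
        (g.map (algebraMap A B)).map ψ * x.map ψ := by
      rw [← Matrix.map_mul, ← Matrix.map_mul, hx]
    have hzL : z.map ψ * (g.map (algebraMap A B)).map ψ =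
        (g.map (algebraMap A B)).map ψ * z.map ψ := by
      rw [← Matrix.map_mul, ← Matrix.map_mul, hz]
    obtain ⟨p, hp⟩ := exists_aeval_eq _ v hv (x.map ψ) hxL
    rw [hp]
    exact (commute_aeval (z.map ψ) _ hzL p).symm.eq
  have h1 : (x * z - z * x).map ψ = 0 := by
    rw [Matrix.map_sub (hf := fun a b => map_sub ψ a b), Matrix.map_mul, Matrix.map_mul, key,
      sub_self]
  have := congrFun (congrFun h1 i) j
  simpa using this

end glob

end Groth.Agent.Lib.Helper3.CycVec
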