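import Mathlib.Algebra.Category.ModuleCat.ChangeOfRings
import Mathlib.Algebra.Category.ModuleCat.Descent
/-! Descent for modules, part 1: base change of elements along ring maps (helper for S1161). -/
set_option autoImplicit false
set_option backward.isDefEq.respectTransparency false
set_option backward.isDefEq.respectTransparency.types false
open CategoryTheory ModuleCat TensorProduct ChangeOfRings
universe u
namespace Groth.Agent.Lib.Helper3.Desc1

variable {S T T' : Type u} [CommRing S] [CommRing T] [CommRing T']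

/-- `1 ⊗ (s • n) = g s ⊗ n` -/
lemma tmul_smul' (g : S →+* T) (N : ModuleCat.{u} S) (t : T) (s : S) (n : N) :
    (t ⊗ₜ[S,g] (s • n) : (extendScalars g).obj N) = (g s * t) ⊗ₜ[S,g] n := by
  letI : Module S T := Module.compHom T g
  exact (TensorProduct.smul_tmul s t n).symm

lemma tmul_eq_smul_one (g : S →+* T) (N : ModuleCat.{u} S) (t : T) (n : N) :
    (t ⊗ₜ[S,g] n : (extendScalars g).obj N) = t • ((1 : T) ⊗ₜ[S,g] n : (extendScalars g).obj N) := by
  rw [ExtendScalars.smul_tmul, mul_one]

/-- base change of elements along `k`. -/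
noncomputable def bc (g : S →+* T) (k : T →+* T') (gk : S →+* T') (h : k.comp g = gk)
    (N : ModuleCat.{u} S) : (extendScalars g).obj N →+ (extendScalars gk).obj N :=
  letI : Module S T := Module.compHom T g
  TensorProduct.liftAddHom (R := S) (M := T) (N := N)
    { toFun := fun t =>
        { toFun := fun n => ((k t) ⊗ₜ[S,gk] n : (extendScalars gk).obj N)
          map_zero' := by simp
          map_add' := fun n n' => by simp [tmul_add] }
      map_zero' := by ext n; simp
      map_add' := fun t t' => by ext n; simp [add_tmul] }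
    (fun s t n => by
      subst h
      change ((k (g s * t)) ⊗ₜ[S,k.comp g] n : (extendScalars (k.comp g)).obj N) = (k t) ⊗ₜ[S,k.comp g] (s • n)
      rw [tmul_smul', map_mul]; rfl)

@[simp] lemma bc_tmul (g : S →+* T) (k : T →+* T') (gk : S →+* T') (h : k.comp g = gk)
    (N : ModuleCat.{u} S) (t : T) (n : N) :
    bc g k gk h N (t ⊗ₜ[S,g] n) = (k t) ⊗ₜ[S,gk] n := by
  letI : Module S T := Module.compHom T g
  exact TensorProduct.liftAddHom_tmul _ _ _ _

lemma bc_smul (g : S →+* T) (k : T →+* T') (gk : S →+* T') (h : k.comp g = gk)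
    (N : ModuleCat.{u} S) (t : T) (x : (extendScalars g).obj N) :
    bc g k gk h N (t • x) = k t • bc g k gk h N x := by
  induction x using TensorProduct.induction_on with
  | zero => simp
  | tmul t' n =>
    rw [ExtendScalars.smul_tmul, bc_tmul, bc_tmul, ExtendScalars.smul_tmul, map_mul]
  | add x y hx hy => rw [smul_add, map_add, hx, hy, map_add, smul_add]


lemma comp_hom_tmul (g : S →+* T) (k : T →+* T') (N : ModuleCat.{u} S) (t' : T') (n : N) :
    (extendScalarsComp g k).hom.app N (t' ⊗ₜ[S,k.comp g] n) =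
      (t' ⊗ₜ[T,k] ((1 : T) ⊗ₜ[S,g] n : (extendScalars g).obj N) :
        (extendScalars k).obj ((extendScalars g).obj N)) := by
  rw [tmul_eq_smul_one, map_smul, extendScalarsComp_hom_app_one_tmul]
  exact (tmul_eq_smul_one k ((extendScalars g).obj N) t' _).symm

lemma comp_inv_tmul (g : S →+* T) (k : T →+* T') (N : ModuleCat.{u} S) (t' : T')
    (x : (extendScalars g).obj N) :
    (extendScalarsComp g k).inv.app N
      (t' ⊗ₜ[T,k] x : (extendScalars k).obj ((extendScalars g).obj N)) =
      t' • bc g k (k.comp g) rfl N x := by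
  induction x using TensorProduct.induction_on with
  | zero => simp
  | tmul t n =>
    rw [bc_tmul, ExtendScalars.smul_tmul]
    have h := comp_hom_tmul g k N (t' * k t) n
    have h2 : ((t' * k t) ⊗ₜ[T,k] ((1 : T) ⊗ₜ[S,g] n : (extendScalars g).obj N) :
        (extendScalars k).obj ((extendScalars g).obj N)) =
        (t' ⊗ₜ[T,k] (t ⊗ₜ[S,g] n : (extendScalars g).obj N)) := by
      rw [tmul_eq_smul_one g N t n]
      refine ((tmul_smul' k ((extendScalars g).obj N) t' t _).trans ?_).symm
      rw [mul_comm]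
    rw [← h2, ← h]
    exact Iso.hom_inv_id_apply ((extendScalarsComp g k).app N) _
  | add x y hx hy => rw [tmul_add, map_add, hx, hy, map_add, smul_add]


/-- A concrete descent datum for modules relative to a ring map `φ : R →+* S`: an `S`-module `N` with,
for every pair `g₁ g₂ : S →+* T` agreeing on `R`, a `T`-linear map `T ⊗_{g₁} N ⟶ T ⊗_{g₂} N`, natural in `T`,
trivial on the diagonal and satisfying the cocycle condition. -/
structure CDD {R S : Type u} [CommRing R] [CommRing S] (φ : R →+* S) where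
  N : ModuleCat.{u} S
  θ : ∀ {T : Type u} [CommRing T] (g₁ g₂ : S →+* T), g₁.comp φ = g₂.comp φ →
      ((extendScalars g₁).obj N ⟶ (extendScalars g₂).obj N)
  θ_nat : ∀ {T T' : Type u} [CommRing T] [CommRing T'] (k : T →+* T') (g₁ g₂ : S →+* T)
      (g₁' g₂' : S →+* T') (_h₁ : k.comp g₁ = g₁') (h₂ : k.comp g₂ = g₂')
      (h : g₁.comp φ = g₂.comp φ) (h' : g₁'.comp φ = g₂'.comp φ) (n : N),
      θ g₁' g₂' h' ((1 : T') ⊗ₜ[S,g₁'] n : (extendScalars g₁').obj N) =
        bc g₂ k g₂' h₂ N (θ g₁ g₂ h ((1 : T) ⊗ₜ[S,g₁] n : (extendScalars g₁).obj N))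
  θ_self : ∀ {T : Type u} [CommRing T] (g : S →+* T) (x : (extendScalars g).obj N), θ g g rfl x = x
  θ_comp : ∀ {T : Type u} [CommRing T] (g₁ g₂ g₃ : S →+* T) (h₁₂ : g₁.comp φ = g₂.comp φ)
      (h₂₃ : g₂.comp φ = g₃.comp φ) (h₁₃ : g₁.comp φ = g₃.comp φ) (x : (extendScalars g₁).obj N),
      θ g₂ g₃ h₂₃ (θ g₁ g₂ h₁₂ x) = θ g₁ g₃ h₁₃ x

end Groth.Agent.Lib.Helper3.Desc1
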