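import Groth.Prelude.Def_Desc
import Groth.Agent.Lib.Helper3.Desc1
/-! Descent for modules, part 2: interface with the pseudofunctor `Desc.ringModPF` (helper for S1161). -/
set_option autoImplicit false
set_option backward.isDefEq.respectTransparency false
set_option backward.isDefEq.respectTransparency.types false
open CategoryTheory Opposite ModuleCat TensorProduct ChangeOfRings
open Pseudofunctor.LocallyDiscreteOpToCat
universe u
namespace Groth.Agent.Lib.Helper3.Desc2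
open Groth.Agent.Lib.Helper3.Desc1 Desc

/-- view a morphism (in a category defeq to a module category) as a morphism of modules. -/
abbrev asHom {R : Type u} [CommRing R] (X Y : ModuleCat.{u} R) (f : X ⟶ Y) : X ⟶ Y := f

variable {B T T' : CommRingCat.{u}}

lemma mapComp'_hom_app (g : B ⟶ T) (k : T ⟶ T') (gk : B ⟶ T') (h : g ≫ k = gk) (N : ModuleCat.{u} B)
    (t' : T') (n : N) :
    asHom ((extendScalars gk.hom).obj N) ((extendScalars k.hom).obj ((extendScalars g.hom).obj N))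
      ((ringModPF.{u}.mapComp' g.op.op.toLoc k.op.op.toLoc gk.op.op.toLoc (by subst h; rfl)).hom.toNatTrans.app N)
      (t' ⊗ₜ[B,gk.hom] n : (extendScalars gk.hom).obj N) =
      (t' ⊗ₜ[T,k.hom] ((1 : T) ⊗ₜ[B,g.hom] n : (extendScalars g.hom).obj N) :
        (extendScalars k.hom).obj ((extendScalars g.hom).obj N)) := by
  subst h
  have e : ringModPF.{u}.mapComp' g.op.op.toLoc k.op.op.toLoc (g ≫ k).op.op.toLoc rfl =
      ringModPF.{u}.mapComp g.op.op.toLoc k.op.op.toLoc := Pseudofunctor.mapComp'_eq_mapComp _ _ _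
  rw [e]
  exact comp_hom_tmul g.hom k.hom N t' n

lemma mapComp'_inv_app (g : B ⟶ T) (k : T ⟶ T') (gk : B ⟶ T') (h : g ≫ k = gk) (N : ModuleCat.{u} B)
    (t' : T') (x : (extendScalars g.hom).obj N) :
    asHom ((extendScalars k.hom).obj ((extendScalars g.hom).obj N)) ((extendScalars gk.hom).obj N)
      ((ringModPF.{u}.mapComp' g.op.op.toLoc k.op.op.toLoc gk.op.op.toLoc (by subst h; rfl)).inv.toNatTrans.app N)
      (t' ⊗ₜ[T,k.hom] x : (extendScalars k.hom).obj ((extendScalars g.hom).obj N)) =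
      t' • bc g.hom k.hom gk.hom (by subst h; rfl) N x := by
  subst h
  have e : ringModPF.{u}.mapComp' g.op.op.toLoc k.op.op.toLoc (g ≫ k).op.op.toLoc rfl =
      ringModPF.{u}.mapComp g.op.op.toLoc k.op.op.toLoc := Pseudofunctor.mapComp'_eq_mapComp _ _ _
  rw [e]
  exact comp_inv_tmul g.hom k.hom N t' x


lemma pullHom_apply {N₁ N₂ : ModuleCat.{u} B} (g₁ g₂ : B ⟶ T)
    (φ₀ : (extendScalars g₁.hom).obj N₁ ⟶ (extendScalars g₂.hom).obj N₂) (k : T ⟶ T')
    (gk₁ gk₂ : B ⟶ T') (h₁ : g₁ ≫ k = gk₁) (h₂ : g₂ ≫ k = gk₂) (n : N₁) :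
    asHom ((extendScalars gk₁.hom).obj N₁) ((extendScalars gk₂.hom).obj N₂)
      (pullHom (F := ringModPF.{u}) (X₁ := op B) (X₂ := op B) (M₁ := N₁) (M₂ := N₂) (Y := op T)
        (f₁ := g₁.op) (f₂ := g₂.op) φ₀ (Y' := op T') k.op gk₁.op gk₂.op
        (by subst h₁; rfl) (by subst h₂; rfl))
      ((1 : T') ⊗ₜ[B,gk₁.hom] n : (extendScalars gk₁.hom).obj N₁) =
      bc g₂.hom k.hom gk₂.hom (by subst h₂; rfl) N₂
        (φ₀ ((1 : T) ⊗ₜ[B,g₁.hom] n : (extendScalars g₁.hom).obj N₁)) := by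
  show (asHom ((extendScalars gk₁.hom).obj N₁) ((extendScalars k.hom).obj ((extendScalars g₁.hom).obj N₁))
      ((ringModPF.{u}.mapComp' g₁.op.op.toLoc k.op.op.toLoc gk₁.op.op.toLoc
        (by subst h₁; rfl)).hom.toNatTrans.app N₁) ≫
    (extendScalars k.hom).map φ₀ ≫
    asHom ((extendScalars k.hom).obj ((extendScalars g₂.hom).obj N₂)) ((extendScalars gk₂.hom).obj N₂)
      ((ringModPF.{u}.mapComp' g₂.op.op.toLoc k.op.op.toLoc gk₂.op.op.toLoc
        (by subst h₂; rfl)).inv.toNatTrans.app N₂))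
      ((1 : T') ⊗ₜ[B,gk₁.hom] n : (extendScalars gk₁.hom).obj N₁) = _
  rw [ModuleCat.comp_apply, ModuleCat.comp_apply, mapComp'_hom_app g₁ k gk₁ h₁, ExtendScalars.map_tmul,
    mapComp'_inv_app g₂ k gk₂ h₂, one_smul]


section ofD

variable {R S : Type u} [CommRing R] [CommRing S] (φ : R →+* S)
  (D : ringModPF.{u}.DescentData (fun _ : PUnit.{u + 1} => (CommRingCat.ofHom φ).op))

/-- the component of the descent datum at a pair of ring maps. -/
noncomputable def θD {T : Type u} [CommRing T] (g₁ g₂ : S →+* T) (h : g₁.comp φ = g₂.comp φ) :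
    (extendScalars g₁).obj (D.obj ⟨⟩ : ModuleCat.{u} S) ⟶ (extendScalars g₂).obj (D.obj ⟨⟩ : ModuleCat.{u} S) :=
  D.hom (Y := op (CommRingCat.of T)) (CommRingCat.ofHom φ ≫ CommRingCat.ofHom g₁).op
    (i₁ := ⟨⟩) (i₂ := ⟨⟩) (CommRingCat.ofHom g₁).op (CommRingCat.ofHom g₂).op rfl
    (by
      show (CommRingCat.ofHom φ ≫ CommRingCat.ofHom g₂).op = _
      congr 1
      ext x
      exact (RingHom.congr_fun h x).symm)


lemma comp_eq_of {T : Type u} [CommRing T] {g₁ g₂ : S →+* T} (h : g₁.comp φ = g₂.comp φ) :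
    (CommRingCat.ofHom g₂).op ≫ (CommRingCat.ofHom φ).op =
      (CommRingCat.ofHom φ ≫ CommRingCat.ofHom g₁).op := by
  show (CommRingCat.ofHom φ ≫ CommRingCat.ofHom g₂).op = _
  congr 1
  ext x
  exact (RingHom.congr_fun h x).symm

lemma θD_eq {T : Type u} [CommRing T] (g₁ g₂ : S →+* T) (h : g₁.comp φ = g₂.comp φ)
    (q : op (CommRingCat.of T) ⟶ op (CommRingCat.of R))
    (hf₁ : (CommRingCat.ofHom g₁).op ≫ (CommRingCat.ofHom φ).op = q)
    (hf₂ : (CommRingCat.ofHom g₂).op ≫ (CommRingCat.ofHom φ).op = q) :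
    θD φ D g₁ g₂ h = D.hom (Y := op (CommRingCat.of T)) q (i₁ := ⟨⟩) (i₂ := ⟨⟩)
      (CommRingCat.ofHom g₁).op (CommRingCat.ofHom g₂).op hf₁ hf₂ := by
  subst hf₁
  rfl

/-- the concrete descent datum attached to a Mathlib descent datum for `ringModPF`. -/
noncomputable def ofD : CDD φ where
  N := (D.obj ⟨⟩ : ModuleCat.{u} S)
  θ g₁ g₂ h := θD φ D g₁ g₂ h
  θ_nat {T T'} _ _ k g₁ g₂ g₁' g₂' h₁ h₂ h h' n := by
    have key := D.pullHom_hom (Y' := op (CommRingCat.of T')) (Y := op (CommRingCat.of T))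
      (CommRingCat.ofHom k).op (CommRingCat.ofHom φ ≫ CommRingCat.ofHom g₁).op
      (CommRingCat.ofHom φ ≫ CommRingCat.ofHom g₁').op (by subst h₁; rfl) (i₁ := ⟨⟩) (i₂ := ⟨⟩)
      (CommRingCat.ofHom g₁).op (CommRingCat.ofHom g₂).op rfl (comp_eq_of φ h)
      (CommRingCat.ofHom g₁').op (CommRingCat.ofHom g₂').op (by subst h₁; rfl) (by subst h₂; rfl)
    have key2 := pullHom_apply (B := CommRingCat.of S) (T := CommRingCat.of T) (T' := CommRingCat.of T')
      (N₁ := (D.obj ⟨⟩ : ModuleCat.{u} S)) (N₂ := (D.obj ⟨⟩ : ModuleCat.{u} S))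
      (CommRingCat.ofHom g₁) (CommRingCat.ofHom g₂) (θD φ D g₁ g₂ h) (CommRingCat.ofHom k)
      (CommRingCat.ofHom g₁') (CommRingCat.ofHom g₂') (by subst h₁; rfl) (by subst h₂; rfl) n
    refine Eq.trans ?_ key2
    exact (congrArg (fun (f : (extendScalars g₁').obj (D.obj ⟨⟩ : ModuleCat.{u} S) ⟶
      (extendScalars g₂').obj (D.obj ⟨⟩ : ModuleCat.{u} S)) =>
        f ((1 : T') ⊗ₜ[S,g₁'] n : (extendScalars g₁').obj (D.obj ⟨⟩ : ModuleCat.{u} S))) key).symm
  θ_self {T} _ g x := by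
    have key := D.hom_self (Y := op (CommRingCat.of T)) (CommRingCat.ofHom φ ≫ CommRingCat.ofHom g).op
      (i := ⟨⟩) (CommRingCat.ofHom g).op rfl
    exact congrArg (fun (f : (extendScalars g).obj (D.obj ⟨⟩ : ModuleCat.{u} S) ⟶
      (extendScalars g).obj (D.obj ⟨⟩ : ModuleCat.{u} S)) => f x) key
  θ_comp {T} _ g₁ g₂ g₃ h₁₂ h₂₃ h₁₃ x := by
    have key := D.hom_comp (Y := op (CommRingCat.of T)) (CommRingCat.ofHom φ ≫ CommRingCat.ofHom g₁).op
      (i₁ := ⟨⟩) (i₂ := ⟨⟩) (i₃ := ⟨⟩) (CommRingCat.ofHom g₁).op (CommRingCat.ofHom g₂).op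
      (CommRingCat.ofHom g₃).op rfl (comp_eq_of φ h₁₂) (comp_eq_of φ h₁₃)
    rw [θD_eq φ D g₂ g₃ h₂₃ _ (comp_eq_of φ h₁₂) (comp_eq_of φ h₁₃)]
    exact congrArg (fun (f : (extendScalars g₁).obj (D.obj ⟨⟩ : ModuleCat.{u} S) ⟶
      (extendScalars g₃).obj (D.obj ⟨⟩ : ModuleCat.{u} S)) => f x) key

end ofD

end Groth.Agent.Lib.Helper3.Desc2
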