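import Mathlib.RingTheory.TensorProduct.Maps
import Groth.Agent.Lib.Helper3.Desc1
/-! Descent for modules, part 3: the pushout `S ⊗_R C` and the base change isomorphism
`S ⊗_R Y ≃ (S ⊗_R C) ⊗_C Y` on elements (helper for S1161). -/
set_option autoImplicit false
set_option backward.isDefEq.respectTransparency false
set_option backward.isDefEq.respectTransparency.types false
open CategoryTheory ModuleCat TensorProduct ChangeOfRings
universe u
namespace Groth.Agent.Lib.Helper3.Desc3
open Groth.Agent.Lib.Helper3.Desc1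

variable {R S C T : Type u} [CommRing R] [CommRing S] [CommRing C] [CommRing T]
  [Algebra R S] [Algebra R C]

variable (R S C) in
/-- left inclusion -/
noncomputable abbrev iu : S →+* S ⊗[R] C := Algebra.TensorProduct.includeLeftRingHom

variable (R S C) in
/-- right inclusion -/
noncomputable abbrev iv : C →+* S ⊗[R] C := (Algebra.TensorProduct.includeRight : C →ₐ[R] S ⊗[R] C).toRingHom

lemma iu_apply (s : S) : iu R S C s = s ⊗ₜ[R] (1 : C) := rfl
lemma iv_apply (c : C) : iv R S C c = (1 : S) ⊗ₜ[R] c := rfl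

lemma tm_eq (s : S) (c : C) : (s ⊗ₜ[R] c : S ⊗[R] C) = iu R S C s * iv R S C c := by
  rw [iu_apply, iv_apply, Algebra.TensorProduct.tmul_mul_tmul, mul_one, one_mul]

lemma iu_iv_comm : (iu R S C).comp (algebraMap R S) = (iv R S C).comp (algebraMap R C) := by
  ext r
  show ((algebraMap R S r) ⊗ₜ[R] (1 : C) : S ⊗[R] C) = (1 : S) ⊗ₜ[R] (algebraMap R C r)
  rw [Algebra.algebraMap_eq_smul_one, Algebra.algebraMap_eq_smul_one, TensorProduct.smul_tmul]

/-- the universal property -/
noncomputable def desc (g₁ : S →+* T) (g₂ : C →+* T)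
    (h : g₁.comp (algebraMap R S) = g₂.comp (algebraMap R C)) : S ⊗[R] C →+* T :=
  letI := (g₁.comp (algebraMap R S)).toAlgebra
  (Algebra.TensorProduct.lift (R := R) (S := R) (A := S) (B := C) (C := T)
    ⟨g₁, fun _ => rfl⟩ ⟨g₂, fun r => (RingHom.congr_fun h r).symm⟩ (fun _ _ => Commute.all _ _)).toRingHom

lemma desc_tm (g₁ : S →+* T) (g₂ : C →+* T)
    (h : g₁.comp (algebraMap R S) = g₂.comp (algebraMap R C)) (s : S) (c : C) :
    desc g₁ g₂ h (s ⊗ₜ[R] c) = g₁ s * g₂ c := by
  letI := (g₁.comp (algebraMap R S)).toAlgebra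
  exact Algebra.TensorProduct.lift_tmul _ _ _ _ _

lemma desc_u (g₁ : S →+* T) (g₂ : C →+* T)
    (h : g₁.comp (algebraMap R S) = g₂.comp (algebraMap R C)) :
    (desc g₁ g₂ h).comp (iu R S C) = g₁ := by
  ext s
  rw [RingHom.comp_apply, iu_apply, desc_tm, map_one, mul_one]

lemma desc_v (g₁ : S →+* T) (g₂ : C →+* T)
    (h : g₁.comp (algebraMap R S) = g₂.comp (algebraMap R C)) :
    (desc g₁ g₂ h).comp (iv R S C) = g₂ := by
  ext s
  rw [RingHom.comp_apply, iv_apply, desc_tm, map_one, one_mul]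


section BC

variable (R S) in
/-- `S ⊗_R Y` for a `C`-module `Y` -/
noncomputable abbrev XX (Y : ModuleCat.{u} C) : ModuleCat.{u} S :=
  (extendScalars (algebraMap R S)).obj ((restrictScalars (algebraMap R C)).obj Y)

variable (R S) in
/-- `(S ⊗_R C) ⊗_C Y` for a `C`-module `Y` -/
noncomputable abbrev ZZ (Y : ModuleCat.{u} C) : ModuleCat.{u} (S ⊗[R] C) :=
  (extendScalars (iv R S C)).obj Y

lemma iu_algebraMap (r : R) : iu R S C (algebraMap R S r) = iv R S C (algebraMap R C r) :=
  RingHom.congr_fun iu_iv_comm r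

variable (R S) in
/-- the base change map `S ⊗_R Y → (S ⊗_R C) ⊗_C Y`. -/
noncomputable def β (Y : ModuleCat.{u} C) : XX R S Y →+ ZZ R S Y :=
  letI : Module R S := Module.compHom S (algebraMap R S)
  TensorProduct.liftAddHom (R := R) (M := S) (N := ((restrictScalars (algebraMap R C)).obj Y))
    { toFun := fun s =>
        { toFun := fun y => ((iu R S C s) ⊗ₜ[C,iv R S C] (y : Y) : ZZ R S Y)
          map_zero' := by simp
          map_add' := fun n n' => by simp [tmul_add] }
      map_zero' := by ext n; simp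
      map_add' := fun t t' => by ext n; simp [add_tmul] }
    (fun r s y => by
      show ((iu R S C (algebraMap R S r * s)) ⊗ₜ[C,iv R S C] (y : Y) : ZZ R S Y) =
        (iu R S C s) ⊗ₜ[C,iv R S C] ((algebraMap R C r) • (y : Y))
      rw [tmul_smul', map_mul, iu_algebraMap])

@[simp] lemma β_tmul (Y : ModuleCat.{u} C) (s : S) (y : Y) :
    β R S Y (s ⊗ₜ[R,algebraMap R S] y : XX R S Y) = ((iu R S C s) ⊗ₜ[C,iv R S C] y : ZZ R S Y) := by
  letI : Module R S := Module.compHom S (algebraMap R S)
  exact TensorProduct.liftAddHom_tmul _ _ _ _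


variable (R S) in
/-- auxiliary map for the inverse: `(s, c, y) ↦ s ⊗ c • y`. -/
noncomputable def ρ₀ (Y : ModuleCat.{u} C) : S →+ C →+ (Y →+ XX R S Y) :=
    { toFun := fun s =>
        { toFun := fun c =>
            { toFun := fun y => (s ⊗ₜ[R,algebraMap R S] (c • y : Y) : XX R S Y)
              map_zero' := by simp
              map_add' := fun y y' => by rw [smul_add, tmul_add] }
          map_zero' := by ext y; simp
          map_add' := fun c c' => by ext y; simp [add_smul, tmul_add] }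
      map_zero' := by ext c y; simp
      map_add' := fun t t' => by ext c y; simp [add_tmul] }

lemma ρ₀_apply (Y : ModuleCat.{u} C) (s : S) (c : C) (y : Y) :
    ρ₀ R S Y s c y = (s ⊗ₜ[R,algebraMap R S] (c • y : Y) : XX R S Y) := rfl

lemma ρ₀_bal (Y : ModuleCat.{u} C) (r : R) (s : S) (c : C) :
    ρ₀ R S Y (r • s) c = ρ₀ R S Y s (r • c) := by
  ext y
  rw [ρ₀_apply, ρ₀_apply]
  have h1 : ((r • c) • y : Y) = (algebraMap R C r) • (c • y) := by
    rw [Algebra.smul_def, mul_smul]
  rw [h1, Algebra.smul_def]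
  exact (tmul_smul' (algebraMap R S) ((restrictScalars (algebraMap R C)).obj Y) s r (c • y)).symm

variable (R S) in
/-- auxiliary map for the inverse: `(s ⊗ c, y) ↦ s ⊗ c • y`. -/
noncomputable def ρ (Y : ModuleCat.{u} C) : S ⊗[R] C →+ (Y →+ XX R S Y) :=
  TensorProduct.liftAddHom (R := R) (M := S) (N := C) (ρ₀ R S Y) (ρ₀_bal Y)

@[simp] lemma ρ_tmul (Y : ModuleCat.{u} C) (s : S) (c : C) (y : Y) :
    ρ R S Y (s ⊗ₜ[R] c) y = (s ⊗ₜ[R,algebraMap R S] (c • y : Y) : XX R S Y) :=
  DFunLike.congr_fun (TensorProduct.liftAddHom_tmul (ρ₀ R S Y) (ρ₀_bal Y) s c) y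

lemma ρ_smul (Y : ModuleCat.{u} C) (p : S ⊗[R] C) (c : C) (y : Y) :
    ρ R S Y (iv R S C c * p) y = ρ R S Y p (c • y) := by
  induction p using TensorProduct.induction_on with
  | zero => simp
  | tmul s c' =>
    rw [iv_apply, Algebra.TensorProduct.tmul_mul_tmul, one_mul, ρ_tmul, ρ_tmul, mul_comm, mul_smul]
  | add x y' hx hy => rw [mul_add, map_add, map_add, AddMonoidHom.add_apply, AddMonoidHom.add_apply, hx, hy]

variable (R S) in
/-- the inverse of the base change map. -/
noncomputable def κ (Y : ModuleCat.{u} C) : ZZ R S Y →+ XX R S Y :=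
  letI : Module C (S ⊗[R] C) := Module.compHom (S ⊗[R] C) (iv R S C)
  TensorProduct.liftAddHom (R := C) (M := S ⊗[R] C) (N := Y) (ρ R S Y)
    (fun c p y => ρ_smul Y p c y)

@[simp] lemma κ_tmul (Y : ModuleCat.{u} C) (p : S ⊗[R] C) (y : Y) :
    κ R S Y (p ⊗ₜ[C,iv R S C] y : ZZ R S Y) = ρ R S Y p y := by
  letI : Module C (S ⊗[R] C) := Module.compHom (S ⊗[R] C) (iv R S C)
  exact TensorProduct.liftAddHom_tmul _ _ _ _

lemma κ_β (Y : ModuleCat.{u} C) (x : XX R S Y) : κ R S Y (β R S Y x) = x := by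
  induction x using TensorProduct.induction_on with
  | zero => simp
  | tmul s y =>
    rw [β_tmul, κ_tmul, iu_apply, ρ_tmul, one_smul]
  | add x y hx hy => rw [map_add, map_add, hx, hy]

lemma β_κ (Y : ModuleCat.{u} C) (z : ZZ R S Y) : β R S Y (κ R S Y z) = z := by
  induction z using TensorProduct.induction_on with
  | zero => simp
  | tmul p y =>
    rw [κ_tmul]
    induction p using TensorProduct.induction_on with
    | zero => simp
    | tmul s c =>
      rw [ρ_tmul, β_tmul, tmul_smul', mul_comm, ← tm_eq]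
    | add p q hp hq => rw [map_add, AddMonoidHom.add_apply, map_add, hp, hq, add_tmul]
  | add x y hx hy => rw [map_add, map_add, hx, hy]

lemma β_smul (Y : ModuleCat.{u} C) (s : S) (x : XX R S Y) :
    β R S Y (s • x) = iu R S C s • β R S Y x := by
  induction x using TensorProduct.induction_on with
  | zero => simp
  | tmul s' y =>
    rw [ExtendScalars.smul_tmul, β_tmul, β_tmul, ExtendScalars.smul_tmul, map_mul]
  | add x y hx hy => rw [smul_add, map_add, hx, hy, map_add, smul_add]

lemma κ_smul (Y : ModuleCat.{u} C) (s : S) (z : ZZ R S Y) :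
    κ R S Y (iu R S C s • z) = s • κ R S Y z := by
  rw [← β_κ Y z, ← β_smul, κ_β, β_κ]

end BC

end Groth.Agent.Lib.Helper3.Desc3
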