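import Groth.Agent.Lib.Helper3.Desc3
/-! Descent for modules, part 4: from a concrete descent datum to a coalgebra over the comonad of
`S ⊗_R -`, and effectivity via Mathlib's comonadicity of faithfully flat extension of scalars
(helper for S1161, S1160). -/
set_option autoImplicit false
set_option backward.isDefEq.respectTransparency false
set_option backward.isDefEq.respectTransparency.types false
open CategoryTheory ModuleCat TensorProduct ChangeOfRings
universe u
namespace Groth.Agent.Lib.Helper3.Desc4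
open Groth.Agent.Lib.Helper3.Desc1 Groth.Agent.Lib.Helper3.Desc3

variable {R S : Type u} [CommRing R] [CommRing S] [Algebra R S] (D : CDD (algebraMap R S))

/-- the universal descent isomorphism evaluated at `1 ⊗ n`. -/
noncomputable def ψ₀ (n : D.N) : ZZ R S D.N :=
  D.θ (iu R S S) (iv R S S) iu_iv_comm ((1 : S ⊗[R] S) ⊗ₜ[S,iu R S S] n : (extendScalars (iu R S S)).obj D.N)

lemma θ_smul {T : Type u} [CommRing T] (g₁ g₂ : S →+* T) (h : g₁.comp (algebraMap R S) = g₂.comp (algebraMap R S))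
    (t : T) (n : D.N) :
    D.θ g₁ g₂ h (t ⊗ₜ[S,g₁] n : (extendScalars g₁).obj D.N) =
      t • D.θ g₁ g₂ h ((1 : T) ⊗ₜ[S,g₁] n : (extendScalars g₁).obj D.N) := by
  rw [tmul_eq_smul_one, map_smul]

lemma ψ₀_add (n n' : D.N) : ψ₀ D (n + n') = ψ₀ D n + ψ₀ D n' := by
  unfold ψ₀
  rw [tmul_add, map_add]

lemma ψ₀_smul (s : S) (n : D.N) : ψ₀ D (s • n) = iu R S S s • ψ₀ D n := by
  unfold ψ₀
  rw [tmul_smul', mul_one, θ_smul]

/-- the coalgebra structure map. -/
noncomputable def a : D.N ⟶ XX R S D.N :=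
  ModuleCat.ofHom
    { toFun := fun n => κ R S D.N (ψ₀ D n)
      map_add' := fun n n' => by rw [ψ₀_add, map_add]
      map_smul' := fun s n => by rw [ψ₀_smul, κ_smul]; rfl }

lemma a_apply (n : D.N) : a D n = κ R S D.N (ψ₀ D n) := rfl

lemma β_a (n : D.N) : β R S D.N (a D n) = ψ₀ D n := by rw [a_apply, β_κ]


section counit

variable (R S) in
/-- multiplication `S ⊗_R S → S` -/
noncomputable def μ : S ⊗[R] S →+* S := desc (RingHom.id S) (RingHom.id S) rfl

lemma μ_tmul (s c : S) : μ R S (s ⊗ₜ[R] c) = s * c := desc_tm _ _ _ _ _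

lemma μ_iu : (μ R S).comp (iu R S S) = RingHom.id S := desc_u _ _ _
lemma μ_iv : (μ R S).comp (iv R S S) = RingHom.id S := desc_v _ _ _

/-- the canonical map `S ⊗_{id} N → N`. -/
noncomputable def ν (N : ModuleCat.{u} S) : (extendScalars (RingHom.id S)).obj N →+ N :=
  letI : Module S S := Module.compHom S (RingHom.id S)
  TensorProduct.liftAddHom (R := S) (M := S) (N := N)
    { toFun := fun s =>
        { toFun := fun n => s • n
          map_zero' := by simp
          map_add' := fun n n' => by rw [smul_add] }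
      map_zero' := by ext n; simp
      map_add' := fun t t' => by ext n; simp [add_smul] }
    (fun r s n => by
      show (r * s) • n = s • (r • n)
      rw [mul_comm, mul_smul])

@[simp] lemma ν_tmul (N : ModuleCat.{u} S) (s : S) (n : N) :
    ν N (s ⊗ₜ[S,RingHom.id S] n : (extendScalars (RingHom.id S)).obj N) = s • n := by
  letI : Module S S := Module.compHom S (RingHom.id S)
  exact TensorProduct.liftAddHom_tmul _ _ _ _

variable (R) in
/-- the counit of the adjunction, with normalised source and target -/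
noncomputable def ε (N : ModuleCat.{u} S) : XX R S N ⟶ N :=
  (extendRestrictScalarsAdj (algebraMap R S)).counit.app N

lemma ε_tmul (N : ModuleCat.{u} S) (s : S) (n : N) :
    ε R N (s ⊗ₜ[R,algebraMap R S] n : XX R S N) = s • n := by
  rw [tmul_eq_smul_one (algebraMap R S) ((restrictScalars (algebraMap R S)).obj N) s n, map_smul]
  congr 1
  exact extendRestrictScalarsAdj_counit_app_apply_one_tmul (algebraMap R S) N n

lemma ε_κ (N : ModuleCat.{u} S) (z : ZZ R S N) :
    ε R N (κ R S N z) = ν N (bc (iv R S S) (μ R S) (RingHom.id S) μ_iv N z) := by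
  induction z using TensorProduct.induction_on with
  | zero => rw [map_zero, map_zero, map_zero, map_zero]
  | tmul p n =>
    rw [κ_tmul, bc_tmul, ν_tmul]
    induction p using TensorProduct.induction_on with
    | zero => rw [map_zero, map_zero, AddMonoidHom.zero_apply, map_zero, zero_smul]
    | tmul s c => rw [ρ_tmul, ε_tmul, μ_tmul, mul_smul]
    | add p q hp hq => rw [map_add, AddMonoidHom.add_apply, map_add, hp, hq, map_add, add_smul]
  | add x y hx hy => rw [map_add, map_add, hx, hy, map_add, map_add]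

lemma ε_a (n : D.N) : ε R D.N (a D n) = n := by
  rw [a_apply, ε_κ]
  have h := D.θ_nat (μ R S) (iu R S S) (iv R S S) (RingHom.id S) (RingHom.id S) μ_iu μ_iv
    iu_iv_comm rfl n
  unfold ψ₀
  rw [← h, D.θ_self, ν_tmul, one_smul]

end counit


section lT

variable {C₁ C₂ : Type u} [CommRing C₁] [CommRing C₂] [Algebra R C₁] [Algebra R C₂]

variable (S) in
/-- `S ⊗_R f` for an additive map `f` compatible with the `R`-actions. -/
noncomputable def lT {Y₁ : ModuleCat.{u} C₁} {Y₂ : ModuleCat.{u} C₂} (f : Y₁ →+ Y₂)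
    (hf : ∀ (r : R) (y : Y₁), f (algebraMap R C₁ r • y) = algebraMap R C₂ r • f y) :
    XX R S Y₁ →+ XX R S Y₂ :=
  letI : Module R S := Module.compHom S (algebraMap R S)
  TensorProduct.liftAddHom (R := R) (M := S) (N := ((restrictScalars (algebraMap R C₁)).obj Y₁))
    { toFun := fun s =>
        { toFun := fun y => (s ⊗ₜ[R,algebraMap R S] (f y) : XX R S Y₂)
          map_zero' := by simp
          map_add' := fun n n' => by rw [map_add, tmul_add] }
      map_zero' := by ext n; simp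
      map_add' := fun t t' => by ext n; simp [add_tmul] }
    (fun r s y => by
      show ((algebraMap R S r * s) ⊗ₜ[R,algebraMap R S] (f y) : XX R S Y₂) =
        (s ⊗ₜ[R,algebraMap R S] (f (algebraMap R C₁ r • y)) : XX R S Y₂)
      rw [hf]
      exact (tmul_smul' (algebraMap R S) ((restrictScalars (algebraMap R C₂)).obj Y₂) s r (f y)).symm)

@[simp] lemma lT_tmul {Y₁ : ModuleCat.{u} C₁} {Y₂ : ModuleCat.{u} C₂} (f : Y₁ →+ Y₂)
    (hf : ∀ (r : R) (y : Y₁), f (algebraMap R C₁ r • y) = algebraMap R C₂ r • f y) (s : S) (y : Y₁) :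
    lT S f hf (s ⊗ₜ[R,algebraMap R S] y : XX R S Y₁) = (s ⊗ₜ[R,algebraMap R S] (f y) : XX R S Y₂) := by
  letI : Module R S := Module.compHom S (algebraMap R S)
  exact TensorProduct.liftAddHom_tmul _ _ _ _

lemma lT_leftInv {Y₁ : ModuleCat.{u} C₁} {Y₂ : ModuleCat.{u} C₂} (f : Y₁ →+ Y₂) (f' : Y₂ →+ Y₁)
    (hf : ∀ (r : R) (y : Y₁), f (algebraMap R C₁ r • y) = algebraMap R C₂ r • f y)
    (hf' : ∀ (r : R) (y : Y₂), f' (algebraMap R C₂ r • y) = algebraMap R C₁ r • f' y)
    (h : ∀ y, f' (f y) = y) (x : XX R S Y₁) : lT S f' hf' (lT S f hf x) = x := by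
  induction x using TensorProduct.induction_on with
  | zero => rw [map_zero, map_zero]
  | tmul s y => rw [lT_tmul, lT_tmul, h]
  | add x y hx hy => rw [map_add, map_add, hx, hy]

end lT


section coassoc

variable (R S) in
/-- first inclusion into the triple tensor product -/
noncomputable abbrev j₁ : S →+* S ⊗[R] (S ⊗[R] S) := iu R S (S ⊗[R] S)

variable (R S) in
/-- inclusion of the last two factors into the triple tensor product -/
noncomputable abbrev v' : S ⊗[R] S →+* S ⊗[R] (S ⊗[R] S) := iv R S (S ⊗[R] S)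

variable (R S) in
/-- second inclusion into the triple tensor product -/
noncomputable abbrev j₂ : S →+* S ⊗[R] (S ⊗[R] S) := (v' R S).comp (iu R S S)

variable (R S) in
/-- third inclusion into the triple tensor product -/
noncomputable abbrev j₃ : S →+* S ⊗[R] (S ⊗[R] S) := (v' R S).comp (iv R S S)

lemma algebraMap_T0 (r : R) : algebraMap R (S ⊗[R] S) r = iu R S S (algebraMap R S r) := rfl

lemma β_compat (N : ModuleCat.{u} S) (r : R) (x : XX R S N) :
    β R S N (algebraMap R S r • x) = algebraMap R (S ⊗[R] S) r • β R S N x := by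
  rw [β_smul, algebraMap_T0]

lemma κ_compat (N : ModuleCat.{u} S) (r : R) (z : ZZ R S N) :
    κ R S N (algebraMap R (S ⊗[R] S) r • z) = algebraMap R S r • κ R S N z := by
  rw [algebraMap_T0, κ_smul]

/-- the comparison map `S ⊗_R (S ⊗_R N) → (S ⊗_R S ⊗_R S) ⊗_{j₃} N`. -/
noncomputable def Ψ (N : ModuleCat.{u} S) (x : XX R S (XX R S N)) : (extendScalars (j₃ R S)).obj N :=
  (extendScalarsComp (iv R S S) (v' R S)).inv.app N
    (β R S (ZZ R S N) (lT S (β R S N) (β_compat N) x))

lemma Ψ_add (N : ModuleCat.{u} S) (x y : XX R S (XX R S N)) : Ψ N (x + y) = Ψ N x + Ψ N y := by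
  unfold Ψ
  rw [map_add, map_add, map_add]

lemma Ψ_zero (N : ModuleCat.{u} S) : Ψ N (0 : XX R S (XX R S N)) = 0 := by
  unfold Ψ
  rw [map_zero, map_zero, map_zero]

lemma Ψ_tmul (N : ModuleCat.{u} S) (s : S) (x : XX R S N) :
    Ψ N (s ⊗ₜ[R,algebraMap R S] x : XX R S (XX R S N)) =
      j₁ R S s • bc (iv R S S) (v' R S) (j₃ R S) rfl N (β R S N x) := by
  unfold Ψ
  rw [lT_tmul, β_tmul]
  exact comp_inv_tmul (iv R S S) (v' R S) N _ _

lemma Ψ_inj (N : ModuleCat.{u} S) (x y : XX R S (XX R S N)) (h : Ψ N x = Ψ N y) : x = y := by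
  unfold Ψ at h
  have h1 := congrArg ((extendScalarsComp (iv R S S) (v' R S)).hom.app N) h
  rw [Iso.inv_hom_id_app_apply, Iso.inv_hom_id_app_apply] at h1
  have h2 := congrArg (κ R S (ZZ R S N)) h1
  rw [κ_β, κ_β] at h2
  have h3 := congrArg (lT S (κ R S N) (κ_compat N)) h2
  rwa [lT_leftInv _ _ _ _ (κ_β N), lT_leftInv _ _ _ _ (κ_β N)] at h3


lemma h₁₂ : (j₁ R S).comp (algebraMap R S) = (j₂ R S).comp (algebraMap R S) := by
  have h := iu_iv_comm (R := R) (S := S) (C := S ⊗[R] S)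
  ext r
  exact RingHom.congr_fun h r

lemma h₂₃ : (j₂ R S).comp (algebraMap R S) = (j₃ R S).comp (algebraMap R S) := by
  have h := iu_iv_comm (R := R) (S := S) (C := S)
  ext r
  exact congrArg (v' R S) (RingHom.congr_fun h r)

lemma h₁₃ : (j₁ R S).comp (algebraMap R S) = (j₃ R S).comp (algebraMap R S) := h₁₂.trans h₂₃

variable (R S) in
/-- the map `S ⊗ S → S ⊗ S ⊗ S` onto factors 1 and 2 -/
noncomputable def j₁₂ : S ⊗[R] S →+* S ⊗[R] (S ⊗[R] S) := desc (j₁ R S) (j₂ R S) h₁₂

variable (R S) in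
/-- the map `S ⊗ S → S ⊗ S ⊗ S` onto factors 1 and 3 -/
noncomputable def j₁₃ : S ⊗[R] S →+* S ⊗[R] (S ⊗[R] S) := desc (j₁ R S) (j₃ R S) h₁₃

lemma j₁₂_u : (j₁₂ R S).comp (iu R S S) = j₁ R S := desc_u _ _ _
lemma j₁₂_v : (j₁₂ R S).comp (iv R S S) = j₂ R S := desc_v _ _ _
lemma j₁₃_u : (j₁₃ R S).comp (iu R S S) = j₁ R S := desc_u _ _ _
lemma j₁₃_v : (j₁₃ R S).comp (iv R S S) = j₃ R S := desc_v _ _ _

variable (R) in
/-- the comultiplication of the comonad, with normalised source and target -/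
noncomputable def δ (N : ModuleCat.{u} S) : XX R S N ⟶ XX R S (XX R S N) :=
  (extendScalars (algebraMap R S)).map
    ((extendRestrictScalarsAdj (algebraMap R S)).unit.app ((restrictScalars (algebraMap R S)).obj N))

lemma δ_tmul (N : ModuleCat.{u} S) (s : S) (n : N) :
    δ R N (s ⊗ₜ[R,algebraMap R S] n : XX R S N) =
      (s ⊗ₜ[R,algebraMap R S] ((1 : S) ⊗ₜ[R,algebraMap R S] n : XX R S N) : XX R S (XX R S N)) := rfl

/-- the comonad applied to the structure map, with normalised source and target -/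
noncomputable def Ga : XX R S D.N ⟶ XX R S (XX R S D.N) :=
  (extendScalars (algebraMap R S)).map ((restrictScalars (algebraMap R S)).map (a D))

lemma Ga_tmul (s : S) (n : D.N) :
    Ga D (s ⊗ₜ[R,algebraMap R S] n : XX R S D.N) =
      (s ⊗ₜ[R,algebraMap R S] (a D n) : XX R S (XX R S D.N)) := rfl

lemma K1_tmul (N : ModuleCat.{u} S) (s : S) (n : N) :
    Ψ N (δ R N (s ⊗ₜ[R,algebraMap R S] n : XX R S N)) =
      bc (iv R S S) (j₁₃ R S) (j₃ R S) j₁₃_v N (β R S N (s ⊗ₜ[R,algebraMap R S] n : XX R S N)) := by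
  rw [δ_tmul, Ψ_tmul, β_tmul, β_tmul, bc_tmul, bc_tmul, map_one, map_one, ExtendScalars.smul_tmul,
    mul_one]
  congr 1
  exact (RingHom.congr_fun j₁₃_u s).symm

lemma K1 (N : ModuleCat.{u} S) (x : XX R S N) :
    Ψ N (δ R N x) = bc (iv R S S) (j₁₃ R S) (j₃ R S) j₁₃_v N (β R S N x) := by
  induction x using TensorProduct.induction_on with
  | zero => rw [map_zero, Ψ_zero, map_zero, map_zero]
  | tmul s n => exact K1_tmul N s n
  | add x y hx hy => rw [map_add, Ψ_add, hx, hy, map_add, map_add]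

lemma K2_tmul (s : S) (n : D.N) :
    Ψ D.N (Ga D (s ⊗ₜ[R,algebraMap R S] n : XX R S D.N)) = D.θ (j₂ R S) (j₃ R S) h₂₃
      (bc (iv R S S) (j₁₂ R S) (j₂ R S) j₁₂_v D.N
        (β R S D.N (s ⊗ₜ[R,algebraMap R S] n : XX R S D.N))) := by
  rw [Ga_tmul, Ψ_tmul, β_a, β_tmul, bc_tmul]
  have e1 : (j₁₂ R S) (iu R S S s) = j₁ R S s := RingHom.congr_fun j₁₂_u s
  rw [e1, θ_smul]
  congr 1
  exact (D.θ_nat (v' R S) (iu R S S) (iv R S S) (j₂ R S) (j₃ R S) rfl rfl iu_iv_comm h₂₃ n).symm

lemma K2 (x : XX R S D.N) :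
    Ψ D.N (Ga D x) = D.θ (j₂ R S) (j₃ R S) h₂₃
      (bc (iv R S S) (j₁₂ R S) (j₂ R S) j₁₂_v D.N (β R S D.N x)) := by
  induction x using TensorProduct.induction_on with
  | zero => rw [map_zero, Ψ_zero, map_zero, map_zero, map_zero]
  | tmul s n => exact K2_tmul D s n
  | add x y hx hy => rw [map_add, Ψ_add, hx, hy, map_add, map_add, map_add]

lemma coassoc (n : D.N) : δ R D.N (a D n) = Ga D (a D n) := by
  apply Ψ_inj
  rw [K1, K2, β_a]
  unfold ψ₀
  rw [← D.θ_nat (j₁₃ R S) (iu R S S) (iv R S S) (j₁ R S) (j₃ R S) j₁₃_u j₁₃_v iu_iv_comm h₁₃ n,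
    ← D.θ_nat (j₁₂ R S) (iu R S S) (iv R S S) (j₁ R S) (j₂ R S) j₁₂_u j₁₂_v iu_iv_comm h₁₂ n,
    D.θ_comp _ _ _ h₁₂ h₂₃ h₁₃]

end coassoc


section main

/-- the coalgebra attached to a descent datum. -/
noncomputable def coalg : (extendRestrictScalarsAdj (algebraMap R S)).toComonad.Coalgebra where
  A := D.N
  a := a D
  counit := by
    show (a D ≫ ε R D.N : D.N ⟶ D.N) = 𝟙 D.N
    refine ModuleCat.hom_ext (LinearMap.ext fun n => ?_)
    exact ε_a D n
  coassoc := by
    show (a D ≫ δ R D.N : D.N ⟶ XX R S (XX R S D.N)) = a D ≫ Ga D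
    refine ModuleCat.hom_ext (LinearMap.ext fun n => ?_)
    exact coassoc D n

lemma comparison_isEquivalence [Module.FaithfullyFlat R S] :
    (Comonad.comparison (extendRestrictScalarsAdj.{u} (algebraMap R S))).IsEquivalence := by
  have hf : (algebraMap R S).FaithfullyFlat := (RingHom.faithfullyFlat_algebraMap_iff).mpr inferInstance
  have := preservesFiniteLimits_extendScalars_of_flat hf.flat
  have := reflectsIsomorphisms_extendScalars_of_faithfullyFlat hf
  have h1 : Comonad.HasEqualizerOfIsCosplitPair (extendScalars.{u,u,u} (algebraMap R S)) := ⟨inferInstance⟩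
  have h2 : Comonad.PreservesLimitOfIsCosplitPair (extendScalars.{u,u,u} (algebraMap R S)) := ⟨inferInstance⟩
  exact (Comonad.comonadicOfHasPreservesFSplitEqualizersOfReflectsIsomorphisms
    (extendRestrictScalarsAdj.{u} (algebraMap R S))).eqv


/-- invariance: if `a n = 1 ⊗ n` then all the descent isomorphisms fix `1 ⊗ n`. -/
lemma θ_of_a_eq (n : D.N)
    (hn : a D n = ((1 : S) ⊗ₜ[R,algebraMap R S] n : XX R S D.N))
    {T : Type u} [CommRing T] (g₁ g₂ : S →+* T)
    (h : g₁.comp (algebraMap R S) = g₂.comp (algebraMap R S)) :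
    D.θ g₁ g₂ h ((1 : T) ⊗ₜ[S,g₁] n : (extendScalars g₁).obj D.N) =
      ((1 : T) ⊗ₜ[S,g₂] n : (extendScalars g₂).obj D.N) := by
  have h0 : ψ₀ D n = ((1 : S ⊗[R] S) ⊗ₜ[S,iv R S S] n : ZZ R S D.N) := by
    rw [← β_a, hn, β_tmul, map_one]
  rw [D.θ_nat (desc g₁ g₂ h) (iu R S S) (iv R S S) g₁ g₂ (desc_u _ _ _) (desc_v _ _ _) iu_iv_comm h n]
  unfold ψ₀ at h0
  rw [h0, bc_tmul, map_one]

theorem effective_of_equiv
    (hK : (Comonad.comparison (extendRestrictScalarsAdj.{u} (algebraMap R S))).IsEquivalence) :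
    ∃ (M : ModuleCat.{u} R) (e : (extendScalars (algebraMap R S)).obj M ≅ D.N),
      ∀ {T : Type u} [CommRing T] (g₁ g₂ : S →+* T)
        (h : g₁.comp (algebraMap R S) = g₂.comp (algebraMap R S)) (m : M),
        D.θ g₁ g₂ h ((1 : T) ⊗ₜ[S,g₁] (e.hom ((1 : S) ⊗ₜ[R,algebraMap R S] m)) :
            (extendScalars g₁).obj D.N) =
          ((1 : T) ⊗ₜ[S,g₂] (e.hom ((1 : S) ⊗ₜ[R,algebraMap R S] m)) :
            (extendScalars g₂).obj D.N) := by
  haveI := hK
  let M : ModuleCat.{u} R :=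
    (Comonad.comparison (extendRestrictScalarsAdj.{u} (algebraMap R S))).objPreimage (coalg D)
  let e' : (Comonad.comparison (extendRestrictScalarsAdj.{u} (algebraMap R S))).obj M ≅ coalg D :=
    (Comonad.comparison (extendRestrictScalarsAdj.{u} (algebraMap R S))).objObjPreimageIso (coalg D)
  let e : (extendScalars (algebraMap R S)).obj M ≅ D.N :=
    (Comonad.forget _).mapIso e'
  refine ⟨M, e, fun g₁ g₂ h m => θ_of_a_eq D _ ?_ g₁ g₂ h⟩
  have key := e'.hom.h
  have key2 := congrArg (fun (f : (extendScalars (algebraMap R S)).obj M ⟶ XX R S D.N) =>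
    f ((1 : S) ⊗ₜ[R,algebraMap R S] m)) key
  exact key2.symm

theorem effective [Module.FaithfullyFlat R S] :
    ∃ (M : ModuleCat.{u} R) (e : (extendScalars (algebraMap R S)).obj M ≅ D.N),
      ∀ {T : Type u} [CommRing T] (g₁ g₂ : S →+* T)
        (h : g₁.comp (algebraMap R S) = g₂.comp (algebraMap R S)) (m : M),
        D.θ g₁ g₂ h ((1 : T) ⊗ₜ[S,g₁] (e.hom ((1 : S) ⊗ₜ[R,algebraMap R S] m)) :
            (extendScalars g₁).obj D.N) =
          ((1 : T) ⊗ₜ[S,g₂] (e.hom ((1 : S) ⊗ₜ[R,algebraMap R S] m)) :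
            (extendScalars g₂).obj D.N) :=
  effective_of_equiv D comparison_isEquivalence

end main

end Groth.Agent.Lib.Helper3.Desc4
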