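import Groth.Agent.Lib.Helper3.Desc2
import Groth.Agent.Lib.Helper3.Desc4
/-! Descent for modules, part 5: effectivity of descent data for `Desc.ringModPF` along a faithfully
flat ring map (helper for S1161, S1160). -/
set_option autoImplicit false
set_option backward.isDefEq.respectTransparency false
set_option backward.isDefEq.respectTransparency.types false
open CategoryTheory Opposite ModuleCat TensorProduct ChangeOfRings
open Pseudofunctor.LocallyDiscreteOpToCat
universe u
namespace Groth.Agent.Lib.Helper3.Desc5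
open Groth.Agent.Lib.Helper3.Desc1 Groth.Agent.Lib.Helper3.Desc2 Groth.Agent.Lib.Helper3.Desc4 Desc

variable {A B T : Type u} [CommRing A] [CommRing B] [CommRing T]

lemma one_tmul_tmul (f : A →+* B) (g : B →+* T) (M : ModuleCat.{u} A) (b : B) (m : M) :
    ((1 : T) ⊗ₜ[B,g] (b ⊗ₜ[A,f] m : (extendScalars f).obj M) :
        (extendScalars g).obj ((extendScalars f).obj M)) = g b •
        ((1 : T) ⊗ₜ[B,g] ((1 : B) ⊗ₜ[A,f] m : (extendScalars f).obj M) :
        (extendScalars g).obj ((extendScalars f).obj M)) := by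
  have e : (b ⊗ₜ[A,f] m : (extendScalars f).obj M) = b • ((1 : B) ⊗ₜ[A,f] m : (extendScalars f).obj M) :=
    tmul_eq_smul_one f M b m
  have e2 := tmul_smul' g ((extendScalars f).obj M) (1 : T) b
    ((1 : B) ⊗ₜ[A,f] m : (extendScalars f).obj M)
  rw [e, e2]
  rfl

/-- morphisms out of a double extension of scalars are determined on `1 ⊗ (1 ⊗ m)`. -/
lemma hom_ext₂ (f : A →+* B) (g : B →+* T) {M : ModuleCat.{u} A} {N : ModuleCat.{u} T}
    {α β : (extendScalars g).obj ((extendScalars f).obj M) ⟶ N}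
    (h : ∀ m : M, α ((1 : T) ⊗ₜ[B,g] ((1 : B) ⊗ₜ[A,f] m : (extendScalars f).obj M) :
        (extendScalars g).obj ((extendScalars f).obj M)) =
      β ((1 : T) ⊗ₜ[B,g] ((1 : B) ⊗ₜ[A,f] m : (extendScalars f).obj M) :
        (extendScalars g).obj ((extendScalars f).obj M))) : α = β := by
  apply ExtendScalars.hom_ext
  intro x
  induction x using TensorProduct.induction_on with
  | zero => rw [tmul_zero, map_zero, map_zero]
  | tmul b m =>
    have e := one_tmul_tmul f g M b m
    rw [e, map_smul, map_smul, h]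
  | add x y hx hy => rw [tmul_add, map_add, map_add, hx, hy]


theorem main_of_equiv (R S : Type u) [CommRing R] [CommRing S] [Algebra R S]
    (hK : (Comonad.comparison (extendRestrictScalarsAdj.{u} (algebraMap R S))).IsEquivalence)
    (D : ringModPF.{u}.DescentData
      (fun _ : PUnit.{u + 1} => (CommRingCat.ofHom (algebraMap R S)).op)) :
    ∃ M : ModuleCat.{u} R, Nonempty ((ringModPF.{u}.toDescentData
      (fun _ : PUnit.{u + 1} => (CommRingCat.ofHom (algebraMap R S)).op)).obj M ≅ D) := by
  obtain ⟨M, e, he⟩ := effective_of_equiv (ofD (algebraMap R S) D) hK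
  refine ⟨M, ⟨Pseudofunctor.DescentData.isoMk (fun _ => e) ?_⟩⟩
  intro Y q i₁ i₂ f₁ f₂ hf₁ hf₂
  induction Y using Opposite.rec with | _ T => ?_
  have hq₁ : CommRingCat.ofHom (algebraMap R S) ≫ f₁.unop = q.unop := congrArg Quiver.Hom.unop hf₁
  have hq₂ : CommRingCat.ofHom (algebraMap R S) ≫ f₂.unop = q.unop := congrArg Quiver.Hom.unop hf₂
  have h12 : f₁.unop.hom.comp (algebraMap R S) = f₂.unop.hom.comp (algebraMap R S) := by
    have := hq₁.trans hq₂.symm
    exact congrArg CommRingCat.Hom.hom this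
  let N : ModuleCat.{u} S := (ofD (algebraMap R S) D).N
  show ((extendScalars f₁.unop.hom).map e.hom ≫
      asHom ((extendScalars f₁.unop.hom).obj N) ((extendScalars f₂.unop.hom).obj N)
        (D.hom q f₁ f₂ hf₁ hf₂) :
      (extendScalars f₁.unop.hom).obj ((extendScalars (algebraMap R S)).obj M) ⟶
        (extendScalars f₂.unop.hom).obj N) =
    (asHom ((extendScalars f₁.unop.hom).obj ((extendScalars (algebraMap R S)).obj M))
        ((extendScalars q.unop.hom).obj M)
        ((ringModPF.{u}.mapComp' (CommRingCat.ofHom (algebraMap R S)).op.op.toLoc f₁.unop.op.op.toLoc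
          q.unop.op.op.toLoc (congrArg (fun x : CommRingCat.of R ⟶ T => x.op.op.toLoc) hq₁)).inv.toNatTrans.app M) ≫
      asHom ((extendScalars q.unop.hom).obj M)
        ((extendScalars f₂.unop.hom).obj ((extendScalars (algebraMap R S)).obj M))
        ((ringModPF.{u}.mapComp' (CommRingCat.ofHom (algebraMap R S)).op.op.toLoc f₂.unop.op.op.toLoc
          q.unop.op.op.toLoc (congrArg (fun x : CommRingCat.of R ⟶ T => x.op.op.toLoc) hq₂)).hom.toNatTrans.app M)) ≫
      (extendScalars f₂.unop.hom).map e.hom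
  apply hom_ext₂
  intro m
  rw [ModuleCat.comp_apply, ModuleCat.comp_apply, ModuleCat.comp_apply, ExtendScalars.map_tmul]
  erw [mapComp'_inv_app (CommRingCat.ofHom (algebraMap R S)) f₁.unop q.unop hq₁ M (1 : T)
    ((1 : S) ⊗ₜ[R,algebraMap R S] m : (extendScalars (algebraMap R S)).obj M)]
  rw [one_smul]
  erw [bc_tmul]
  rw [map_one]
  erw [mapComp'_hom_app (CommRingCat.ofHom (algebraMap R S)) f₂.unop q.unop hq₂ M (1 : T) m]
  erw [ExtendScalars.map_tmul]
  have h1 := he f₁.unop.hom f₂.unop.hom h12 m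
  refine Eq.trans ?_ h1
  have h2 := θD_eq (algebraMap R S) D f₁.unop.hom f₂.unop.hom h12 q hf₁ hf₂
  exact congrArg (fun (f : (extendScalars f₁.unop.hom).obj N ⟶ (extendScalars f₂.unop.hom).obj N) =>
    f ((1 : T) ⊗ₜ[S,f₁.unop.hom] (e.hom ((1 : S) ⊗ₜ[R,algebraMap R S] m)) :
      (extendScalars f₁.unop.hom).obj N)) h2.symm

theorem main (R S : Type u) [CommRing R] [CommRing S] [Algebra R S] [Module.FaithfullyFlat R S]
    (D : ringModPF.{u}.DescentData
      (fun _ : PUnit.{u + 1} => (CommRingCat.ofHom (algebraMap R S)).op)) :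
    ∃ M : ModuleCat.{u} R, Nonempty ((ringModPF.{u}.toDescentData
      (fun _ : PUnit.{u + 1} => (CommRingCat.ofHom (algebraMap R S)).op)).obj M ≅ D) :=
  main_of_equiv R S comparison_isEquivalence D

end Groth.Agent.Lib.Helper3.Desc5
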