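import Groth.Agent.S0274
/-! Descent for modules, part 6: for a universally injective ring map `R → S`, the functor `S ⊗_R -`
preserves equalizers of pairs that become split after tensoring (plain tensor products; uses the
character-module section from S0274) (helper for S1160). -/
set_option autoImplicit false
universe u
open scoped TensorProduct
open Pi1
namespace Groth.Agent.Lib.Helper3.Desc6
open Groth.Agent.S0274

variable {R S : Type u} [CommRing R] [CommRing S] [Algebra R S]

section sigma

variable (σ : CharacterModule R →ₗ[R] CharacterModule S) (hσ : ∀ φ : CharacterModule R, σ φ 1 = φ 1)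

include hσ in
lemma aMap_one_tmul (N : Type u) [AddCommGroup N] [Module R N] (χ : CharacterModule N) (n : N) :
    aMap R S σ N χ ((1 : S) ⊗ₜ[R] n) = χ n := by
  rw [aMap_tmul, hσ, curry_app, dual_app]
  simp

lemma aMap_nat {X Y : Type u} [AddCommGroup X] [Module R X] [AddCommGroup Y] [Module R Y]
    (h : X →ₗ[R] Y) (χ : CharacterModule Y) (y : S ⊗[R] X) :
    aMap R S σ X (CharacterModule.dual h χ) y = aMap R S σ Y χ (LinearMap.lTensor S h y) := by
  induction y using TensorProduct.induction_on with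
  | zero => simp
  | tmul s x =>
    rw [aMap_tmul, LinearMap.lTensor_tmul, aMap_tmul]
    congr 2
    ext r
    rw [curry_app, curry_app, dual_app, dual_app, dual_app]
    simp only [LinearEquiv.coe_coe, TensorProduct.rid_tmul, map_smul]
  | add x y hx hy => rw [map_add, map_add, hx, hy, map_add]

end sigma


section PE

variable {A B W : Type u} [AddCommGroup A] [Module R A] [AddCommGroup B] [Module R B]
  [AddCommGroup W] [Module R W]
  (σ : CharacterModule R →ₗ[R] CharacterModule S) (hσ : ∀ φ : CharacterModule R, σ φ 1 = φ 1)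
  (f g : A →ₗ[R] B) (ι : W →ₗ[R] S ⊗[R] A) (r : S ⊗[R] A →ₗ[R] W) (t : S ⊗[R] B →ₗ[R] S ⊗[R] A)
  (h1 : ∀ w, LinearMap.lTensor S f (ι w) = LinearMap.lTensor S g (ι w))
  (h3 : ∀ x, t (LinearMap.lTensor S f x) = x)
  (h4 : ∀ x, t (LinearMap.lTensor S g x) = ι (r x))

/-- the contracting map on character modules -/
noncomputable def τ : CharacterModule A →ₗ[R] CharacterModule B :=
  CharacterModule.dual (TensorProduct.mk R S B 1) ∘ₗ CharacterModule.dual t ∘ₗ aMap R S σ A

lemma τ_apply (χ : CharacterModule A) (b : B) :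
    τ σ t χ b = aMap R S σ A χ (t ((1 : S) ⊗ₜ[R] b)) := rfl

include hσ h3 in
lemma τ_f (χ : CharacterModule A) (a : A) : τ σ t χ (f a) = χ a := by
  rw [τ_apply, ← LinearMap.lTensor_tmul, h3, aMap_one_tmul σ hσ]

include h4 in
lemma τ_g (χ : CharacterModule A) (a : A) :
    τ σ t χ (g a) = aMap R S σ A χ (ι (r ((1 : S) ⊗ₜ[R] a))) := by
  rw [τ_apply, ← LinearMap.lTensor_tmul, h4]

/-- a character killing the equalizer of `f, g` factors through `f - g`. -/
lemma exists_factor (χ : CharacterModule A) (hχ : ∀ a : A, f a = g a → χ a = 0) :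
    ∃ χ' : CharacterModule B, ∀ a, χ a = χ' (f a) - χ' (g a) := by
  let d : A →+ B := (f - g).toAddMonoidHom
  let d' : A →+ d.range := d.rangeRestrict
  have hsurj : Function.Surjective d' := d.rangeRestrict_surjective
  have hker : d'.ker ≤ (χ : A →+ AddCircle (1 : ℚ)).ker := by
    intro a ha
    rw [AddMonoidHom.mem_ker] at ha
    have h0 : d a = 0 := congrArg Subtype.val ha
    have h0' : f a - g a = 0 := h0
    exact hχ a (sub_eq_zero.mp h0')
  let χ₁ : d.range →+ AddCircle (1 : ℚ) :=
    d'.liftOfRightInverse (Function.surjInv hsurj) (Function.rightInverse_surjInv hsurj) ⟨χ, hker⟩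
  have hχ₁ : ∀ a, χ₁ (d' a) = χ a := fun a =>
    AddMonoidHom.liftOfRightInverse_comp_apply d' _ (Function.rightInverse_surjInv hsurj) ⟨χ, hker⟩ a
  obtain ⟨χ', hχ'⟩ := CharacterModule.dual_surjective_of_injective (R := ℤ)
    (AddSubgroup.subtype d.range).toIntLinearMap Subtype.val_injective χ₁
  refine ⟨χ', fun a => ?_⟩
  rw [← hχ₁ a, ← hχ', ← map_sub]
  rfl

include h1 in
/-- characters vanishing on the equalizer are killed by `aMap` on the image of `ι`. -/
lemma aMap_ι_eq_zero (χ : CharacterModule A)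
    (hχ : ∀ a : A, f a = g a → χ a = 0) (w : W) : aMap R S σ A χ (ι w) = 0 := by
  obtain ⟨χ', hχ'⟩ := exists_factor f g χ hχ
  have e : χ = CharacterModule.dual f χ' - CharacterModule.dual g χ' := by
    ext a
    exact hχ' a
  rw [e, map_sub]
  show aMap R S σ A (CharacterModule.dual f χ') (ι w) - aMap R S σ A (CharacterModule.dual g χ') (ι w) = 0
  rw [aMap_nat, aMap_nat, h1, sub_self]


include hσ h1 h3 h4 in
theorem PE_exact (x : S ⊗[R] A) (hx : LinearMap.lTensor S f x = LinearMap.lTensor S g x) :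
    x ∈ LinearMap.range (LinearMap.lTensor S (LinearMap.eqLocus f g).subtype) := by
  by_contra hx'
  have hne : (LinearMap.range (LinearMap.lTensor S (LinearMap.eqLocus f g).subtype)).mkQ x ≠ 0 := by
    rwa [Ne, Submodule.mkQ_apply, Submodule.Quotient.mk_eq_zero]
  obtain ⟨c, hc⟩ := CharacterModule.exists_character_apply_ne_zero_of_ne_zero hne
  let ζ : CharacterModule (S ⊗[R] A) := CharacterModule.dual
    (LinearMap.range (LinearMap.lTensor S (LinearMap.eqLocus f g).subtype)).mkQ c
  have hζR : ∀ y ∈ LinearMap.range (LinearMap.lTensor S (LinearMap.eqLocus f g).subtype), ζ y = 0 := by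
    intro y hy
    show c ((LinearMap.range (LinearMap.lTensor S (LinearMap.eqLocus f g).subtype)).mkQ y) = 0
    rw [Submodule.mkQ_apply, (Submodule.Quotient.mk_eq_zero _).mpr hy, map_zero]
  have hζx : ζ x ≠ 0 := hc
  let ζt : S →ₗ[R] CharacterModule A := CharacterModule.curry ζ
  have hvan : ∀ (s : S) (a : A), f a = g a → ζt s a = 0 := fun s a ha =>
    hζR (s ⊗ₜ[R] a) ⟨s ⊗ₜ[R] (⟨a, ha⟩ : LinearMap.eqLocus f g), rfl⟩
  let ω : CharacterModule (S ⊗[R] B) := CharacterModule.uncurry (τ σ t ∘ₗ ζt)
  have key : ∀ y, ζ y = ω (LinearMap.lTensor S f y) - ω (LinearMap.lTensor S g y) := by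
    intro y
    induction y using TensorProduct.induction_on with
    | zero => simp
    | tmul s a =>
      rw [LinearMap.lTensor_tmul, LinearMap.lTensor_tmul]
      show ζt s a = τ σ t (ζt s) (f a) - τ σ t (ζt s) (g a)
      rw [τ_f σ hσ f t h3, τ_g σ g ι r t h4, aMap_ι_eq_zero σ f g ι h1 _ (hvan s), sub_zero]
    | add y z hy hz => rw [map_add, map_add, map_add, map_add, map_add, hy, hz]; abel
  apply hζx
  rw [key, hx, sub_self]

include hσ h1 h3 h4 in
theorem PE_inj : Function.Injective (LinearMap.lTensor S (LinearMap.eqLocus f g).subtype) := by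
  rw [injective_iff_map_eq_zero]
  intro y hy
  by_contra hne
  obtain ⟨ξ, hξ⟩ := CharacterModule.exists_character_apply_ne_zero_of_ne_zero hne
  let Di : CharacterModule A →ₗ[R] CharacterModule (LinearMap.eqLocus f g) :=
    CharacterModule.dual (LinearMap.eqLocus f g).subtype
  have hsurj : Function.Surjective Di :=
    CharacterModule.dual_surjective_of_injective _ (Submodule.injective_subtype _)
  let p : CharacterModule A →ₗ[R] CharacterModule A := CharacterModule.dual g ∘ₗ τ σ t
  have hp_ker : LinearMap.ker Di ≤ LinearMap.ker p := by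
    intro χ hχ
    rw [LinearMap.mem_ker] at hχ ⊢
    have hχ' : ∀ a : A, f a = g a → χ a = 0 := fun a ha =>
      DFunLike.congr_fun hχ (⟨a, ha⟩ : LinearMap.eqLocus f g)
    ext a
    show τ σ t χ (g a) = 0
    rw [τ_g σ g ι r t h4, aMap_ι_eq_zero σ f g ι h1 _ hχ']
  have hp_i : ∀ χ, Di (p χ) = Di χ := by
    intro χ
    ext e
    show τ σ t χ (g e.1) = χ e.1
    rw [← e.2, τ_f σ hσ f t h3]
  let u : CharacterModule (LinearMap.eqLocus f g) →ₗ[R] CharacterModule A :=
    (LinearMap.ker Di).liftQ p hp_ker ∘ₗ (Di.quotKerEquivOfSurjective hsurj).symm.toLinearMap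
  have hu : ∀ ψ, Di (u ψ) = ψ := by
    intro ψ
    obtain ⟨χ, rfl⟩ := hsurj ψ
    have e1 : (Di.quotKerEquivOfSurjective hsurj).symm (Di χ) = Submodule.Quotient.mk χ := by
      rw [LinearEquiv.symm_apply_eq]
      rfl
    show Di ((LinearMap.ker Di).liftQ p hp_ker ((Di.quotKerEquivOfSurjective hsurj).symm (Di χ))) = _
    rw [e1, Submodule.liftQ_apply, hp_i]
  let ξt : S →ₗ[R] CharacterModule (LinearMap.eqLocus f g) := CharacterModule.curry ξ
  let ζ : CharacterModule (S ⊗[R] A) := CharacterModule.uncurry (u ∘ₗ ξt)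
  have key : ∀ z, ζ (LinearMap.lTensor S (LinearMap.eqLocus f g).subtype z) = ξ z := by
    intro z
    induction z using TensorProduct.induction_on with
    | zero => simp
    | tmul s e =>
      rw [LinearMap.lTensor_tmul]
      show Di (u (ξt s)) e = ξ (s ⊗ₜ[R] e)
      rw [hu]
      rfl
    | add y z hy hz => rw [map_add, map_add, map_add, hy, hz]
  apply hξ
  rw [← key, hy, map_zero]

end PE

end Groth.Agent.Lib.Helper3.Desc6
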