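import Groth.Agent.Lib.Helper3.Desc4
import Groth.Agent.Lib.Helper3.Desc6
/-! Descent for modules, part 7: extension of scalars along a universally injective ring map is
comonadic (Beck's theorem with the cosplit-equalizer preservation of part 6) (helper for S1160). -/
set_option autoImplicit false
set_option backward.isDefEq.respectTransparency false
set_option backward.isDefEq.respectTransparency.types false
open CategoryTheory ModuleCat TensorProduct ChangeOfRings
universe u
namespace Groth.Agent.Lib.Helper3.Desc7
open Groth.Agent.Lib.Helper3.Desc1 Groth.Agent.Lib.Helper3.Desc3 Groth.Agent.Lib.Helper3.Desc4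
open Groth.Agent.Lib.Helper3.Desc6

variable {R S : Type u} [CommRing R] [CommRing S] [Algebra R S]

variable (S) in
/-- from the categorical extension of scalars to the plain tensor product -/
noncomputable def toP (X : ModuleCat.{u} R) : (extendScalars (algebraMap R S)).obj X →+ S ⊗[R] X :=
  TensorProduct.liftAddHom (R := R) (M := ((restrictScalars (algebraMap R S)).obj (ModuleCat.of S S)))
    (N := X)
    { toFun := fun (s : S) =>
        { toFun := fun x => (s ⊗ₜ[R] x : S ⊗[R] X)
          map_zero' := by simp
          map_add' := fun n n' => by rw [tmul_add] }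
      map_zero' := by ext n; simp
      map_add' := fun t t' => by ext n; simp [add_tmul] }
    (fun r (s : S) x => by
      show ((algebraMap R S r * s) ⊗ₜ[R] x : S ⊗[R] X) = ((s : S) ⊗ₜ[R] (r • x) : S ⊗[R] X)
      rw [← Algebra.smul_def, TensorProduct.smul_tmul])

@[simp] lemma toP_tmul (X : ModuleCat.{u} R) (s : S) (x : X) :
    toP S X (s ⊗ₜ[R,algebraMap R S] x : (extendScalars (algebraMap R S)).obj X) = s ⊗ₜ[R] x :=
  TensorProduct.liftAddHom_tmul (R := R)
    (M := ((restrictScalars (algebraMap R S)).obj (ModuleCat.of S S))) (N := X) _ _ _ _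

variable (S) in
/-- from the plain tensor product to the categorical extension of scalars -/
noncomputable def ofP (X : ModuleCat.{u} R) : S ⊗[R] X →+ (extendScalars (algebraMap R S)).obj X :=
  TensorProduct.liftAddHom (R := R) (M := S) (N := X)
    { toFun := fun s =>
        { toFun := fun x => (s ⊗ₜ[R,algebraMap R S] x : (extendScalars (algebraMap R S)).obj X)
          map_zero' := by simp
          map_add' := fun n n' => by rw [tmul_add] }
      map_zero' := by ext n; simp
      map_add' := fun t t' => by ext n; simp [add_tmul] }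
    (fun r s x => by
      show ((r • s) ⊗ₜ[R,algebraMap R S] x : (extendScalars (algebraMap R S)).obj X) = s ⊗ₜ[R,algebraMap R S] (r • x)
      rw [tmul_smul', Algebra.smul_def])

@[simp] lemma ofP_tmul (X : ModuleCat.{u} R) (s : S) (x : X) :
    ofP S X (s ⊗ₜ[R] x) = (s ⊗ₜ[R,algebraMap R S] x : (extendScalars (algebraMap R S)).obj X) :=
  TensorProduct.liftAddHom_tmul _ _ _ _

lemma ofP_toP (X : ModuleCat.{u} R) (y : (extendScalars (algebraMap R S)).obj X) :
    ofP S X (toP S X y) = y := by
  induction y using TensorProduct.induction_on with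
  | zero => rw [map_zero, map_zero]
  | tmul s x => rw [toP_tmul, ofP_tmul]
  | add x y hx hy => rw [map_add, map_add, hx, hy]

lemma toP_ofP (X : ModuleCat.{u} R) (y : S ⊗[R] X) : toP S X (ofP S X y) = y := by
  induction y using TensorProduct.induction_on with
  | zero => rw [map_zero, map_zero]
  | tmul s x => rw [ofP_tmul, toP_tmul]
  | add x y hx hy => rw [map_add, map_add, hx, hy]

lemma toP_smul (X : ModuleCat.{u} R) (s : S) (y : (extendScalars (algebraMap R S)).obj X) :
    toP S X (s • y) = s • toP S X y := by
  induction y using TensorProduct.induction_on with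
  | zero => rw [smul_zero, map_zero, smul_zero]
  | tmul s' x => rw [ExtendScalars.smul_tmul, toP_tmul, toP_tmul, TensorProduct.smul_tmul', smul_eq_mul]
  | add x y hx hy => rw [smul_add, map_add, hx, hy, map_add, smul_add]

lemma ofP_smul (X : ModuleCat.{u} R) (s : S) (y : S ⊗[R] X) :
    ofP S X (s • y) = s • ofP S X y := by
  rw [← toP_ofP X y, ← toP_smul, ofP_toP, toP_ofP]

lemma toP_map {X Y : ModuleCat.{u} R} (h : X ⟶ Y) (y : (extendScalars (algebraMap R S)).obj X) :
    toP S Y ((extendScalars (algebraMap R S)).map h y) = LinearMap.lTensor S h.hom (toP S X y) := by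
  induction y using TensorProduct.induction_on with
  | zero => rw [map_zero, map_zero, map_zero, map_zero]
  | tmul s x => rw [ExtendScalars.map_tmul, toP_tmul, toP_tmul, LinearMap.lTensor_tmul]
  | add x y hx hy => rw [map_add, map_add, hx, hy, map_add, map_add]


section univInj

variable (hUI : Pi1.UnivInjective R S)

include hUI in
/-- the unit `p ↦ 1 ⊗ p` is injective for a universally injective ring map. -/
lemma eta_inj (P : ModuleCat.{u} R) (p : P)
    (hp : ((1 : S) ⊗ₜ[R,algebraMap R S] p : (extendScalars (algebraMap R S)).obj P) = 0) : p = 0 := by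
  have h1 : ((1 : S) ⊗ₜ[R] p : S ⊗[R] P) = 0 := by
    rw [← toP_tmul, hp, map_zero]
  have h2 : (p ⊗ₜ[R] (1 : S) : P ⊗[R] S) = 0 := by
    have := congrArg (TensorProduct.comm R S P) h1
    simpa using this
  have h3 : LinearMap.lTensor P (Algebra.linearMap R S) (p ⊗ₜ[R] (1 : R)) = 0 := by
    rw [LinearMap.lTensor_tmul, Algebra.linearMap_apply, map_one, h2]
  have h4 : (p ⊗ₜ[R] (1 : R) : P ⊗[R] R) = 0 := hUI P (h3.trans (map_zero _).symm)
  have := congrArg (TensorProduct.rid R P) h4
  simpa using this

include hUI in
lemma reflectsIsomorphisms : (extendScalars.{u,u,u} (algebraMap R S)).ReflectsIsomorphisms := by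
  refine ⟨fun {M N} g h => ?_⟩
  rw [ConcreteCategory.isIso_iff_bijective] at h ⊢
  constructor
  · rw [injective_iff_map_eq_zero]
    intro m hm
    apply eta_inj hUI M m
    apply h.1
    rw [ExtendScalars.map_tmul, hm, tmul_zero, map_zero]
  · intro n
    -- the quotient by the range
    let Q : ModuleCat.{u} R := ModuleCat.of R (N ⧸ LinearMap.range g.hom)
    let q : N ⟶ Q := ModuleCat.ofHom (LinearMap.range g.hom).mkQ
    have hq0 : ∀ y : (extendScalars (algebraMap R S)).obj N,
        (extendScalars (algebraMap R S)).map q y = 0 := by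
      intro y
      obtain ⟨x, rfl⟩ := h.2 y
      rw [← ModuleCat.comp_apply, ← Functor.map_comp]
      have : g ≫ q = 0 := by
        ext m
        show (LinearMap.range g.hom).mkQ (g.hom m) = 0
        rw [Submodule.mkQ_apply, Submodule.Quotient.mk_eq_zero]
        exact ⟨m, rfl⟩
      rw [this, Functor.map_zero]
      rfl
    have h1 := hq0 ((1 : S) ⊗ₜ[R,algebraMap R S] n)
    rw [ExtendScalars.map_tmul] at h1
    have h2 := eta_inj hUI Q _ h1
    have h3 : (LinearMap.range g.hom).mkQ n = 0 := h2
    rw [Submodule.mkQ_apply, Submodule.Quotient.mk_eq_zero] at h3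
    exact h3

end univInj


open CategoryTheory.Limits in
/-- a fork in a module category which is injective and exact is a limit. -/
noncomputable def isLimitForkOfExact {R' : Type u} [CommRing R'] {X A B : ModuleCat.{u} R'} (j : X ⟶ A) (f g : A ⟶ B)
    (w : j ≫ f = j ≫ g) (hinj : Function.Injective j)
    (hex : ∀ a : A, f a = g a → ∃ x : X, j x = a) : IsLimit (Fork.ofι j w) := by
  have hj : ∀ x : X, f.hom (j.hom x) = g.hom (j.hom x) := fun x => by
    have := congrArg (fun (k : X ⟶ B) => k x) w
    exact this
  let e : X ≃ₗ[R'] LinearMap.eqLocus f.hom g.hom :=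
    LinearEquiv.ofBijective (j.hom.codRestrict (LinearMap.eqLocus f.hom g.hom) hj)
      ⟨fun x y hxy => hinj (congrArg Subtype.val hxy), fun ⟨a, ha⟩ => by
        obtain ⟨x, hx⟩ := hex a ha
        exact ⟨x, Subtype.ext hx⟩⟩
  have he : ∀ y : LinearMap.eqLocus f.hom g.hom, j.hom (e.symm y) = y.1 := fun y => by
    have := congrArg Subtype.val (e.apply_symm_apply y)
    exact this
  refine Fork.IsLimit.mk' _ (fun s => ?_)
  have hs : ∀ z : s.pt, f.hom (s.ι.hom z) = g.hom (s.ι.hom z) := fun z => by
    have := congrArg (fun (k : s.pt ⟶ B) => k z) s.condition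
    exact this
  refine ⟨ModuleCat.ofHom (e.symm.toLinearMap ∘ₗ
    (s.ι.hom.codRestrict (LinearMap.eqLocus f.hom g.hom) hs)), ?_, ?_⟩
  · ext z
    exact he _
  · intro m hm
    ext z
    apply hinj
    have h1 := congrArg (fun (k : s.pt ⟶ A) => k z) hm
    refine Eq.trans h1 ?_
    exact (he ⟨s.ι.hom z, hs z⟩).symm


section preserves

open CategoryTheory.Limits

variable (hUI : Pi1.UnivInjective R S)

include hUI in
lemma preservesLimit_of_cosplit {A B : ModuleCat.{u} R} (f g : A ⟶ B)
    [hc : (extendScalars.{u,u,u} (algebraMap R S)).IsCosplitPair f g] :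
    PreservesLimit (parallelPair f g) (extendScalars.{u,u,u} (algebraMap R S)) := by
  obtain ⟨σ, hσ⟩ := Groth.Agent.S0274.exists_sigma R S hUI
  obtain ⟨W, ι, ⟨hs⟩⟩ := hc.splittable
  -- plain data
  let W' : ModuleCat.{u} R := (restrictScalars (algebraMap R S)).obj W
  let ι' : W' →ₗ[R] S ⊗[R] A :=
    { toFun := fun w => toP S A (ι w)
      map_add' := fun w w' => by rw [map_add, map_add]
      map_smul' := fun r w => by
        show toP S A (ι (algebraMap R S r • w)) = r • toP S A (ι w)
        rw [map_smul, toP_smul, algebraMap_smul] }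
  let r' : S ⊗[R] A →ₗ[R] W' :=
    { toFun := fun z => hs.leftRetraction (ofP S A z)
      map_add' := fun z z' => by rw [map_add, map_add]
      map_smul' := fun r z => by
        show hs.leftRetraction (ofP S A (r • z)) = algebraMap R S r • hs.leftRetraction (ofP S A z)
        rw [← algebraMap_smul S r z, ofP_smul, map_smul] }
  let t' : S ⊗[R] B →ₗ[R] S ⊗[R] A :=
    { toFun := fun z => toP S A (hs.rightRetraction (ofP S B z))
      map_add' := fun z z' => by rw [map_add, map_add, map_add]
      map_smul' := fun r z => by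
        show toP S A (hs.rightRetraction (ofP S B (r • z))) = r • toP S A (hs.rightRetraction (ofP S B z))
        rw [← algebraMap_smul S r z, ofP_smul, map_smul, toP_smul, algebraMap_smul] }
  have ofP_map : ∀ {X Y : ModuleCat.{u} R} (h : X ⟶ Y) (z : S ⊗[R] X),
      ofP S Y (LinearMap.lTensor S h.hom z) = (extendScalars (algebraMap R S)).map h (ofP S X z) := by
    intro X Y h z
    rw [← ofP_toP Y ((extendScalars (algebraMap R S)).map h (ofP S X z)), toP_map, toP_ofP]
  have h1 : ∀ w, LinearMap.lTensor S g.hom (ι' w) = LinearMap.lTensor S f.hom (ι' w) := by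
    intro w
    show LinearMap.lTensor S g.hom (toP S A (ι w)) = LinearMap.lTensor S f.hom (toP S A (ι w))
    rw [← toP_map, ← toP_map]
    congr 1
    have := congrArg (fun (k : W ⟶ (extendScalars (algebraMap R S)).obj B) => k w) hs.condition
    exact this.symm
  have h3 : ∀ x, t' (LinearMap.lTensor S g.hom x) = x := by
    intro x
    show toP S A (hs.rightRetraction (ofP S B (LinearMap.lTensor S g.hom x))) = x
    rw [ofP_map]
    have := congrArg (fun (k : (extendScalars (algebraMap R S)).obj A ⟶
      (extendScalars (algebraMap R S)).obj A) => k (ofP S A x)) hs.bottom_rightRetraction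
    refine Eq.trans (congrArg (toP S A) this) ?_
    exact toP_ofP A x
  have h4 : ∀ x, t' (LinearMap.lTensor S f.hom x) = ι' (r' x) := by
    intro x
    show toP S A (hs.rightRetraction (ofP S B (LinearMap.lTensor S f.hom x))) =
      toP S A (ι (hs.leftRetraction (ofP S A x)))
    rw [ofP_map]
    have := congrArg (fun (k : (extendScalars (algebraMap R S)).obj A ⟶
      (extendScalars (algebraMap R S)).obj A) => k (ofP S A x)) hs.top_rightRetraction
    exact congrArg (toP S A) this
  have hinj := PE_inj σ hσ g.hom f.hom ι' r' t' h1 h3 h4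
  have hex := PE_exact σ hσ g.hom f.hom ι' r' t' h1 h3 h4
  -- the equalizer in `R`-modules
  let E : ModuleCat.{u} R := ModuleCat.of R (LinearMap.eqLocus g.hom f.hom)
  let j : E ⟶ A := ModuleCat.ofHom (LinearMap.eqLocus g.hom f.hom).subtype
  have w : j ≫ f = j ≫ g := by
    ext e
    exact e.2.symm
  have hE : IsLimit (Fork.ofι j w) := isLimitForkOfExact j f g w (Submodule.injective_subtype _)
    (fun a ha => ⟨⟨a, ha.symm⟩, rfl⟩)
  have hLE : IsLimit (Fork.ofι ((extendScalars (algebraMap R S)).map j)
      (by simp only [← Functor.map_comp, w]) :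
      Fork ((extendScalars (algebraMap R S)).map f) ((extendScalars (algebraMap R S)).map g)) := by
    refine isLimitForkOfExact _ _ _ _ ?_ ?_
    · intro y y' hyy'
      have h5 := congrArg (toP S A) hyy'
      rw [toP_map, toP_map] at h5
      have h6 := hinj h5
      rw [← ofP_toP E y, ← ofP_toP E y', h6]
    · intro a ha
      have h5 := congrArg (toP S B) ha
      rw [toP_map, toP_map] at h5
      obtain ⟨z, hz⟩ := hex (toP S A a) h5.symm
      refine ⟨ofP S E z, ?_⟩
      rw [← ofP_toP A ((extendScalars (algebraMap R S)).map j (ofP S E z)), toP_map, toP_ofP]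
      refine Eq.trans (congrArg (ofP S A) hz) ?_
      exact ofP_toP A a
  exact preservesLimit_of_preserves_limit_cone hE
    ((isLimitMapConeForkEquiv (extendScalars (algebraMap R S)) w).symm hLE)

include hUI in
lemma comparison_isEquivalence_of_univInjective :
    (Comonad.comparison (extendRestrictScalarsAdj.{u} (algebraMap R S))).IsEquivalence := by
  have := reflectsIsomorphisms hUI
  have h1 : Comonad.HasEqualizerOfIsCosplitPair (extendScalars.{u,u,u} (algebraMap R S)) := ⟨inferInstance⟩
  have h2 : Comonad.PreservesLimitOfIsCosplitPair (extendScalars.{u,u,u} (algebraMap R S)) :=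
    ⟨fun f g _ => preservesLimit_of_cosplit hUI f g⟩
  exact (Comonad.comonadicOfHasPreservesFSplitEqualizersOfReflectsIsomorphisms
    (extendRestrictScalarsAdj.{u} (algebraMap R S))).eqv

end preserves

end Groth.Agent.Lib.Helper3.Desc7
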