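import Groth.Agent.Lib.Helper3.Desc5
import Groth.Agent.Lib.Helper3.Desc7
/-! Descent for modules, part 8: the functor to descent data is faithful when the comparison functor is
an equivalence; the canonical descent datum at a pair of ring maps (helper for S1160). -/
set_option autoImplicit false
set_option backward.isDefEq.respectTransparency false
set_option backward.isDefEq.respectTransparency.types false
open CategoryTheory Opposite ModuleCat TensorProduct ChangeOfRings
open Pseudofunctor.LocallyDiscreteOpToCat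
universe u
namespace Groth.Agent.Lib.Helper3.Desc8
open Groth.Agent.Lib.Helper3.Desc1 Groth.Agent.Lib.Helper3.Desc2 Groth.Agent.Lib.Helper3.Desc3
open Groth.Agent.Lib.Helper3.Desc4 Groth.Agent.Lib.Helper3.Desc5 Groth.Agent.Lib.Helper3.Desc7 Desc

variable (R S : Type u) [CommRing R] [CommRing S] [Algebra R S]

/-- the functor to descent data -/
noncomputable abbrev Φ : ModuleCat.{u} R ⥤ ringModPF.{u}.DescentData
    (fun _ : PUnit.{u + 1} => (CommRingCat.ofHom (algebraMap R S)).op) :=
  ringModPF.{u}.toDescentData (fun _ : PUnit.{u + 1} => (CommRingCat.ofHom (algebraMap R S)).op)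

variable {R S}

lemma Φ_map_hom {M M' : ModuleCat.{u} R} (f : M ⟶ M') :
    asHom ((extendScalars (algebraMap R S)).obj M) ((extendScalars (algebraMap R S)).obj M')
      (((Φ R S).map f).hom ⟨⟩) = (extendScalars (algebraMap R S)).map f := rfl

lemma Φ_faithful_of_equiv
    (hK : (Comonad.comparison (extendRestrictScalarsAdj.{u} (algebraMap R S))).IsEquivalence) :
    (Φ R S).Faithful := by
  refine ⟨fun {M M'} f f' hff' => ?_⟩
  have h1 : (extendScalars (algebraMap R S)).map f = (extendScalars (algebraMap R S)).map f' := by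
    rw [← Φ_map_hom, ← Φ_map_hom, hff']
  apply (Comonad.comparison (extendRestrictScalarsAdj.{u} (algebraMap R S))).map_injective
  exact Comonad.Coalgebra.Hom.ext h1


/-- `L η : S ⊗ M ⟶ S ⊗ (S ⊗ M)` with normalised target. -/
noncomputable def δ' (M : ModuleCat.{u} R) :
    (extendScalars (algebraMap R S)).obj M ⟶ XX R S ((extendScalars (algebraMap R S)).obj M) :=
  (extendScalars (algebraMap R S)).map ((extendRestrictScalarsAdj (algebraMap R S)).unit.app M)

lemma δ'_tmul (M : ModuleCat.{u} R) (s : S) (m : M) :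
    δ' M (s ⊗ₜ[R,algebraMap R S] m : (extendScalars (algebraMap R S)).obj M) =
      (s ⊗ₜ[R,algebraMap R S] ((1 : S) ⊗ₜ[R,algebraMap R S] m : (extendScalars (algebraMap R S)).obj M) :
        XX R S ((extendScalars (algebraMap R S)).obj M)) := rfl

section general

variable {T : Type u} [CommRing T] (g₁ g₂ : S →+* T)
  (hg : g₁.comp (algebraMap R S) = g₂.comp (algebraMap R S))

include hg in
lemma hqG : CommRingCat.ofHom (algebraMap R S) ≫ CommRingCat.ofHom g₁ =
    CommRingCat.ofHom (algebraMap R S) ≫ CommRingCat.ofHom g₂ := by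
  ext r
  exact RingHom.congr_fun hg r

/-- the canonical descent datum of `M` at a pair `(g₁, g₂)`. -/
noncomputable def canG (M : ModuleCat.{u} R) :
    (extendScalars g₁).obj ((extendScalars (algebraMap R S)).obj M) ⟶
      (extendScalars g₂).obj ((extendScalars (algebraMap R S)).obj M) :=
  asHom _ _ (((Φ R S).obj M).hom (Y := op (CommRingCat.of T))
    (CommRingCat.ofHom (algebraMap R S) ≫ CommRingCat.ofHom g₁).op (i₁ := ⟨⟩) (i₂ := ⟨⟩)
    (CommRingCat.ofHom g₁).op (CommRingCat.ofHom g₂).op rfl
    (congrArg Quiver.Hom.op (hqG g₁ g₂ hg).symm))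

lemma canG_tmul (M : ModuleCat.{u} R) (s : S) (m : M) :
    canG g₁ g₂ hg M ((1 : T) ⊗ₜ[S,g₁]
      (s ⊗ₜ[R,algebraMap R S] m : (extendScalars (algebraMap R S)).obj M) :
        (extendScalars g₁).obj ((extendScalars (algebraMap R S)).obj M)) =
      ((g₁ s) ⊗ₜ[S,g₂]
      ((1 : S) ⊗ₜ[R,algebraMap R S] m : (extendScalars (algebraMap R S)).obj M) :
        (extendScalars g₂).obj ((extendScalars (algebraMap R S)).obj M)) := by
  show (asHom ((extendScalars g₁).obj ((extendScalars (algebraMap R S)).obj M))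
        ((extendScalars (g₁.comp (algebraMap R S))).obj M)
        ((ringModPF.{u}.mapComp' (CommRingCat.ofHom (algebraMap R S)).op.op.toLoc
          (CommRingCat.ofHom g₁).op.op.toLoc
          (CommRingCat.ofHom (algebraMap R S) ≫ CommRingCat.ofHom g₁).op.op.toLoc
          rfl).inv.toNatTrans.app M) ≫
      asHom ((extendScalars (g₁.comp (algebraMap R S))).obj M)
        ((extendScalars g₂).obj ((extendScalars (algebraMap R S)).obj M))
        ((ringModPF.{u}.mapComp' (CommRingCat.ofHom (algebraMap R S)).op.op.toLoc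
          (CommRingCat.ofHom g₂).op.op.toLoc
          (CommRingCat.ofHom (algebraMap R S) ≫ CommRingCat.ofHom g₁).op.op.toLoc
          (congrArg (fun x : CommRingCat.of R ⟶ CommRingCat.of T => x.op.op.toLoc)
            (hqG g₁ g₂ hg).symm)).hom.toNatTrans.app M)) _ = _
  rw [ModuleCat.comp_apply]
  erw [mapComp'_inv_app (CommRingCat.ofHom (algebraMap R S)) (CommRingCat.ofHom g₁)
    (CommRingCat.ofHom (algebraMap R S) ≫ CommRingCat.ofHom g₁) rfl M (1 : T)
    (s ⊗ₜ[R,algebraMap R S] m : (extendScalars (algebraMap R S)).obj M)]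
  rw [one_smul]
  erw [bc_tmul]
  erw [mapComp'_hom_app (CommRingCat.ofHom (algebraMap R S)) (CommRingCat.ofHom g₂)
    (CommRingCat.ofHom (algebraMap R S) ≫ CommRingCat.ofHom g₁) (hqG g₁ g₂ hg).symm M _ m]
  rfl

lemma Φ_comm {M M' : ModuleCat.{u} R} (ψ : (Φ R S).obj M ⟶ (Φ R S).obj M') :
    (extendScalars g₁).map (asHom ((extendScalars (algebraMap R S)).obj M)
      ((extendScalars (algebraMap R S)).obj M') (ψ.hom ⟨⟩)) ≫ canG g₁ g₂ hg M' =
    canG g₁ g₂ hg M ≫ (extendScalars g₂).map (asHom ((extendScalars (algebraMap R S)).obj M)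
      ((extendScalars (algebraMap R S)).obj M') (ψ.hom ⟨⟩)) :=
  ψ.comm (Y := op (CommRingCat.of T))
    (CommRingCat.ofHom (algebraMap R S) ≫ CommRingCat.ofHom g₁).op (i₁ := ⟨⟩) (i₂ := ⟨⟩)
    (CommRingCat.ofHom g₁).op (CommRingCat.ofHom g₂).op rfl
    (congrArg Quiver.Hom.op (hqG g₁ g₂ hg).symm)

end general

/-- the canonical descent datum of `M` at the universal pair `(iu, iv)`. -/
noncomputable def can (M : ModuleCat.{u} R) :
    (extendScalars (iu R S S)).obj ((extendScalars (algebraMap R S)).obj M) ⟶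
      (extendScalars (iv R S S)).obj ((extendScalars (algebraMap R S)).obj M) :=
  canG (iu R S S) (iv R S S) iu_iv_comm M

lemma can_tmul (M : ModuleCat.{u} R) (s : S) (m : M) :
    can M ((1 : S ⊗[R] S) ⊗ₜ[S,iu R S S]
      (s ⊗ₜ[R,algebraMap R S] m : (extendScalars (algebraMap R S)).obj M) :
        (extendScalars (iu R S S)).obj ((extendScalars (algebraMap R S)).obj M)) =
      ((iu R S S s) ⊗ₜ[S,iv R S S]
      ((1 : S) ⊗ₜ[R,algebraMap R S] m : (extendScalars (algebraMap R S)).obj M) :
        (extendScalars (iv R S S)).obj ((extendScalars (algebraMap R S)).obj M)) := by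
  unfold can
  have := canG_tmul (iu R S S) (iv R S S) iu_iv_comm M s m
  refine Eq.trans (congrArg _ ?_) (this.trans ?_)
  · with_reducible_and_instances rfl
  · with_reducible_and_instances rfl


end Groth.Agent.Lib.Helper3.Desc8
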