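import Groth.Agent.Lib.Helper3.Desc8
/-! Descent for modules, part 9: for a universally injective ring map the functor to descent data is an
equivalence, and conversely faithfulness forces universal injectivity (helper for S1160). -/
set_option autoImplicit false
set_option backward.isDefEq.respectTransparency false
set_option backward.isDefEq.respectTransparency.types false
open CategoryTheory Opposite ModuleCat TensorProduct ChangeOfRings
open Pseudofunctor.LocallyDiscreteOpToCat
universe u
namespace Groth.Agent.Lib.Helper3.Desc9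
open Groth.Agent.Lib.Helper3.Desc1 Groth.Agent.Lib.Helper3.Desc2 Groth.Agent.Lib.Helper3.Desc3
open Groth.Agent.Lib.Helper3.Desc4 Groth.Agent.Lib.Helper3.Desc5 Groth.Agent.Lib.Helper3.Desc7
open Groth.Agent.Lib.Helper3.Desc8 Desc

variable {R S : Type u} [CommRing R] [CommRing S] [Algebra R S]

section general

variable {T : Type u} [CommRing T] (g₁ g₂ : S →+* T)
  (hg : g₁.comp (algebraMap R S) = g₂.comp (algebraMap R S))

/-- the base change map `S ⊗_R Y → T ⊗_{g₂} Y`, `s ⊗ y ↦ g₁ s ⊗ y`. -/
noncomputable def βG (Y : ModuleCat.{u} S) : XX R S Y →+ (extendScalars g₂).obj Y :=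
  letI : Module R S := Module.compHom S (algebraMap R S)
  TensorProduct.liftAddHom (R := R) (M := S) (N := ((restrictScalars (algebraMap R S)).obj Y))
    { toFun := fun s =>
        { toFun := fun y => ((g₁ s) ⊗ₜ[S,g₂] (y : Y) : (extendScalars g₂).obj Y)
          map_zero' := by simp
          map_add' := fun n n' => by simp [tmul_add] }
      map_zero' := by ext n; simp
      map_add' := fun t t' => by ext n; simp [add_tmul] }
    (fun r s y => by
      show ((g₁ (algebraMap R S r * s)) ⊗ₜ[S,g₂] (y : Y) : (extendScalars g₂).obj Y) =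
        (g₁ s) ⊗ₜ[S,g₂] ((algebraMap R S r) • (y : Y))
      rw [tmul_smul', map_mul]
      congr 2
      exact RingHom.congr_fun hg r)

@[simp] lemma βG_tmul (Y : ModuleCat.{u} S) (s : S) (y : Y) :
    βG g₁ g₂ hg Y (s ⊗ₜ[R,algebraMap R S] y : XX R S Y) =
      ((g₁ s) ⊗ₜ[S,g₂] y : (extendScalars g₂).obj Y) := by
  letI : Module R S := Module.compHom S (algebraMap R S)
  exact TensorProduct.liftAddHom_tmul _ _ _ _

lemma canG_eq_tmul (M : ModuleCat.{u} R) (s : S) (m : M) :
    canG g₁ g₂ hg M ((1 : T) ⊗ₜ[S,g₁]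
      (s ⊗ₜ[R,algebraMap R S] m : (extendScalars (algebraMap R S)).obj M) :
        (extendScalars g₁).obj ((extendScalars (algebraMap R S)).obj M)) =
      βG g₁ g₂ hg ((extendScalars (algebraMap R S)).obj M)
        (δ' M (s ⊗ₜ[R,algebraMap R S] m : (extendScalars (algebraMap R S)).obj M)) := by
  rw [canG_tmul, δ'_tmul, βG_tmul]

lemma canG_eq (M : ModuleCat.{u} R) (y : (extendScalars (algebraMap R S)).obj M) :
    canG g₁ g₂ hg M ((1 : T) ⊗ₜ[S,g₁] y :
        (extendScalars g₁).obj ((extendScalars (algebraMap R S)).obj M)) =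
      βG g₁ g₂ hg ((extendScalars (algebraMap R S)).obj M) (δ' M y) := by
  induction y using TensorProduct.induction_on with
  | zero => rw [tmul_zero, map_zero, map_zero, map_zero]
  | tmul s m => exact canG_eq_tmul g₁ g₂ hg M s m
  | add x y hx hy => rw [tmul_add, map_add, hx, hy, map_add, map_add]

include hg in
lemma coalg_of_hom
    (hinj : ∀ M' : ModuleCat.{u} R,
      Function.Injective (βG g₁ g₂ hg ((extendScalars (algebraMap R S)).obj M')))
    {M M' : ModuleCat.{u} R} (ψ : (Φ R S).obj M ⟶ (Φ R S).obj M') (m : M) :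
    ((1 : S) ⊗ₜ[R,algebraMap R S]
        ((asHom ((extendScalars (algebraMap R S)).obj M) ((extendScalars (algebraMap R S)).obj M')
          (ψ.hom ⟨⟩)) ((1 : S) ⊗ₜ[R,algebraMap R S] m)) :
      XX R S ((extendScalars (algebraMap R S)).obj M')) =
    δ' M' ((asHom ((extendScalars (algebraMap R S)).obj M) ((extendScalars (algebraMap R S)).obj M')
          (ψ.hom ⟨⟩)) ((1 : S) ⊗ₜ[R,algebraMap R S] m)) := by
  apply hinj M'
  have h1 := congrArg (fun (k : (extendScalars g₁).obj ((extendScalars (algebraMap R S)).obj M) ⟶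
      (extendScalars g₂).obj ((extendScalars (algebraMap R S)).obj M')) =>
      k ((1 : T) ⊗ₜ[S,g₁]
        ((1 : S) ⊗ₜ[R,algebraMap R S] m : (extendScalars (algebraMap R S)).obj M))) (Φ_comm g₁ g₂ hg ψ)
  simp only [ModuleCat.comp_apply] at h1
  rw [ExtendScalars.map_tmul, canG_eq, canG_tmul, map_one, ExtendScalars.map_tmul] at h1
  rw [βG_tmul, map_one]
  exact h1.symm

end general


/-- additive maps out of an extension of scalars are determined on pure tensors. -/
lemma add_ext {A B : Type u} [CommRing A] [CommRing B] (f : A →+* B) {X : ModuleCat.{u} A}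
    {G : Type u} [AddCommGroup G]
    (F₁ F₂ : (extendScalars f).obj X →+ G)
    (h : ∀ (b : B) (x : X), F₁ (b ⊗ₜ[A,f] x) = F₂ (b ⊗ₜ[A,f] x)) : F₁ = F₂ := by
  ext y
  induction y using TensorProduct.induction_on with
  | zero => rw [map_zero, map_zero]
  | tmul b x => exact h b x
  | add x y hx hy => rw [map_add, map_add, hx, hy]

lemma κ_iu_tmul (Y : ModuleCat.{u} S) (s : S) (y : Y) :
    κ R S Y ((iu R S S s) ⊗ₜ[S,iv R S S] y : ZZ R S Y) = (s ⊗ₜ[R,algebraMap R S] y : XX R S Y) :=
  (congrArg (κ R S Y) (β_tmul Y s y).symm).trans (κ_β Y _)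

lemma κ_βG_tmul (Y : ModuleCat.{u} S) (s : S) (y : Y) :
    κ R S Y (βG (iu R S S) (iv R S S) iu_iv_comm Y (s ⊗ₜ[R,algebraMap R S] y : XX R S Y)) =
      (s ⊗ₜ[R,algebraMap R S] y : XX R S Y) := by
  refine Eq.trans (congrArg (κ R S Y) ?_) (κ_iu_tmul Y s y)
  refine (βG_tmul (iu R S S) (iv R S S) iu_iv_comm Y s y).trans ?_
  with_reducible_and_instances rfl


lemma βG_inj (Y : ModuleCat.{u} S) :
    Function.Injective (βG (iu R S S) (iv R S S) iu_iv_comm Y) := by
  have hF : (κ R S Y).comp (βG (iu R S S) (iv R S S) iu_iv_comm Y) = AddMonoidHom.id _ :=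
    add_ext (algebraMap R S) _ _ (fun s y => κ_βG_tmul Y s y)
  intro x x' hxx'
  have h1 := DFunLike.congr_fun hF x
  have h2 := DFunLike.congr_fun hF x'
  simp only [AddMonoidHom.comp_apply, AddMonoidHom.id_apply] at h1 h2
  rw [← h1, ← h2, hxx']


lemma Φ_full_of_equiv
    (hK : (Comonad.comparison (extendRestrictScalarsAdj.{u} (algebraMap R S))).IsEquivalence) :
    (Φ R S).Full := by
  refine ⟨fun {M M'} ψ => ?_⟩
  let h : (extendScalars (algebraMap R S)).obj M ⟶ (extendScalars (algebraMap R S)).obj M' :=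
    asHom _ _ (ψ.hom ⟨⟩)
  have hcoalg := coalg_of_hom (iu R S S) (iv R S S) iu_iv_comm
    (fun M' => βG_inj ((extendScalars (algebraMap R S)).obj M')) ψ
  let hc : (Comonad.comparison (extendRestrictScalarsAdj.{u} (algebraMap R S))).obj M ⟶
      (Comonad.comparison (extendRestrictScalarsAdj.{u} (algebraMap R S))).obj M' :=
    { f := h
      h := by
        show (δ' M ≫ (extendScalars (algebraMap R S)).map ((restrictScalars (algebraMap R S)).map h) :
          (extendScalars (algebraMap R S)).obj M ⟶ XX R S ((extendScalars (algebraMap R S)).obj M')) =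
          h ≫ δ' M'
        apply ExtendScalars.hom_ext
        intro m
        rw [ModuleCat.comp_apply, ModuleCat.comp_apply, δ'_tmul, ExtendScalars.map_tmul]
        exact hcoalg m }
  haveI := hK
  obtain ⟨f, hf⟩ := (Comonad.comparison (extendRestrictScalarsAdj.{u} (algebraMap R S))).map_surjective hc
  refine ⟨f, ?_⟩
  apply Pseudofunctor.DescentData.hom_ext
  intro i
  have h2 : (extendScalars (algebraMap R S)).map f = h := congrArg Comonad.Coalgebra.Hom.f hf
  exact h2

lemma Φ_isEquivalence_of_equiv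
    (hK : (Comonad.comparison (extendRestrictScalarsAdj.{u} (algebraMap R S))).IsEquivalence) :
    (Φ R S).IsEquivalence where
  faithful := Φ_faithful_of_equiv hK
  full := Φ_full_of_equiv hK
  essSurj := ⟨fun D => main_of_equiv R S hK D⟩

theorem isEquivalence_of_univInjective (hUI : Pi1.UnivInjective R S) : (Φ R S).IsEquivalence :=
  Φ_isEquivalence_of_equiv (comparison_isEquivalence_of_univInjective hUI)

theorem univInjective_of_faithful (hF : (Φ R S).Faithful) : Pi1.UnivInjective R S := by
  intro P _ _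
  rw [injective_iff_map_eq_zero]
  intro x hx
  obtain ⟨p, rfl⟩ : ∃ p : P, x = p ⊗ₜ[R] (1 : R) :=
    ⟨TensorProduct.rid R P x, by rw [← TensorProduct.rid_symm_apply, LinearEquiv.symm_apply_apply]⟩
  rw [LinearMap.lTensor_tmul, Algebra.linearMap_apply, map_one] at hx
  have h1 : ((1 : S) ⊗ₜ[R] p : S ⊗[R] P) = 0 := by
    have := congrArg (TensorProduct.comm R P S) hx
    simpa using this
  let P' : ModuleCat.{u} R := ModuleCat.of R P
  have h2 : ((1 : S) ⊗ₜ[R,algebraMap R S] (p : P') : (extendScalars (algebraMap R S)).obj P') = 0 := by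
    have := congrArg (ofP S P') h1
    rwa [ofP_tmul, map_zero] at this
  let hp : ModuleCat.of R R ⟶ P' := ModuleCat.ofHom (LinearMap.toSpanSingleton R P p)
  have h3 : (extendScalars (algebraMap R S)).map hp = (extendScalars (algebraMap R S)).map 0 := by
    apply ExtendScalars.hom_ext
    intro r
    rw [ExtendScalars.map_tmul, ExtendScalars.map_tmul]
    show ((1 : S) ⊗ₜ[R,algebraMap R S] ((r : R) • p : P') : (extendScalars (algebraMap R S)).obj P') =
      (1 : S) ⊗ₜ[R,algebraMap R S] (0 : P')
    have e1 := tmul_smul' (algebraMap R S) P' (1 : S) (r : R) p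
    have e2 := tmul_eq_smul_one (algebraMap R S) P' (algebraMap R S r * 1) p
    have e3 : ((1 : S) ⊗ₜ[R,algebraMap R S] (0 : P') : (extendScalars (algebraMap R S)).obj P') = 0 :=
      tmul_zero _ _
    rw [e3]
    refine e1.trans (e2.trans ?_)
    rw [h2, smul_zero]
  have h4 : (Φ R S).map hp = (Φ R S).map 0 := by
    apply Pseudofunctor.DescentData.hom_ext
    intro i
    exact h3
  have h5 : hp = 0 := hF.map_injective h4
  have h6 : hp (1 : R) = (0 : ModuleCat.of R R ⟶ P') (1 : R) := by rw [h5]
  have h7 : p = 0 := by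
    have : hp (1 : R) = p := one_smul R p
    rw [← this, h6]
    rfl
  rw [h7, zero_tmul]

theorem main1160 (R S : Type u) [CommRing R] [CommRing S] [Algebra R S] :
    (Pi1.UnivInjective R S ↔ (ringModPF.{u}.toDescentData
      (fun _ : PUnit.{u + 1} => (CommRingCat.ofHom (algebraMap R S)).op)).IsEquivalence) ∧
    (Nonempty (ringModPF.{u}.toDescentData
      (fun _ : PUnit.{u + 1} => (CommRingCat.ofHom (algebraMap R S)).op)).FullyFaithful →
        Pi1.UnivInjective R S) := by
  refine ⟨⟨fun h => isEquivalence_of_univInjective h, fun h => ?_⟩, fun ⟨h⟩ => ?_⟩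
  · exact univInjective_of_faithful (R := R) (S := S) inferInstance
  · exact univInjective_of_faithful (R := R) (S := S) h.faithful

end Groth.Agent.Lib.Helper3.Desc9

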