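import Groth.Agent.Lib.Helper3.DimLink
import Groth.Agent.Lib.Helper3.AdaptedLocal
import Groth.Agent.Lib.Helper3.CommonField3
import Groth.Agent.Lib.Helper3.StrictHensPrime

/-! The dimension of the symmetric elements in the fibre at a ramified prime, from adapted units
(helper3). -/

set_option autoImplicit false
universe u u' v w

open TensorProduct Matrix

namespace Groth.Agent.Lib.Helper3.DimAdapted

open AzInv Groth.Agent.Lib.Helper3.SymDim Groth.Agent.Lib.Helper3.DimLink
  Groth.Agent.Lib.Helper3.IndEtDescent Groth.Agent.Lib.Helper3.AdaptedSplit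
  Groth.Agent.Lib.Helper3.AdaptedLocal

variable {S : Type u} {R : Type v} [CommRing S] [CommRing R] [Algebra S R]
  {A : Type w} [Ring A] [Algebra S A] [Algebra R A] [IsScalarTower S R A]

/-- the dimension of the span of the symmetric elements in the fibre at a ramified prime `q`,
from units adapted to constants over a field receiving the residue field of `q` -/
theorem finrank_sym_of_adapted (lam : R ≃ₐ[S] R) (h2 : IsUnit (2 : S))
    (n : ℕ) (hn : 0 < n) (hA : IsAzumayaDeg R A n) (t : LamInv R A lam)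
    (q : PrimeSpectrum R) (hq : ∀ r : R, lam r - r ∈ q.asIdeal)
    (L : Type u') [Field L] [Algebra S L] (j : q.asIdeal.ResidueField →ₐ[S] L)
    (w w' : Matrix (Fin n) (Fin n) R) (E : Fin n → Fin n → L ⊗[S] A)
    (hE : IsAdaptedC A (t.linS S lam) L (cst A w) (cst A w') E) :
    Module.finrank q.asIdeal.ResidueField (Submodule.span q.asIdeal.ResidueField
      (Set.range fun a : {a : A // t a = a} =>
        (1 : q.asIdeal.ResidueField) ⊗ₜ[R] (a : A))) =
    Module.finrank L (fixSub L n (w.map fun r => j (algebraMap R q.asIdeal.ResidueField r))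
      (w'.map fun r => j (algebraMap R q.asIdeal.ResidueField r))) := by
  haveI := q.isPrime
  haveI : IsAzumaya R A := hA.1
  set κ := q.asIdeal.ResidueField with hκ
  obtain ⟨f, hf1, hf2⟩ := split_of_adapted L n hn hA lam t w w' E hE
  rw [← coe_sig] at hf2
  -- the map `R → L`
  let jR : R →ₐ[S] L := j.comp (IsScalarTower.toAlgHom S R κ)
  have hjR : ∀ r, jR r = j (algebraMap R κ r) := fun r => rfl
  have hjq : ∀ r, jR (lam r) = jR r := by
    intro r
    have h0 : algebraMap R κ (lam r - r) = 0 := Ideal.algebraMap_residueField_eq_zero.mpr (hq r)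
    have : jR (lam r - r) = 0 := by rw [hjR, h0, map_zero]
    rwa [map_sub, sub_eq_zero] at this
  let π₀ : L ⊗[S] R →ₐ[L] L :=
    Algebra.TensorProduct.lift (AlgHom.id L L) jR (fun _ _ => Commute.all _ _)
  have hπ : ∀ (x : L) (r : R), π₀ (x ⊗ₜ[S] r) = x * jR r := fun x r =>
    Algebra.TensorProduct.lift_tmul _ _ _ x r
  have hπσ : ∀ z, π₀ (sig lam L z) = π₀ z := by
    intro z
    induction z using TensorProduct.induction_on with
    | zero => simp
    | tmul x r => rw [sig_tmul, hπ, hπ, hjq]
    | add x y hx hy => rw [map_add, map_add, hx, hy, map_add]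
  -- the representation
  let ρ : A →+* Matrix (Fin n) (Fin n) L :=
    (π₀.toRingHom.mapMatrix).comp
      (f.toAlgHom.toRingHom.comp (Algebra.TensorProduct.includeRight : A →ₐ[S] L ⊗[S] A).toRingHom)
  have hρ : ∀ a, ρ a = (f ((1 : L) ⊗ₜ[S] a)).map π₀ := fun a => rfl
  have hρs : ∀ (r : R) (a : A), ρ (r • a) = j (algebraMap R κ r) • ρ a := by
    intro r a
    rw [hρ, hρ, Algebra.smul_def]
    have : ((1 : L) ⊗ₜ[S] (algebraMap R A r * a) : L ⊗[S] A) =
        ((1 : L) ⊗ₜ[S] algebraMap R A r) * ((1 : L) ⊗ₜ[S] a) := by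
      rw [Algebra.TensorProduct.tmul_mul_tmul, one_mul]
    rw [this, hf1]
    ext a b
    rw [Matrix.map_apply, Matrix.smul_apply, Matrix.map_apply, Matrix.scalar_apply,
      Matrix.diagonal_mul, map_mul, hπ, one_mul, smul_eq_mul, hjR]
  have hρt : ∀ a, ρ (t a) = (w.map fun r => j (algebraMap R κ r)) * (ρ a)ᵀ *
      (w'.map fun r => j (algebraMap R κ r)) := by
    intro a
    have h1 : ((1 : L) ⊗ₜ[S] t a : L ⊗[S] A) = t.bc S lam L ((1 : L) ⊗ₜ[S] a) := by
      rw [LamInv.bc_tmul]
    rw [hρ, h1, hf2]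
    have hm : ∀ M N : Matrix (Fin n) (Fin n) (L ⊗[S] R), (M * N).map π₀ = M.map π₀ * N.map π₀ :=
      fun M N => Matrix.map_mul
    rw [hm, hm]
    congr 1
    · congr 1
      · ext a b
        rw [Matrix.map_apply, Matrix.map_apply, bcMat, Matrix.map_apply, hπ, one_mul, hjR]
      · ext a b
        rw [Matrix.map_apply, lamTr_apply, Matrix.transpose_apply, hρ, Matrix.map_apply, hπσ]
    · ext a b
      rw [Matrix.map_apply, Matrix.map_apply, bcMat, Matrix.map_apply, hπ, one_mul, hjR]
  have hspan : Submodule.span L (Set.range ρ) = ⊤ := by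
    rw [eq_top_iff]
    intro M _
    have hall : ∀ y : L ⊗[S] A, (f y).map π₀ ∈ Submodule.span L (Set.range ρ) := by
      intro y
      induction y using TensorProduct.induction_on with
      | zero =>
        rw [map_zero]
        have : (0 : Matrix (Fin n) (Fin n) (L ⊗[S] R)).map π₀ = 0 := by
          ext a b
          simp
        rw [this]
        exact Submodule.zero_mem _
      | tmul x a =>
        have h1 : (x ⊗ₜ[S] a : L ⊗[S] A) = x • ((1 : L) ⊗ₜ[S] a) := by
          rw [TensorProduct.smul_tmul', smul_eq_mul, mul_one]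
        have h2 : (f (x • ((1 : L) ⊗ₜ[S] a))).map π₀ = x • ρ a := by
          rw [map_smul, hρ]
          ext a b
          rw [Matrix.map_apply, Matrix.smul_apply, Matrix.smul_apply, Matrix.map_apply, map_smul]
        rw [h1, h2]
        exact Submodule.smul_mem _ _ (Submodule.subset_span ⟨a, rfl⟩)
      | add x y hx hy =>
        have : (f (x + y)).map π₀ = (f x).map π₀ + (f y).map π₀ := by
          rw [map_add]
          ext a b
          simp
        rw [this]
        exact Submodule.add_mem _ hx hy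
    have hM : M = (f (f.symm (M.map fun x => x ⊗ₜ[S] (1 : R)))).map π₀ := by
      rw [AlgEquiv.apply_symm_apply]
      ext a b
      rw [Matrix.map_apply, Matrix.map_apply, hπ, map_one, mul_one]
    rw [hM]
    exact hall _
  have hrank : Module.finrank κ (κ ⊗[R] A) = n * n := by
    have h1 := hA.2 q
    rw [Module.rankAtStalk_eq] at h1
    rw [← pow_two]
    exact h1
  have h2L : (2 : L) ≠ 0 := by
    have := h2.map (algebraMap S L)
    rw [map_ofNat] at this
    exact this.ne_zero
  exact finrank_span_sym κ L j.toRingHom n ρ hρs hrank t t.map_add' t.invol'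
    _ _ hρt hspan h2L

open Groth.Agent.Lib.Helper3.StrictHensPrime Groth.Agent.Lib.Helper3.SymplCong IsLocalRing

/-- a field receiving both the strict henselization at `q ∩ S` and the residue field of `q` -/
theorem exists_field_over (q : PrimeSpectrum R) :
    ∃ (L : Type (max u v)) (_ : Field L) (_ : Algebra S L),
      Nonempty (Hq (PrimeSpectrum.comap (algebraMap S R) q).asIdeal →ₐ[S] L) ∧
      Nonempty (q.asIdeal.ResidueField →ₐ[S] L) := by
  haveI := q.isPrime
  set p := PrimeSpectrum.comap (algebraMap S R) q with hp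
  haveI := p.isPrime
  have h₁ : p ∈ Set.range (PrimeSpectrum.comap (algebraMap S (Hq p.asIdeal))) := by
    refine ⟨⟨maximalIdeal (Hq p.asIdeal), inferInstance⟩, ?_⟩
    ext1
    exact comap_maximalIdeal p.asIdeal
  have h₂ : p ∈ Set.range (PrimeSpectrum.comap (algebraMap S q.asIdeal.ResidueField)) := by
    refine ⟨⟨⊥, Ideal.isPrime_bot⟩, ?_⟩
    ext1
    ext s
    show algebraMap S q.asIdeal.ResidueField s ∈ (⊥ : Ideal q.asIdeal.ResidueField) ↔
      algebraMap S R s ∈ q.asIdeal
    rw [Ideal.mem_bot, IsScalarTower.algebraMap_apply S R q.asIdeal.ResidueField,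
      Ideal.algebraMap_residueField_eq_zero]
  obtain ⟨L, iF, iAlg, h1, h2, -⟩ :=
    CommonField3.exists_common_field (Hq p.asIdeal) q.asIdeal.ResidueField p h₁ h₂
  exact ⟨L, iF, iAlg, h1, h2⟩

/-- at a ramified prime `q` of `R`, units adapted to `(1, 1)` over the strict henselization at
`q ∩ S` force the symmetric elements to span a space of dimension `n (n + 1) / 2` -/
theorem finrank_sym_orth (lam : R ≃ₐ[S] R) (h2 : IsUnit (2 : S))
    (n : ℕ) (hn : 0 < n) (hA : IsAzumayaDeg R A n) (t : LamInv R A lam)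
    (q : PrimeSpectrum R) (hq : ∀ r : R, lam r - r ∈ q.asIdeal)
    (E : Fin n → Fin n → Hq (PrimeSpectrum.comap (algebraMap S R) q).asIdeal ⊗[S] A)
    (hE : IsAdaptedC A (t.linS S lam) (Hq (PrimeSpectrum.comap (algebraMap S R) q).asIdeal)
      (cst A (1 : Matrix (Fin n) (Fin n) R)) (cst A (1 : Matrix (Fin n) (Fin n) R)) E) :
    Module.finrank q.asIdeal.ResidueField (Submodule.span q.asIdeal.ResidueField
      (Set.range fun a : {a : A // t a = a} =>
        (1 : q.asIdeal.ResidueField) ⊗ₜ[R] (a : A))) = Nat.choose (n + 1) 2 := by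
  haveI := q.isPrime
  obtain ⟨L, _, _, ⟨γ₁⟩, ⟨γ₂⟩⟩ := exists_field_over (S := S) q
  rw [finrank_sym_of_adapted lam h2 n hn hA t q hq L γ₂ 1 1 _ (hE.map A _ γ₁)]
  have h1 : ((1 : Matrix (Fin n) (Fin n) R).map
      fun r => γ₂ (algebraMap R q.asIdeal.ResidueField r)) = 1 :=
    Matrix.map_one _ (by rw [map_zero, map_zero]) (by rw [map_one, map_one])
  rw [h1, finrank_fix_one]

/-- at a ramified prime `q` of `R`, units adapted to `(J, -J)` over the strict henselization at
`q ∩ S` force the symmetric elements to span a space of dimension `n (n - 1) / 2` -/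
theorem finrank_sym_sympl (lam : R ≃ₐ[S] R) (h2 : IsUnit (2 : S))
    (k : ℕ) (hk : 0 < k * 2) (hA : IsAzumayaDeg R A (k * 2)) (t : LamInv R A lam)
    (q : PrimeSpectrum R) (hq : ∀ r : R, lam r - r ∈ q.asIdeal)
    (E : Fin (k * 2) → Fin (k * 2) →
      Hq (PrimeSpectrum.comap (algebraMap S R) q).asIdeal ⊗[S] A)
    (hE : IsAdaptedC A (t.linS S lam) (Hq (PrimeSpectrum.comap (algebraMap S R) q).asIdeal)
      (cst A (Jn k : Matrix (Fin (k * 2)) (Fin (k * 2)) R))
      (cst A (-Jn k : Matrix (Fin (k * 2)) (Fin (k * 2)) R)) E) :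
    Module.finrank q.asIdeal.ResidueField (Submodule.span q.asIdeal.ResidueField
      (Set.range fun a : {a : A // t a = a} =>
        (1 : q.asIdeal.ResidueField) ⊗ₜ[R] (a : A))) + Nat.choose (k * 2 + 1) 2 =
      (k * 2) * (k * 2) := by
  haveI := q.isPrime
  obtain ⟨L, _, _, ⟨γ₁⟩, ⟨γ₂⟩⟩ := exists_field_over (S := S) q
  rw [finrank_sym_of_adapted lam h2 (k * 2) hk hA t q hq L γ₂ (Jn k) (-Jn k) _ (hE.map A _ γ₁)]
  have h2L : (2 : L) ≠ 0 := by
    have := h2.map (algebraMap S L)
    rw [map_ofNat] at this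
    exact this.ne_zero
  let φ : R →+* L := γ₂.toRingHom.comp (algebraMap R q.asIdeal.ResidueField)
  have h1 : ((Jn k : Matrix (Fin (k * 2)) (Fin (k * 2)) R).map
      fun r => γ₂ (algebraMap R q.asIdeal.ResidueField r)) = Jn k := map_Jn φ k
  have h1' : ((-Jn k : Matrix (Fin (k * 2)) (Fin (k * 2)) R).map
      fun r => γ₂ (algebraMap R q.asIdeal.ResidueField r)) = -Jn k := by
    rw [← h1]
    ext a b
    rw [Matrix.map_apply, Matrix.neg_apply, Matrix.neg_apply, Matrix.map_apply, map_neg, map_neg]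
  rw [h1, h1']
  exact finrank_fix_J L h2L k

end Groth.Agent.Lib.Helper3.DimAdapted
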