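import Groth.Agent.Lib.Helper3.HermCong

/-! Normal form of invertible skew-symmetric matrices over a local ring with `2` invertible
(helper3). -/

set_option autoImplicit false
universe u

open Matrix AzInv

namespace Groth.Agent.Lib.Helper3.SymplCong

open Groth.Agent.Lib.Helper3.HermCong

variable {K : Type*} [CommRing K]

/-- the `2 × 2` matrix with rows `(0, -1)`, `(1, 0)` -/
def J2 : Matrix (Fin 2) (Fin 2) K := !![0, -1; 1, 0]

/-- the standard symplectic pattern -/
def Jst (k : ℕ) : Matrix (Fin k × Fin 2) (Fin k × Fin 2) K :=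
  Matrix.of fun p q => if p.1 = q.1 then J2 p.2 q.2 else 0

/-- the block decomposition of the index type -/
def E (k : ℕ) : (Fin k × Fin 2) ⊕ Fin 2 ≃ Fin (k + 1) × Fin 2 :=
  (Equiv.sumCongr (Equiv.refl _) (Equiv.uniqueProd (Fin 2) (Fin 1)).symm).trans
    ((Equiv.sumProdDistrib (Fin k) (Fin 1) (Fin 2)).symm.trans
      (Equiv.prodCongr finSumFinEquiv (Equiv.refl (Fin 2))))

@[simp] lemma E_inl (k : ℕ) (a : Fin k) (x : Fin 2) :
    E k (Sum.inl (a, x)) = (Fin.castAdd 1 a, x) := rfl

@[simp] lemma E_inr (k : ℕ) (x : Fin 2) :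
    E k (Sum.inr x) = (Fin.natAdd k 0, x) := rfl

lemma J2_mul_J2 : (J2 : Matrix (Fin 2) (Fin 2) K) * J2 = -1 := by
  ext i j
  fin_cases i <;> fin_cases j <;> simp [J2, Matrix.mul_apply, Fin.sum_univ_two]

lemma isUnit_J2 : IsUnit (J2 : Matrix (Fin 2) (Fin 2) K) :=
  ⟨⟨J2, -J2, by rw [mul_neg, J2_mul_J2, neg_neg], by rw [neg_mul, J2_mul_J2, neg_neg]⟩, rfl⟩

lemma reindex_Jst (k : ℕ) :
    Matrix.reindex (E k) (E k) (Matrix.fromBlocks (Jst k) 0 0 (J2 : Matrix (Fin 2) (Fin 2) K)) =
      Jst (k + 1) := by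
  ext p q
  obtain ⟨p, rfl⟩ := (E k).surjective p
  obtain ⟨q, rfl⟩ := (E k).surjective q
  rw [Matrix.reindex_apply, Matrix.submatrix_apply, Equiv.symm_apply_apply,
    Equiv.symm_apply_apply]
  rcases p with ⟨a, x⟩ | x <;> rcases q with ⟨b, y⟩ | y
  · simp [Jst]
  · simp only [Matrix.fromBlocks_apply₁₂, Matrix.zero_apply, E_inl, E_inr, Jst, Matrix.of_apply]
    rw [if_neg]
    intro h
    have := congrArg Fin.val h
    simp at this
    omega
  · simp only [Matrix.fromBlocks_apply₂₁, Matrix.zero_apply, E_inl, E_inr, Jst, Matrix.of_apply]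
    rw [if_neg]
    intro h
    have := congrArg Fin.val h
    simp at this
    omega
  · simp [Jst]

section local_

variable [IsLocalRing K] {ι : Type*} [Fintype ι] [DecidableEq ι]

lemma diag_eq_zero_of_skew (h2 : IsUnit (2 : K)) (c : Matrix ι ι K)
    (hs : lamTr (RingHom.id K) c = -c) (i : ι) : c i i = 0 := by
  have h := congrFun (congrFun hs i) i
  rw [lamTr_apply, RingHom.id_apply, Matrix.neg_apply] at h
  have h3 : (2 : K) * c i i = 0 := by linear_combination h
  exact (h2.mul_right_eq_zero).mp h3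

/-- a `2 × 2` skew matrix with unit off-diagonal entry is congruent to `J2` -/
lemma cong_J2 (D : Matrix (Fin 2) (Fin 2) K) (h00 : D 0 0 = 0) (h11 : D 1 1 = 0)
    (h10 : D 1 0 = - D 0 1) (hu : IsUnit (D 0 1)) : Cong (RingHom.id K) D J2 := by
  obtain ⟨u, hu⟩ := hu
  refine ⟨!![1, 0; 0, -↑u⁻¹], ?_, ?_⟩
  · rw [Matrix.isUnit_iff_isUnit_det, Matrix.det_fin_two]
    simp
  · ext i j
    fin_cases i <;> fin_cases j <;>
      simp [J2, Matrix.mul_apply, Fin.sum_univ_two, lamTr_apply, h00, h11, h10, ← hu]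

/-- normal form of invertible skew-symmetric matrices over a local ring with `2` invertible -/
theorem exists_cong_Jst (h2 : IsUnit (2 : K)) :
    ∀ (k : ℕ) (c : Matrix (Fin k × Fin 2) (Fin k × Fin 2) K), IsUnit c →
      lamTr (RingHom.id K) c = -c → Cong (RingHom.id K) c (Jst k) := by
  have hσ : ∀ a : K, (RingHom.id K) ((RingHom.id K) a) = a := fun a => rfl
  intro k
  induction k with
  | zero =>
    intro c _ _
    rw [Subsingleton.elim (Jst 0 : Matrix (Fin 0 × Fin 2) (Fin 0 × Fin 2) K) c]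
    exact Cong.refl _ c
  | succ k ih =>
    intro c hc hs
    obtain ⟨p, q, hpq⟩ := exists_unit_entry c hc
    have hne : p ≠ q := by
      rintro rfl
      rw [diag_eq_zero_of_skew h2 c hs p] at hpq
      exact not_isUnit_zero hpq
    set l0 : Fin (k + 1) × Fin 2 := E k (Sum.inr 0) with hl0
    set l1 : Fin (k + 1) × Fin 2 := E k (Sum.inr 1) with hl1
    have hl01 : l0 ≠ l1 := by
      rw [hl0, hl1]
      intro h
      have := (E k).injective h
      simp at this
    set e₁ : Fin (k + 1) × Fin 2 ≃ Fin (k + 1) × Fin 2 := Equiv.swap l0 p with he₁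
    set q' := e₁ q with hq'
    have hq'0 : q' ≠ l0 := by
      intro h
      have : e₁ q' = e₁ l0 := by rw [h]
      rw [hq', he₁, Equiv.swap_apply_self, Equiv.swap_apply_left] at this
      exact hne this.symm
    set e₂ : Fin (k + 1) × Fin 2 ≃ Fin (k + 1) × Fin 2 := Equiv.swap l1 q' with he₂
    set e := e₂.trans e₁ with he
    have hel0 : e l0 = p := by
      rw [he, Equiv.trans_apply, he₂, Equiv.swap_apply_of_ne_of_ne hl01 (Ne.symm hq'0), he₁,
        Equiv.swap_apply_left]
    have hel1 : e l1 = q := by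
      rw [he, Equiv.trans_apply, he₂, Equiv.swap_apply_left, hq', he₁, Equiv.swap_apply_self]
    set c₂ := c.submatrix e e with hc₂def
    have hcong₂ : Cong (RingHom.id K) c c₂ := Cong.perm _ e c
    have hc₂ := hcong₂.isUnit _ hc
    have hs₂ := hcong₂.skew _ hσ hs
    have hll : IsUnit (c₂ l0 l1) := by
      rw [hc₂def, Matrix.submatrix_apply, hel0, hel1]
      exact hpq
    set c₃ : Matrix ((Fin k × Fin 2) ⊕ Fin 2) ((Fin k × Fin 2) ⊕ Fin 2) K :=
      Matrix.reindex (E k).symm (E k).symm c₂ with hc₃def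
    have hc₃ : IsUnit c₃ := by
      rw [Matrix.isUnit_iff_isUnit_det, hc₃def, Matrix.det_reindex_self]
      exact (Matrix.isUnit_iff_isUnit_det _).mp hc₂
    have hs₃ : lamTr (RingHom.id K) c₃ = -c₃ := by
      rw [hc₃def, Matrix.reindex_apply, lamTr_submatrix, hs₂]
      rfl
    set A := c₃.toBlocks₁₁ with hA
    set B := c₃.toBlocks₁₂ with hB
    set C := c₃.toBlocks₂₁ with hC
    set D := c₃.toBlocks₂₂ with hD
    have hfb : c₃ = Matrix.fromBlocks A B C D := (Matrix.fromBlocks_toBlocks c₃).symm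
    have hDab : ∀ a b, D a b = c₂ (E k (Sum.inr a)) (E k (Sum.inr b)) := fun a b => rfl
    have hD00 : D 0 0 = 0 := by rw [hDab]; exact diag_eq_zero_of_skew h2 c₂ hs₂ _
    have hD11 : D 1 1 = 0 := by rw [hDab]; exact diag_eq_zero_of_skew h2 c₂ hs₂ _
    have hD10 : D 1 0 = - D 0 1 := by
      rw [hDab, hDab]
      have h := congrFun (congrFun hs₂ (E k (Sum.inr 0))) (E k (Sum.inr 1))
      rw [lamTr_apply, RingHom.id_apply, Matrix.neg_apply] at h
      exact h
    have hD01 : IsUnit (D 0 1) := hll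
    have hDu : IsUnit D := by
      rw [Matrix.isUnit_iff_isUnit_det, Matrix.det_fin_two, hD00, hD10, zero_mul, zero_sub,
        mul_neg, neg_neg]
      exact hD01.mul hD01
    have hs₃' := hs₃
    rw [hfb, lamTr_fromBlocks, Matrix.fromBlocks_neg, Matrix.fromBlocks_inj] at hs₃'
    obtain ⟨hAA, hCB, hBC, hDD⟩ := hs₃'
    have hcong₃ := Cong.schur_skew (RingHom.id K) A B C D hDu hCB hDD
    rw [← hfb] at hcong₃
    set Sc := A - B * D⁻¹ * C with hSc
    have hu₄ := hcong₃.isUnit _ hc₃
    have hs₄ := hcong₃.skew _ hσ hs₃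
    rw [lamTr_fromBlocks, Matrix.fromBlocks_neg, Matrix.fromBlocks_inj] at hs₄
    have hScu : IsUnit Sc := by
      rw [Matrix.isUnit_iff_isUnit_det, Matrix.det_fromBlocks_zero₂₁] at hu₄
      exact (Matrix.isUnit_iff_isUnit_det _).mpr (isUnit_of_mul_isUnit_left hu₄)
    have hih := ih Sc hScu hs₄.1
    have hDJ := cong_J2 D hD00 hD11 hD10 hD01
    have hcong₄ := Cong.blockDiag (RingHom.id K) hih hDJ
    have hcong₅ := (hcong₃.trans _ hcong₄).reindex _ (E k)
    have hback : Matrix.reindex (E k) (E k) c₃ = c₂ := by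
      rw [hc₃def]
      ext a b
      simp
    rw [hback, reindex_Jst] at hcong₅
    exact hcong₂.trans _ hcong₅

end local_

section Jn

variable {K' : Type*} [CommRing K']

lemma Jst_mul_Jst (k : ℕ) : (Jst k : Matrix (Fin k × Fin 2) (Fin k × Fin 2) K) * Jst k = -1 := by
  ext p q
  obtain ⟨a, x⟩ := p
  obtain ⟨b, y⟩ := q
  rw [Matrix.mul_apply, Fintype.sum_prod_type]
  simp only [Jst, Matrix.of_apply]
  by_cases hab : a = b
  · subst hab
    have h1 : ∀ a' : Fin k, (∑ x' : Fin 2, (if a = a' then J2 x x' else (0 : K)) *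
        (if a' = a then J2 x' y else 0)) = if a' = a then (J2 * J2 : Matrix (Fin 2) (Fin 2) K) x y
          else 0 := by
      intro a'
      by_cases h : a' = a
      · subst h
        simp [Matrix.mul_apply]
      · simp [h, Ne.symm h]
    simp only [h1, Finset.sum_ite_eq', Finset.mem_univ, if_true, J2_mul_J2]
    by_cases hxy : x = y
    · subst hxy
      simp
    · simp [hxy]
  · have h1 : ∀ a' : Fin k, (∑ x' : Fin 2, (if a = a' then J2 x x' else (0 : K)) *
        (if a' = b then J2 x' y else 0)) = 0 := by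
      intro a'
      by_cases h : a = a'
      · subst h
        simp [hab]
      · simp [h]
    simp only [h1, Finset.sum_const_zero]
    simp [hab]

lemma lamTr_J2 (σ : K →+* K) : lamTr σ (J2 : Matrix (Fin 2) (Fin 2) K) = -J2 := by
  ext i j
  fin_cases i <;> fin_cases j <;> simp [J2, lamTr_apply]

lemma lamTr_Jst (σ : K →+* K) (k : ℕ) :
    lamTr σ (Jst k : Matrix (Fin k × Fin 2) (Fin k × Fin 2) K) = -Jst k := by
  ext p q
  simp only [lamTr_apply, Jst, Matrix.of_apply, Matrix.neg_apply]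
  by_cases h : p.1 = q.1
  · rw [if_pos h, if_pos h.symm]
    have := congrFun (congrFun (lamTr_J2 σ) p.2) q.2
    simpa [lamTr_apply] using this
  · rw [if_neg h, if_neg (Ne.symm h), map_zero, neg_zero]

lemma map_J2 (φ : K →+* K') : (J2 : Matrix (Fin 2) (Fin 2) K).map φ = J2 := by
  ext i j
  fin_cases i <;> fin_cases j <;> simp [J2]

lemma map_Jst (φ : K →+* K') (k : ℕ) :
    (Jst k : Matrix (Fin k × Fin 2) (Fin k × Fin 2) K).map φ = Jst k := by
  ext p q
  simp only [Matrix.map_apply, Jst, Matrix.of_apply]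
  split_ifs
  · exact congrFun (congrFun (map_J2 φ) p.2) q.2
  · exact map_zero φ

/-- the standard symplectic pattern on `Fin (k * 2)` -/
def Jn (k : ℕ) : Matrix (Fin (k * 2)) (Fin (k * 2)) K :=
  Matrix.reindex finProdFinEquiv finProdFinEquiv (Jst k)

lemma Jn_mul_Jn (k : ℕ) : (Jn k : Matrix (Fin (k * 2)) (Fin (k * 2)) K) * Jn k = -1 := by
  rw [Jn, Matrix.reindex_apply, Matrix.submatrix_mul_equiv, Jst_mul_Jst, Matrix.submatrix_neg,
    Pi.neg_apply, Pi.neg_apply, Matrix.submatrix_one_equiv]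

lemma lamTr_Jn (σ : K →+* K) (k : ℕ) :
    lamTr σ (Jn k : Matrix (Fin (k * 2)) (Fin (k * 2)) K) = -Jn k := by
  rw [Jn, Matrix.reindex_apply, lamTr_submatrix, lamTr_Jst]
  rfl

lemma map_Jn (φ : K →+* K') (k : ℕ) :
    (Jn k : Matrix (Fin (k * 2)) (Fin (k * 2)) K).map φ = Jn k := by
  rw [Jn, Jn, Matrix.reindex_apply, Matrix.reindex_apply, ← map_Jst φ k]
  rfl

end Jn

section Jn_local

variable [IsLocalRing K]

/-- normal form of invertible skew-symmetric matrices of even size -/
theorem exists_cong_Jn (h2 : IsUnit (2 : K)) (k : ℕ)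
    (c : Matrix (Fin (k * 2)) (Fin (k * 2)) K) (hc : IsUnit c)
    (hs : lamTr (RingHom.id K) c = -c) : Cong (RingHom.id K) c (Jn k) := by
  set c' := Matrix.reindex finProdFinEquiv.symm finProdFinEquiv.symm c with hc'
  have hc'u : IsUnit c' := by
    rw [Matrix.isUnit_iff_isUnit_det, hc', Matrix.det_reindex_self]
    exact (Matrix.isUnit_iff_isUnit_det _).mp hc
  have hs' : lamTr (RingHom.id K) c' = -c' := by
    rw [hc', Matrix.reindex_apply, lamTr_submatrix, hs]
    rfl
  have h := (exists_cong_Jst h2 k c' hc'u hs').reindex _ finProdFinEquiv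
  have hback : Matrix.reindex finProdFinEquiv finProdFinEquiv c' = c := by
    rw [hc']
    ext a b
    simp only [Matrix.reindex_apply, Matrix.submatrix_apply, Equiv.symm_symm,
      Equiv.apply_symm_apply]
  rw [hback] at h
  exact h

end Jn_local

/-- an invertible skew-symmetric matrix has even size when `2` is invertible -/
lemma even_of_isUnit_skew [Nontrivial K] (h2 : IsUnit (2 : K)) {n : ℕ}
    (c : Matrix (Fin n) (Fin n) K) (hc : IsUnit c) (hs : lamTr (RingHom.id K) c = -c) :
    Even n := by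
  by_contra hodd
  rw [Nat.not_even_iff_odd] at hodd
  have h1 : c.det = (-c).det := by
    rw [← hs]
    show c.det = ((c.map (RingHom.id K))ᵀ).det
    rw [Matrix.det_transpose]
    congr 1
  rw [Matrix.det_neg, Fintype.card_fin, hodd.neg_one_pow] at h1
  have h3 : (2 : K) * c.det = 0 := by linear_combination h1
  have h4 : c.det = 0 := (h2.mul_right_eq_zero).mp h3
  have := (Matrix.isUnit_iff_isUnit_det _).mp hc
  rw [h4] at this
  exact not_isUnit_zero this

end Groth.Agent.Lib.Helper3.SymplCong
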