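import Mathlib.Data.Sym.Card
import Mathlib.LinearAlgebra.FiniteDimensional.Lemmas
import Mathlib.LinearAlgebra.Dimension.Constructions
import Groth.Agent.Lib.Helper3.SymplCong

/-! Dimensions of the spaces of matrices fixed by `y ↦ yᵀ` and by `y ↦ J yᵀ J⁻¹` (helper3). -/

set_option autoImplicit false

open Matrix

namespace Groth.Agent.Lib.Helper3.SymDim

open Groth.Agent.Lib.Helper3.SymplCong

variable (L : Type*) [Field L] (n : ℕ)

/-- the matrices fixed by `y ↦ W * yᵀ * W'` -/
def fixSub (W W' : Matrix (Fin n) (Fin n) L) : Submodule L (Matrix (Fin n) (Fin n) L) where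
  carrier := {y | W * yᵀ * W' = y}
  add_mem' := by
    intro a b ha hb
    show W * (a + b)ᵀ * W' = a + b
    rw [Matrix.transpose_add, mul_add, add_mul, ha, hb]
  zero_mem' := by
    show W * (0 : Matrix (Fin n) (Fin n) L)ᵀ * W' = 0
    simp
  smul_mem' := by
    intro c a ha
    show W * (c • a)ᵀ * W' = c • a
    rw [Matrix.transpose_smul, Matrix.mul_smul, Matrix.smul_mul, ha]

lemma mem_fixSub (W W' y : Matrix (Fin n) (Fin n) L) : y ∈ fixSub L n W W' ↔ W * yᵀ * W' = y :=
  Iff.rfl

/-- symmetric matrices are functions on unordered pairs -/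
noncomputable def symEquiv : fixSub L n 1 1 ≃ₗ[L] (Sym2 (Fin n) → L) where
  toFun y := fun s => Sym2.lift ⟨fun i j => y.1 i j, fun i j => by
    have h := y.2
    rw [mem_fixSub, one_mul, mul_one] at h
    have := congrFun (congrFun h j) i
    rw [Matrix.transpose_apply] at this
    exact this⟩ s
  invFun g := ⟨Matrix.of fun i j => g s(i, j), by
    rw [mem_fixSub, one_mul, mul_one]
    ext i j
    rw [Matrix.transpose_apply, Matrix.of_apply, Matrix.of_apply, Sym2.eq_swap]⟩
  map_add' y z := by
    funext s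
    induction s using Sym2.ind with
    | _ i j => simp
  map_smul' c y := by
    funext s
    induction s using Sym2.ind with
    | _ i j => simp
  left_inv y := by
    ext i j
    simp
  right_inv g := by
    funext s
    induction s using Sym2.ind with
    | _ i j => simp

theorem finrank_fix_one : Module.finrank L (fixSub L n 1 1) = Nat.choose (n + 1) 2 := by
  rw [(symEquiv L n).finrank_eq, Module.finrank_fintype_fun_eq_card, Sym2.card, Fintype.card_fin]

section involution

variable {L}

/-- for a linear involution on a finite-dimensional space over a field where `2 ≠ 0`, the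
dimensions of the two eigenspaces add up -/
lemma finrank_fix_add_finrank_antifix {V : Type*} [AddCommGroup V] [Module L V]
    [FiniteDimensional L V] (h2 : (2 : L) ≠ 0) (τ : V →ₗ[L] V) (hτ : ∀ v, τ (τ v) = v) :
    Module.finrank L (LinearMap.ker (τ - 1)) + Module.finrank L (LinearMap.ker (τ + 1)) =
      Module.finrank L V := by
  set p : V →ₗ[L] V := (2⁻¹ : L) • (1 + τ) with hp
  have hpx : ∀ x, p x = (2⁻¹ : L) • (x + τ x) := fun x => rfl
  have hr : LinearMap.range p = LinearMap.ker (τ - 1) := by
    ext y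
    rw [LinearMap.mem_range, LinearMap.mem_ker, LinearMap.sub_apply, Module.End.one_apply,
      sub_eq_zero]
    constructor
    · rintro ⟨x, rfl⟩
      rw [hpx, map_smul, map_add, hτ, add_comm]
    · intro hy
      refine ⟨y, ?_⟩
      rw [hpx, hy, ← two_smul L y, smul_smul, inv_mul_cancel₀ h2, one_smul]
  have hk : LinearMap.ker p = LinearMap.ker (τ + 1) := by
    ext x
    rw [LinearMap.mem_ker, LinearMap.mem_ker, LinearMap.add_apply, Module.End.one_apply, hpx,
      smul_eq_zero, add_comm]
    constructor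
    · rintro (h | h)
      · exact absurd h (inv_ne_zero h2)
      · exact h
    · intro h
      exact Or.inr h
  rw [← hr, ← hk]
  exact LinearMap.finrank_range_add_finrank_ker p

end involution

/-- the involution `y ↦ J yᵀ (-J)` -/
noncomputable def tauJ (k : ℕ) : Matrix (Fin (k * 2)) (Fin (k * 2)) L →ₗ[L]
    Matrix (Fin (k * 2)) (Fin (k * 2)) L where
  toFun y := Jn k * yᵀ * (-Jn k)
  map_add' a b := by rw [Matrix.transpose_add, mul_add, add_mul]
  map_smul' c a := by
    rw [Matrix.transpose_smul, Matrix.mul_smul, Matrix.smul_mul, RingHom.id_apply]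

lemma transpose_Jn (k : ℕ) : (Jn k : Matrix (Fin (k * 2)) (Fin (k * 2)) L)ᵀ = -Jn k := by
  have := lamTr_Jn (RingHom.id L) k
  rw [← this]
  ext i j
  simp [AzInv.lamTr_apply]

lemma tauJ_tauJ (k : ℕ) (y : Matrix (Fin (k * 2)) (Fin (k * 2)) L) :
    tauJ L k (tauJ L k y) = y := by
  show Jn k * (Jn k * yᵀ * (-Jn k))ᵀ * (-Jn k) = y
  rw [Matrix.transpose_mul, Matrix.transpose_mul, Matrix.transpose_transpose,
    Matrix.transpose_neg, transpose_Jn, neg_neg]
  have h1 : (Jn k : Matrix (Fin (k * 2)) (Fin (k * 2)) L) * Jn k = -1 := Jn_mul_Jn k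
  calc Jn k * (Jn k * (y * -Jn k)) * -Jn k = (Jn k * Jn k) * y * (Jn k * Jn k) := by
        simp only [Matrix.mul_neg, Matrix.neg_mul, neg_neg, Matrix.mul_assoc]
    _ = y := by rw [h1]; simp

theorem finrank_fix_J (h2 : (2 : L) ≠ 0) (k : ℕ) :
    Module.finrank L (fixSub L (k * 2) (Jn k) (-Jn k)) + Nat.choose (k * 2 + 1) 2 =
      (k * 2) * (k * 2) := by
  have h := finrank_fix_add_finrank_antifix h2 (tauJ L k) (tauJ_tauJ L k)
  have h1 : (Jn k : Matrix (Fin (k * 2)) (Fin (k * 2)) L) * Jn k = -1 := Jn_mul_Jn k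
  have e1 : LinearMap.ker (tauJ L k - 1) = fixSub L (k * 2) (Jn k) (-Jn k) := by
    ext y
    rw [LinearMap.mem_ker, LinearMap.sub_apply, Module.End.one_apply, sub_eq_zero, mem_fixSub]
    rfl
  -- the anti-fixed space is the space of symmetric matrices
  let Φ : LinearMap.ker (tauJ L k + 1) ≃ₗ[L] fixSub L (k * 2) 1 1 :=
    { toFun := fun y => ⟨y.1 * Jn k, by
        have hy := y.2
        rw [LinearMap.mem_ker, LinearMap.add_apply, Module.End.one_apply] at hy
        have hy' : Jn k * (y.1)ᵀ * (-Jn k) = -y.1 := eq_neg_of_add_eq_zero_left hy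
        rw [mem_fixSub, one_mul, mul_one, Matrix.transpose_mul, transpose_Jn]
        have h3 : Jn k * (y.1)ᵀ = -(y.1 * Jn k) := by
          calc Jn k * (y.1)ᵀ = Jn k * (y.1)ᵀ * (-Jn k * Jn k) := by
                rw [Matrix.neg_mul, h1, neg_neg, Matrix.mul_one]
            _ = (Jn k * (y.1)ᵀ * (-Jn k)) * Jn k := by rw [Matrix.mul_assoc _ (-Jn k)]
            _ = -(y.1 * Jn k) := by rw [hy', Matrix.neg_mul]
        rw [Matrix.neg_mul, h3, neg_neg]⟩
      invFun := fun z => ⟨z.1 * (-Jn k), by
        have hz := z.2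
        rw [mem_fixSub, one_mul, mul_one] at hz
        rw [LinearMap.mem_ker, LinearMap.add_apply, Module.End.one_apply]
        show Jn k * (z.1 * (-Jn k))ᵀ * (-Jn k) + z.1 * (-Jn k) = 0
        rw [Matrix.transpose_mul, Matrix.transpose_neg, transpose_Jn, neg_neg, hz]
        calc Jn k * (Jn k * z.1) * (-Jn k) + z.1 * (-Jn k)
            = (Jn k * Jn k) * z.1 * (-Jn k) + z.1 * (-Jn k) := by
              simp only [Matrix.mul_assoc]
          _ = 0 := by rw [h1]; simp⟩
      map_add' := fun a b => by
        ext : 1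
        show (a.1 + b.1) * Jn k = a.1 * Jn k + b.1 * Jn k
        rw [add_mul]
      map_smul' := fun c a => by
        ext : 1
        show (c • a.1) * Jn k = c • (a.1 * Jn k)
        rw [Matrix.smul_mul]
      left_inv := fun y => by
        ext : 1
        show y.1 * Jn k * (-Jn k) = y.1
        rw [Matrix.mul_assoc, Matrix.mul_neg, h1, neg_neg, Matrix.mul_one]
      right_inv := fun z => by
        ext : 1
        show z.1 * (-Jn k) * Jn k = z.1
        rw [Matrix.mul_assoc, Matrix.neg_mul, h1, neg_neg, Matrix.mul_one] }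
  rw [e1, Φ.finrank_eq, finrank_fix_one, Module.finrank_matrix, Module.finrank_self, mul_one,
    Fintype.card_fin] at h
  exact h

end Groth.Agent.Lib.Helper3.SymDim
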