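import Mathlib.LinearAlgebra.Basis.VectorSpace
import Mathlib.LinearAlgebra.Dimension.Constructions
import Mathlib.LinearAlgebra.Dimension.OrzechProperty
import Mathlib.LinearAlgebra.Dimension.StrongRankCondition
import Mathlib.LinearAlgebra.Dimension.Free
import Mathlib.FieldTheory.Finiteness
import Mathlib.LinearAlgebra.FiniteDimensional.Lemmas
import Mathlib.RingTheory.TensorProduct.Basic
import Mathlib.LinearAlgebra.TensorProduct.Basic
import Groth.Agent.Lib.Helper3.SymDim

/-! The dimension of the span of the symmetric elements in a fibre of an algebra with involution,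
computed through a matrix representation over a larger field (helper3). -/

set_option autoImplicit false

open TensorProduct Matrix

namespace Groth.Agent.Lib.Helper3.DimLink

open Groth.Agent.Lib.Helper3.SymDim

variable {R : Type*} [CommRing R] {A : Type*} [Ring A] [Algebra R A]
  (κ : Type*) [Field κ] [Algebra R κ]
  (L : Type*) [Field L] (j : κ →+* L) (n : ℕ)

section phi

variable (ρ : A →+* Matrix (Fin n) (Fin n) L)
  (hρs : ∀ (r : R) (a : A), ρ (r • a) = j (algebraMap R κ r) • ρ a)

/-- the semilinear comparison map `κ ⊗ A → M_n(L)` -/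
noncomputable def phi : κ ⊗[R] A →+ Matrix (Fin n) (Fin n) L :=
  TensorProduct.liftAddHom
    { toFun := fun c =>
        { toFun := fun a => j c • ρ a
          map_zero' := by rw [map_zero, smul_zero]
          map_add' := fun a b => by rw [map_add, smul_add] }
      map_zero' := by
        ext1 a
        show j 0 • ρ a = 0
        rw [map_zero, zero_smul]
      map_add' := fun c d => by
        ext1 a
        show j (c + d) • ρ a = j c • ρ a + j d • ρ a
        rw [map_add, add_smul] }
    (by
      intro r c a
      show j (r • c) • ρ a = j c • ρ (r • a)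
      have h1 : r • c = algebraMap R κ r * c := Algebra.smul_def r c
      rw [hρs, smul_smul, h1, map_mul, mul_comm])

lemma phi_tmul (c : κ) (a : A) : phi κ L j n ρ hρs (c ⊗ₜ[R] a) = j c • ρ a := rfl

lemma phi_smul (c : κ) (v : κ ⊗[R] A) :
    phi κ L j n ρ hρs (c • v) = j c • phi κ L j n ρ hρs v := by
  induction v using TensorProduct.induction_on with
  | zero => rw [smul_zero, map_zero, smul_zero]
  | tmul d a =>
    rw [TensorProduct.smul_tmul', phi_tmul, phi_tmul, smul_eq_mul, map_mul, mul_smul]
  | add x y hx hy => rw [smul_add, map_add, map_add, hx, hy, smul_add]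

lemma phi_mem_span (s : Set (κ ⊗[R] A)) (v : κ ⊗[R] A) (hv : v ∈ Submodule.span κ s) :
    phi κ L j n ρ hρs v ∈ Submodule.span L (phi κ L j n ρ hρs '' s) := by
  induction hv using Submodule.span_induction with
  | mem x hx => exact Submodule.subset_span ⟨x, hx, rfl⟩
  | zero => rw [map_zero]; exact Submodule.zero_mem _
  | add x y _ _ hx hy => rw [map_add]; exact Submodule.add_mem _ hx hy
  | smul c x _ hx => rw [phi_smul]; exact Submodule.smul_mem _ _ hx

end phi

section main

variable (ρ : A →+* Matrix (Fin n) (Fin n) L)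
  (hρs : ∀ (r : R) (a : A), ρ (r • a) = j (algebraMap R κ r) • ρ a)

/-- the span of the images of the symmetric elements is the fixed space of the involution -/
theorem span_sym_eq_fixSub (tfun : A → A) (hadd : ∀ a b, tfun (a + b) = tfun a + tfun b)
    (hinv : ∀ a, tfun (tfun a) = a) (W W' : Matrix (Fin n) (Fin n) L)
    (hρt : ∀ a, ρ (tfun a) = W * (ρ a)ᵀ * W')
    (hspan : Submodule.span L (Set.range ρ) = ⊤) (h2 : (2 : L) ≠ 0) :
    Submodule.span L (Set.range fun a : {a : A // tfun a = a} => ρ (a : A)) =
      fixSub L n W W' := by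
  set Sp := Submodule.span L (Set.range fun a : {a : A // tfun a = a} => ρ (a : A)) with hSp
  apply le_antisymm
  · rw [Submodule.span_le]
    rintro _ ⟨a, rfl⟩
    show W * (ρ (a : A))ᵀ * W' = ρ (a : A)
    rw [← hρt, a.2]
  · intro y hy
    rw [mem_fixSub] at hy
    -- the set of `z` with `z + τ z` in the span is a subspace containing the image of `ρ`
    let P : Submodule L (Matrix (Fin n) (Fin n) L) :=
      { carrier := {z | z + W * zᵀ * W' ∈ Sp}
        add_mem' := by
          intro a b ha hb
          show (a + b) + W * (a + b)ᵀ * W' ∈ Sp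
          have : (a + b) + W * (a + b)ᵀ * W' = (a + W * aᵀ * W') + (b + W * bᵀ * W') := by
            rw [Matrix.transpose_add, mul_add, add_mul]
            abel
          rw [this]
          exact Submodule.add_mem _ ha hb
        zero_mem' := by
          show (0 : Matrix (Fin n) (Fin n) L) + W * (0 : Matrix (Fin n) (Fin n) L)ᵀ * W' ∈ Sp
          simp
        smul_mem' := by
          intro c a ha
          show c • a + W * (c • a)ᵀ * W' ∈ Sp
          have : c • a + W * (c • a)ᵀ * W' = c • (a + W * aᵀ * W') := by
            rw [Matrix.transpose_smul, Matrix.mul_smul, Matrix.smul_mul, smul_add]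
          rw [this]
          exact Submodule.smul_mem _ _ ha }
    have hP : P = ⊤ := by
      rw [eq_top_iff, ← hspan, Submodule.span_le]
      rintro _ ⟨a, rfl⟩
      show ρ a + W * (ρ a)ᵀ * W' ∈ Sp
      rw [← hρt, ← map_add]
      exact Submodule.subset_span ⟨⟨a + tfun a, by rw [hadd, hinv, add_comm]⟩, rfl⟩
    have hyP : y ∈ P := by rw [hP]; exact Submodule.mem_top
    have hy2 : y + W * yᵀ * W' ∈ Sp := hyP
    rw [hy, ← two_smul L y] at hy2
    have := Submodule.smul_mem _ (2⁻¹ : L) hy2
    rwa [smul_smul, inv_mul_cancel₀ h2, one_smul] at this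

include hρs in
/-- the dimension of the span of the symmetric elements in the fibre `κ ⊗ A` is that of the
fixed space of the involution on the matrix algebra -/
theorem finrank_span_sym [Module.Finite R A] (hrank : Module.finrank κ (κ ⊗[R] A) = n * n)
    (tfun : A → A) (hadd : ∀ a b, tfun (a + b) = tfun a + tfun b)
    (hinv : ∀ a, tfun (tfun a) = a) (W W' : Matrix (Fin n) (Fin n) L)
    (hρt : ∀ a, ρ (tfun a) = W * (ρ a)ᵀ * W')
    (hspan : Submodule.span L (Set.range ρ) = ⊤) (h2 : (2 : L) ≠ 0) :
    Module.finrank κ (Submodule.span κ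
      (Set.range fun a : {a : A // tfun a = a} => (1 : κ) ⊗ₜ[R] (a : A))) =
      Module.finrank L (fixSub L n W W') := by
  classical
  set φ := phi κ L j n ρ hρs with hφ
  set X : Set (κ ⊗[R] A) := Set.range fun a : {a : A // tfun a = a} => (1 : κ) ⊗ₜ[R] (a : A)
    with hX
  obtain ⟨b, hbX, hbspan, hbli⟩ := exists_linearIndependent κ X
  -- extend to a basis
  have hbli' : LinearIndepOn κ id b := hbli
  let B := hbli'.extend (Set.subset_univ b)
  let bas : Module.Basis B κ (κ ⊗[R] A) := Module.Basis.extend hbli'
  have hbB : b ⊆ B := Module.Basis.subset_extend hbli'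
  haveI : Finite B := Module.Finite.finite_basis bas
  haveI : Fintype B := Fintype.ofFinite B
  have hcard : Fintype.card B = n * n := by
    rw [← hrank, Module.finrank_eq_card_basis bas]
  -- the image family spans
  have hall : ∀ v : κ ⊗[R] A, φ v ∈ Submodule.span L (Set.range fun x : B => φ (x : κ ⊗[R] A)) := by
    intro v
    have hv : v ∈ Submodule.span κ (B : Set (κ ⊗[R] A)) := by
      have := bas.mem_span v
      rwa [Module.Basis.range_extend hbli'] at this
    have := phi_mem_span κ L j n ρ hρs _ v hv
    rw [Set.image_eq_range] at this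
    exact this
  have htop : ⊤ ≤ Submodule.span L (Set.range fun x : B => φ (x : κ ⊗[R] A)) := by
    rw [← hspan, Submodule.span_le]
    rintro _ ⟨a, rfl⟩
    have := hall ((1 : κ) ⊗ₜ[R] a)
    rwa [hφ, phi_tmul, map_one, one_smul] at this
  have hli : LinearIndependent L (fun x : B => φ (x : κ ⊗[R] A)) := by
    apply linearIndependent_of_top_le_span_of_card_eq_finrank htop
    rw [hcard, Module.finrank_matrix, Module.finrank_self, mul_one, Fintype.card_fin]
  -- restrict to `b`
  haveI : Finite b := Finite.Set.subset B hbB
  haveI : Fintype b := Fintype.ofFinite b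
  have hli' : LinearIndependent L (fun x : b => φ (x : κ ⊗[R] A)) :=
    hli.comp (Set.inclusion hbB) (Set.inclusion_injective hbB)
  have h1 : Module.finrank L (Submodule.span L (Set.range fun x : b => φ (x : κ ⊗[R] A))) =
      Fintype.card b := finrank_span_eq_card hli'
  have h2' : Module.finrank κ (Submodule.span κ X) = Fintype.card b := by
    rw [← hbspan, finrank_span_set_eq_card hbli, Set.toFinset_card]
  rw [h2', ← h1]
  have hEq : Submodule.span L (Set.range fun x : b => φ (x : κ ⊗[R] A)) = fixSub L n W W' := ?_
  · rw [hEq]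
  rw [← span_sym_eq_fixSub L n ρ tfun hadd hinv W W' hρt hspan h2]
  apply le_antisymm
  · rw [Submodule.span_le]
    rintro _ ⟨x, rfl⟩
    obtain ⟨a, ha⟩ := hbX x.2
    show φ (x : κ ⊗[R] A) ∈ _
    rw [← ha, hφ, phi_tmul, map_one, one_smul]
    exact Submodule.subset_span ⟨a, rfl⟩
  · rw [Submodule.span_le]
    rintro _ ⟨a, rfl⟩
    have hmem : ((1 : κ) ⊗ₜ[R] (a : A)) ∈ Submodule.span κ b := by
      rw [hbspan]
      exact Submodule.subset_span ⟨a, rfl⟩
    have := phi_mem_span κ L j n ρ hρs _ _ hmem
    rw [phi_tmul, map_one, one_smul, Set.image_eq_range] at this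
    exact this

end main

end Groth.Agent.Lib.Helper3.DimLink
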