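import Mathlib.RingTheory.PicardGroup
import Mathlib.RingTheory.Flat.FaithfullyFlat.Basic
import Mathlib.RingTheory.Finiteness.Projective
import Mathlib.LinearAlgebra.TensorProduct.Tower
import Mathlib.Algebra.Algebra.Equiv

/-!
# Isomorphisms of endomorphism algebras of f.g. projective modules (helper3)

`End(F) ≃ₐ End(G)` ⇒ `G ≃ F ⊗ L` with `L = Hom_{End F}(F, G)` invertible (Morita / Skolem–Noether).
-/
set_option autoImplicit false
universe u
open TensorProduct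

namespace Groth.Agent.Lib.Helper3.EndIso

variable {A : Type u} [CommRing A] {F G : Type u} [AddCommGroup F] [Module A F]
  [AddCommGroup G] [Module A G]

/-- `L = Hom_{End F}(F, G)`, `G` an `End F`-module through `φ`. -/
def Lmod (φ : Module.End A F ≃ₐ[A] Module.End A G) : Submodule A (F →ₗ[A] G) where
  carrier := {ℓ | ∀ f : Module.End A F, ℓ ∘ₗ f = φ f ∘ₗ ℓ}
  zero_mem' := by intro f; simp
  add_mem' := by
    intro a b ha hb f
    rw [LinearMap.add_comp, LinearMap.comp_add, ha f, hb f]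
  smul_mem' := by
    intro c a ha f
    rw [LinearMap.smul_comp, LinearMap.comp_smul, ha f]

lemma mem_Lmod (φ : Module.End A F ≃ₐ[A] Module.End A G) (ℓ : F →ₗ[A] G) :
    ℓ ∈ Lmod φ ↔ ∀ f : Module.End A F, ℓ ∘ₗ f = φ f ∘ₗ ℓ := Iff.rfl

lemma Lmod_apply (φ : Module.End A F ≃ₐ[A] Module.End A G) (ℓ : Lmod φ) (f : Module.End A F) (x : F) :
    (ℓ : F →ₗ[A] G) (f x) = φ f ((ℓ : F →ₗ[A] G) x) :=
  LinearMap.congr_fun (ℓ.2 f) x

/-- the evaluation map `F ⊗ L → G`. -/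
noncomputable def xi (φ : Module.End A F ≃ₐ[A] Module.End A G) : F ⊗[A] (Lmod φ) →ₗ[A] G :=
  TensorProduct.lift ((LinearMap.applyₗ (R := A) (M := F) (M₂ := G)).compl₂ (Lmod φ).subtype)

lemma xi_tmul (φ : Module.End A F ≃ₐ[A] Module.End A G) (x : F) (ℓ : Lmod φ) :
    xi φ (x ⊗ₜ ℓ) = (ℓ : F →ₗ[A] G) x := by
  simp [xi]

/-- `g ↦ (x ↦ φ(μ(-)x)(g))`. -/
noncomputable def lmapLin (φ : Module.End A F ≃ₐ[A] Module.End A G) (μ : F →ₗ[A] A) :
    G →ₗ[A] (F →ₗ[A] G) :=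
  (φ.toLinearMap ∘ₗ (LinearMap.smulRightₗ μ : F →ₗ[A] (F →ₗ[A] F))).flip

lemma lmapLin_apply (φ : Module.End A F ≃ₐ[A] Module.End A G) (μ : F →ₗ[A] A) (g : G) (x : F) :
    lmapLin φ μ g x = φ (μ.smulRight x) g := rfl

lemma lmapLin_mem (φ : Module.End A F ≃ₐ[A] Module.End A G) (μ : F →ₗ[A] A) (g : G) :
    lmapLin φ μ g ∈ Lmod φ := by
  intro f
  ext x
  rw [LinearMap.comp_apply, LinearMap.comp_apply, lmapLin_apply, lmapLin_apply]
  have : μ.smulRight (f x) = f * μ.smulRight x := by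
    ext y
    simp
  rw [this, map_mul]
  rfl

/-- the inverse of `xi`, from a dual basis of `F`. -/
noncomputable def eta (φ : Module.End A F ≃ₐ[A] Module.End A G) {n : ℕ} (x : Fin n → F)
    (l : Fin n → (F →ₗ[A] A)) : G →ₗ[A] F ⊗[A] (Lmod φ) :=
  ∑ i, (TensorProduct.mk A F (Lmod φ) (x i)) ∘ₗ
    (LinearMap.codRestrict (Lmod φ) (lmapLin φ (l i)) (lmapLin_mem φ (l i)))

lemma eta_apply (φ : Module.End A F ≃ₐ[A] Module.End A G) {n : ℕ} (x : Fin n → F)
    (l : Fin n → (F →ₗ[A] A)) (g : G) :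
    eta φ x l g = ∑ i, (x i) ⊗ₜ[A] (⟨lmapLin φ (l i) g, lmapLin_mem φ (l i) g⟩ : Lmod φ) := by
  simp [eta, LinearMap.sum_apply]
  rfl

theorem xi_eta (φ : Module.End A F ≃ₐ[A] Module.End A G) {n : ℕ} (x : Fin n → F)
    (l : Fin n → (F →ₗ[A] A)) (hxl : ∀ y : F, y = ∑ i, l i y • x i) (g : G) :
    xi φ (eta φ x l g) = g := by
  rw [eta_apply, map_sum]
  simp only [xi_tmul, lmapLin_apply]
  have h1 : (∑ i, (l i).smulRight (x i) : Module.End A F) = 1 := by
    ext y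
    rw [LinearMap.sum_apply]
    simp only [LinearMap.smulRight_apply]
    exact (hxl y).symm
  calc ∑ i, φ ((l i).smulRight (x i)) g = (φ (∑ i, (l i).smulRight (x i))) g := by
        rw [map_sum, LinearMap.sum_apply]
    _ = g := by rw [h1, map_one]; rfl

theorem eta_xi (φ : Module.End A F ≃ₐ[A] Module.End A G) {n : ℕ} (x : Fin n → F)
    (l : Fin n → (F →ₗ[A] A)) (hxl : ∀ y : F, y = ∑ i, l i y • x i) (z : F ⊗[A] (Lmod φ)) :
    eta φ x l (xi φ z) = z := by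
  induction z with
  | zero => simp
  | tmul y ℓ =>
    rw [xi_tmul, eta_apply]
    have h1 : ∀ i, (⟨lmapLin φ (l i) ((ℓ : F →ₗ[A] G) y), lmapLin_mem φ (l i) _⟩ : Lmod φ) =
        l i y • ℓ := by
      intro i
      apply Subtype.ext
      ext w
      rw [lmapLin_apply, ← Lmod_apply]
      simp
    simp only [h1]
    conv_rhs => rw [hxl y, TensorProduct.sum_tmul]
    refine Finset.sum_congr rfl (fun i _ => ?_)
    rw [TensorProduct.smul_tmul]
  | add a b ha hb => rw [map_add, map_add, ha, hb]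

end Groth.Agent.Lib.Helper3.EndIso

namespace Groth.Agent.Lib.Helper3.EndIso

variable {A : Type u} [CommRing A] {F G : Type u} [AddCommGroup F] [Module A F]
  [AddCommGroup G] [Module A G]

theorem exists_dual_basis (A : Type u) [CommRing A] (F : Type u) [AddCommGroup F] [Module A F]
    [Module.Finite A F] [Module.Projective A F] :
    ∃ (n : ℕ) (x : Fin n → F) (l : Fin n → (F →ₗ[A] A)), ∀ y : F, y = ∑ i, l i y • x i := by
  obtain ⟨n, s, g, -, -, hsg⟩ := Module.Finite.exists_comp_eq_id_of_projective A F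
  refine ⟨n, fun j => s (Pi.single j 1), fun j => (LinearMap.proj j).comp g, ?_⟩
  intro y
  conv_lhs => rw [← LinearMap.id_apply (R := A) y, ← hsg, LinearMap.comp_apply,
    pi_eq_sum_univ' (g y), map_sum]
  refine Finset.sum_congr rfl (fun i _ => ?_)
  rw [map_smul]
  rfl

/-- `F ⊗ L ≃ G`. -/
noncomputable def xiEquiv [Module.Finite A F] [Module.Projective A F]
    (φ : Module.End A F ≃ₐ[A] Module.End A G) : F ⊗[A] (Lmod φ) ≃ₗ[A] G :=
  LinearEquiv.ofBijective (xi φ) (by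
    obtain ⟨n, x, l, hxl⟩ := exists_dual_basis A F
    exact Function.bijective_iff_has_inverse.mpr ⟨eta φ x l, eta_xi φ x l hxl, xi_eta φ x l hxl⟩)

lemma xiEquiv_tmul [Module.Finite A F] [Module.Projective A F]
    (φ : Module.End A F ≃ₐ[A] Module.End A G) (x : F) (ℓ : Lmod φ) :
    xiEquiv φ (x ⊗ₜ ℓ) = (ℓ : F →ₗ[A] G) x := xi_tmul φ x ℓ

theorem xiEquiv_conj [Module.Finite A F] [Module.Projective A F]
    (φ : Module.End A F ≃ₐ[A] Module.End A G) (f : Module.End A F) :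
    φ f = (xiEquiv φ).conj (TensorProduct.map f LinearMap.id) := by
  apply LinearMap.ext
  intro g
  obtain ⟨z, rfl⟩ := (xiEquiv φ).surjective g
  rw [LinearEquiv.conj_apply_apply, LinearEquiv.symm_apply_apply]
  induction z with
  | zero => simp
  | tmul x ℓ =>
    rw [TensorProduct.map_tmul, LinearMap.id_apply, xiEquiv_tmul, xiEquiv_tmul, Lmod_apply]
  | add a b ha hb => simp only [map_add, ha, hb]

/-- the pairing `L ⊗ L' → A` attached to `(μ, y)`: `ℓ ⊗ ℓ' ↦ μ(ℓ'(ℓ y))`. -/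
noncomputable def pair (φ : Module.End A F ≃ₐ[A] Module.End A G) (μ : F →ₗ[A] A) (y : F) :
    (Lmod φ) ⊗[A] (Lmod φ.symm) →ₗ[A] A :=
  TensorProduct.lift (LinearMap.mk₂ A (fun (ℓ : Lmod φ) (ℓ' : Lmod φ.symm) =>
      μ ((ℓ' : G →ₗ[A] F) ((ℓ : F →ₗ[A] G) y)))
    (by intro a b c; simp) (by intro r a b; simp) (by intro a b c; simp) (by intro r a b; simp))

lemma pair_tmul (φ : Module.End A F ≃ₐ[A] Module.End A G) (μ : F →ₗ[A] A) (y : F)
    (ℓ : Lmod φ) (ℓ' : Lmod φ.symm) :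
    pair φ μ y (ℓ ⊗ₜ ℓ') = μ ((ℓ' : G →ₗ[A] F) ((ℓ : F →ₗ[A] G) y)) := by
  simp [pair]

/-- `ℓ' ∘ ℓ` is central. -/
lemma comp_central (φ : Module.End A F ≃ₐ[A] Module.End A G) (ℓ : Lmod φ) (ℓ' : Lmod φ.symm)
    (f : Module.End A F) (x : F) :
    (ℓ' : G →ₗ[A] F) ((ℓ : F →ₗ[A] G) (f x)) = f ((ℓ' : G →ₗ[A] F) ((ℓ : F →ₗ[A] G) x)) := by
  rw [Lmod_apply φ ℓ f x, Lmod_apply φ.symm ℓ' (φ f), AlgEquiv.symm_apply_apply]

lemma pair_smul (φ : Module.End A F ≃ₐ[A] Module.End A G) (μ : F →ₗ[A] A) (y : F)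
    (ℓ : Lmod φ) (ℓ' : Lmod φ.symm) (x : F) :
    μ y • (ℓ' : G →ₗ[A] F) ((ℓ : F →ₗ[A] G) x) = pair φ μ y (ℓ ⊗ₜ ℓ') • x := by
  rw [pair_tmul]
  have h := comp_central φ ℓ ℓ' (μ.smulRight x) y
  rw [LinearMap.smulRight_apply, LinearMap.smulRight_apply, map_smul, map_smul] at h
  exact h

/-- the trace ideal of a faithfully flat f.g. projective module is the unit ideal. -/
theorem one_mem_trace (A : Type u) [CommRing A] (F : Type u) [AddCommGroup F] [Module A F]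
    [Module.Finite A F] [Module.Projective A F] [Module.FaithfullyFlat A F] :
    (1 : A) ∈ Ideal.span {r : A | ∃ (μ : F →ₗ[A] A) (y : F), μ y = r} := by
  set τ : Ideal A := Ideal.span {r : A | ∃ (μ : F →ₗ[A] A) (y : F), μ y = r} with hτ
  obtain ⟨n, x, l, hxl⟩ := exists_dual_basis A F
  have hle : (⊤ : Submodule A F) ≤ τ • ⊤ := by
    intro y _
    rw [hxl y]
    refine Submodule.sum_mem _ (fun i _ => ?_)
    refine Submodule.smul_mem_smul ?_ Submodule.mem_top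
    exact Ideal.subset_span ⟨l i, y, rfl⟩
  by_contra h1
  have hne : τ ≠ ⊤ := fun h => h1 (by rw [h]; trivial)
  obtain ⟨m, hm, hτm⟩ := Ideal.exists_le_maximal τ hne
  have := Module.FaithfullyFlat.submodule_ne_top (R := A) (M := F) (m := m) hm
  apply this
  rw [eq_top_iff]
  exact hle.trans (Submodule.smul_mono_left hτm)

/-- there is `c : L ⊗ L' → A` with `ℓ'(ℓ x) = c(ℓ ⊗ ℓ') • x`. -/
theorem exists_pairing [Module.Finite A F] [Module.Projective A F] [Module.FaithfullyFlat A F]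
    (φ : Module.End A F ≃ₐ[A] Module.End A G) :
    ∃ c : (Lmod φ) ⊗[A] (Lmod φ.symm) →ₗ[A] A, ∀ (ℓ : Lmod φ) (ℓ' : Lmod φ.symm) (x : F),
      (ℓ' : G →ₗ[A] F) ((ℓ : F →ₗ[A] G) x) = c (ℓ ⊗ₜ ℓ') • x := by
  have key : ∀ r ∈ Ideal.span {r : A | ∃ (μ : F →ₗ[A] A) (y : F), μ y = r},
      ∃ c : (Lmod φ) ⊗[A] (Lmod φ.symm) →ₗ[A] A, ∀ (ℓ : Lmod φ) (ℓ' : Lmod φ.symm) (x : F),
      r • (ℓ' : G →ₗ[A] F) ((ℓ : F →ₗ[A] G) x) = c (ℓ ⊗ₜ ℓ') • x := by
    intro r hr
    induction hr using Submodule.span_induction with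
    | mem r hr =>
      obtain ⟨μ, y, rfl⟩ := hr
      exact ⟨pair φ μ y, fun ℓ ℓ' x => pair_smul φ μ y ℓ ℓ' x⟩
    | zero => exact ⟨0, fun ℓ ℓ' x => by simp⟩
    | add a b _ _ ha hb =>
      obtain ⟨ca, hca⟩ := ha
      obtain ⟨cb, hcb⟩ := hb
      exact ⟨ca + cb, fun ℓ ℓ' x => by rw [add_smul, hca, hcb, LinearMap.add_apply, add_smul]⟩
    | smul a b _ hb =>
      obtain ⟨cb, hcb⟩ := hb
      exact ⟨a • cb, fun ℓ ℓ' x => by
        rw [smul_eq_mul, mul_smul, hcb, LinearMap.smul_apply, smul_eq_mul, mul_smul]⟩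
  obtain ⟨c, hc⟩ := key 1 (one_mem_trace A F)
  exact ⟨c, fun ℓ ℓ' x => by rw [← hc, one_smul]⟩

end Groth.Agent.Lib.Helper3.EndIso

namespace Groth.Agent.Lib.Helper3.EndIso

variable {A : Type u} [CommRing A] {F G : Type u} [AddCommGroup F] [Module A F]
  [AddCommGroup G] [Module A G]

theorem invertible_Lmod [Module.Finite A F] [Module.Projective A F] [Module.FaithfullyFlat A F]
    [Module.Finite A G] [Module.Projective A G]
    (φ : Module.End A F ≃ₐ[A] Module.End A G) : Module.Invertible A (Lmod φ) := by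
  obtain ⟨c, hc⟩ := exists_pairing φ
  let Θ : F ⊗[A] ((Lmod φ) ⊗[A] (Lmod φ.symm)) ≃ₗ[A] F :=
    (TensorProduct.assoc A F (Lmod φ) (Lmod φ.symm)).symm ≪≫ₗ
      (TensorProduct.congr (xiEquiv φ) (LinearEquiv.refl A (Lmod φ.symm))) ≪≫ₗ (xiEquiv φ.symm)
  have hΘ : ∀ z, Θ z = TensorProduct.rid A F (c.lTensor F z) := by
    intro z
    induction z with
    | zero => simp
    | tmul x t =>
      induction t with
      | zero => simp
      | tmul ℓ ℓ' =>
        show xiEquiv φ.symm ((TensorProduct.congr (xiEquiv φ) (LinearEquiv.refl A _))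
          ((TensorProduct.assoc A F _ _).symm (x ⊗ₜ (ℓ ⊗ₜ ℓ')))) = _
        rw [TensorProduct.assoc_symm_tmul, TensorProduct.congr_tmul, xiEquiv_tmul,
          LinearEquiv.refl_apply, xiEquiv_tmul, LinearMap.lTensor_tmul, TensorProduct.rid_tmul, hc]
      | add a b ha hb => rw [tmul_add, map_add, ha, hb, map_add, map_add]
    | add a b ha hb => rw [map_add, ha, hb, map_add, map_add]
  have hbij : Function.Bijective (c.lTensor F) := by
    have : (c.lTensor F : _ → _) = (TensorProduct.rid A F).symm ∘ Θ := by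
      funext z
      simp [hΘ]
    rw [this]
    exact (LinearEquiv.bijective _).comp Θ.bijective
  have hc' : Function.Bijective c := by
    have h := @Module.FaithfullyFlat.lTensor_bijective_iff_bijective A F _ _ _
      ((Lmod φ) ⊗[A] (Lmod φ.symm)) A _ _ _ _ c _
    exact h.mp hbij
  exact Module.Invertible.left (LinearEquiv.ofBijective c hc')

end Groth.Agent.Lib.Helper3.EndIso
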