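import Groth.Agent.Lib.Helper3.SplitCrit
import Groth.Agent.Lib.Helper3.AzumayaBaseChange
import Mathlib.RingTheory.LocalRing.Module
import Mathlib.RingTheory.Ideal.Quotient.ChineseRemainder
import Mathlib.RingTheory.Artinian.Ring
import Mathlib.RingTheory.Unramified.Field
import Mathlib.RingTheory.Etale.Basic
import Mathlib.RingTheory.Nakayama
import Mathlib.RingTheory.OrzechProperty
import Mathlib.LinearAlgebra.Dimension.Free
import Mathlib.LinearAlgebra.FreeModule.Finite.Matrix
import Mathlib.LinearAlgebra.TensorProduct.Pi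
import Mathlib.LinearAlgebra.TensorProduct.Quotient

/-!
# Azumaya algebras are free over maximal étale subalgebras (helper3)

`exists_basis_of_rank_ge`: semilocal lifting of bases (`E` finite free over local `R` with reduced
special fibre, `A` an `E`-module free of rank `n·rank E` over `R` with all fibre ranks `≥ n`).
`le_finrank_of_azumaya_action`: an Azumaya algebra of rank `n²` acting on a module with nonzero
fibre at `P` forces fibre rank `≥ n`.
`main`: S5711.
-/

set_option autoImplicit false
universe u
open TensorProduct Function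

namespace Groth.Agent.Lib.Helper3.EtaleFree

section lifting

variable (R : Type u) [CommRing R] [IsLocalRing R] (E : Type u) [CommRing E] [Algebra R E]

/-- the projection `E → k ⊗ E`. -/
noncomputable def proj : E →+* (IsLocalRing.ResidueField R) ⊗[R] E :=
  (Algebra.TensorProduct.includeRight : E →ₐ[R] (IsLocalRing.ResidueField R) ⊗[R] E).toRingHom

lemma proj_apply (e : E) : proj R E e = (1 : IsLocalRing.ResidueField R) ⊗ₜ[R] e := rfl

lemma proj_surjective : Function.Surjective (proj R E) := by
  intro z
  obtain ⟨e, rfl⟩ := TensorProduct.mk_surjective R E (IsLocalRing.ResidueField R)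
    Ideal.Quotient.mk_surjective z
  exact ⟨e, rfl⟩

lemma proj_algebraMap_of_mem (t : R) (ht : t ∈ IsLocalRing.maximalIdeal R) :
    proj R E (algebraMap R E t) = 0 := by
  rw [proj_apply, Algebra.algebraMap_eq_smul_one, TensorProduct.tmul_smul,
    TensorProduct.smul_tmul', Algebra.smul_def, mul_one]
  have : algebraMap R (IsLocalRing.ResidueField R) t = 0 := by
    rw [IsLocalRing.ResidueField.algebraMap_eq, IsLocalRing.residue_eq_zero_iff]
    exact ht
  rw [this, TensorProduct.zero_tmul]

variable [Module.Finite R E] [Module.Free R E]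
  (A : Type u) [AddCommGroup A] [Module R A] [Module E A] [IsScalarTower R E A]
  [Module.Finite R A] [Module.Free R A]

theorem exists_basis_of_rank_ge [IsReduced ((IsLocalRing.ResidueField R) ⊗[R] E)] (n : ℕ)
    (hrank : Module.finrank R A = n * Module.finrank R E)
    (hge : ∀ (P : Ideal E), P.IsMaximal → n ≤ Module.finrank (E ⧸ P) ((E ⧸ P) ⊗[E] A)) :
    Nonempty (Module.Basis (Fin n) E A) := by
  classical
  haveI : IsArtinianRing ((IsLocalRing.ResidueField R) ⊗[R] E) :=
    IsArtinianRing.of_finite (IsLocalRing.ResidueField R) _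
  let I : MaximalSpectrum ((IsLocalRing.ResidueField R) ⊗[R] E) → Ideal E :=
    fun i => i.asIdeal.comap (proj R E)
  have hImax : ∀ i, (I i).IsMaximal := fun i =>
    Ideal.comap_isMaximal_of_surjective _ (proj_surjective R E)
  have hIne : Pairwise (IsCoprime on I) := by
    intro i j hij
    haveI := hImax i
    haveI := hImax j
    apply Ideal.isCoprime_of_isMaximal
    intro h
    apply hij
    apply MaximalSpectrum.ext
    exact Ideal.comap_injective_of_surjective _ (proj_surjective R E) h
  -- choose independent families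
  have hv : ∀ i, ∃ v : Fin n → (E ⧸ I i) ⊗[E] A, LinearIndependent (E ⧸ I i) v := fun i =>
    exists_linearIndependent_of_le_finrank (hge (I i) (hImax i))
  choose v hv using hv
  -- CRT lift
  have hb : ∀ j : Fin n, ∃ b : A, ∀ i, (1 : E ⧸ I i) ⊗ₜ[E] b = v i j := by
    intro j
    obtain ⟨b, hb⟩ := Ideal.pi_tensorProductMk_quotient_surjective A I hIne (fun i => v i j)
    exact ⟨b, fun i => congrFun hb i⟩
  choose b hb using hb
  let f : (Fin n → E) →ₗ[E] A := Fintype.linearCombination E b
  have key : ∀ c : Fin n → E, (1 : IsLocalRing.ResidueField R) ⊗ₜ[R] (f c) = 0 →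
      ∀ j, proj R E (c j) = 0 := by
    intro c hc j
    have h1 : f c ∈ (IsLocalRing.maximalIdeal R • ⊤ : Submodule R A) := by
      have h0 : TensorProduct.quotTensorEquivQuotSMul A (IsLocalRing.maximalIdeal R)
          ((Ideal.Quotient.mk _ 1) ⊗ₜ f c) = 0 := by
        have : ((Ideal.Quotient.mk (IsLocalRing.maximalIdeal R) 1) ⊗ₜ[R] f c :
            (R ⧸ IsLocalRing.maximalIdeal R) ⊗[R] A) = 0 := hc
        rw [this, map_zero]
      rw [TensorProduct.quotTensorEquivQuotSMul_mk_tmul, Submodule.Quotient.mk_eq_zero,
        one_smul] at h0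
      exact h0
    have h2 : ∀ i, (1 : E ⧸ I i) ⊗ₜ[E] f c = 0 := by
      intro i
      refine Submodule.smul_induction_on h1 ?_ ?_
      · intro t ht a _
        rw [← algebraMap_smul E t a, TensorProduct.tmul_smul, TensorProduct.smul_tmul',
          Algebra.smul_def, mul_one]
        have : algebraMap R E t ∈ I i := by
          show proj R E (algebraMap R E t) ∈ i.asIdeal
          rw [proj_algebraMap_of_mem R E t ht]
          exact Ideal.zero_mem _
        have h0 : algebraMap E (E ⧸ I i) (algebraMap R E t) = 0 :=
          Ideal.Quotient.eq_zero_iff_mem.mpr this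
        rw [h0, TensorProduct.zero_tmul]
      · intro x y hx hy; rw [TensorProduct.tmul_add, hx, hy, add_zero]
    have h3 : ∀ i, c j ∈ I i := by
      intro i
      have h := h2 i
      simp only [f, Fintype.linearCombination_apply, TensorProduct.tmul_sum] at h
      have e1 : ∀ l, (1 : E ⧸ I i) ⊗ₜ[E] (c l • b l) =
          (Ideal.Quotient.mk (I i) (c l)) • v i l := by
        intro l
        rw [← hb l i, TensorProduct.tmul_smul, TensorProduct.smul_tmul', TensorProduct.smul_tmul',
          Algebra.smul_def, mul_one, smul_eq_mul, mul_one]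
        rfl
      simp only [e1] at h
      have := Fintype.linearIndependent_iff.mp (hv i) (fun l => Ideal.Quotient.mk (I i) (c l)) h j
      exact Ideal.Quotient.eq_zero_iff_mem.mp this
    have h4 : proj R E (c j) ∈ Ideal.jacobson (⊥ : Ideal ((IsLocalRing.ResidueField R) ⊗[R] E)) := by
      rw [Ideal.jacobson, Ideal.mem_sInf]
      rintro J ⟨-, hJ⟩
      exact h3 ⟨J, hJ⟩
    rw [IsArtinianRing.jacobson_eq_radical] at h4
    have h5 : proj R E (c j) ∈ nilradical ((IsLocalRing.ResidueField R) ⊗[R] E) := h4
    rw [nilradical_eq_zero] at h5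
    exact h5
  have hmk : Function.Surjective (TensorProduct.mk R (IsLocalRing.ResidueField R) (Fin n → E) 1) :=
    TensorProduct.mk_surjective R (Fin n → E) (IsLocalRing.ResidueField R)
      Ideal.Quotient.mk_surjective
  have hinj : Function.Injective ((f.restrictScalars R).baseChange (IsLocalRing.ResidueField R)) := by
    rw [injective_iff_map_eq_zero]
    intro z hz
    obtain ⟨c, rfl⟩ := hmk z
    have h1 : (1 : IsLocalRing.ResidueField R) ⊗ₜ[R] f c = 0 := by simpa using hz
    have h2 := key c h1
    apply (TensorProduct.piRight R R (IsLocalRing.ResidueField R) (fun _ : Fin n => E)).injective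
    ext j
    rw [TensorProduct.mk_apply, TensorProduct.piRight_apply, TensorProduct.piRightHom_tmul,
      map_zero]
    exact h2 j
  have hfr : Module.finrank (IsLocalRing.ResidueField R)
      ((IsLocalRing.ResidueField R) ⊗[R] (Fin n → E)) =
      Module.finrank (IsLocalRing.ResidueField R) ((IsLocalRing.ResidueField R) ⊗[R] A) := by
    rw [Module.finrank_baseChange, Module.finrank_baseChange, hrank, Module.finrank_pi_fintype]
    simp
  have hsurjbar : Function.Surjective
      ((f.restrictScalars R).baseChange (IsLocalRing.ResidueField R)) :=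
    (LinearMap.injective_iff_surjective_of_finrank_eq_finrank hfr).mp hinj
  have hsurj : Function.Surjective (f.restrictScalars R) := by
    rw [← LinearMap.range_eq_top, ← IsLocalRing.map_tensorProduct_mk_eq_top, eq_top_iff]
    intro z _
    obtain ⟨w, rfl⟩ := hsurjbar z
    obtain ⟨c, rfl⟩ := hmk w
    exact ⟨f c, ⟨c, rfl⟩, by simp⟩
  have hbij : Function.Bijective (f.restrictScalars R) := by
    apply OrzechProperty.bijective_of_surjective_of_finrank_le _ hsurj
    rw [hrank, Module.finrank_pi_fintype]
    simp
  exact ⟨Module.Basis.ofEquivFun (LinearEquiv.ofBijective f hbij).symm⟩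

end lifting

section rank

variable {E : Type u} [CommRing E] {C : Type u} [Ring C] [Algebra E C] [IsAzumaya E C]
  {A : Type u} [AddCommGroup A] [Module E A] [Module.Finite E A]

lemma nontrivial_quot_tensor (hfaith : ∀ s : E, (∀ a : A, s • a = 0) → s = 0)
    (P : Ideal E) (hP : P ≠ ⊤) : Nontrivial ((E ⧸ P) ⊗[E] A) := by
  by_contra hnt
  rw [not_nontrivial_iff_subsingleton] at hnt
  have h1 : Subsingleton (A ⧸ (P • ⊤ : Submodule E A)) :=
    (TensorProduct.quotTensorEquivQuotSMul A P).symm.toEquiv.subsingleton
  rw [Submodule.Quotient.subsingleton_iff] at h1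
  obtain ⟨s, hs, hs0⟩ := Submodule.exists_sub_one_mem_and_smul_eq_zero_of_fg_of_le_smul P
    (⊤ : Submodule E A) Module.Finite.fg_top (by rw [h1])
  have : s = 0 := hfaith s (fun a => hs0 a trivial)
  rw [this, zero_sub] at hs
  apply hP
  rw [Ideal.eq_top_iff_one]
  simpa using P.neg_mem hs

theorem le_finrank_of_azumaya_action (ρ : C →ₐ[E] Module.End E A) (n : ℕ)
    [Module.Free E C] (hC : Module.finrank E C = n ^ 2)
    (P : Ideal E) [P.IsMaximal] [Nontrivial ((E ⧸ P) ⊗[E] A)] :
    n ≤ Module.finrank (E ⧸ P) ((E ⧸ P) ⊗[E] A) := by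
  letI := Ideal.Quotient.field P
  haveI : Nontrivial E := by
    refine ⟨⟨0, 1, fun h => Ideal.IsMaximal.ne_top ‹P.IsMaximal› ?_⟩⟩
    rw [Ideal.eq_top_iff_one, ← h]
    exact P.zero_mem
  haveI : IsAzumaya (E ⧸ P) ((E ⧸ P) ⊗[E] C) := Az.isAzumaya_baseChange E (E ⧸ P) C
  haveI : IsSimpleRing ((E ⧸ P) ⊗[E] C) :=
    Groth.Agent.S5719.isSimpleRing_of_isAzumaya_field (E ⧸ P) _
  let g : C →ₐ[E] Module.End (E ⧸ P) ((E ⧸ P) ⊗[E] A) :=
    (Module.End.baseChangeHom E (E ⧸ P) A).comp ρ
  let ρK : (E ⧸ P) ⊗[E] C →ₐ[E ⧸ P] Module.End (E ⧸ P) ((E ⧸ P) ⊗[E] A) :=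
    Algebra.TensorProduct.lift (Algebra.ofId (E ⧸ P) _) g (fun x y => Algebra.commutes _ _)
  have hinj : Function.Injective ρK := RingHom.injective ρK.toRingHom
  have h1 := LinearMap.finrank_le_finrank_of_injective (f := ρK.toLinearMap) hinj
  have h2 : Module.finrank (E ⧸ P) (Module.End (E ⧸ P) ((E ⧸ P) ⊗[E] A)) =
      Module.finrank (E ⧸ P) ((E ⧸ P) ⊗[E] A) ^ 2 := by
    rw [sq]
    exact Module.finrank_linearMap (E ⧸ P) (E ⧸ P) _ _
  rw [Module.finrank_baseChange, hC, h2] at h1
  exact (Nat.pow_le_pow_iff_left (by norm_num)).mp h1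

end rank

section main

variable (R : Type u) [CommRing R] [IsLocalRing R] (A : Type u) [Ring A] [Algebra R A]
  (E : Type u) [CommRing E] [Algebra R E] (u : E →ₐ[R] A) [Module E A]
  (hmod : ∀ (e : E) (a : A), e • a = a * u e)

include hmod in
lemma isScalarTower : IsScalarTower R E A :=
  ⟨fun t e a => by rw [hmod, hmod, map_smul, mul_smul_comm]⟩

/-- left multiplication as an `R`-algebra map `A → End_E(A)`. -/
noncomputable def leftMul [IsScalarTower R E A] : A →ₐ[R] Module.End E A where
  toFun a :=
    { toFun := fun y => a * y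
      map_add' := fun x y => mul_add a x y
      map_smul' := fun e y => by
        simp only [RingHom.id_apply]
        rw [hmod, hmod, mul_assoc] }
  map_one' := by ext y; simp
  map_mul' a b := by ext y; simp [mul_assoc]
  map_zero' := by ext y; simp
  map_add' a b := by ext y; simp [add_mul]
  commutes' t := by
    ext y
    simp [Algebra.algebraMap_eq_smul_one]

lemma leftMul_apply [IsScalarTower R E A] (a y : A) : leftMul R A E u hmod a y = a * y := rfl

/-- the action map `E ⊗ A → End_E(A)`. -/
noncomputable def rho [IsScalarTower R E A] : E ⊗[R] A →ₐ[E] Module.End E A :=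
  Algebra.TensorProduct.lift (Algebra.ofId E (Module.End E A)) (leftMul R A E u hmod)
    (fun e a => Algebra.commutes e _)

include hmod in
theorem main [IsAzumaya R A] (r : ℕ) (hA : Module.finrank R A = r ^ 2)
    [Algebra.Etale R E] [Module.Finite R E] [Module.Free R E] (hE : Module.finrank R E = r)
    (hu : Function.Injective (u.toLinearMap.lTensor (IsLocalRing.ResidueField R))) :
    Module.Free E A ∧ Module.finrank E A = r ∧ Nonempty ((E ⊗[R] A) ≃ₐ[E] Module.End E A) := by
  haveI : IsScalarTower R E A := isScalarTower R A E u hmod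
  haveI : Module.Free R A := Module.free_of_flat_of_isLocalRing
  haveI : Module.Finite E A := Module.Finite.of_restrictScalars_finite R E A
  -- `u` is injective
  have huinj : Function.Injective u := by
    obtain ⟨l, hl⟩ :=
      (IsLocalRing.split_injective_iff_lTensor_residueField_injective u.toLinearMap).mpr hu
    intro x y hxy
    have hx : l (u.toLinearMap x) = x := LinearMap.congr_fun hl x
    have hy : l (u.toLinearMap y) = y := LinearMap.congr_fun hl y
    rw [← hx, ← hy]
    exact congrArg l hxy
  have hfaith : ∀ s : E, (∀ a : A, s • a = 0) → s = 0 := by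
    intro s hs
    have := hs 1
    rw [hmod, one_mul] at this
    exact huinj (by rw [this, map_zero])
  haveI : Nontrivial A := (FaithfulSMul.algebraMap_injective R A).nontrivial
  haveI : Nontrivial E := RingHom.domain_nontrivial u.toRingHom
  haveI : IsAzumaya E (E ⊗[R] A) := Az.isAzumaya_baseChange R E A
  have hC : Module.finrank E (E ⊗[R] A) = r ^ 2 := by rw [Module.finrank_baseChange, hA]
  have hge : ∀ (P : Ideal E), P.IsMaximal → r ≤ Module.finrank (E ⧸ P) ((E ⧸ P) ⊗[E] A) := by
    intro P hP
    haveI := nontrivial_quot_tensor hfaith P hP.ne_top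
    exact le_finrank_of_azumaya_action (rho R A E u hmod) r hC P
  haveI : IsReduced ((IsLocalRing.ResidueField R) ⊗[R] E) :=
    Algebra.FormallyUnramified.isReduced_of_field (IsLocalRing.ResidueField R) _
  obtain ⟨bas⟩ := exists_basis_of_rank_ge R E A r (by rw [hA, hE, sq]) hge
  haveI : Module.Free E A := Module.Free.of_basis bas
  have hfr : Module.finrank E A = r := by
    rw [Module.finrank_eq_card_basis bas, Fintype.card_fin]
  refine ⟨inferInstance, hfr, ?_⟩
  have hrpos : 0 < r := by
    have h0 : 0 < Module.finrank R A := (Module.finrank_pos_iff_of_free R A).mpr inferInstance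
    rw [hA] at h0
    exact Nat.pos_of_ne_zero (fun h => by simp [h] at h0)
  have hbij : Function.Bijective (rho R A E u hmod) := by
    apply SplitCrit.bijective_of_rank
    · intro q
      rw [Module.rankAtStalk_eq_finrank_of_free, Module.rankAtStalk_eq_finrank_of_free, hC, hfr]
      rfl
    · intro q
      rw [Module.rankAtStalk_eq_finrank_of_free, hfr]
      exact hrpos
  exact ⟨AlgEquiv.ofBijective _ hbij⟩

end main

end Groth.Agent.Lib.Helper3.EtaleFree
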