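import Mathlib
import Groth.Prelude.Def_CartDual2

set_option autoImplicit false
universe u v w
open scoped TensorProduct
open CartDual

set_option linter.unusedSectionVars false

namespace Groth.Agent.Lib.Helper3.IS1
open TensorProduct Coalgebra

variable {k : Type u} [CommRing k] {A : Type v} [Ring A] [Bialgebra k A]
  {R : Type w} [CommRing R] [Algebra k R]

/-- the pairing `⟨b, x⟩`, `R`-linear in `b`. -/
noncomputable def pairL (x : CartDual.D k A) : R ⊗[k] A →ₗ[R] R :=
  (AlgebraTensorModule.rid k R R).toLinearMap ∘ₗ AlgebraTensorModule.lTensor R R x.ofConv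

@[simp] lemma pairL_tmul (x : CartDual.D k A) (r : R) (a : A) :
    pairL x (r ⊗ₜ[k] a) = x a • r := rfl

lemma pairL_add (x y : CartDual.D k A) (b : R ⊗[k] A) :
    pairL (x + y) b = pairL x b + pairL y b := by
  induction b using TensorProduct.induction_on with
  | zero => simp
  | tmul r a => simp [add_smul, CartDual.coe_apply]
  | add b b' hb hb' => simp only [map_add, hb, hb']; abel

lemma pairL_smul (c : k) (x : CartDual.D k A) (b : R ⊗[k] A) :
    pairL (c • x) b = c • pairL x b := by
  induction b using TensorProduct.induction_on with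
  | zero => simp
  | tmul r a => simp [mul_smul, CartDual.coe_apply]
  | add b b' hb hb' => simp only [map_add, hb, hb', smul_add]

/-- the pairing on `B ⊗_R B`. -/
noncomputable def P2 (x y : CartDual.D k A) : (R ⊗[k] A) ⊗[R] (R ⊗[k] A) →ₗ[R] R :=
  LinearMap.mul' R R ∘ₗ TensorProduct.map (pairL x) (pairL y)

@[simp] lemma P2_tmul (x y : CartDual.D k A) (b b' : R ⊗[k] A) :
    P2 x y (b ⊗ₜ[R] b') = pairL x b * pairL y b' := by
  simp [P2]

/-- C3: pairing with the unit of `D` is the counit. -/
lemma pairL_one (b : R ⊗[k] A) : pairL (1 : CartDual.D k A) b = Coalgebra.counit (R := R) b := by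
  induction b using TensorProduct.induction_on with
  | zero => simp
  | tmul r a =>
    rw [pairL_tmul, TensorProduct.counit_tmul]
    simp
  | add b b' hb hb' => simp only [map_add, hb, hb']

/-- C1: pairing with a product is the pairing of the comultiplication. -/
lemma pairL_mul (x y : CartDual.D k A) (b : R ⊗[k] A) :
    pairL (x * y) b = P2 x y (Coalgebra.comul (R := R) b) := by
  induction b using TensorProduct.induction_on with
  | zero => simp
  | tmul r a =>
    have h1 : r ⊗ₜ[k] a = r • ((1 : R) ⊗ₜ[k] a) := by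
      rw [TensorProduct.smul_tmul', smul_eq_mul, mul_one]
    rw [h1, map_smul, map_smul, map_smul]
    congr 1
    rw [TensorProduct.comul_tmul, CommSemiring.comul_apply, ← (ℛ k a).eq, TensorProduct.tmul_sum, map_sum,
      map_sum, pairL_tmul, (ℛ k a).convMul_apply, Finset.sum_smul]
    refine Finset.sum_congr rfl fun i _ => ?_
    rw [AlgebraTensorModule.tensorTensorTensorComm_tmul, P2_tmul, pairL_tmul, pairL_tmul]
    simp only [mul_smul, Algebra.mul_smul_comm, mul_one, CartDual.coe_apply]
    exact smul_comm _ _ _
  | add b b' hb hb' => simp only [map_add, hb, hb']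

/-- base change of a functional, as an element of the dual of the base-changed coalgebra. -/
noncomputable def bc (x : CartDual.D k A) : CartDual.D R (R ⊗[k] A) := WithConv.toConv (pairL x)

lemma bc_apply (x : CartDual.D k A) (b : R ⊗[k] A) : bc (R := R) x b = pairL x b := rfl

lemma bc_one : bc (R := R) (1 : CartDual.D k A) = 1 := by
  apply WithConv.ext; apply LinearMap.ext; intro b
  change pairL 1 b = (1 : CartDual.D R (R ⊗[k] A)) b
  rw [pairL_one, LinearMap.convOne_apply]
  rfl

lemma bc_mul (x y : CartDual.D k A) : bc (R := R) (x * y) = bc x * bc y := by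
  apply WithConv.ext; apply LinearMap.ext; intro b
  change pairL (x * y) b = ((bc x * bc y : CartDual.D R (R ⊗[k] A))) b
  rw [pairL_mul, LinearMap.convMul_apply]
  rfl

lemma bc_add (x y : CartDual.D k A) : bc (R := R) (x + y) = bc x + bc y := by
  apply WithConv.ext; apply LinearMap.ext; intro b
  exact pairL_add x y b


/-- `bc` as a `k`-linear map. -/
noncomputable def bcLin : CartDual.D k A →ₗ[k] CartDual.D R (R ⊗[k] A) where
  toFun := bc
  map_add' := bc_add
  map_smul' c x := by
    apply WithConv.ext; apply LinearMap.ext; intro b; exact pairL_smul c x b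

instance : IsScalarTower k R (CartDual.D R (R ⊗[k] A)) :=
  ⟨fun c r x => by
    apply WithConv.ext
    exact smul_assoc c r x.ofConv⟩

noncomputable instance instMZC : MulZeroClass (R ⊗[k] CartDual.D k A) := by
  let _ : Semiring (R ⊗[k] CartDual.D k A) := inferInstance
  infer_instance

instance instRDC : RightDistribClass (R ⊗[k] CartDual.D k A) := by
  let _ : Semiring (R ⊗[k] CartDual.D k A) := inferInstance
  infer_instance

instance instLDC : LeftDistribClass (R ⊗[k] CartDual.D k A) := by
  let _ : Semiring (R ⊗[k] CartDual.D k A) := inferInstance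
  infer_instance

/-- the comparison map `R ⊗ D(A) → D(R ⊗ A)`. -/
noncomputable def PhiL : R ⊗[k] CartDual.D k A →ₗ[R] CartDual.D R (R ⊗[k] A) :=
  LinearMap.liftBaseChange R bcLin

@[simp] lemma PhiL_tmul (r : R) (x : CartDual.D k A) :
    PhiL (r ⊗ₜ[k] x) = r • bc (R := R) x := rfl

lemma PhiL_one : PhiL (1 : R ⊗[k] CartDual.D k A) = 1 := by
  rw [Algebra.TensorProduct.one_def, PhiL_tmul, one_smul, bc_one]

lemma PhiL_mul (z w : R ⊗[k] CartDual.D k A) : PhiL (z * w) = PhiL z * PhiL w := by
  induction z using TensorProduct.induction_on with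
  | zero => rw [zero_mul, map_zero, zero_mul]
  | tmul r x =>
    induction w using TensorProduct.induction_on with
    | zero => rw [mul_zero, map_zero, mul_zero]
    | tmul s y =>
      rw [Algebra.TensorProduct.tmul_mul_tmul, PhiL_tmul, PhiL_tmul, PhiL_tmul, bc_mul,
        smul_mul_smul_comm]
    | add w w' hw hw' => rw [mul_add, map_add, map_add, hw, hw', mul_add]
  | add z z' hz hz' => rw [add_mul, map_add, map_add, hz, hz', add_mul]

/-- the comparison map as an algebra hom. -/
noncomputable def PhiA : R ⊗[k] CartDual.D k A →ₐ[R] CartDual.D R (R ⊗[k] A) :=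
  AlgHom.ofLinearMap PhiL PhiL_one PhiL_mul

@[simp] lemma PhiA_tmul (r : R) (x : CartDual.D k A) :
    (PhiA : R ⊗[k] CartDual.D k A →ₐ[R] CartDual.D R (R ⊗[k] A)) (r ⊗ₜ[k] x) = r • bc (R := R) x := rfl


section bij
variable [Module.Finite k A] [Module.Projective k A]

/-- the comparison as a composite of Mathlib equivalences. -/
noncomputable def Xi : R ⊗[k] CartDual.D k A ≃ₗ[k] (R ⊗[k] A →ₗ[R] R) :=
  (TensorProduct.congr (LinearEquiv.refl k R) (toDual k A)) ≪≫ₗ
    TensorProduct.comm k R (Module.Dual k A) ≪≫ₗ dualTensorHomEquiv k A R ≪≫ₗ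
    (LinearMap.liftBaseChangeEquiv (R := k) (M := A) (N := R) R).restrictScalars k

lemma PhiL_eq_Xi (z : R ⊗[k] CartDual.D k A) : (PhiL z).ofConv = Xi z := by
  induction z using TensorProduct.induction_on with
  | zero => simp
  | tmul r x =>
    apply LinearMap.ext; intro b
    induction b using TensorProduct.induction_on with
    | zero => simp
    | tmul s a =>
      simp [Xi, PhiL_tmul, bc, CartDual.coe_apply]
      rw [mul_comm]
    | add b b' hb hb' => rw [map_add, map_add, hb, hb']
  | add z z' hz hz' => rw [map_add, map_add, WithConv.ofConv_add, hz, hz']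

lemma PhiL_bijective : Function.Bijective (PhiL : R ⊗[k] CartDual.D k A →ₗ[R] CartDual.D R (R ⊗[k] A)) := by
  have h : (PhiL : R ⊗[k] CartDual.D k A → CartDual.D R (R ⊗[k] A)) = WithConv.toConv ∘ Xi := by
    funext z
    apply WithConv.ext
    exact PhiL_eq_Xi z
  rw [h]
  exact WithConv.toConv_bijective.comp Xi.bijective

/-- base change of the Cartier dual algebra. -/
noncomputable def PhiE : R ⊗[k] CartDual.D k A ≃ₐ[R] CartDual.D R (R ⊗[k] A) :=
  AlgEquiv.ofBijective PhiA PhiL_bijective

end bij

end Groth.Agent.Lib.Helper3.IS1
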