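import Mathlib
import Groth.Prelude.Def_CartDual2
import Groth.Prelude.Def_SGA3b

set_option autoImplicit false
universe u v w
open scoped TensorProduct
open CartDual

set_option linter.unusedSectionVars false

namespace Groth.Agent.Lib.Helper3.IS2
open TensorProduct Coalgebra

section general
variable {S : Type u} [CommRing S] {B : Type v} [CommRing B] [HopfAlgebra S B]
  [Module.Finite S B] [Module.Projective S B]

lemma eq_zero_of_forall (b : B) (h : ∀ x : CartDual.D S B, x b = 0) : b = 0 := by
  rw [← Module.forall_dual_apply_eq_zero_iff S b]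
  intro φ
  exact h (WithConv.toConv φ)

lemma eq_of_forall (b b' : B) (h : ∀ x : CartDual.D S B, x b = x b') : b = b' := by
  rw [← sub_eq_zero]
  apply eq_zero_of_forall (S := S)
  intro x
  have : x (b - b') = x.ofConv (b - b') := rfl
  rw [this, map_sub, sub_eq_zero]
  exact h x

lemma eq_zero_of_forall₂ (t : B ⊗[S] B)
    (h : ∀ x y : CartDual.D S B, CartDual.ev₂ S B (x ⊗ₜ y) t = 0) : t = 0 := by
  rw [← Module.forall_dual_apply_eq_zero_iff S t]
  intro φ
  obtain ⟨z, rfl⟩ := (CartDual.ev₂ S B).surjective φ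
  induction z using TensorProduct.induction_on with
  | zero => simp
  | tmul x y => exact h x y
  | add z z' hz hz' => rw [map_add, LinearMap.add_apply, hz, hz', add_zero]

lemma conv_apply (x y : CartDual.D S B) (b : B) :
    (x * y) b = CartDual.ev₂ S B (x ⊗ₜ y) (Coalgebra.comul (R := S) b) := by
  rw [LinearMap.convMul_apply, CartDual.ev₂_tmul_eq']
  rfl

lemma one_apply' (b : B) : (1 : CartDual.D S B) b = Coalgebra.counit (R := S) b := by
  rw [LinearMap.convOne_apply]
  rfl

lemma isGroupLike_iff (g : B) :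
    IsGroupLikeElem S g ↔ (1 : CartDual.D S B) g = 1 ∧ ∀ x y : CartDual.D S B, (x * y) g = x g * y g := by
  constructor
  · intro hg
    refine ⟨by rw [one_apply', hg.counit_eq_one], fun x y => ?_⟩
    rw [conv_apply, hg.comul_eq_tmul_self, CartDual.ev₂_tmul]
  · rintro ⟨h1, h2⟩
    refine ⟨by rw [← one_apply', h1], ?_⟩
    rw [← sub_eq_zero]
    apply eq_zero_of_forall₂ (S := S)
    intro x y
    rw [map_sub, ← conv_apply, CartDual.ev₂_tmul, h2, sub_self]

/-- the element of `B` representing a linear form on the dual. -/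
noncomputable def repr (χ : CartDual.D S B →ₗ[S] S) : B :=
  (Module.evalEquiv S B).symm (χ ∘ₗ (CartDual.toDual S B).symm.toLinearMap)

lemma repr_spec (χ : CartDual.D S B →ₗ[S] S) (x : CartDual.D S B) : x (repr χ) = χ x := by
  have := Module.apply_evalEquiv_symm_apply S B x.ofConv (χ ∘ₗ (CartDual.toDual S B).symm.toLinearMap)
  exact this

end general


section pi
variable {S : Type u} [CommRing S] [Nontrivial S]

lemma algHom_pi_eq (hS : ∀ e : S, IsIdempotentElem e → e = 0 ∨ e = 1) {n : ℕ}
    (f : (Fin n → S) →ₐ[S] S) : ∃ i : Fin n, ∀ c : Fin n → S, f c = c i := by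
  classical
  have hid : ∀ i, IsIdempotentElem (f (Pi.single i 1)) := fun i => by
    unfold IsIdempotentElem
    rw [← map_mul, ← Pi.single_mul, mul_one]
  have hsum : ∑ i, f (Pi.single i 1) = 1 := by
    rw [← map_sum, Finset.univ_sum_single]
    exact map_one f
  obtain ⟨i, hi⟩ : ∃ i, f (Pi.single i 1) = 1 := by
    by_contra hne
    push Not at hne
    have : ∀ i, f (Pi.single i 1) = 0 := fun i => (hS _ (hid i)).resolve_right (hne i)
    rw [Finset.sum_congr rfl (fun i _ => this i), Finset.sum_const_zero] at hsum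
    exact zero_ne_one hsum
  refine ⟨i, fun c => ?_⟩
  have hj : ∀ j, j ≠ i → f (Pi.single j 1) = 0 := fun j hji => by
    have h1 : f (Pi.single j 1) = f (Pi.single j 1) * f (Pi.single i 1) := by rw [hi, mul_one]
    rw [h1, ← map_mul]
    have h2 : (Pi.single j (1:S) * Pi.single i 1 : Fin n → S) = 0 := by
      ext k
      by_cases hk : k = j
      · subst hk; simp [Pi.single_apply, hji]
      · simp [Pi.single_apply, hk]
    rw [h2, map_zero]
  have hc : c = ∑ j, c j • (Pi.single j 1 : Fin n → S) := by
    ext k; simp [Finset.sum_apply, Pi.single_apply]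
  conv_lhs => rw [hc]
  rw [map_sum]
  simp only [map_smul, smul_eq_mul]
  rw [Finset.sum_eq_single i (fun j _ hji => by rw [hj j hji, mul_zero])
    (fun h => absurd (Finset.mem_univ i) h), hi, mul_one]

end pi

section main
variable {S : Type u} [CommRing S] [Nontrivial S] {B : Type u} [CommRing B] [HopfAlgebra S B]
  [Coalgebra.IsCocomm S B] [Module.Finite S B] [Module.Projective S B]

theorem isDiag_of_split (hS : ∀ e : S, IsIdempotentElem e → e = 0 ∨ e = 1) {n : ℕ}
    (Ψ : CartDual.D S B ≃ₐ[S] (Fin n → S)) : SGA3b.IsDiag S B := by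
  classical
  let χ : Fin n → (CartDual.D S B →ₗ[S] S) := fun i => (LinearMap.proj i) ∘ₗ Ψ.toLinearMap
  let g : Fin n → B := fun i => repr (χ i)
  have hg : ∀ i (x : CartDual.D S B), x (g i) = Ψ x i := fun i x => repr_spec (χ i) x
  have hgl : ∀ i, IsGroupLikeElem S (g i) := fun i => by
    rw [isGroupLike_iff]
    refine ⟨by rw [hg, map_one]; rfl, fun x y => by rw [hg, hg, hg, map_mul]; rfl⟩
  let G : Fin n → GroupLike S B := fun i => ⟨g i, hgl i⟩
  have hall : ∀ g' : GroupLike S B, ∃ i, g' = G i := by
    intro g'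
    have hg' := (isGroupLike_iff (S := S) g'.val).mp g'.isGroupLikeElem_val
    let ev' : CartDual.D S B →ₐ[S] S := AlgHom.ofLinearMap
      ((LinearMap.applyₗ g'.val) ∘ₗ (CartDual.toDual S B).toLinearMap) hg'.1 hg'.2
    obtain ⟨i, hi⟩ := algHom_pi_eq hS (ev'.comp Ψ.symm.toAlgHom)
    refine ⟨i, ?_⟩
    apply GroupLike.val_injective
    apply eq_of_forall (S := S)
    intro x
    rw [show (G i).val = g i from rfl, hg]
    have := hi (Ψ x)
    rw [AlgHom.comp_apply] at this
    have h3 : (Ψ.symm.toAlgHom (Ψ x)) = x := Ψ.symm_apply_apply x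
    rw [h3] at this
    exact this
  let d : Fin n → CartDual.D S B := fun j => Ψ.symm (Pi.single j 1)
  have hd : ∀ i j, (d j) (g i) = if i = j then 1 else 0 := fun i j => by
    rw [hg]; simp [d, Pi.single_apply]
  have hx : ∀ x : CartDual.D S B, x = ∑ j, (Ψ x j) • d j := fun x => by
    apply Ψ.injective
    rw [map_sum]
    simp only [map_smul, d, AlgEquiv.apply_symm_apply]
    ext k; simp [Finset.sum_apply, Pi.single_apply]
  let φ : MonoidAlgebra S (GroupLike S B) →ₐc[S] B := MonoidAlgebra.liftGroupLikeBialgHom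
  let ρ : B →ₗ[S] MonoidAlgebra S (GroupLike S B) :=
    ∑ j, (MonoidAlgebra.lsingle (G j)) ∘ₗ (d j).ofConv
  have h1 : ∀ b, φ (ρ b) = b := by
    intro b
    have e1 : φ (ρ b) = ∑ j, ((d j) b) • g j := by
      simp only [ρ, LinearMap.sum_apply, LinearMap.comp_apply, MonoidAlgebra.lsingle_apply, map_sum]
      refine Finset.sum_congr rfl fun j _ => ?_
      simp [φ, G]
    rw [e1]
    apply eq_of_forall (S := S)
    intro x
    have e2 : x (∑ j, ((d j) b) • g j) = ∑ j, ((d j) b) * Ψ x j := by
      change x.ofConv _ = _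
      rw [map_sum]; refine Finset.sum_congr rfl fun j _ => ?_
      rw [map_smul, smul_eq_mul]; congr 1; exact hg j x
    rw [e2]
    conv_rhs => rw [hx x]
    change _ = (∑ j, (Ψ x j) • d j).ofConv b
    rw [WithConv.ofConv_sum, LinearMap.sum_apply]
    refine Finset.sum_congr rfl fun j _ => ?_
    rw [WithConv.ofConv_smul, LinearMap.smul_apply, smul_eq_mul, mul_comm]
  have h2 : ∀ z, ρ (φ z) = z := by
    have e3 : ρ ∘ₗ (φ : MonoidAlgebra S (GroupLike S B) →ₗ[S] B) = LinearMap.id := by
      apply MonoidAlgebra.lhom_ext'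
      intro g'
      apply LinearMap.ext; intro r
      obtain ⟨i, rfl⟩ := hall g'
      simp only [LinearMap.comp_apply, MonoidAlgebra.lsingle_apply, LinearMap.id_apply]
      have e4 : (φ : MonoidAlgebra S (GroupLike S B) →ₗ[S] B) (MonoidAlgebra.single (G i) r) = r • g i := by
        simp [φ, G]
      rw [e4]
      simp only [ρ, LinearMap.sum_apply, LinearMap.comp_apply, MonoidAlgebra.lsingle_apply, map_smul]
      have e5 : ∀ j, (d j).ofConv (g i) = if i = j then 1 else 0 := fun j => hd i j
      simp only [e5]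
      rw [Finset.sum_eq_single i]
      · simp
      · intro j _ hji
        simp [Ne.symm hji]
      · intro h; exact absurd (Finset.mem_univ i) h
    intro z
    exact LinearMap.congr_fun e3 z
  exact ⟨GroupLike S B, inferInstance, ⟨(BialgEquiv.ofBijective φ
    ⟨Function.LeftInverse.injective h2, Function.RightInverse.surjective h1⟩).symm⟩⟩

end main

end Groth.Agent.Lib.Helper3.IS2
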