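import Mathlib

set_option autoImplicit false
universe u v w
open scoped TensorProduct

namespace Groth.Agent.Lib.Helper3.IS3

lemma isOpen_connectedComponent_of_noetherian {X : Type*} [TopologicalSpace X]
    [TopologicalSpace.NoetherianSpace X] (x : X) : IsOpen (connectedComponent x) := by
  rw [← isClosed_compl_iff]
  have hfin := TopologicalSpace.NoetherianSpace.finite_irreducibleComponents (α := X)
  have : (connectedComponent x)ᶜ =
      ⋃₀ {Z ∈ irreducibleComponents X | ¬ Z ⊆ connectedComponent x} := by
    ext y
    simp only [Set.mem_compl_iff, Set.mem_sUnion, Set.mem_setOf_eq]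
    constructor
    · intro hy
      exact ⟨irreducibleComponent y, ⟨irreducibleComponent_mem_irreducibleComponents y,
        fun h => hy (h mem_irreducibleComponent)⟩, mem_irreducibleComponent⟩
    · rintro ⟨Z, ⟨hZ, hnot⟩, hyZ⟩ hy
      apply hnot
      have hZc : IsPreconnected Z := hZ.1.isPreirreducible.isPreconnected
      have := hZc.subset_connectedComponent hyZ
      rwa [← connectedComponent_eq hy] at this
  rw [this, Set.sUnion_eq_biUnion]
  apply Set.Finite.isClosed_biUnion (hfin.subset (fun Z hZ => hZ.1))
  intro Z hZ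
  exact isClosed_of_mem_irreducibleComponents Z hZ.1


lemma idem_trivial_of_connected {S : Type*} [CommRing S] [ConnectedSpace (PrimeSpectrum S)]
    (e : S) (he : IsIdempotentElem e) : e = 0 ∨ e = 1 := by
  have hcl : IsClopen (PrimeSpectrum.basicOpen e : Set (PrimeSpectrum S)) :=
    PrimeSpectrum.isClopen_iff.mpr ⟨e, he, rfl⟩
  rcases isClopen_iff.mp hcl with h | h
  · left
    apply PrimeSpectrum.basicOpen_injOn_isIdempotentElem he IsIdempotentElem.zero
    apply TopologicalSpace.Opens.ext
    rw [h, PrimeSpectrum.basicOpen_zero]; rfl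
  · right
    apply PrimeSpectrum.basicOpen_injOn_isIdempotentElem he IsIdempotentElem.one
    apply TopologicalSpace.Opens.ext
    rw [h, PrimeSpectrum.basicOpen_one]; rfl

theorem exists_connected_quotient (T : Type u) [CommRing T] [IsNoetherianRing T] [Nontrivial T] :
    ∃ e : T, IsIdempotentElem e ∧ Nontrivial (T ⧸ Ideal.span {e}) ∧
      ConnectedSpace (PrimeSpectrum (T ⧸ Ideal.span {e})) := by
  obtain ⟨x⟩ : Nonempty (PrimeSpectrum T) := inferInstance
  have hcl : IsClopen (connectedComponent x) :=
    ⟨isClosed_connectedComponent, isOpen_connectedComponent_of_noetherian x⟩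
  obtain ⟨e, he, hs⟩ := PrimeSpectrum.isClopen_iff_zeroLocus.mp hcl
  have hnt : Nontrivial (T ⧸ Ideal.span {e}) := by
    rw [Ideal.Quotient.nontrivial_iff]
    intro htop
    have hx : x ∈ PrimeSpectrum.zeroLocus {e} := hs ▸ mem_connectedComponent
    rw [PrimeSpectrum.mem_zeroLocus, Set.singleton_subset_iff] at hx
    have : Ideal.span {e} ≤ x.asIdeal := (Ideal.span_singleton_le_iff_mem _).mpr hx
    exact x.isPrime.ne_top (top_le_iff.mp (htop ▸ this))
  refine ⟨e, he, hnt, ?_⟩
  have hemb := PrimeSpectrum.isClosedEmbedding_comap_of_surjective (T ⧸ Ideal.span {e})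
    (Ideal.Quotient.mk (Ideal.span {e})) Ideal.Quotient.mk_surjective
  have hrange : Set.range (PrimeSpectrum.comap (Ideal.Quotient.mk (Ideal.span {e}))) =
      connectedComponent x := by
    rw [range_comap_of_surjective _ _ Ideal.Quotient.mk_surjective, Ideal.mk_ker,
      PrimeSpectrum.zeroLocus_span, hs]
  rw [connectedSpace_iff_univ]
  have hc : IsConnected (Set.range (PrimeSpectrum.comap (Ideal.Quotient.mk (Ideal.span {e})))) :=
    hrange ▸ isConnected_connectedComponent
  rw [← Set.image_univ] at hc
  exact ⟨Set.univ_nonempty, (hemb.toIsInducing.isPreconnected_image).mp hc.isPreconnected⟩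


theorem faithfullyFlat_of_connected (R : Type u) [CommRing R] [IsNoetherianRing R]
    [ConnectedSpace (PrimeSpectrum R)] (T : Type v) [CommRing T] [Algebra R T] [Module.Finite R T]
    [Module.Flat R T] [Nontrivial T] : Module.FaithfullyFlat R T := by
  have : Module.FinitePresentation R T := Module.finitePresentation_of_finite R T
  apply Module.FaithfullyFlat.of_comap_surjective
  rw [← PrimeSpectrum.rankAtStalk_pos_iff_comap_surjective]
  intro p
  by_contra hp
  have hp0 : Module.rankAtStalk (R := R) T p = 0 := by omega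
  have hlc := Module.isLocallyConstant_rankAtStalk (R := R) (M := T)
  have hall : Module.rankAtStalk (R := R) T = 0 := by
    funext q
    rw [hlc.apply_eq_of_preconnectedSpace q p, hp0]; rfl
  rw [Module.rankAtStalk_eq_zero_iff_subsingleton] at hall
  exact not_subsingleton T hall

theorem exists_connected_cover (R : Type u) [CommRing R] [IsNoetherianRing R]
    [ConnectedSpace (PrimeSpectrum R)] (T : Type u) [CommRing T] [Algebra R T] [Module.Finite R T]
    [Algebra.Etale R T] [Nontrivial T] :
    ∃ (T₁ : Type u) (_ : CommRing T₁) (_ : Algebra R T₁) (_ : Algebra T T₁)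
      (_ : IsScalarTower R T T₁), Module.Finite R T₁ ∧ Algebra.Etale R T₁ ∧
      Module.FaithfullyFlat R T₁ ∧ Nontrivial T₁ ∧ ConnectedSpace (PrimeSpectrum T₁) := by
  have : IsNoetherianRing T := IsNoetherianRing.of_finite R T
  obtain ⟨e, he, hnt, hconn⟩ := exists_connected_quotient T
  have hloc : IsLocalization.Away (1 - e) (T ⧸ Ideal.span {e}) := by
    apply IsLocalization.away_of_isIdempotentElem he.one_sub
    · rw [sub_sub_cancel]; exact Ideal.mk_ker
    · exact Ideal.Quotient.mk_surjective
  have h1 : Algebra.Etale T (T ⧸ Ideal.span {e}) := Algebra.Etale.of_isLocalizationAway (1 - e)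
  have h2 : Algebra.Etale R (T ⧸ Ideal.span {e}) := Algebra.Etale.comp R T _
  have h3 : Module.Finite R (T ⧸ Ideal.span {e}) := Module.Finite.trans T _
  have h4 : Module.FaithfullyFlat R (T ⧸ Ideal.span {e}) := faithfullyFlat_of_connected R _
  exact ⟨T ⧸ Ideal.span {e}, inferInstance, inferInstance, inferInstance, inferInstance,
    h3, h2, h4, hnt, hconn⟩

end Groth.Agent.Lib.Helper3.IS3
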