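import Mathlib
import Groth.Agent.Lib.Helper3.IS1
import Groth.Agent.Lib.Helper3.IS2
import Groth.Agent.Lib.Helper3.IS3
import Groth.Agent.S16070

set_option autoImplicit false
universe u v w
open scoped TensorProduct
open CartDual

namespace Groth.Agent.Lib.Helper3.IS4
open TensorProduct Coalgebra

section transpose
variable {R : Type u} [CommRing R] {A : Type v} [Ring A] [Bialgebra R A] {B : Type w} [Ring B]
  [Bialgebra R B] [Module.Finite R A] [Module.Projective R A] [Module.Finite R B]
  [Module.Projective R B]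

/-- the transpose of a bialgebra isomorphism, as an algebra isomorphism of the duals. -/
noncomputable def transposeEquiv (e : A ≃ₐc[R] B) : CartDual.D R B ≃ₐ[R] CartDual.D R A :=
  AlgEquiv.ofBijective ((CartDual.transpose R (e : A →ₐc[R] B) : CartDual.D R B →ₐc[R] CartDual.D R A) :
    CartDual.D R B →ₐ[R] CartDual.D R A) (by
    constructor
    · intro x y hxy
      apply WithConv.ext; apply LinearMap.ext; intro b
      have := congrArg (fun z : CartDual.D R A => z (e.symm b)) hxy
      simpa using this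
    · intro z
      refine ⟨CartDual.transpose R (e.symm : B →ₐc[R] A) z, ?_⟩
      apply WithConv.ext; apply LinearMap.ext; intro a
      change (CartDual.transpose R (e.symm : B →ₐc[R] A) z) (e a) = z a
      rw [CartDual.transpose_apply]
      simp)

end transpose


section split
variable (R : Type u) [CommRing R] [IsNoetherianRing R] [ConnectedSpace (PrimeSpectrum R)]
  (E : Type u) [CommRing E] [Algebra R E] [Module.Finite R E] [Algebra.Etale R E]

theorem exists_split_connected :
    ∃ (T₁ : Type u) (_ : CommRing T₁) (_ : Algebra R T₁), Module.Finite R T₁ ∧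
      Algebra.Etale R T₁ ∧ Module.FaithfullyFlat R T₁ ∧ Nontrivial T₁ ∧
      ConnectedSpace (PrimeSpectrum T₁) ∧ ∃ m : ℕ, Nonempty (T₁ ⊗[R] E ≃ₐ[T₁] (Fin m → T₁)) := by
  classical
  obtain ⟨p⟩ : Nonempty (PrimeSpectrum R) := inferInstance
  have hR : Nontrivial R := ⟨⟨0, 1, fun h01 => p.isPrime.ne_top ((Ideal.eq_top_iff_one _).mpr
    (h01 ▸ p.asIdeal.zero_mem))⟩⟩
  have hfp : Module.FinitePresentation R E := Module.finitePresentation_of_finite R _
  have hlc := Module.isLocallyConstant_rankAtStalk (R := R) (M := E)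
  have hn : Module.rankAtStalk (R := R) E = (Module.rankAtStalk (R := R) E p : ℕ) := by
    funext q
    rw [hlc.apply_eq_of_preconnectedSpace q p]
    rfl
  obtain ⟨T, _, _, hff, hfin, het, hsplit⟩ :=
    Algebra.IsFiniteSplit.exists_tensorProduct_of_etale hn
  have hT : Nontrivial T := (FaithfulSMul.algebraMap_injective R T).nontrivial
  obtain ⟨T₁, _, _, _, _, hfin1, het1, hff1, hnt1, hconn1⟩ := IS3.exists_connected_cover R T
  have hs1 : Algebra.IsFiniteSplit T₁ (T₁ ⊗[T] (T ⊗[R] E)) := inferInstance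
  have hs2 : Algebra.IsFiniteSplit T₁ (T₁ ⊗[R] E) :=
    .of_algEquiv (Algebra.TensorProduct.cancelBaseChange R T T₁ T₁ E)
  obtain ⟨m, ⟨Ψ⟩⟩ := Algebra.IsFiniteSplit.nonempty_algEquiv_fun T₁ (T₁ ⊗[R] E)
  exact ⟨T₁, inferInstance, inferInstance, hfin1, het1, hff1, hnt1, hconn1, m, ⟨Ψ⟩⟩

end split

section main
variable (R : Type u) [CommRing R] [IsNoetherianRing R] [ConnectedSpace (PrimeSpectrum R)]
  (A : Type u) [CommRing A] [HopfAlgebra R A] [Coalgebra.IsCocomm R A]
  [Module.Finite R A] [Module.Projective R A]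

theorem backward (h : SGA3b.IsIsotrivial R A) : Algebra.Etale R (CartDual.D R A) := by
  classical
  obtain ⟨R', _, _, het, hfin, hff, M, _, ⟨e⟩⟩ := h
  obtain ⟨p⟩ : Nonempty (PrimeSpectrum R) := inferInstance
  have hR : Nontrivial R := ⟨⟨0, 1, fun h01 => p.isPrime.ne_top ((Ideal.eq_top_iff_one _).mpr
    (h01 ▸ p.asIdeal.zero_mem))⟩⟩
  have hR' : Nontrivial R' := (FaithfulSMul.algebraMap_injective R R').nontrivial
  have hfinMA : Module.Finite R' (MonoidAlgebra R' M) := Module.Finite.equiv e.toLinearEquiv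
  have hfinM : Finite M := Module.Finite.finite_basis (MonoidAlgebra.basis M R')
  have := Fintype.ofFinite M
  have hfree : Module.Free R' (MonoidAlgebra R' M) := Module.Free.of_basis (MonoidAlgebra.basis M R')
  obtain ⟨e2, -⟩ := Groth.Agent.S16070.result R' M
  have het2 : Algebra.Etale R' (ConstGrp.F R' M) := by
    change Algebra.Etale R' (M → R')
    infer_instance
  have het3 : Algebra.Etale R' (CartDual.D R' (MonoidAlgebra R' M)) :=
    Algebra.Etale.of_equiv (e2 : CartDual.D R' (MonoidAlgebra R' M) ≃ₐ[R'] ConstGrp.F R' M).symm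
  have het4 : Algebra.Etale R' (CartDual.D R' (R' ⊗[R] A)) :=
    Algebra.Etale.of_equiv (transposeEquiv e)
  have het5 : Algebra.Etale R' (R' ⊗[R] CartDual.D R A) :=
    Algebra.Etale.of_equiv (IS1.PhiE (k := R) (A := A) (R := R')).symm
  exact Algebra.Etale.of_etale_tensorProduct_of_faithfullyFlat R'

theorem forward (h : Algebra.Etale R (CartDual.D R A)) : SGA3b.IsIsotrivial R A := by
  classical
  obtain ⟨T₁, _, _, hfin1, het1, hff1, hnt1, hconn1, m, ⟨Ψ₀⟩⟩ :=
    exists_split_connected R (CartDual.D R A)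
  have Φ : T₁ ⊗[R] CartDual.D R A ≃ₐ[T₁] CartDual.D T₁ (T₁ ⊗[R] A) :=
    IS1.PhiE (k := R) (A := A) (R := T₁)
  exact ⟨T₁, inferInstance, inferInstance, het1, hfin1, hff1,
    IS2.isDiag_of_split (fun e he => IS3.idem_trivial_of_connected e he) (Φ.symm.trans Ψ₀)⟩

end main

end Groth.Agent.Lib.Helper3.IS4
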