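import Mathlib
import Groth.Agent.Lib.Helper3.IS1
import Groth.Agent.Lib.Helper3.IS4

set_option autoImplicit false
universe u v w
open scoped TensorProduct
open CartDual

set_option linter.unusedSectionVars false

namespace Groth.Agent.Lib.Helper3.IS11
open TensorProduct Coalgebra

section PB
variable {k : Type u} [CommRing k] {A : Type v} [Ring A] [Bialgebra k A]
  {R : Type w} [CommRing R] [Algebra k R] [Module.Finite k A] [Module.Projective k A]

lemma pairL_mul_arg (x : CartDual.D k A) (b b' : R ⊗[k] A) :
    IS1.pairL x (b * b') = ∑ i ∈ (ℛ k x).index,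
      IS1.pairL ((ℛ k x).left i) b * IS1.pairL ((ℛ k x).right i) b' := by
  induction b using TensorProduct.induction_on with
  | zero => simp
  | add b₁ b₂ h₁ h₂ =>
    rw [add_mul, map_add, h₁, h₂, ← Finset.sum_add_distrib]
    refine Finset.sum_congr rfl fun i _ => ?_
    rw [map_add, add_mul]
  | tmul r a =>
    induction b' using TensorProduct.induction_on with
    | zero => simp
    | add b₁ b₂ h₁ h₂ =>
      rw [mul_add, map_add, h₁, h₂, ← Finset.sum_add_distrib]
      refine Finset.sum_congr rfl fun i _ => ?_
      rw [map_add, mul_add]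
    | tmul r' a' =>
      rw [Algebra.TensorProduct.tmul_mul_tmul, IS1.pairL_tmul]
      simp only [IS1.pairL_tmul]
      have h : x (a * a') = ∑ i ∈ (ℛ k x).index, ((ℛ k x).left i) a * ((ℛ k x).right i) a' := by
        rw [← CartDual.ev₂_coalgebra_comul_tmul, ← (ℛ k x).eq, map_sum, LinearMap.sum_apply]
        simp [CartDual.ev₂_tmul]
      rw [h, Finset.sum_smul]
      refine Finset.sum_congr rfl fun i _ => ?_
      rw [smul_mul_smul_comm]

lemma counit_PhiA (z : R ⊗[k] CartDual.D k A) :
    Coalgebra.counit (R := R) (IS1.PhiA (k := k) (A := A) (R := R) z) = Coalgebra.counit (R := R) z := by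
  induction z using TensorProduct.induction_on with
  | zero => simp
  | tmul r x =>
    rw [IS1.PhiA_tmul, map_smul, CartDual.coalgebra_counit_apply, TensorProduct.counit_tmul,
      IS1.bc_apply, Algebra.TensorProduct.one_def, IS1.pairL_tmul]
    simp [Algebra.smul_def, mul_comm]
  | add z z' hz hz' => simp only [map_add, hz, hz']

lemma comul_PhiA (z : R ⊗[k] CartDual.D k A) :
    Algebra.TensorProduct.map (IS1.PhiA (k := k) (A := A) (R := R)) IS1.PhiA
      (Coalgebra.comul (R := R) z) = Coalgebra.comul (R := R) (IS1.PhiA (k := k) (A := A) (R := R) z) := by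
  induction z using TensorProduct.induction_on with
  | zero => simp
  | tmul r x =>
    have h1 : r ⊗ₜ[k] x = r • ((1 : R) ⊗ₜ[k] x) := by
      rw [TensorProduct.smul_tmul', smul_eq_mul, mul_one]
    rw [h1, map_smul, map_smul, map_smul, map_smul]
    congr 1
    rw [TensorProduct.comul_tmul, CommSemiring.comul_apply, ← (ℛ k x).eq, TensorProduct.tmul_sum, map_sum,
      map_sum]
    simp only [AlgebraTensorModule.tensorTensorTensorComm_tmul, Algebra.TensorProduct.map_tmul,
      IS1.PhiA_tmul, one_smul]
    apply (CartDual.ev₂ R (R ⊗[k] A)).injective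
    apply TensorProduct.ext'
    intro b b'
    rw [map_sum, LinearMap.sum_apply]
    simp only [CartDual.ev₂_tmul, CartDual.ev₂_coalgebra_comul_tmul, IS1.bc_apply]
    exact (pairL_mul_arg x b b').symm
  | add z z' hz hz' => simp only [map_add, hz, hz']

/-- base change of the Cartier dual, as a bialgebra isomorphism. -/
noncomputable def PhiEc : R ⊗[k] CartDual.D k A ≃ₐc[R] CartDual.D R (R ⊗[k] A) :=
  BialgEquiv.ofAlgEquiv (R := R) (A := R ⊗[k] CartDual.D k A) (B := CartDual.D R (R ⊗[k] A))
    (IS1.PhiE (k := k) (A := A) (R := R))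
    (AlgHom.ext (fun z => counit_PhiA z))
    (AlgHom.ext (fun z => comul_PhiA z))

@[simp] lemma PhiEc_tmul (r : R) (x : CartDual.D k A) :
    (PhiEc : R ⊗[k] CartDual.D k A ≃ₐc[R] CartDual.D R (R ⊗[k] A)) (r ⊗ₜ[k] x) =
      r • IS1.bc (R := R) x := rfl

end PB

section EV
variable (R : Type u) [CommRing R] (A : Type v) [Ring A] [Bialgebra R A]
  [Module.Finite R A] [Module.Projective R A]

lemma eval_bijective : Function.Bijective (CartDual.eval R A) := by
  have h1 : Function.Bijective (Module.Dual.eval R A) := Module.bijective_dual_eval R A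
  have h : (CartDual.eval R A : A → CartDual.D R (CartDual.D R A)) =
      (CartDual.toDual R (CartDual.D R A)).symm ∘ ((CartDual.toDual R A).dualMap) ∘
        (Module.Dual.eval R A) := rfl
  rw [h]
  exact (LinearEquiv.bijective _).comp ((LinearEquiv.bijective _).comp h1)

/-- the double dual, as a bialgebra isomorphism. -/
noncomputable def evalEquiv : A ≃ₐc[R] CartDual.D R (CartDual.D R A) :=
  BialgEquiv.ofBijective (R := R) (A := A) (B := CartDual.D R (CartDual.D R A))
    (CartDual.eval R A) (eval_bijective R A)

@[simp] lemma evalEquiv_apply (a : A) (x : CartDual.D R A) : evalEquiv R A a x = x a := rfl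

end EV

section TR
variable {R : Type u} [CommRing R] {A : Type v} [Ring A] [Bialgebra R A]
  [Module.Finite R A] [Module.Projective R A] {B : Type w} [Ring B] [Bialgebra R B]
  [Module.Finite R B] [Module.Projective R B]

/-- transpose of a bialgebra isomorphism, as a bialgebra isomorphism. -/
noncomputable def transposeEquivC (e : A ≃ₐc[R] B) : CartDual.D R B ≃ₐc[R] CartDual.D R A :=
  BialgEquiv.ofBijective (R := R) (A := CartDual.D R B) (B := CartDual.D R A)
    (CartDual.transpose R (e : A →ₐc[R] B)) (IS4.transposeEquiv e).bijective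

@[simp] lemma transposeEquivC_apply (e : A ≃ₐc[R] B) (x : CartDual.D R B) (a : A) :
    transposeEquivC e x a = x (e a) := rfl

end TR

end Groth.Agent.Lib.Helper3.IS11
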