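import Mathlib
import Groth.Agent.Lib.Helper3.IS1
import Groth.Agent.Lib.Helper3.IS2
import Groth.Agent.Lib.Helper3.IS3

set_option autoImplicit false
universe u v w
open scoped TensorProduct
open CartDual

namespace Groth.Agent.Lib.Helper3.IS5
open TensorProduct Coalgebra

lemma isOpen_cc {X : Type*} [TopologicalSpace X] [Finite (ConnectedComponents X)] (x : X) :
    IsOpen (connectedComponent x) := by
  rw [← connectedComponents_preimage_singleton]
  exact (isOpen_discrete _).preimage ConnectedComponents.continuous_coe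

lemma nontrivial_of_connected (R : Type*) [CommRing R] [ConnectedSpace (PrimeSpectrum R)] :
    Nontrivial R := by
  obtain ⟨p⟩ : Nonempty (PrimeSpectrum R) := inferInstance
  exact ⟨⟨0, 1, fun h01 => p.isPrime.ne_top ((Ideal.eq_top_iff_one _).mpr
    (h01 ▸ p.asIdeal.zero_mem))⟩⟩

/-- finitely many connected components for a finite étale cover of a connected base. -/
lemma finite_cc (R : Type u) [CommRing R] [ConnectedSpace (PrimeSpectrum R)]
    (T : Type v) [CommRing T] [Algebra R T] [Module.Finite R T] [Algebra.Etale R T] :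
    Finite (ConnectedComponents (PrimeSpectrum T)) := by
  obtain ⟨p⟩ : Nonempty (PrimeSpectrum R) := inferInstance
  have hopen : IsOpenMap (PrimeSpectrum.comap (algebraMap R T)) :=
    PrimeSpectrum.isOpenMap_comap_of_hasGoingDown_of_finitePresentation
  have hclosed : IsClosedMap (PrimeSpectrum.comap (algebraMap R T)) :=
    PrimeSpectrum.isClosedMap_comap_of_isIntegral _ (algebraMap_isIntegral_iff.mpr inferInstance)
  exact IsOpenMap.finite_connectedComponents_of_finite_preimage_singleton_of_connectedSpace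
    hopen hclosed (y := p) (Algebra.QuasiFinite.finite_comap_preimage_singleton p)

theorem exists_connected_quotient' (T : Type u) [CommRing T] [Nontrivial T]
    [Finite (ConnectedComponents (PrimeSpectrum T))] :
    ∃ e : T, IsIdempotentElem e ∧ Nontrivial (T ⧸ Ideal.span {e}) ∧
      ConnectedSpace (PrimeSpectrum (T ⧸ Ideal.span {e})) := by
  obtain ⟨x⟩ : Nonempty (PrimeSpectrum T) := inferInstance
  have hcl : IsClopen (connectedComponent x) :=
    ⟨isClosed_connectedComponent, isOpen_cc x⟩
  obtain ⟨e, he, hs⟩ := PrimeSpectrum.isClopen_iff_zeroLocus.mp hcl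
  have hnt : Nontrivial (T ⧸ Ideal.span {e}) := by
    rw [Ideal.Quotient.nontrivial_iff]
    intro htop
    have hx : x ∈ PrimeSpectrum.zeroLocus {e} := hs ▸ mem_connectedComponent
    rw [PrimeSpectrum.mem_zeroLocus, Set.singleton_subset_iff] at hx
    have : Ideal.span {e} ≤ x.asIdeal := (Ideal.span_singleton_le_iff_mem _).mpr hx
    exact x.isPrime.ne_top (top_le_iff.mp (htop ▸ this))
  refine ⟨e, he, hnt, ?_⟩
  have hemb := PrimeSpectrum.isClosedEmbedding_comap_of_surjective (T ⧸ Ideal.span {e})
    (Ideal.Quotient.mk (Ideal.span {e})) Ideal.Quotient.mk_surjective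
  have hrange : Set.range (PrimeSpectrum.comap (Ideal.Quotient.mk (Ideal.span {e}))) =
      connectedComponent x := by
    rw [range_comap_of_surjective _ _ Ideal.Quotient.mk_surjective, Ideal.mk_ker,
      PrimeSpectrum.zeroLocus_span, hs]
  rw [connectedSpace_iff_univ]
  have hc : IsConnected (Set.range (PrimeSpectrum.comap (Ideal.Quotient.mk (Ideal.span {e})))) :=
    hrange ▸ isConnected_connectedComponent
  rw [← Set.image_univ] at hc
  exact ⟨Set.univ_nonempty, (hemb.toIsInducing.isPreconnected_image).mp hc.isPreconnected⟩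

theorem faithfullyFlat_of_connected' (R : Type u) [CommRing R]
    [ConnectedSpace (PrimeSpectrum R)] (T : Type v) [CommRing T] [Algebra R T]
    [Module.FinitePresentation R T] [Module.Flat R T] [Nontrivial T] :
    Module.FaithfullyFlat R T := by
  apply Module.FaithfullyFlat.of_comap_surjective
  rw [← PrimeSpectrum.rankAtStalk_pos_iff_comap_surjective]
  intro p
  by_contra hp
  have hp0 : Module.rankAtStalk (R := R) T p = 0 := by omega
  have hlc := Module.isLocallyConstant_rankAtStalk (R := R) (M := T)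
  have hall : Module.rankAtStalk (R := R) T = 0 := by
    funext q
    rw [hlc.apply_eq_of_preconnectedSpace q p, hp0]; rfl
  rw [Module.rankAtStalk_eq_zero_iff_subsingleton] at hall
  exact not_subsingleton T hall

theorem exists_connected_cover' (R : Type u) [CommRing R]
    [ConnectedSpace (PrimeSpectrum R)] (T : Type u) [CommRing T] [Algebra R T] [Module.Finite R T]
    [Algebra.Etale R T] [Nontrivial T] :
    ∃ (T₁ : Type u) (_ : CommRing T₁) (_ : Algebra R T₁) (_ : Algebra T T₁)
      (_ : IsScalarTower R T T₁), Module.Finite R T₁ ∧ Algebra.Etale R T₁ ∧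
      Module.FaithfullyFlat R T₁ ∧ Nontrivial T₁ ∧ ConnectedSpace (PrimeSpectrum T₁) := by
  have := finite_cc R T
  obtain ⟨e, he, hnt, hconn⟩ := exists_connected_quotient' T
  have hloc : IsLocalization.Away (1 - e) (T ⧸ Ideal.span {e}) := by
    apply IsLocalization.away_of_isIdempotentElem he.one_sub
    · rw [sub_sub_cancel]; exact Ideal.mk_ker
    · exact Ideal.Quotient.mk_surjective
  have h1 : Algebra.Etale T (T ⧸ Ideal.span {e}) := Algebra.Etale.of_isLocalizationAway (1 - e)
  have h2 : Algebra.Etale R (T ⧸ Ideal.span {e}) := Algebra.Etale.comp R T _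
  have h3 : Module.Finite R (T ⧸ Ideal.span {e}) := Module.Finite.trans T _
  have h5 : Module.FinitePresentation R (T ⧸ Ideal.span {e}) :=
    Module.FinitePresentation.of_finite_of_finitePresentation R _
  have h4 : Module.FaithfullyFlat R (T ⧸ Ideal.span {e}) := faithfullyFlat_of_connected' R _
  exact ⟨T ⧸ Ideal.span {e}, inferInstance, inferInstance, inferInstance, inferInstance,
    h3, h2, h4, hnt, hconn⟩

section split
variable (R : Type u) [CommRing R] [ConnectedSpace (PrimeSpectrum R)]
  (E : Type u) [CommRing E] [Algebra R E] [Module.Finite R E] [Algebra.Etale R E]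

theorem exists_split_connected' :
    ∃ (T₁ : Type u) (_ : CommRing T₁) (_ : Algebra R T₁), Module.Finite R T₁ ∧
      Algebra.Etale R T₁ ∧ Module.FaithfullyFlat R T₁ ∧ Nontrivial T₁ ∧
      ConnectedSpace (PrimeSpectrum T₁) ∧ ∃ m : ℕ, Nonempty (T₁ ⊗[R] E ≃ₐ[T₁] (Fin m → T₁)) := by
  classical
  obtain ⟨p⟩ : Nonempty (PrimeSpectrum R) := inferInstance
  have hR : Nontrivial R := nontrivial_of_connected R
  have hfp : Module.FinitePresentation R E :=
    Module.FinitePresentation.of_finite_of_finitePresentation R _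
  have hlc := Module.isLocallyConstant_rankAtStalk (R := R) (M := E)
  have hn : Module.rankAtStalk (R := R) E = (Module.rankAtStalk (R := R) E p : ℕ) := by
    funext q
    rw [hlc.apply_eq_of_preconnectedSpace q p]
    rfl
  obtain ⟨T, _, _, hff, hfin, het, hsplit⟩ :=
    Algebra.IsFiniteSplit.exists_tensorProduct_of_etale hn
  have hT : Nontrivial T := (FaithfulSMul.algebraMap_injective R T).nontrivial
  obtain ⟨T₁, _, _, _, _, hfin1, het1, hff1, hnt1, hconn1⟩ := exists_connected_cover' R T
  have hs1 : Algebra.IsFiniteSplit T₁ (T₁ ⊗[T] (T ⊗[R] E)) := inferInstance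
  have hs2 : Algebra.IsFiniteSplit T₁ (T₁ ⊗[R] E) :=
    .of_algEquiv (Algebra.TensorProduct.cancelBaseChange R T T₁ T₁ E)
  obtain ⟨m, ⟨Ψ⟩⟩ := Algebra.IsFiniteSplit.nonempty_algEquiv_fun T₁ (T₁ ⊗[R] E)
  exact ⟨T₁, inferInstance, inferInstance, hfin1, het1, hff1, hnt1, hconn1, m, ⟨Ψ⟩⟩

end split

section main
variable (R : Type u) [CommRing R] [ConnectedSpace (PrimeSpectrum R)]
  (A : Type u) [CommRing A] [HopfAlgebra R A] [Coalgebra.IsCocomm R A]
  [Module.Finite R A] [Module.Projective R A]

theorem forward' (h : Algebra.Etale R (CartDual.D R A)) : SGA3b.IsIsotrivial R A := by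
  classical
  obtain ⟨T₁, _, _, hfin1, het1, hff1, hnt1, hconn1, m, ⟨Ψ₀⟩⟩ :=
    exists_split_connected' R (CartDual.D R A)
  have Φ : T₁ ⊗[R] CartDual.D R A ≃ₐ[T₁] CartDual.D T₁ (T₁ ⊗[R] A) :=
    IS1.PhiE (k := R) (A := A) (R := T₁)
  exact ⟨T₁, inferInstance, inferInstance, het1, hfin1, hff1,
    IS2.isDiag_of_split (fun e he => IS3.idem_trivial_of_connected e he) (Φ.symm.trans Ψ₀)⟩

end main

end Groth.Agent.Lib.Helper3.IS5
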