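import Mathlib
import Groth.Prelude.Def_CartDual2
import Groth.Prelude.Def_SGA3b
import Groth.Agent.S0518

set_option autoImplicit false
universe u
open TensorProduct IsLocalRing

namespace Groth.Agent.Lib.Helper3.FLiftL1

/-- henselian version (wrapper around the landed row S0518). -/
theorem exists_finite_etale_lift (R : Type u) [CommRing R] [HenselianLocalRing R] (D₀ : Type u)
    [CommRing D₀] [Algebra (ResidueField R) D₀] [Algebra.Etale (ResidueField R) D₀] :
    ∃ (E : Type u) (_ : CommRing E) (_ : Algebra R E), Module.Finite R E ∧ Algebra.Etale R E ∧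
      Nonempty ((ResidueField R ⊗[R] E) ≃ₐ[ResidueField R] D₀) := by
  haveI : Module.Finite (ResidueField R) D₀ := Algebra.FormallyUnramified.finite_of_free _ _
  obtain ⟨S, i1, i2, h1, h2, ⟨e⟩⟩ := Groth.Agent.S0518.result R D₀
  exact ⟨S, i1, i2, h1, h2, ⟨e⟩⟩

end Groth.Agent.Lib.Helper3.FLiftL1
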