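import Mathlib.RingTheory.SimpleModule.WedderburnArtin
import Mathlib.RingTheory.SimpleModule.Isotypic
import Mathlib.LinearAlgebra.Dimension.Constructions
import Mathlib.LinearAlgebra.FiniteDimensional.Basic
import Mathlib.RingTheory.Artinian.Module

/-!
# Split surjections between modules over a finite-dimensional simple algebra (helper3)
(adapted from helper1's `CSA.nonempty_linearEquiv_of_finrank_eq`)
-/

set_option autoImplicit false

namespace Groth.Agent.Lib.Helper3.SSSplit

universe u v

variable (k : Type*) [Field k] (Λ : Type v) [Ring Λ] [Algebra k Λ] [IsSimpleRing Λ]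
  [FiniteDimensional k Λ]
variable (M N : Type u) [AddCommGroup M] [AddCommGroup N] [Module k M] [Module k N]
  [Module Λ M] [Module Λ N] [IsScalarTower k Λ M] [IsScalarTower k Λ N]
  [FiniteDimensional k M] [FiniteDimensional k N]

/-- Over a finite-dimensional simple algebra, a module of smaller dimension is a split quotient. -/
theorem exists_split_surjection (h : Module.finrank k N ≤ Module.finrank k M) :
    ∃ (f : M →ₗ[Λ] N) (g : N →ₗ[Λ] M), f ∘ₗ g = LinearMap.id := by
  have : IsArtinianRing Λ := IsArtinianRing.of_finite k Λ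
  have : Module.Finite Λ M := Module.Finite.of_restrictScalars_finite k Λ M
  have : Module.Finite Λ N := Module.Finite.of_restrictScalars_finite k Λ N
  by_cases hN : Subsingleton N
  · exact ⟨0, 0, LinearMap.ext fun x => Subsingleton.elim _ _⟩
  have hNn : Nontrivial N := not_subsingleton_iff_nontrivial.mp hN
  have hMn : Nontrivial M := by
    by_contra hM
    rw [not_nontrivial_iff_subsingleton] at hM
    have h0 : Module.finrank k M = 0 := Module.finrank_zero_of_subsingleton
    rw [h0, Nat.le_zero] at h
    exact hN (Module.finrank_zero_iff.mp h)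
  obtain ⟨n, _, S, hS, ⟨e⟩⟩ := (IsSimpleRing.isIsotypic Λ M).linearEquiv_fun
  obtain ⟨m, _, S', hS', ⟨e'⟩⟩ := (IsSimpleRing.isIsotypic Λ N).linearEquiv_fun
  let T := S.map (LinearMap.inl Λ M N)
  let T' := S'.map (LinearMap.inr Λ M N)
  let eT : S ≃ₗ[Λ] T := S.equivMapOfInjective _ LinearMap.inl_injective
  let eT' : S' ≃ₗ[Λ] T' := S'.equivMapOfInjective _ LinearMap.inr_injective
  have : IsSimpleModule Λ T := IsSimpleModule.congr eT.symm
  have : IsSimpleModule Λ T' := IsSimpleModule.congr eT'.symm
  obtain ⟨eTT⟩ := IsSimpleRing.isIsotypic Λ (M × N) T T'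
  let eS : S' ≃ₗ[Λ] S := eT'.trans (eTT.trans eT.symm)
  have : FiniteDimensional k S :=
    Module.Finite.of_injective (S.subtype.restrictScalars k) S.injective_subtype
  have : FiniteDimensional k S' :=
    Module.Finite.of_injective (S'.subtype.restrictScalars k) S'.injective_subtype
  have h1 : Module.finrank k M = n * Module.finrank k S := by
    rw [(e.restrictScalars k).finrank_eq, Module.finrank_pi_fintype]
    simp
  have h2 : Module.finrank k N = m * Module.finrank k S := by
    rw [(e'.restrictScalars k).finrank_eq, Module.finrank_pi_fintype,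
      (eS.restrictScalars k).finrank_eq]
    simp
  have hpos : 0 < Module.finrank k S := by
    have : Nontrivial S := IsSimpleModule.nontrivial Λ S
    exact Module.finrank_pos
  have hmn : m ≤ n := by
    rw [h1, h2] at h
    exact Nat.le_of_mul_le_mul_right h hpos
  let e'' : N ≃ₗ[Λ] (Fin m → S) := e'.trans (LinearEquiv.piCongrRight fun _ => eS)
  let p : (Fin n → S) →ₗ[Λ] (Fin m → S) := LinearMap.funLeft Λ S (Fin.castLE hmn)
  let q : (Fin m → S) →ₗ[Λ] (Fin n → S) :=
    LinearMap.pi fun j => if hj : j.val < m then LinearMap.proj ⟨j.val, hj⟩ else 0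
  have hpq : p ∘ₗ q = LinearMap.id := by
    ext v a
    simp [p, q, LinearMap.funLeft]
  refine ⟨e''.symm.toLinearMap ∘ₗ p ∘ₗ e.toLinearMap, e.symm.toLinearMap ∘ₗ q ∘ₗ e''.toLinearMap, ?_⟩
  ext x
  simp only [LinearMap.comp_apply, LinearEquiv.coe_coe, LinearEquiv.apply_symm_apply,
    LinearMap.id_apply]
  have := LinearMap.congr_fun hpq (e'' x)
  simp only [LinearMap.comp_apply, LinearMap.id_apply] at this
  rw [this, LinearEquiv.symm_apply_apply]

end Groth.Agent.Lib.Helper3.SSSplit
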