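import Mathlib.RingTheory.TensorProduct.Maps
import Mathlib.RingTheory.Finiteness.Basic
import Groth.Agent.Lib.Helper40.LGRing
import Groth.Agent.Lib.Helper3.SSSplit
import Groth.Agent.Lib.Helper3.AzumayaBaseChange
import Groth.Agent.S5719

/-!
# Lifting split surjections from the fibre over a maximal ideal (helper3)

For an Azumaya algebra `A` over `R`, a maximal ideal `m`, and projective `A`-modules `M`, `N` with
`rank N ≤ rank M` at `m`: there are `A`-linear `φ : M → N`, `ψ : N → M` with `φ ψ ≡ id` mod `m`.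
The fibre `k ⊗ M` is made a module over the simple algebra `k ⊗ A` via `rho`.
-/

set_option autoImplicit false
universe u v w
open scoped TensorProduct

namespace Groth.Agent.Lib.Helper3.FibLift

section fib

variable (R : Type*) (k : Type*) (A : Type*) (M : Type*) [CommRing R] [CommRing k] [Algebra R k]
  [Ring A] [Algebra R A] [AddCommGroup M] [Module R M] [Module A M] [IsScalarTower R A M]

/-- the action of `k ⊗ A` on `k ⊗ M` -/
noncomputable def rho : k ⊗[R] A →ₐ[k] Module.End k (k ⊗[R] M) :=
  (LinearMap.tensorProductEnd R k M).comp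
    (Algebra.TensorProduct.map (AlgHom.id k k) (Algebra.lsmul R R M))

lemma rho_tmul (c c' : k) (a : A) (x : M) :
    rho R k A M (c ⊗ₜ a) (c' ⊗ₜ x) = (c * c') ⊗ₜ (a • x) := by
  rw [rho, AlgHom.comp_apply, Algebra.TensorProduct.map_tmul, LinearMap.tensorProductEnd_apply]
  simp [TensorProduct.liftAux_tmul, TensorProduct.smul_tmul']

/-- `k ⊗ M` as a module over `k ⊗ A` -/
@[reducible] noncomputable def fibModule : Module (k ⊗[R] A) (k ⊗[R] M) :=
  Module.compHom _ (rho R k A M).toRingHom

/-- `k ⊗ M` as a module over `A` -/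
@[reducible] noncomputable def fibModuleA : Module A (k ⊗[R] M) :=
  Module.compHom _ ((rho R k A M).toRingHom.comp
    (Algebra.TensorProduct.includeRight : A →ₐ[R] k ⊗[R] A).toRingHom)

lemma isScalarTower_fib :
    letI := fibModule R k A M
    IsScalarTower k (k ⊗[R] A) (k ⊗[R] M) := by
  letI := fibModule R k A M
  refine ⟨fun c x v => ?_⟩
  change rho R k A M (c • x) v = c • rho R k A M x v
  rw [map_smul]
  rfl

/-- the `A`-linear map `M → k ⊗ M` -/
noncomputable def q :
    letI := fibModuleA R k A M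
    M →ₗ[A] k ⊗[R] M :=
  letI := fibModuleA R k A M
  { toFun := fun x => (1 : k) ⊗ₜ[R] x
    map_add' := fun x y => TensorProduct.tmul_add _ _ _
    map_smul' := fun a x => by
      change (1 : k) ⊗ₜ[R] (a • x) = rho R k A M ((1 : k) ⊗ₜ[R] a) ((1 : k) ⊗ₜ[R] x)
      rw [rho_tmul, one_mul] }

end fib

section lift

open Groth.Agent.Lib.Helper40.LG

variable {R : Type u} [CommRing R] {A : Type v} [Ring A] [Algebra R A] [IsAzumaya R A]
  (M N : Type w) [AddCommGroup M] [Module A M] [Module R M] [IsScalarTower R A M]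
  [AddCommGroup N] [Module A N] [Module R N] [IsScalarTower R A N]

theorem exists_lifts_mod (m : Ideal R) [hm : m.IsMaximal]
    [Module.Projective A M] [Module.Projective A N]
    [Module.Finite R M] [Module.Projective R M] [Module.Finite R N] [Module.Projective R N]
    (hrank : Module.rankAtStalk N ⟨m, hm.isPrime⟩ ≤ Module.rankAtStalk M ⟨m, hm.isPrime⟩) :
    ∃ (φ : M →ₗ[A] N) (ψ : N →ₗ[A] M),
      ∀ (l : N →ₗ[R] R) (z : N), l (φ (ψ z) - z) ∈ m := by
  let k := R ⧸ m
  letI : Field k := Ideal.Quotient.field m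
  haveI : IsAzumaya k (k ⊗[R] A) := Groth.Agent.Lib.Helper3.Az.isAzumaya_baseChange R k A
  haveI : IsSimpleRing (k ⊗[R] A) := Groth.Agent.S5719.isSimpleRing_of_isAzumaya_field k _
  haveI : Module.Finite R A := IsAzumaya.toFinite
  haveI : FiniteDimensional k (k ⊗[R] A) := Module.Finite.base_change R k A
  haveI : FiniteDimensional k (k ⊗[R] M) := Module.Finite.base_change R k M
  haveI : FiniteDimensional k (k ⊗[R] N) := Module.Finite.base_change R k N
  letI iM := fibModule R k A M
  letI iN := fibModule R k A N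
  haveI : IsScalarTower k (k ⊗[R] A) (k ⊗[R] M) := isScalarTower_fib R k A M
  haveI : IsScalarTower k (k ⊗[R] A) (k ⊗[R] N) := isScalarTower_fib R k A N
  have hfr : Module.finrank k (k ⊗[R] N) ≤ Module.finrank k (k ⊗[R] M) := by
    have h1 := finrank_quot_tensor_eq_rankAtStalk m M
    have h2 := finrank_quot_tensor_eq_rankAtStalk m N
    change Module.finrank k (k ⊗[R] M) = _ at h1
    change Module.finrank k (k ⊗[R] N) = _ at h2
    rw [h1, h2]
    exact hrank
  obtain ⟨f, g, hfg⟩ := Groth.Agent.Lib.Helper3.SSSplit.exists_split_surjection k (k ⊗[R] A)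
    (k ⊗[R] M) (k ⊗[R] N) hfr
  letI jM := fibModuleA R k A M
  letI jN := fibModuleA R k A N
  let fA : k ⊗[R] M →ₗ[A] k ⊗[R] N :=
    { toFun := f
      map_add' := map_add f
      map_smul' := fun a v => map_smul f ((1 : k) ⊗ₜ[R] a) v }
  let gA : k ⊗[R] N →ₗ[A] k ⊗[R] M :=
    { toFun := g
      map_add' := map_add g
      map_smul' := fun a v => map_smul g ((1 : k) ⊗ₜ[R] a) v }
  have hs : Function.Surjective (algebraMap R k) := Ideal.Quotient.mk_surjective
  have hqM : Function.Surjective (q R k A M) := TensorProduct.mk_surjective R M k hs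
  have hqN : Function.Surjective (q R k A N) := TensorProduct.mk_surjective R N k hs
  obtain ⟨φ, hφ⟩ := Module.projective_lifting_property (q R k A N) (fA ∘ₗ q R k A M) hqN
  obtain ⟨ψ, hψ⟩ := Module.projective_lifting_property (q R k A M) (gA ∘ₗ q R k A N) hqM
  have hφ' : ∀ z, q R k A N (φ z) = f (q R k A M z) := fun z => LinearMap.congr_fun hφ z
  have hψ' : ∀ z, q R k A M (ψ z) = g (q R k A N z) := fun z => LinearMap.congr_fun hψ z
  refine ⟨φ, ψ, fun l z => mem_of_mk_tmul_eq_zero m l _ ?_⟩
  change q R k A N (φ (ψ z) - z) = 0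
  rw [map_sub, hφ', hψ']
  have := LinearMap.congr_fun hfg (q R k A N z)
  rw [LinearMap.comp_apply, LinearMap.id_apply] at this
  rw [this, sub_self]

end lift

end Groth.Agent.Lib.Helper3.FibLift
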