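import Mathlib.RingTheory.IsTensorProduct
import Mathlib.RingTheory.Flat.Basic
import Mathlib.RingTheory.Spectrum.Prime.FreeLocus
import Groth.Agent.Lib.Helper3.AzumayaBaseChange
import Groth.Agent.Lib.Helper3.Azumaya
import Groth.Prelude.Def_AzInv
import Groth.Prelude.Def_W4c2azumayainvolQEt

/-!
# Base change of an Azumaya algebra over a ring with involution along the fixed ring (helper3)

`cbc : S' ⊗_S A ≃ (S' ⊗_S R) ⊗_R A`, the centre of `S' ⊗_S A`, the fixed ring of `id ⊗ lam`.
-/

set_option autoImplicit false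
universe u u' v w

open TensorProduct

namespace Groth.Agent.Lib.Helper3.FixedBC

attribute [local instance] Algebra.TensorProduct.rightAlgebra

section center

variable {R : Type v} [CommRing R] {A : Type w} [Ring A] [Algebra R A] [IsAzumaya R A]

/-- every `R`-endomorphism of an Azumaya algebra commutes with multiplication by a central
element -/
lemma end_comm_of_central (z : A) (hz : ∀ y, z * y = y * z) (E : Module.End R A) (x : A) :
    E (z * x) = z * E x := by
  obtain ⟨w, rfl⟩ := (IsAzumaya.bij (R := R) (A := A)).2 E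
  induction w using TensorProduct.induction_on with
  | zero => simp
  | add w₁ w₂ h₁ h₂ => simp only [map_add, LinearMap.add_apply, h₁, h₂, mul_add]
  | tmul a b =>
    rw [AlgHom.mulLeftRight_apply, AlgHom.mulLeftRight_apply, ← mul_assoc, ← hz a, mul_assoc,
      mul_assoc, mul_assoc]

/-- the centre of an Azumaya algebra is the base ring -/
theorem exists_algebraMap_eq_of_central (z : A) (hz : ∀ y, z * y = y * z) :
    ∃ r : R, algebraMap R A r = z := by
  have key : ∀ (φ : A →ₗ[R] R) (x : A), ∃ r : R, algebraMap R A r = φ x • z := by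
    intro φ x
    refine ⟨φ (z * x), ?_⟩
    have h := end_comm_of_central z hz ((LinearMap.toSpanSingleton R A 1).comp φ) x
    simp only [LinearMap.comp_apply, LinearMap.toSpanSingleton_apply] at h
    rw [Algebra.algebraMap_eq_smul_one, h, mul_smul_comm, mul_one]
  have h1 := Groth.Agent.Lib.Helper3.Az.one_mem_trace (R := R) A
  have key2 : ∀ r ∈ Ideal.span {r : R | ∃ (φ : A →ₗ[R] R) (x : A), φ x = r},
      ∃ r' : R, algebraMap R A r' = r • z := by
    intro r hr
    induction hr using Submodule.span_induction with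
    | mem r hr =>
      obtain ⟨φ, x, rfl⟩ := hr
      exact key φ x
    | zero => exact ⟨0, by simp⟩
    | add a b _ _ ha hb =>
      obtain ⟨a', ha'⟩ := ha
      obtain ⟨b', hb'⟩ := hb
      exact ⟨a' + b', by rw [map_add, ha', hb', add_smul]⟩
    | smul c a _ ha =>
      obtain ⟨a', ha'⟩ := ha
      exact ⟨c * a', by rw [map_mul, ha', smul_eq_mul, mul_smul, Algebra.smul_def c]⟩
  obtain ⟨r, hr⟩ := key2 1 h1
  exact ⟨r, by rw [hr, one_smul]⟩

end center


section bc

variable (S : Type u) (S' : Type u') (R : Type v) (A : Type w) [CommRing S] [CommRing S']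
  [Algebra S S'] [CommRing R] [Algebra S R] [Ring A] [Algebra S A] [Algebra R A]
  [IsScalarTower S R A]

/-- the structure map `S' ⊗ R → S' ⊗ A` -/
noncomputable def mu : S' ⊗[S] R →ₐ[S'] S' ⊗[S] A :=
  Algebra.TensorProduct.map (AlgHom.id S' S') (IsScalarTower.toAlgHom S R A)

@[simp] lemma mu_tmul (s : S') (r : R) : mu S S' R A (s ⊗ₜ r) = s ⊗ₜ algebraMap R A r := rfl

lemma mu_central (x : S' ⊗[S] R) (y : S' ⊗[S] A) : mu S S' R A x * y = y * mu S S' R A x := by
  induction x using TensorProduct.induction_on with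
  | zero => simp
  | add x₁ x₂ h₁ h₂ => rw [map_add, add_mul, mul_add, h₁, h₂]
  | tmul s r =>
    induction y using TensorProduct.induction_on with
    | zero => simp
    | add y₁ y₂ h₁ h₂ => rw [mul_add, add_mul, h₁, h₂]
    | tmul s₂ a =>
      rw [mu_tmul, Algebra.TensorProduct.tmul_mul_tmul, Algebra.TensorProduct.tmul_mul_tmul,
        mul_comm, Algebra.commutes]

/-- `S' ⊗_S A ≃ (S' ⊗_S R) ⊗_R A` as `S'`-algebras -/
noncomputable def cbc : S' ⊗[S] A ≃ₐ[S'] (S' ⊗[S] R) ⊗[R] A :=
  AlgEquiv.ofLinearEquiv (Algebra.IsPushout.cancelBaseChange S S' R (S' ⊗[S] R) A).symm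
    (by simp [Algebra.TensorProduct.one_def])
    (by
      apply LinearMap.map_mul_of_map_mul_tmul
      intro s₁ s₂ a₁ a₂
      simp)

@[simp] lemma cbc_tmul (s : S') (a : A) :
    cbc S S' R A (s ⊗ₜ a) = (s ⊗ₜ[S] (1 : R)) ⊗ₜ[R] a := by
  simp [cbc]

lemma cbc_mu (x : S' ⊗[S] R) : cbc S S' R A (mu S S' R A x) = x ⊗ₜ[R] (1 : A) := by
  induction x using TensorProduct.induction_on with
  | zero => simp
  | add x₁ x₂ h₁ h₂ => rw [map_add, map_add, h₁, h₂, TensorProduct.add_tmul]
  | tmul s r =>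
    rw [mu_tmul, cbc_tmul, Algebra.algebraMap_eq_smul_one, ← TensorProduct.smul_tmul]
    congr 1
    rw [Algebra.smul_def, Algebra.TensorProduct.right_algebraMap_apply,
      Algebra.TensorProduct.tmul_mul_tmul, one_mul, mul_one]


variable {S S' R A}

theorem isAzumaya_bc [IsAzumaya R A] : IsAzumaya (S' ⊗[S] R) ((S' ⊗[S] R) ⊗[R] A) :=
  Groth.Agent.Lib.Helper3.Az.isAzumaya_baseChange R (S' ⊗[S] R) A

theorem rank_bc [Module.Finite R A] [Module.Projective R A] (n : ℕ)
    (h : ∀ p : PrimeSpectrum R, Module.rankAtStalk (R := R) A p = n ^ 2)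
    (p : PrimeSpectrum (S' ⊗[S] R)) :
    Module.rankAtStalk (R := S' ⊗[S] R) ((S' ⊗[S] R) ⊗[R] A) p = n ^ 2 := by
  rw [Module.rankAtStalk_baseChange, h]

/-- the centre of `S' ⊗_S A` is `S' ⊗_S R` -/
theorem exists_mu_eq_of_central [IsAzumaya R A] (z : S' ⊗[S] A) (hz : ∀ y, z * y = y * z) :
    ∃ z₀ : S' ⊗[S] R, mu S S' R A z₀ = z := by
  haveI := isAzumaya_bc (S := S) (S' := S') (R := R) (A := A)
  have hz' : ∀ y, cbc S S' R A z * y = y * cbc S S' R A z := by
    intro y
    obtain ⟨y, rfl⟩ := (cbc S S' R A).surjective y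
    rw [← map_mul, ← map_mul, hz]
  obtain ⟨r, hr⟩ := exists_algebraMap_eq_of_central (R := S' ⊗[S] R) (cbc S S' R A z) hz'
  refine ⟨r, ?_⟩
  apply (cbc S S' R A).injective
  rw [cbc_mu, ← hr, Algebra.TensorProduct.algebraMap_apply]
  rfl

/-- the fixed ring of `id ⊗ lam` on a flat base change -/
theorem exists_of_fixed_bc [Module.Flat S S'] (lam : R ≃ₐ[S] R)
    (hfix : RInv.IsFixedRing S R lam.toRingEquiv) (z : S' ⊗[S] R)
    (hz : LinearMap.lTensor S' lam.toLinearMap z = z) : ∃ s : S', s ⊗ₜ[S] (1 : R) = z := by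
  have hexact : Function.Exact (Algebra.linearMap S R)
      (lam.toLinearMap - (LinearMap.id : R →ₗ[S] R)) := by
    intro r
    rw [LinearMap.sub_apply, LinearMap.id_apply, sub_eq_zero]
    exact hfix.2 r
  have h2 := Module.Flat.lTensor_exact S' hexact
  have h3 : (LinearMap.lTensor S' (lam.toLinearMap - (LinearMap.id : R →ₗ[S] R))) z = 0 := by
    rw [LinearMap.lTensor_sub, LinearMap.sub_apply, hz, LinearMap.lTensor_id, LinearMap.id_apply,
      sub_self]
  obtain ⟨w, hw⟩ := (h2 z).mp h3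
  refine ⟨TensorProduct.rid S S' w, ?_⟩
  rw [← hw]
  clear hw
  induction w using TensorProduct.induction_on with
  | zero => simp
  | add w₁ w₂ h₁ h₂ => rw [map_add, map_add, TensorProduct.add_tmul, h₁, h₂]
  | tmul s t =>
    rw [TensorProduct.rid_tmul, LinearMap.lTensor_tmul, Algebra.linearMap_apply,
      Algebra.algebraMap_eq_smul_one, TensorProduct.smul_tmul]

end bc

end Groth.Agent.Lib.Helper3.FixedBC
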