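import Mathlib.LinearAlgebra.Span.Basic
import Mathlib.RingTheory.Ideal.Maximal
import Groth.Agent.Lib.Helper40.LGRing

/-!
# A local-global principle for split surjections over LG-rings (helper3)

`exists_bijective_comp`: over an LG-ring, for submodules `S ⊆ Hom(Z, Y)`, `S' ⊆ Hom(Y, Z)` with `Y`
finitely generated projective, if modulo every maximal ideal some `φ ψ` (`φ ∈ S`, `ψ ∈ S'`) is the
identity then some `φ ψ` is bijective.  (Uses helper40's `exists_isUnit_eval`.)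
-/

set_option autoImplicit false
universe u
open MvPolynomial

namespace Groth.Agent.Lib.Helper3.LGHom

open Groth.Agent.Lib.Helper40.LG

section D

variable {R : Type u} [CommRing R] {Y : Type*} [AddCommGroup Y] [Module R Y] {k : ℕ}
  (i : Y →ₗ[R] (Fin k → R)) (π : (Fin k → R) →ₗ[R] Y)

/-- the matrix of `θ ⊕ 1` on `Y ⊕ Y' = R^k` -/
noncomputable def Dmat (θ : Y →ₗ[R] Y) : Matrix (Fin k) (Fin k) R :=
  LinearMap.toMatrix' (i ∘ₗ θ ∘ₗ π) + (1 - LinearMap.toMatrix' (i ∘ₗ π))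

lemma Dmat_eq (θ : Y →ₗ[R] Y) :
    Dmat i π θ = LinearMap.toMatrix' (i ∘ₗ θ ∘ₗ π + (LinearMap.id - i ∘ₗ π)) := by
  rw [Dmat, map_add, map_sub, LinearMap.toMatrix'_id]

lemma bijective_of_isUnit_det (hπi : π ∘ₗ i = LinearMap.id) (θ : Y →ₗ[R] Y)
    (h : IsUnit (Dmat i π θ).det) : Function.Bijective θ := by
  apply bijective_of_bijective_conj i π hπi
  rw [← Module.End.isUnit_iff, LinearMap.isUnit_iff_isUnit_det, ← LinearMap.det_toMatrix',
    ← Dmat_eq]
  exact h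

lemma det_notMem_of_congr_id (hπi : π ∘ₗ i = LinearMap.id) (m : Ideal R) (hm : m ≠ ⊤)
    (θ : Y →ₗ[R] Y) (h : ∀ (l : Y →ₗ[R] R) (z : Y), l (θ z - z) ∈ m) :
    (Dmat i π θ).det ∉ m := by
  have hπi' : ∀ z, π (i z) = z := fun z => LinearMap.congr_fun hπi z
  have h1 : (Dmat i π θ).map (Ideal.Quotient.mk m) = 1 := by
    ext j l
    rw [Matrix.map_apply, Dmat, Matrix.add_apply, Matrix.sub_apply, LinearMap.toMatrix'_apply,
      LinearMap.toMatrix'_apply]
    simp only [LinearMap.comp_apply]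
    have hmem := h ((LinearMap.proj j) ∘ₗ i) (π (Pi.single l 1))
    simp only [LinearMap.comp_apply, LinearMap.proj_apply, map_sub] at hmem
    have e : i (θ (π (Pi.single l 1))) j + ((1 : Matrix (Fin k) (Fin k) R) j l -
        i (π (Pi.single l 1)) j) = (i (θ (π (Pi.single l 1))) j -
        i (π (Pi.single l 1)) j) + (1 : Matrix (Fin k) (Fin k) R) j l := by ring
    rw [e, map_add, Ideal.Quotient.eq_zero_iff_mem.mpr hmem, zero_add, Matrix.one_apply,
      Matrix.one_apply]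
    split_ifs <;> simp
  intro hmem
  have h2 : Ideal.Quotient.mk m (Dmat i π θ).det = 1 := by
    rw [RingHom.map_det, RingHom.mapMatrix_apply, h1, Matrix.det_one]
  rw [Ideal.Quotient.eq_zero_iff_mem.mpr hmem] at h2
  have : (1 : R) ∈ m := by
    rw [← Ideal.Quotient.eq_zero_iff_mem, map_one]
    exact h2.symm
  exact hm ((Ideal.eq_top_iff_one m).mpr this)

end D

section poly

variable {R : Type u} [CommRing R] {Z Y : Type*} [AddCommGroup Z] [Module R Z]
  [AddCommGroup Y] [Module R Y] {k : ℕ}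
  (i : Y →ₗ[R] (Fin k → R)) (π : (Fin k → R) →ₗ[R] Y) {s : ℕ}
  (φ : Fin s → Z →ₗ[R] Y) (ψ : Fin s → Y →ₗ[R] Z)

/-- the polynomial matrix whose value at `(r, r')` is `Dmat ((∑ r_a φ_a) ∘ (∑ r'_b ψ_b))` -/
noncomputable def Pmat : Matrix (Fin k) (Fin k) (MvPolynomial (Fin s ⊕ Fin s) R) :=
  ∑ a, ∑ b, (X (Sum.inl a) * X (Sum.inr b) : MvPolynomial (Fin s ⊕ Fin s) R) •
      (LinearMap.toMatrix' (i ∘ₗ φ a ∘ₗ ψ b ∘ₗ π)).map (C : R →+* MvPolynomial (Fin s ⊕ Fin s) R)
    + (1 - LinearMap.toMatrix' (i ∘ₗ π)).map (C : R →+* MvPolynomial (Fin s ⊕ Fin s) R)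

lemma Pmat_eval (r : Fin s ⊕ Fin s → R) :
    (Pmat i π φ ψ).map (eval r) =
      Dmat i π ((∑ a, r (Sum.inl a) • φ a) ∘ₗ (∑ b, r (Sum.inr b) • ψ b)) := by
  ext j l
  simp only [Pmat, Dmat, Matrix.map_apply, Matrix.add_apply, Matrix.sum_apply, Matrix.smul_apply,
    Matrix.sub_apply, LinearMap.toMatrix'_apply, LinearMap.comp_apply, map_add, map_sum, smul_eq_mul,
    map_mul, eval_X, eval_C, LinearMap.sum_apply, LinearMap.smul_apply, map_smul, Finset.sum_apply,
    Pi.smul_apply, Finset.smul_sum]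
  congr 1
  rw [Finset.sum_comm]
  refine Finset.sum_congr rfl fun b _ => Finset.sum_congr rfl fun a _ => ?_
  ring

end poly

section main

variable {R : Type u} [CommRing R] {Z Y : Type*} [AddCommGroup Z] [Module R Z]
  [AddCommGroup Y] [Module R Y]

/-- **Local-global principle for split surjections.**  Over an LG-ring, let `S ⊆ Hom(Z, Y)` and
`S' ⊆ Hom(Y, Z)` be submodules, `Y` finitely generated projective.  If for every maximal ideal
`m` there are `φ ∈ S`, `ψ ∈ S'` with `φ ψ ≡ id` modulo `m`, then there are `φ ∈ S`, `ψ ∈ S'` with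
`φ ψ` bijective. -/
theorem exists_bijective_comp (hR : LGRing.IsLGRing R) [Module.Finite R Y] [Module.Projective R Y]
    (S : Submodule R (Z →ₗ[R] Y)) (S' : Submodule R (Y →ₗ[R] Z))
    (h : ∀ (m : Ideal R) [m.IsMaximal], ∃ φ ∈ S, ∃ ψ ∈ S',
      ∀ (l : Y →ₗ[R] R) (z : Y), l (φ (ψ z) - z) ∈ m) :
    ∃ φ ∈ S, ∃ ψ ∈ S', Function.Bijective (φ ∘ₗ ψ) := by
  classical
  obtain ⟨k, π, i, -, -, hπi⟩ := Module.Finite.exists_comp_eq_id_of_projective R Y
  -- the ideal generated by all the determinants is the unit ideal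
  set T : Set R := {d | ∃ φ ∈ S, ∃ ψ ∈ S', d = (Dmat i π (φ ∘ₗ ψ)).det} with hT
  have htop : Ideal.span T = ⊤ := by
    by_contra hne
    obtain ⟨m, hm, hle⟩ := Ideal.exists_le_maximal _ hne
    obtain ⟨φ, hφ, ψ, hψ, hφψ⟩ := h m
    have h1 : (Dmat i π (φ ∘ₗ ψ)).det ∉ m :=
      det_notMem_of_congr_id i π hπi m hm.ne_top (φ ∘ₗ ψ) hφψ
    exact h1 (hle (Ideal.subset_span ⟨φ, hφ, ψ, hψ, rfl⟩))
  have h1 : (1 : R) ∈ Ideal.span T := by rw [htop]; trivial
  obtain ⟨s, c, g, hg⟩ := Submodule.mem_span_set'.mp h1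
  choose φ hφ ψ hψ hd using fun a : Fin s => (g a).2
  -- the polynomial
  set F : MvPolynomial (Fin s ⊕ Fin s) R := (Pmat i π φ ψ).det with hF
  have hFeval : ∀ r : Fin s ⊕ Fin s → R, eval r F =
      (Dmat i π ((∑ a, r (Sum.inl a) • φ a) ∘ₗ (∑ b, r (Sum.inr b) • ψ b))).det := by
    intro r
    rw [hF, RingHom.map_det, RingHom.mapMatrix_apply, Pmat_eval]
  obtain ⟨r, hr⟩ := exists_isUnit_eval hR F (by
    intro m hm
    -- some `g a ∉ m`
    have : ∃ a, ((g a : T) : R) ∉ m := by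
      by_contra hall
      push Not at hall
      have : (1 : R) ∈ m := by
        rw [← hg]
        exact Ideal.sum_mem _ fun a _ => Ideal.mul_mem_left _ _ (hall a)
      exact hm.ne_top ((Ideal.eq_top_iff_one m).mpr this)
    obtain ⟨a, ha⟩ := this
    refine ⟨Sum.elim (Pi.single a 1) (Pi.single a 1), ?_⟩
    rw [hFeval]
    have e1 : (∑ a', (Sum.elim (Pi.single a 1) (Pi.single a 1) : Fin s ⊕ Fin s → R) (Sum.inl a') •
        φ a') = φ a := by
      simp [Pi.single_apply]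
    have e2 : (∑ b, (Sum.elim (Pi.single a 1) (Pi.single a 1) : Fin s ⊕ Fin s → R) (Sum.inr b) •
        ψ b) = ψ a := by
      simp [Pi.single_apply]
    rw [e1, e2, ← hd a]
    exact ha)
  rw [hFeval] at hr
  refine ⟨∑ a, r (Sum.inl a) • φ a, Submodule.sum_mem _ fun a _ => Submodule.smul_mem _ _ (hφ a),
    ∑ b, r (Sum.inr b) • ψ b, Submodule.sum_mem _ fun b _ => Submodule.smul_mem _ _ (hψ b), ?_⟩
  exact bijective_of_isUnit_det i π hπi _ hr

end main

end Groth.Agent.Lib.Helper3.LGHom
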