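import Mathlib.RingTheory.OrzechProperty
import Mathlib.RingTheory.Finiteness.Cardinality
import Groth.Agent.Lib.Helper3.LGHom
import Groth.Agent.Lib.Helper3.FibLift

/-!
# Projective modules over Azumaya algebras over LG-rings (helper3)

* `exists_surjective`: pointwise smaller rank ⇒ homomorphic image.
* `nonempty_linearEquiv`: equal rank functions ⇒ isomorphic.
-/

set_option autoImplicit false
universe u v w
open scoped TensorProduct

namespace Groth.Agent.Lib.Helper3.LGAz

section trans

variable (R : Type*) (A : Type*) (M : Type*) [CommRing R] [Ring A] [Algebra R A]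
  [AddCommGroup M] [Module A M] [Module R M] [IsScalarTower R A M]

lemma projective_trans [Module.Projective R A] [Module.Projective A M] : Module.Projective R M := by
  obtain ⟨s, hs⟩ := (Module.projective_def' (R := A) (P := M)).mp inferInstance
  haveI : Module.Projective R (M →₀ A) := by
    classical
    exact Module.Projective.of_equiv (finsuppLequivDFinsupp (ι := M) (M := A) R).symm
  refine Module.Projective.of_split (s.restrictScalars R)
    ((Finsupp.linearCombination A id).restrictScalars R) ?_
  ext x
  exact LinearMap.congr_fun hs x

end trans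

section alin

variable (R : Type*) (A : Type*) (M N : Type*) [CommRing R] [Ring A] [Algebra R A]
  [AddCommGroup M] [Module A M] [Module R M] [IsScalarTower R A M]
  [AddCommGroup N] [Module A N] [Module R N] [IsScalarTower R A N]

/-- the `R`-submodule of `A`-linear maps inside the `R`-linear maps -/
def ALin : Submodule R (M →ₗ[R] N) where
  carrier := {f | ∀ (a : A) (x : M), f (a • x) = a • f x}
  add_mem' := fun {f g} hf hg a x => by
    rw [LinearMap.add_apply, LinearMap.add_apply, hf, hg, smul_add]
  zero_mem' := fun a x => by simp
  smul_mem' := fun c f hf a x => by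
    rw [LinearMap.smul_apply, LinearMap.smul_apply, hf, smul_comm]

variable {R A M N}

lemma restrictScalars_mem_ALin (f : M →ₗ[A] N) : f.restrictScalars R ∈ ALin R A M N :=
  fun a x => map_smul f a x

/-- an element of `ALin` as an `A`-linear map -/
def ofALin (f : M →ₗ[R] N) (hf : f ∈ ALin R A M N) : M →ₗ[A] N :=
  { toFun := f
    map_add' := map_add f
    map_smul' := hf }

end alin

section main

open Groth.Agent.Lib.Helper3.LGHom Groth.Agent.Lib.Helper3.FibLift

variable {R : Type u} [CommRing R] {A : Type v} [Ring A] [Algebra R A] [IsAzumaya R A]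
  (M N : Type w) [AddCommGroup M] [Module A M] [Module R M] [IsScalarTower R A M]
  [Module.Finite A M] [Module.Projective A M]
  [AddCommGroup N] [Module A N] [Module R N] [IsScalarTower R A N]
  [Module.Finite A N] [Module.Projective A N]

include A in
lemma finite_of_finite : Module.Finite R M := by
  haveI : Module.Finite R A := IsAzumaya.toFinite
  exact Module.Finite.trans A M

include A in
lemma projective_of_projective : Module.Projective R M := by
  haveI : Module.Projective R A := IsAzumaya.toProjective
  exact projective_trans R A M

/-- **Theorem (split surjection).** Over an LG-ring, a projective module over an Azumaya algebra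
of pointwise smaller rank is a split quotient. -/
theorem exists_split_surjective (hR : LGRing.IsLGRing R)
    (h : ∀ (m : Ideal R) [hm : m.IsMaximal],
      Module.rankAtStalk N ⟨m, hm.isPrime⟩ ≤ Module.rankAtStalk M ⟨m, hm.isPrime⟩) :
    ∃ (f : M →ₗ[A] N) (g : N →ₗ[A] M), Function.Bijective (f ∘ₗ g) := by
  haveI : Module.Finite R M := finite_of_finite (A := A) M
  haveI : Module.Finite R N := finite_of_finite (A := A) N
  haveI : Module.Projective R M := projective_of_projective (A := A) M
  haveI : Module.Projective R N := projective_of_projective (A := A) N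
  obtain ⟨φ, hφ, ψ, hψ, hbij⟩ := exists_bijective_comp hR (ALin R A M N) (ALin R A N M)
    (fun m hm => by
      obtain ⟨φ, ψ, hφψ⟩ := exists_lifts_mod (A := A) M N m (h m)
      exact ⟨φ.restrictScalars R, restrictScalars_mem_ALin φ, ψ.restrictScalars R,
        restrictScalars_mem_ALin ψ, hφψ⟩)
  exact ⟨ofALin φ hφ, ofALin ψ hψ, hbij⟩

theorem exists_surjective (hR : LGRing.IsLGRing R)
    (h : ∀ (m : Ideal R) [hm : m.IsMaximal],
      Module.rankAtStalk N ⟨m, hm.isPrime⟩ ≤ Module.rankAtStalk M ⟨m, hm.isPrime⟩) :
    ∃ f : M →ₗ[A] N, Function.Surjective f := by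
  obtain ⟨f, g, hfg⟩ := exists_split_surjective (A := A) M N hR h
  refine ⟨f, ?_⟩
  have := hfg.2
  rw [LinearMap.coe_comp] at this
  exact Function.Surjective.of_comp this

/-- **Theorem (isomorphism).** Over an LG-ring, projective modules over an Azumaya algebra with
the same rank function are isomorphic. -/
theorem nonempty_linearEquiv (hR : LGRing.IsLGRing R)
    (h : ∀ (m : Ideal R) [hm : m.IsMaximal],
      Module.rankAtStalk N ⟨m, hm.isPrime⟩ = Module.rankAtStalk M ⟨m, hm.isPrime⟩) :
    Nonempty (M ≃ₗ[A] N) := by
  haveI : Module.Finite R M := finite_of_finite (A := A) M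
  obtain ⟨f, hf⟩ := exists_surjective (A := A) M N hR (fun m hm => (h m).le)
  obtain ⟨g, hg⟩ := exists_surjective (A := A) N M hR (fun m hm => (h m).ge)
  -- `g ∘ f` is a surjective endomorphism of the finite `R`-module `M`, hence injective
  have hgf : Function.Surjective ((g ∘ₗ f).restrictScalars R) := by
    change Function.Surjective (g ∘ f)
    exact hg.comp hf
  have hinj := OrzechProperty.injective_of_surjective_endomorphism _ hgf
  have hfinj : Function.Injective f := by
    have : Function.Injective (g ∘ f) := hinj
    exact Function.Injective.of_comp this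
  exact ⟨LinearEquiv.ofBijective f ⟨hfinj, hf⟩⟩

end main

end Groth.Agent.Lib.Helper3.LGAz
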