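import Mathlib.Algebra.Algebra.Equiv
import Mathlib.Algebra.Module.Projective
import Mathlib.RingTheory.Finiteness.Defs
import Mathlib.Algebra.Algebra.Tower

/-!
# Pulling back a module along an algebra isomorphism (helper3)

`Pull e W` is the `Λ'`-module `W` viewed as a `Λ`-module through `e : Λ ≃ₐ[R] Λ'`; finiteness and
projectivity transfer, and the endomorphism algebras agree (`Pull.endEquiv`).
-/

set_option autoImplicit false
universe u v w

namespace Groth.Agent.Lib.Helper3

section

variable {R : Type*} [CommRing R] {Λ : Type*} [Ring Λ] [Algebra R Λ] {Λ' : Type*} [Ring Λ']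
  [Algebra R Λ'] (e : Λ ≃ₐ[R] Λ') (W : Type*) [AddCommGroup W] [Module R W] [Module Λ' W]
  [IsScalarTower R Λ' W]

/-- the `Λ'`-module `W` regarded as a `Λ`-module through `e : Λ ≃ Λ'` -/
@[nolint unusedArguments]
def Pull (_e : Λ ≃ₐ[R] Λ') (W : Type*) : Type _ := W

namespace Pull

instance : AddCommGroup (Pull e W) := inferInstanceAs (AddCommGroup W)
instance : Module R (Pull e W) := inferInstanceAs (Module R W)
instance : Module Λ (Pull e W) := Module.compHom W (e : Λ →+* Λ')

variable {W} in
/-- the underlying element -/
def out (v : Pull e W) : W := v

variable {W} in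
/-- an element of `W` as an element of the pullback -/
def mk (w : W) : Pull e W := w

theorem smul_def (x : Λ) (v : Pull e W) : x • v = mk e (e x • out e v) := rfl

instance : IsScalarTower R Λ (Pull e W) where
  smul_assoc r x v := by
    change mk e (e (r • x) • out e v) = mk e (r • (e x • out e v))
    rw [map_smul, smul_assoc]

instance [Module.Finite R W] : Module.Finite R (Pull e W) := inferInstanceAs (Module.Finite R W)
instance [Module.Projective R W] : Module.Projective R (Pull e W) :=
  inferInstanceAs (Module.Projective R W)

/-- endomorphisms of the pulled-back module are the endomorphisms of the module -/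
def endEquiv : Module.End Λ (Pull e W) ≃ₐ[R] Module.End Λ' W where
  toFun f :=
    { toFun := fun x => out e (f (mk e x))
      map_add' := fun x y => f.map_add (mk e x) (mk e y)
      map_smul' := fun r' x => by
        have := f.map_smul (e.symm r') (mk e x)
        rw [smul_def, smul_def, e.apply_symm_apply] at this
        exact this }
  invFun g :=
    { toFun := fun x => mk e (g (out e x))
      map_add' := fun x y => g.map_add (out e x) (out e y)
      map_smul' := fun r x => g.map_smul (e r) (out e x) }
  left_inv f := rfl
  right_inv g := rfl
  map_mul' f g := rfl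
  map_add' f g := rfl
  commutes' c := rfl

instance [Module.Finite Λ' W] : Module.Finite Λ (Pull e W) := by
  obtain ⟨S, hS⟩ := (Module.finite_def (R := Λ') (M := W)).mp inferInstance
  let S' : Finset (Pull e W) := S
  refine ⟨⟨S', ?_⟩⟩
  rw [eq_top_iff]
  intro v _
  have hv : out e v ∈ Submodule.span Λ' (S : Set W) := by rw [hS]; trivial
  have key : ∀ w : W, w ∈ Submodule.span Λ' (S : Set W) →
      mk e w ∈ Submodule.span Λ (S' : Set (Pull e W)) := by
    intro w hw
    induction hw using Submodule.span_induction with
    | mem x hx => exact Submodule.subset_span hx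
    | zero => exact Submodule.zero_mem _
    | add x y _ _ hx hy => exact Submodule.add_mem _ hx hy
    | smul a x _ hx =>
      have : mk e (a • x) = e.symm a • mk e x := by
        rw [smul_def, e.apply_symm_apply]
        rfl
      rw [this]
      exact Submodule.smul_mem _ _ hx
  exact key _ hv

instance [Module.Projective Λ' W] : Module.Projective Λ (Pull e W) := by
  apply Module.Projective.of_lifting_property''
  intro f hf
  -- view everything over `Λ'` through `e.symm`
  let F := Pull e W →₀ Λ
  let f' : Pull e.symm F →ₗ[Λ'] W :=
    { toFun := fun y => out e (f (out e.symm y))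
      map_add' := fun x y => f.map_add (out e.symm x) (out e.symm y)
      map_smul' := fun x' y => by
        change out e (f (e.symm x' • out e.symm y)) = x' • out e (f (out e.symm y))
        rw [f.map_smul, smul_def, e.apply_symm_apply]
        rfl }
  have hf' : Function.Surjective f' := fun w => by
    obtain ⟨y, hy⟩ := hf (mk e w)
    exact ⟨mk e.symm y, hy⟩
  obtain ⟨h', hh'⟩ := Module.projective_lifting_property f' LinearMap.id hf'
  let h : Pull e W →ₗ[Λ] F :=
    { toFun := fun v => out e.symm (h' (out e v))
      map_add' := fun x y => h'.map_add (out e x) (out e y)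
      map_smul' := fun x v => by
        change out e.symm (h' (e x • out e v)) = x • out e.symm (h' (out e v))
        rw [h'.map_smul, smul_def, e.symm_apply_apply]
        rfl }
  refine ⟨h, ?_⟩
  ext v
  exact LinearMap.congr_fun hh' (out e v)

end Pull

end

end Groth.Agent.Lib.Helper3
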