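import Mathlib.LinearAlgebra.Matrix.Module
import Mathlib.Algebra.Algebra.Opposite
import Mathlib.Algebra.Module.Projective
import Mathlib.RingTheory.Finiteness.Basic
import Mathlib.Algebra.Algebra.Equiv

/-!
# `Dⁿ` as a module over `M_n(D)` (helper3)

`End_{M_n(D)}(Dⁿ) ≃ Dᵐᵒᵖ` for any algebra `D` over a commutative ring (generalising helper1's
version for division algebras), and `Dⁿ` is finitely generated projective over `M_n(D)`.
-/

set_option autoImplicit false
universe u v w

namespace Groth.Agent.Lib.Helper3.VecEnd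

open Matrix.Module

variable (k : Type*) [CommRing k] (D : Type u) [Ring D] [Algebra k D] (n : ℕ) [NeZero n]

/-- right scalar multiplication on `Dⁿ` as an `M_n(D)`-linear endomorphism -/
def vecRmul (d : D) : Module.End (Matrix (Fin n) (Fin n) D) (Fin n → D) where
  toFun v := fun i => v i * d
  map_add' v w := by ext i; simp [add_mul]
  map_smul' N v := by
    ext i
    simp [Finset.sum_mul, mul_assoc]

/-- `Dᵐᵒᵖ → End_{M_n(D)}(Dⁿ)` -/
def vecEndHom : Dᵐᵒᵖ →ₐ[k] Module.End (Matrix (Fin n) (Fin n) D) (Fin n → D) where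
  toFun d := vecRmul D n d.unop
  map_one' := by ext v i; simp [vecRmul]
  map_mul' a b := by ext v i; simp [vecRmul, mul_assoc]
  map_zero' := by ext v i; simp [vecRmul]
  map_add' a b := by ext v i; simp [vecRmul, mul_add]
  commutes' r := by
    ext v i
    simp [vecRmul, Algebra.commutes, Algebra.smul_def]

theorem vecEndHom_bijective : Function.Bijective (vecEndHom k D n) := by
  constructor
  · intro a b hab
    have := congrFun (LinearMap.congr_fun hab (Pi.single 0 1)) 0
    simp only [vecEndHom, vecRmul, AlgHom.coe_mk, RingHom.coe_mk, MonoidHom.coe_mk, OneHom.coe_mk,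
      LinearMap.coe_mk, AddHom.coe_mk, Pi.single_eq_same, one_mul] at this
    exact MulOpposite.unop_injective this
  · intro g
    set w := g (Pi.single 0 1) with hw
    refine ⟨MulOpposite.op (w 0), ?_⟩
    ext v i
    let N : Matrix (Fin n) (Fin n) D := Matrix.of fun i j => if j = 0 then v i else 0
    have hN : N • (Pi.single 0 1 : Fin n → D) = v := by
      ext i
      rw [Matrix.Module.smul_apply, Finset.sum_eq_single 0]
      · simp [N]
      · intro j _ hj
        simp [hj]
      · intro h
        exact absurd (Finset.mem_univ _) h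
    have h1 : g v = N • w := by rw [hw, ← g.map_smul, hN]
    rw [h1, Matrix.Module.smul_apply, Finset.sum_eq_single 0]
    · simp [N, vecEndHom, vecRmul]
    · intro j _ hj
      simp [N, hj]
    · intro h
      exact absurd (Finset.mem_univ _) h

/-- `Dᵐᵒᵖ ≃ End_{M_n(D)}(Dⁿ)` -/
noncomputable def vecEndEquiv :
    Dᵐᵒᵖ ≃ₐ[k] Module.End (Matrix (Fin n) (Fin n) D) (Fin n → D) :=
  AlgEquiv.ofBijective (vecEndHom k D n) (vecEndHom_bijective k D n)

/-- first column embedding `Dⁿ → M_n(D)` -/
def colEmb : (Fin n → D) →ₗ[Matrix (Fin n) (Fin n) D] Matrix (Fin n) (Fin n) D where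
  toFun v := Matrix.of fun i j => if j = 0 then v i else 0
  map_add' v w := by ext i j; by_cases hj : j = 0 <;> simp [hj]
  map_smul' N v := by
    ext i j
    by_cases hj : j = 0
    · simp [hj, Matrix.mul_apply]
    · simp [hj, Matrix.mul_apply]

/-- first column projection `M_n(D) → Dⁿ` -/
def colProj : Matrix (Fin n) (Fin n) D →ₗ[Matrix (Fin n) (Fin n) D] (Fin n → D) where
  toFun X := fun i => X i 0
  map_add' X Y := by ext i; simp
  map_smul' N X := by
    ext i
    simp [Matrix.mul_apply]

lemma colProj_comp_colEmb : colProj D n ∘ₗ colEmb D n = LinearMap.id := by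
  ext v i
  simp [colProj, colEmb]

instance : Module.Projective (Matrix (Fin n) (Fin n) D) (Fin n → D) :=
  Module.Projective.of_split (colEmb D n) (colProj D n) (colProj_comp_colEmb D n)

instance : Module.Finite (Matrix (Fin n) (Fin n) D) (Fin n → D) :=
  Module.Finite.of_surjective (colProj D n) (fun v => ⟨colEmb D n v,
    LinearMap.congr_fun (colProj_comp_colEmb D n) v⟩)

end Groth.Agent.Lib.Helper3.VecEnd
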