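import Mathlib.RingTheory.MatrixAlgebra
import Mathlib.Algebra.Azumaya.Matrix
import Mathlib.Algebra.Azumaya.Basic
import Groth.Agent.Lib.Helper3.LGAz
import Groth.Agent.Lib.Helper3.Pull
import Groth.Agent.Lib.Helper3.VecEnd
import Groth.Agent.Lib.Helper3.AzumayaTensor

/-!
# Cancellation of matrix algebras over Azumaya algebras over LG-rings (helper3)

`M_n(A) ≃ M_n(B)` implies `A ≃ B`: the `M_n(A)`-modules `Aⁿ` and (pulled back) `Bⁿ` have the same rank,
hence are isomorphic (`LGAz.nonempty_linearEquiv`), and their endomorphism algebras are `Aᵐᵒᵖ`, `Bᵐᵒᵖ`.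
-/

set_option autoImplicit false
universe u v w
open scoped TensorProduct

namespace Groth.Agent.Lib.Helper3.LGMat

open Matrix.Module Groth.Agent.Lib.Helper3.VecEnd Groth.Agent.Lib.Helper3.LGAz

section rank

variable {R : Type u} [CommRing R] (A : Type v) [AddCommGroup A] [Module R A] [Module.Finite R A]
  [Module.Projective R A] (n : ℕ)

omit [Module.Finite R A] in
lemma projective_pi (ι : Type*) [Fintype ι] : Module.Projective R (ι → A) := by
  classical
  exact Module.Projective.of_equiv (DFinsupp.linearEquivFunOnFintype (R := R) (ι := ι)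
    (M := fun _ => A))

lemma rankAtStalk_vec (p : PrimeSpectrum R) :
    Module.rankAtStalk (Fin n → A) p = n * Module.rankAtStalk A p := by
  rw [Module.rankAtStalk_pi, finsum_eq_sum_of_fintype]
  simp

lemma rankAtStalk_matrix (p : PrimeSpectrum R) :
    Module.rankAtStalk (Matrix (Fin n) (Fin n) A) p = n * (n * Module.rankAtStalk A p) := by
  change Module.rankAtStalk (Fin n → Fin n → A) p = _
  haveI : Module.Projective R (Fin n → A) := projective_pi A (Fin n)
  rw [Module.rankAtStalk_pi, finsum_eq_sum_of_fintype]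
  simp [rankAtStalk_vec]

end rank

theorem isAzumaya_matrix {R : Type u} [CommRing R] (A : Type v) [Ring A] [Algebra R A]
    [IsAzumaya R A] (n : ℕ) [NeZero n] : IsAzumaya R (Matrix (Fin n) (Fin n) A) := by
  haveI : IsAzumaya R (Matrix (Fin n) (Fin n) R) := IsAzumaya.matrix R (Fin n)
  haveI : IsAzumaya R (A ⊗[R] Matrix (Fin n) (Fin n) R) :=
    Groth.Agent.Lib.Helper3.Az.isAzumaya_tensor R A _
  exact IsAzumaya.of_AlgEquiv R _ _ (matrixEquivTensor (Fin n) R A).symm

theorem main {R : Type u} [CommRing R]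
    (hR : LGRing.IsLGRing R) (A B : Type v) [Ring A] [Algebra R A] [IsAzumaya R A] [Ring B] [Algebra R B]
    [IsAzumaya R B] (n : ℕ) (hn : 0 < n)
    (e : Matrix (Fin n) (Fin n) A ≃ₐ[R] Matrix (Fin n) (Fin n) B) : Nonempty (A ≃ₐ[R] B) := by
  haveI : NeZero n := ⟨hn.ne'⟩
  haveI : Module.Finite R A := IsAzumaya.toFinite
  haveI : Module.Projective R A := IsAzumaya.toProjective
  haveI : Module.Finite R B := IsAzumaya.toFinite
  haveI : Module.Projective R B := IsAzumaya.toProjective
  haveI : IsAzumaya R (Matrix (Fin n) (Fin n) A) := isAzumaya_matrix A n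
  have hAB : ∀ p : PrimeSpectrum R, Module.rankAtStalk A p = Module.rankAtStalk B p := by
    intro p
    have h1 := congrFun (Module.rankAtStalk_eq_of_equiv (R := R) e.toLinearEquiv) p
    rw [rankAtStalk_matrix, rankAtStalk_matrix] at h1
    have hn' : 0 < n := hn
    exact Nat.eq_of_mul_eq_mul_left hn' (Nat.eq_of_mul_eq_mul_left hn' h1)
  obtain ⟨θ⟩ := nonempty_linearEquiv (A := Matrix (Fin n) (Fin n) A)
    (Pull (AlgEquiv.refl : Matrix (Fin n) (Fin n) A ≃ₐ[R] Matrix (Fin n) (Fin n) A) (Fin n → A))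
    (Pull e (Fin n → B)) hR (fun m hm => by
      have h1 := rankAtStalk_vec (R := R) A n ⟨m, hm.isPrime⟩
      have h2 := rankAtStalk_vec (R := R) B n ⟨m, hm.isPrime⟩
      rw [hAB] at h1
      exact h2.trans h1.symm)
  let E1 : Aᵐᵒᵖ ≃ₐ[R] Module.End (Matrix (Fin n) (Fin n) A) (Fin n → A) := vecEndEquiv R A n
  let E2 := Pull.endEquiv (AlgEquiv.refl : Matrix (Fin n) (Fin n) A ≃ₐ[R] Matrix (Fin n) (Fin n) A)
    (Fin n → A)
  let E3 := θ.conjAlgEquiv R
  let E4 := Pull.endEquiv e (Fin n → B)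
  let E5 : Bᵐᵒᵖ ≃ₐ[R] Module.End (Matrix (Fin n) (Fin n) B) (Fin n → B) := vecEndEquiv R B n
  exact ⟨AlgEquiv.unop (E1.trans (E2.symm.trans (E3.trans (E4.trans E5.symm))))⟩

end Groth.Agent.Lib.Helper3.LGMat
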