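import Mathlib.Data.Matrix.Basis
import Mathlib.Data.Matrix.Basic
import Mathlib.Algebra.Algebra.Hom
import Mathlib.LinearAlgebra.Matrix.ToLin

/-!
# Systems of matrix units (helper3)
-/

set_option autoImplicit false
universe u v w

namespace Groth.Agent.Lib.Helper3.MatUnits

variable {B : Type v} [Ring B] {n : ℕ}

/-- a system of `n × n` matrix units -/
structure IsMatUnits (E : Fin n → Fin n → B) : Prop where
  mul : ∀ i j k l, E i j * E k l = if j = k then E i l else 0
  sum : ∑ i, E i i = 1

lemma IsMatUnits.map {B' : Type w} [Ring B'] {E : Fin n → Fin n → B} (h : IsMatUnits E)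
    (g : B →+* B') : IsMatUnits (fun i j => g (E i j)) where
  mul i j k l := by
    rw [← map_mul, h.mul]
    split_ifs <;> simp
  sum := by rw [← map_sum, h.sum, map_one]

lemma isMatUnits_single (T : Type u) [CommRing T] :
    IsMatUnits (fun i j : Fin n => Matrix.single i j (1 : T)) where
  mul i j k l := by
    by_cases h : j = k
    · subst h
      simp
    · simp [h]
  sum := Matrix.sum_single_one


section hom

variable {T : Type u} [CommRing T] [Algebra T B]

/-- the linear map `M ↦ ∑ M i j • E i j` -/
noncomputable def linOfMatUnits (E : Fin n → Fin n → B) : Matrix (Fin n) (Fin n) T →ₗ[T] B where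
  toFun M := ∑ i, ∑ j, M i j • E i j
  map_add' M N := by
    simp only [Matrix.add_apply, add_smul, Finset.sum_add_distrib]
  map_smul' r M := by
    simp only [Matrix.smul_apply, smul_eq_mul, mul_smul, Finset.smul_sum, RingHom.id_apply]

lemma linOfMatUnits_apply (E : Fin n → Fin n → B) (M : Matrix (Fin n) (Fin n) T) :
    linOfMatUnits E M = ∑ i, ∑ j, M i j • E i j := rfl

/-- the algebra map from the matrix algebra defined by a system of matrix units -/
noncomputable def homOfMatUnits (E : Fin n → Fin n → B) (h : IsMatUnits E) :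
    Matrix (Fin n) (Fin n) T →ₐ[T] B :=
  AlgHom.ofLinearMap (linOfMatUnits E)
    (by
      rw [linOfMatUnits_apply, ← h.sum]
      apply Finset.sum_congr rfl
      intro i _
      rw [Finset.sum_eq_single i]
      · simp
      · intro j _ hj
        simp [Ne.symm hj]
      · simp)
    (by
      intro M N
      simp only [linOfMatUnits_apply, Matrix.mul_apply, Finset.sum_mul, Finset.mul_sum,
        smul_mul_smul_comm, h.mul, Finset.sum_smul, smul_ite, smul_zero, Finset.sum_ite_eq',
        Finset.mem_univ, if_true]
      calc ∑ a, ∑ c, ∑ b, (M a b * N b c) • E a c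
          = ∑ a, ∑ b, ∑ c, (M a b * N b c) • E a c :=
            Finset.sum_congr rfl (fun a _ => Finset.sum_comm)
        _ = ∑ b, ∑ a, ∑ c, (M a b * N b c) • E a c := Finset.sum_comm
        _ = ∑ b, ∑ c, ∑ a, (M a b * N b c) • E a c :=
            Finset.sum_congr rfl (fun b _ => Finset.sum_comm))

lemma homOfMatUnits_apply (E : Fin n → Fin n → B) (h : IsMatUnits E)
    (M : Matrix (Fin n) (Fin n) T) : homOfMatUnits E h M = ∑ i, ∑ j, M i j • E i j := rfl

end hom

end Groth.Agent.Lib.Helper3.MatUnits
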