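import Groth.Agent.Lib.Helper3.FixedBC
import Groth.Agent.Lib.Helper3.MatUnits
import Groth.Agent.Lib.Helper3.AzHomBij
import Groth.Agent.Lib.Helper3.LGMat

/-!
# Matrix units in `S' ⊗_S A` split the Azumaya algebra `A` over `S' ⊗_S R` (helper3)
-/

set_option autoImplicit false
universe u u' v w

open TensorProduct

namespace Groth.Agent.Lib.Helper3.FixedSplit

open AzInv Groth.Agent.Lib.Helper3.FixedBC Groth.Agent.Lib.Helper3.MatUnits

attribute [local instance] Algebra.TensorProduct.rightAlgebra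

variable {S : Type u} {R : Type v} [CommRing S] [CommRing R] [Algebra S R]
  {A : Type w} [Ring A] [Algebra S A] [Algebra R A] [IsScalarTower S R A]

/-- a system of matrix units in `S' ⊗ A` splits `A` over `S' ⊗ R` -/
theorem split_of_matUnits (S' : Type u') [CommRing S'] [Algebra S S'] (n : ℕ) (hn : 0 < n)
    (hA : IsAzumayaDeg R A n) (E : Fin n → Fin n → S' ⊗[S] A) (hE : IsMatUnits E) :
    ∃ f : S' ⊗[S] A ≃ₐ[S'] Matrix (Fin n) (Fin n) (S' ⊗[S] R),
      ∀ (r : R) (x : S' ⊗[S] A),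
        f (((1 : S') ⊗ₜ[S] algebraMap R A r) * x) =
          Matrix.scalar (Fin n) ((1 : S') ⊗ₜ[S] r) * f x := by
  haveI := hA.1
  haveI : NeZero n := ⟨hn.ne'⟩
  haveI := isAzumaya_bc (S := S) (S' := S') (R := R) (A := A)
  haveI : IsAzumaya (S' ⊗[S] R) (Matrix (Fin n) (Fin n) (S' ⊗[S] R)) :=
    IsAzumaya.matrix (S' ⊗[S] R) (Fin n)
  have hE' := hE.map (cbc S S' R A : S' ⊗[S] A →+* (S' ⊗[S] R) ⊗[R] A)
  let φ : Matrix (Fin n) (Fin n) (S' ⊗[S] R) →ₐ[S' ⊗[S] R] (S' ⊗[S] R) ⊗[R] A :=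
    homOfMatUnits _ hE'
  have hφ : Function.Bijective φ := by
    apply AzHomBij.bijective_of_rank φ
    · intro q
      rw [LGMat.rankAtStalk_matrix, rank_bc n hA.2]
      haveI : Nontrivial (S' ⊗[S] R) := q.nontrivial
      rw [Module.rankAtStalk_self]
      simp [sq]
    · intro q
      rw [rank_bc n hA.2]
      positivity
  let F : Matrix (Fin n) (Fin n) (S' ⊗[S] R) ≃ₐ[S' ⊗[S] R] (S' ⊗[S] R) ⊗[R] A :=
    AlgEquiv.ofBijective φ hφ
  refine ⟨(cbc S S' R A).trans (F.symm.restrictScalars S'), ?_⟩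
  intro r x
  rw [AlgEquiv.trans_apply, AlgEquiv.trans_apply, map_mul]
  have h1 : cbc S S' R A ((1 : S') ⊗ₜ[S] algebraMap R A r) =
      algebraMap (S' ⊗[S] R) ((S' ⊗[S] R) ⊗[R] A) ((1 : S') ⊗ₜ[S] r) := by
    rw [← mu_tmul, cbc_mu, Algebra.TensorProduct.algebraMap_apply]
    rfl
  rw [h1]
  show F.symm (_ * _) = _
  rw [map_mul, AlgEquiv.commutes]
  rfl

end Groth.Agent.Lib.Helper3.FixedSplit
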