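import Groth.Agent.Lib.Helper3.HensSplitUniv
import Groth.Agent.Lib.Helper3.FixedSplit
import Groth.Agent.Lib.Helper3.AzInvInner

/-! Matrix units in `H ⊗_S A` for `H` a flat strictly henselian local `S`-algebra, where `A` is
Azumaya over `R` and `S` is the fixed ring of an involution of `R` (helper3). -/

set_option autoImplicit false
universe u v w

open TensorProduct IsLocalRing

namespace Groth.Agent.Lib.Helper3.HensUnits

open AzInv Groth.Agent.Lib.Helper3.FixedBC Groth.Agent.Lib.Helper3.MatUnits

attribute [local instance] Algebra.TensorProduct.rightAlgebra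

/-- if a ring endomorphism has all norms `x σ(x)` in the image of a local ring `H` over which
`T` is integral, then `T` has at most two maximal ideals -/
theorem finite_maximal_of_norm {H T : Type*} [CommRing H] [IsLocalRing H] [CommRing T]
    [Algebra H T] [Algebra.IsIntegral H T] (σ : T →+* T)
    (hN : ∀ x, x * σ x ∈ Set.range (algebraMap H T)) : {m : Ideal T | m.IsMaximal}.Finite := by
  by_cases h : ∃ P : Ideal T, P.IsMaximal
  · obtain ⟨P, hP⟩ := h
    apply Set.Finite.subset (Set.toFinite {P, P.comap σ})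
    intro P' (hP' : P'.IsMaximal)
    have hcP : P.comap (algebraMap H T) = maximalIdeal H :=
      IsLocalRing.eq_maximalIdeal (Ideal.isMaximal_comap_of_isIntegral_of_isMaximal (R := H) P)
    have hcP' : P'.comap (algebraMap H T) = maximalIdeal H :=
      IsLocalRing.eq_maximalIdeal (Ideal.isMaximal_comap_of_isIntegral_of_isMaximal (R := H) P')
    have hsub : (P' : Set T) ⊆ (P : Set T) ∪ (P.comap σ : Ideal T) := by
      intro x hx
      obtain ⟨h, hh⟩ := hN x
      have h1 : h ∈ P'.comap (algebraMap H T) := by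
        rw [Ideal.mem_comap, hh]
        exact P'.mul_mem_right _ hx
      rw [hcP', ← hcP, Ideal.mem_comap, hh] at h1
      rcases hP.isPrime.mem_or_mem h1 with h2 | h2
      · left; exact h2
      · right; exact h2
    rcases Ideal.subset_union.mp hsub with h1 | h1
    · left; exact hP'.eq_of_le hP.ne_top h1
    · right
      exact hP'.eq_of_le (Ideal.comap_ne_top _ hP.ne_top) h1
  · convert Set.finite_empty
    ext m
    simp only [Set.mem_ofPred_eq, Set.mem_empty_iff_false, iff_false]
    exact fun hm => h ⟨m, hm⟩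

variable {S : Type u} {R : Type v} {A : Type w} [CommRing S] [CommRing R] [Algebra S R]
  [Ring A] [Algebra S A] [Algebra R A] [IsScalarTower S R A]

/-- over a flat strictly henselian local `S`-algebra `H`, the algebra `H ⊗ A` has matrix units -/
theorem exists_matUnits (lam : R ≃ₐ[S] R) (hlam : ∀ r, lam (lam r) = r)
    (hfix : RInv.IsFixedRing S R lam.toRingEquiv) (n : ℕ) (hn : 0 < n)
    (hA : IsAzumayaDeg R A n)
    (H : Type u) [CommRing H] [HenselianLocalRing H] [IsSepClosed (ResidueField H)]
    [Algebra S H] [Module.Flat S H] :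
    ∃ E : Fin n → Fin n → H ⊗[S] A, IsMatUnits E := by
  haveI := hA.1
  haveI : NeZero n := ⟨hn.ne'⟩
  haveI : Algebra.IsIntegral S R := AzInvInner.isIntegral lam hfix hlam
  let σ : H ⊗[S] R →ₐ[H] H ⊗[S] R := Algebra.TensorProduct.map (AlgHom.id H H) lam.toAlgHom
  have hσ : ∀ x, σ x = LinearMap.lTensor H lam.toLinearMap x := by
    intro x
    induction x using TensorProduct.induction_on with
    | zero => simp
    | tmul s c => rfl
    | add x y hx hy => rw [map_add, map_add, hx, hy]
  have hσσ : ∀ x, σ (σ x) = x := by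
    intro x
    induction x using TensorProduct.induction_on with
    | zero => simp
    | tmul s c =>
      show (s ⊗ₜ[S] lam (lam c) : H ⊗[S] R) = _
      rw [hlam]
    | add x y hx hy => rw [map_add, map_add, hx, hy]
  have hN : ∀ x, x * σ.toRingHom x ∈ Set.range (algebraMap H (H ⊗[S] R)) := by
    intro x
    obtain ⟨s, hs⟩ := exists_of_fixed_bc (S := S) (S' := H) lam hfix (x * σ x) (by
      rw [← hσ, map_mul, hσσ, mul_comm])
    exact ⟨s, by rw [Algebra.TensorProduct.algebraMap_apply]; exact hs⟩
  have hfin := finite_maximal_of_norm (H := H) σ.toRingHom hN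
  haveI := isAzumaya_bc (S := S) (S' := H) (R := R) (A := A)
  obtain ⟨ρ⟩ := HensSplitUniv.exists_algHom_matrix H (H ⊗[S] R) ((H ⊗[S] R) ⊗[R] A) hfin n
    (rank_bc n hA.2)
  haveI : IsAzumaya (H ⊗[S] R) (Matrix (Fin n) (Fin n) (H ⊗[S] R)) :=
    IsAzumaya.matrix (H ⊗[S] R) (Fin n)
  have hρ : Function.Bijective ρ := by
    apply AzHomBij.bijective_of_rank ρ
    · intro q
      rw [LGMat.rankAtStalk_matrix, rank_bc n hA.2]
      haveI : Nontrivial (H ⊗[S] R) := q.nontrivial
      rw [Module.rankAtStalk_self]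
      simp [sq]
    · intro q
      rw [LGMat.rankAtStalk_matrix]
      haveI : Nontrivial (H ⊗[S] R) := q.nontrivial
      rw [Module.rankAtStalk_self]
      simp only [Pi.one_apply, mul_one]
      positivity
  let F : (H ⊗[S] R) ⊗[R] A ≃ₐ[H ⊗[S] R] Matrix (Fin n) (Fin n) (H ⊗[S] R) :=
    AlgEquiv.ofBijective ρ hρ
  have h0 := isMatUnits_single (n := n) (H ⊗[S] R)
  have h1 := h0.map (F.symm : Matrix (Fin n) (Fin n) (H ⊗[S] R) →+* (H ⊗[S] R) ⊗[R] A)
  have h2 := h1.map ((cbc S H R A).symm : (H ⊗[S] R) ⊗[R] A →+* H ⊗[S] A)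
  exact ⟨_, h2⟩

end Groth.Agent.Lib.Helper3.HensUnits
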