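import Groth.Agent.Lib.Helper87.IndEtale
import Groth.Agent.Lib.Helper3.MatUnits

/-! Descent of elements, relations and matrix units from `H ⊗_S A` to `E ⊗_S A` for an étale
stage `E` of an ind-étale flat `S`-algebra `H` (helper3). -/

set_option autoImplicit false
universe u w

open TensorProduct CategoryTheory

namespace Groth.Agent.Lib.Helper3.IndEtDescent

open Groth.Agent.Lib.Helper87.IndEt Groth.Agent.Lib.Helper3.MatUnits

variable {S : Type u} [CommRing S] {H : Type u} [CommRing H] [Algebra S H]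
variable (A : Type w) [Ring A] [Algebra S A]

/-- the map `E ⊗ A → H ⊗ A` of a stage -/
noncomputable def fA (j : EIdx S H) : j.A ⊗[S] A →ₐ[S] H ⊗[S] A :=
  Algebra.TensorProduct.map j.f (AlgHom.id S A)

/-- the transition map -/
noncomputable def mapA {j k : EIdx S H} (g : j ⟶ k) : j.A ⊗[S] A →ₐ[S] k.A ⊗[S] A :=
  Algebra.TensorProduct.map g.map (AlgHom.id S A)

@[simp] lemma fA_tmul (j : EIdx S H) (e : j.A) (a : A) : fA A j (e ⊗ₜ a) = j.f e ⊗ₜ a := rfl

@[simp] lemma mapA_tmul {j k : EIdx S H} (g : j ⟶ k) (e : j.A) (a : A) :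
    mapA A g (e ⊗ₜ a) = g.map e ⊗ₜ a := rfl

lemma fA_mapA {j k : EIdx S H} (g : j ⟶ k) (y : j.A ⊗[S] A) : fA A k (mapA A g y) = fA A j y := by
  induction y using TensorProduct.induction_on with
  | zero => simp
  | tmul e a => rw [mapA_tmul, fA_tmul, fA_tmul, EIdx.Hom.f_map]
  | add x y hx hy => rw [map_add, map_add, map_add, hx, hy]

lemma mapA_comp {j k l : EIdx S H} (g : j ⟶ k) (h : k ⟶ l) (y : j.A ⊗[S] A) :
    mapA A (g ≫ h) y = mapA A h (mapA A g y) := by
  induction y using TensorProduct.induction_on with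
  | zero => simp
  | tmul e a => rfl
  | add x y hx hy => rw [map_add, map_add, map_add, hx, hy]

variable (h1 : CoveredByEtale S H) (h2 : KillsRelations S H)

include h1 h2

/-- finitely many elements of `H` come from a common refinement of a given stage -/
lemma exists_cover (j : EIdx S H) (s : Finset H) :
    ∃ (k : EIdx S H) (_ : j ⟶ k), ∀ x ∈ s, x ∈ Set.range k.f := by
  classical
  haveI := isFiltered h2
  induction s using Finset.induction_on with
  | empty => exact ⟨j, 𝟙 j, by simp⟩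
  | insert a s _ ih =>
    obtain ⟨k, g, hk⟩ := ih
    obtain ⟨A', _, _, _, f', a', ha'⟩ := h1 a
    obtain ⟨i, e, he⟩ := exists_eidx f'
    refine ⟨IsFiltered.max k i, g ≫ IsFiltered.leftToMax k i, ?_⟩
    intro x hx
    rcases Finset.mem_insert.mp hx with rfl | hx
    · refine ⟨(IsFiltered.rightToMax k i).map (e a'), ?_⟩
      rw [EIdx.Hom.f_map, ← ha', ← he]
      rfl
    · obtain ⟨y, rfl⟩ := hk x hx
      exact ⟨(IsFiltered.leftToMax k i).map y, EIdx.Hom.f_map _ _⟩

lemma exists_cover_family (j : EIdx S H) {κ : Type*} [Fintype κ] (z : κ → H) :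
    ∃ (k : EIdx S H) (_ : j ⟶ k) (z' : κ → k.A), ∀ i, k.f (z' i) = z i := by
  classical
  obtain ⟨k, g, hk⟩ := exists_cover h1 h2 j (Finset.univ.image z)
  have : ∀ i, ∃ y, k.f y = z i := fun i => hk _ (Finset.mem_image_of_mem _ (Finset.mem_univ i))
  choose z' hz' using this
  exact ⟨k, g, z', hz'⟩

/-- every element of `H ⊗ A` comes from a stage -/
lemma exists_rep (x : H ⊗[S] A) : ∃ (j : EIdx S H) (y : j.A ⊗[S] A), fA A j y = x := by
  haveI := isFiltered h2
  haveI : Nonempty (EIdx S H) := IsFiltered.nonempty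
  induction x using TensorProduct.induction_on with
  | zero => exact ⟨Classical.arbitrary _, 0, map_zero _⟩
  | tmul h a =>
    obtain ⟨A', _, _, _, f', a', ha'⟩ := h1 h
    obtain ⟨i, e, he⟩ := exists_eidx f'
    refine ⟨i, e a' ⊗ₜ a, ?_⟩
    rw [fA_tmul, ← ha', ← he]
    rfl
  | add x y hx hy =>
    obtain ⟨j₁, y₁, rfl⟩ := hx
    obtain ⟨j₂, y₂, rfl⟩ := hy
    refine ⟨IsFiltered.max j₁ j₂, mapA A (IsFiltered.leftToMax j₁ j₂) y₁ +
      mapA A (IsFiltered.rightToMax j₁ j₂) y₂, ?_⟩
    rw [map_add, fA_mapA, fA_mapA]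

lemma exists_rep_finset (s : Finset (H ⊗[S] A)) :
    ∃ j : EIdx S H, ∀ x ∈ s, x ∈ Set.range (fA A j) := by
  classical
  haveI := isFiltered h2
  haveI : Nonempty (EIdx S H) := IsFiltered.nonempty
  induction s using Finset.induction_on with
  | empty => exact ⟨Classical.arbitrary _, by simp⟩
  | insert a s _ ih =>
    obtain ⟨k, hk⟩ := ih
    obtain ⟨i, y, hy⟩ := exists_rep A h1 h2 a
    refine ⟨IsFiltered.max k i, ?_⟩
    intro x hx
    rcases Finset.mem_insert.mp hx with rfl | hx
    · exact ⟨mapA A (IsFiltered.rightToMax k i) y, by rw [fA_mapA, hy]⟩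
    · obtain ⟨y', rfl⟩ := hk x hx
      exact ⟨mapA A (IsFiltered.leftToMax k i) y', fA_mapA A _ _⟩

lemma exists_rep_family {κ : Type*} [Fintype κ] (x : κ → H ⊗[S] A) :
    ∃ (j : EIdx S H) (y : κ → j.A ⊗[S] A), ∀ i, fA A j (y i) = x i := by
  classical
  obtain ⟨j, hj⟩ := exists_rep_finset A h1 h2 (Finset.univ.image x)
  have : ∀ i, ∃ y, fA A j y = x i := fun i => hj _ (Finset.mem_image_of_mem _ (Finset.mem_univ i))
  choose y hy using this
  exact ⟨j, y, hy⟩

/-- vanishing in `H ⊗ A` descends to a further stage -/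
lemma exists_kill_tensor [Module.Flat S H] (j : EIdx S H) (y : j.A ⊗[S] A) (hy : fA A j y = 0) :
    ∃ (k : EIdx S H) (g : j ⟶ k), mapA A g y = 0 := by
  classical
  obtain ⟨m, e, a, rfl⟩ := TensorProduct.exists_sum_tmul_eq y
  have h0 : ∑ i, a i ⊗ₜ[S] j.f (e i) = (0 : A ⊗[S] H) := by
    have := congrArg (TensorProduct.comm S H A) hy
    simpa using this
  have hinj : Function.Injective
      (LinearMap.rTensor H (Submodule.span S (Set.range a)).subtype) :=
    Module.Flat.rTensor_preserves_injective_linearMap _ (Submodule.injective_subtype _)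
  obtain ⟨κ, c, z, hz1, hz2⟩ :=
    TensorProduct.vanishesTrivially_of_sum_tmul_eq_zero_of_rTensor_injective S hinj h0
  replace hz1 : ∀ i, j.f (e i) = ∑ l, c i l • z l := hz1
  obtain ⟨k, g, z', hz'⟩ := exists_cover_family h1 h2 j z
  obtain ⟨k', g', hk'⟩ := exists_kill h2 k
    (Finset.univ.image (fun i => g.map (e i) - ∑ l, c i l • z' l)) (by
      intro r hr
      obtain ⟨i, -, rfl⟩ := Finset.mem_image.mp hr
      rw [map_sub, EIdx.Hom.f_map, map_sum, hz1 i, sub_eq_zero]
      refine Finset.sum_congr rfl fun l _ => ?_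
      rw [map_smul, hz'])
  refine ⟨k', g ≫ g', ?_⟩
  have hv : TensorProduct.VanishesTrivially S a (fun i => g'.map (g.map (e i))) := by
    refine ⟨κ, c, fun l => g'.map (z' l), ?_, hz2⟩
    intro i
    have := hk' _ (Finset.mem_image_of_mem _ (Finset.mem_univ i))
    rw [map_sub, sub_eq_zero] at this
    show g'.map (g.map (e i)) = ∑ l, c i l • g'.map (z' l)
    rw [this, map_sum]
    refine Finset.sum_congr rfl fun l _ => ?_
    rw [map_smul]
  have h3 := TensorProduct.sum_tmul_eq_zero_of_vanishesTrivially S hv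
  have h4 := congrArg (TensorProduct.comm S A k'.A) h3
  simpa using h4

lemma exists_kill_tensor_finset [Module.Flat S H] (j : EIdx S H) (s : Finset (j.A ⊗[S] A))
    (hs : ∀ y ∈ s, fA A j y = 0) :
    ∃ (k : EIdx S H) (g : j ⟶ k), ∀ y ∈ s, mapA A g y = 0 := by
  classical
  induction s using Finset.induction_on with
  | empty => exact ⟨j, 𝟙 j, by simp⟩
  | insert a s _ ih =>
    obtain ⟨k, g, hk⟩ := ih (fun b hb => hs b (Finset.mem_insert_of_mem hb))
    have hka : fA A k (mapA A g a) = 0 := by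
      rw [fA_mapA]
      exact hs a (Finset.mem_insert_self a s)
    obtain ⟨k', g', hk'⟩ := exists_kill_tensor A h1 h2 k (mapA A g a) hka
    refine ⟨k', g ≫ g', ?_⟩
    intro b hb
    rw [mapA_comp]
    rcases Finset.mem_insert.mp hb with rfl | hb
    · exact hk'
    · rw [hk b hb, map_zero]

/-- matrix units in `H ⊗ A` descend to a stage -/
theorem exists_matUnits [Module.Flat S H] {n : ℕ} (E : Fin n → Fin n → H ⊗[S] A)
    (hE : IsMatUnits E) :
    ∃ (k : EIdx S H) (E' : Fin n → Fin n → k.A ⊗[S] A), IsMatUnits E' := by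
  classical
  obtain ⟨j, y, hy⟩ := exists_rep_family A h1 h2 (fun p : Fin n × Fin n => E p.1 p.2)
  let rel : (Fin n × Fin n) × (Fin n × Fin n) → j.A ⊗[S] A := fun p =>
    y (p.1.1, p.1.2) * y (p.2.1, p.2.2) - if p.1.2 = p.2.1 then y (p.1.1, p.2.2) else 0
  obtain ⟨k, g, hk⟩ := exists_kill_tensor_finset A h1 h2 j
    (insert (∑ i, y (i, i) - 1) (Finset.univ.image rel)) (by
      intro r hr
      rcases Finset.mem_insert.mp hr with rfl | hr
      · have e1 : fA A j 1 = 1 := (fA A j).map_one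
        rw [map_sub, map_sum, e1]
        simp only [hy]
        rw [hE.sum, sub_self]
      · obtain ⟨p, -, rfl⟩ := Finset.mem_image.mp hr
        simp only [rel]
        rw [map_sub, map_mul, hy, hy, hE.mul]
        split_ifs with h
        · rw [hy, sub_self]
        · rw [map_zero, sub_self])
  refine ⟨k, fun i l => mapA A g (y (i, l)), ⟨?_, ?_⟩⟩
  · intro i₁ i₂ i₃ i₄
    have := hk _ (Finset.mem_insert_of_mem (Finset.mem_image_of_mem rel
      (Finset.mem_univ ((i₁, i₂), (i₃, i₄)))))
    simp only [rel] at this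
    rw [map_sub, map_mul, sub_eq_zero] at this
    rw [this]
    split_ifs with h
    · rfl
    · rw [map_zero]
  · have := hk _ (Finset.mem_insert_self _ _)
    have e1 : mapA A g 1 = 1 := (mapA A g).map_one
    rw [map_sub, map_sum, e1, sub_eq_zero] at this
    exact this

end Groth.Agent.Lib.Helper3.IndEtDescent
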