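import Groth.Agent.Lib.Helper3.FixedSplit
import Groth.Agent.Lib.Helper3.LamInvBC

/-! Splittings from matrix units with explicit inverse; symmetric matrix units give splittings
compatible with the involution (helper3). -/

set_option autoImplicit false
universe u u' v w

open TensorProduct

namespace Groth.Agent.Lib.Helper3.FixedSplitSym

open AzInv Groth.Agent.Lib.Helper3.FixedBC Groth.Agent.Lib.Helper3.MatUnits
  Groth.Agent.Lib.Helper3.LamInvBC

attribute [local instance] Algebra.TensorProduct.rightAlgebra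

variable {S : Type u} {R : Type v} [CommRing S] [CommRing R] [Algebra S R]
  {A : Type w} [Ring A] [Algebra S A] [Algebra R A] [IsScalarTower S R A]

/-- a system of matrix units in `S' ⊗ A` splits `A` over `S' ⊗ R`, with explicit inverse -/
theorem split_of_matUnits' (S' : Type u') [CommRing S'] [Algebra S S'] (n : ℕ) (hn : 0 < n)
    (hA : IsAzumayaDeg R A n) (E : Fin n → Fin n → S' ⊗[S] A) (hE : IsMatUnits E) :
    ∃ f : S' ⊗[S] A ≃ₐ[S'] Matrix (Fin n) (Fin n) (S' ⊗[S] R),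
      (∀ (r : R) (x : S' ⊗[S] A),
        f (((1 : S') ⊗ₜ[S] algebraMap R A r) * x) =
          Matrix.scalar (Fin n) ((1 : S') ⊗ₜ[S] r) * f x) ∧
      ∀ M, f.symm M = ∑ i, ∑ j, mu S S' R A (M i j) * E i j := by
  haveI := hA.1
  haveI : NeZero n := ⟨hn.ne'⟩
  haveI := isAzumaya_bc (S := S) (S' := S') (R := R) (A := A)
  haveI : IsAzumaya (S' ⊗[S] R) (Matrix (Fin n) (Fin n) (S' ⊗[S] R)) :=
    IsAzumaya.matrix (S' ⊗[S] R) (Fin n)
  have hE' := hE.map (cbc S S' R A : S' ⊗[S] A →+* (S' ⊗[S] R) ⊗[R] A)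
  let φ : Matrix (Fin n) (Fin n) (S' ⊗[S] R) →ₐ[S' ⊗[S] R] (S' ⊗[S] R) ⊗[R] A :=
    homOfMatUnits _ hE'
  have hφ : Function.Bijective φ := by
    apply AzHomBij.bijective_of_rank φ
    · intro q
      rw [LGMat.rankAtStalk_matrix, rank_bc n hA.2]
      haveI : Nontrivial (S' ⊗[S] R) := q.nontrivial
      rw [Module.rankAtStalk_self]
      simp [sq]
    · intro q
      rw [rank_bc n hA.2]
      positivity
  let F : Matrix (Fin n) (Fin n) (S' ⊗[S] R) ≃ₐ[S' ⊗[S] R] (S' ⊗[S] R) ⊗[R] A :=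
    AlgEquiv.ofBijective φ hφ
  refine ⟨(cbc S S' R A).trans (F.symm.restrictScalars S'), ?_, ?_⟩
  · intro r x
    rw [AlgEquiv.trans_apply, AlgEquiv.trans_apply, map_mul]
    have h1 : cbc S S' R A ((1 : S') ⊗ₜ[S] algebraMap R A r) =
        algebraMap (S' ⊗[S] R) ((S' ⊗[S] R) ⊗[R] A) ((1 : S') ⊗ₜ[S] r) := by
      rw [← mu_tmul, cbc_mu, Algebra.TensorProduct.algebraMap_apply]
      rfl
    rw [h1]
    show F.symm (_ * _) = _
    rw [map_mul, AlgEquiv.commutes]
    rfl
  · intro M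
    show (cbc S S' R A).symm (F M) = _
    apply (cbc S S' R A).injective
    rw [AlgEquiv.apply_symm_apply, map_sum]
    show homOfMatUnits _ hE' M = _
    rw [homOfMatUnits_apply]
    refine Finset.sum_congr rfl fun i _ => ?_
    rw [map_sum]
    refine Finset.sum_congr rfl fun j _ => ?_
    rw [map_mul, cbc_mu, Algebra.smul_def, Algebra.TensorProduct.algebraMap_apply]
    rfl

/-- symmetric matrix units give a splitting compatible with the involution -/
theorem split_of_symm_matUnits (S' : Type u') [CommRing S'] [Algebra S S'] (n : ℕ) (hn : 0 < n)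
    (hA : IsAzumayaDeg R A n) (E : Fin n → Fin n → S' ⊗[S] A) (hE : IsMatUnits E)
    (lam : R ≃ₐ[S] R) (t : LamInv R A lam) (hEs : ∀ i j, t.bc S lam S' (E i j) = E j i) :
    ∃ f : S' ⊗[S] A ≃ₐ[S'] Matrix (Fin n) (Fin n) (S' ⊗[S] R),
      (∀ (r : R) (x : S' ⊗[S] A),
        f (((1 : S') ⊗ₜ[S] algebraMap R A r) * x) =
          Matrix.scalar (Fin n) ((1 : S') ⊗ₜ[S] r) * f x) ∧
      ∀ x, f (t.bc S lam S' x) = lamTr (LinearMap.lTensor S' lam.toLinearMap) (f x) := by
  obtain ⟨f, hf1, hf2⟩ := split_of_matUnits' S' n hn hA E hE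
  refine ⟨f, hf1, ?_⟩
  intro x
  obtain ⟨M, rfl⟩ := f.symm.surjective x
  rw [AlgEquiv.apply_symm_apply]
  apply f.symm.injective
  rw [AlgEquiv.symm_apply_apply, hf2, hf2, map_sum]
  rw [Finset.sum_comm]
  refine Finset.sum_congr rfl fun j _ => ?_
  rw [map_sum]
  refine Finset.sum_congr rfl fun i _ => ?_
  rw [bc_mul, hEs, bc_mu, lamTr_apply, mu_central]

end Groth.Agent.Lib.Helper3.FixedSplitSym
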