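import Mathlib
import Groth.Prelude.Def_CartDual2
import Groth.Agent.Lib.Helper69.HopfUnit

set_option autoImplicit false
universe u
open scoped TensorProduct

namespace Groth.Agent.Lib.Helper3.GM1

open Groth.Agent.Lib.Helper69.HopfUnit

/-- in a ring whose quotient by `(1 - f)` is local, an idempotent `g` with the same augmentation as
`f` absorbs `f`. -/
theorem idem_mul_eq {R : Type u} [CommRing R] [Nontrivial R] {C : Type u} [CommRing C]
    [Algebra R C] (ε : C →ₐ[R] R) (f g : C) (hg : IsIdempotentElem g)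
    (hεf : ε f = 1) (hεg : ε g = 1) (hf : IsIdempotentElem f)
    [IsLocalRing (C ⧸ Ideal.span ({1 - f} : Set C))] : f * g = f := by
  have hle : Ideal.span ({1 - f} : Set C) ≤ RingHom.ker ε := by
    rw [Ideal.span_le, Set.singleton_subset_iff]
    change ε (1 - f) = 0
    rw [map_sub, map_one, hεf, sub_self]
  let εbar : (C ⧸ Ideal.span ({1 - f} : Set C)) →ₐ[R] R :=
    Ideal.Quotient.liftₐ _ ε (fun _ ha => hle ha)
  have hmk : IsIdempotentElem (Ideal.Quotient.mk (Ideal.span ({1 - f} : Set C)) g) := hg.map _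
  rcases eq_zero_or_eq_one_of_isIdempotentElem hmk with h | h
  · exfalso
    have : εbar (Ideal.Quotient.mk _ g) = 1 := hεg
    rw [h, map_zero] at this
    exact zero_ne_one this
  · have h1 : (1 : C) - g ∈ Ideal.span ({1 - f} : Set C) := by
      rw [← Ideal.Quotient.eq_zero_iff_mem, map_sub, map_one, h, sub_self]
    obtain ⟨c, hc⟩ := Ideal.mem_span_singleton'.mp h1
    have h2 : f * (1 - g) = 0 := by
      rw [← hc]
      have : f * (c * (1 - f)) = c * (f - f * f) := by ring
      rw [this, hf.eq, sub_self, mul_zero]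
    rw [mul_sub, mul_one, sub_eq_zero] at h2
    exact h2.symm

section quot
variable {R : Type u} [CommRing R] {A B : Type u} [CommRing A] [HopfAlgebra R A] [CommRing B]
  [HopfAlgebra R B] (ψ : B →ₐc[R] A) (IA : Ideal A) (IB : Ideal B) [IA.IsHopfIdeal R]
  [IB.IsHopfIdeal R] (h : ∀ b ∈ IB, ψ b ∈ IA)

/-- the induced algebra map on quotients -/
noncomputable def quotAlgHom : (B ⧸ IB) →ₐ[R] (A ⧸ IA) :=
  Ideal.Quotient.liftₐ IB ((Ideal.Quotient.mkₐ R IA).comp (ψ : B →ₐ[R] A)) (fun b hb => by
    rw [AlgHom.comp_apply, Ideal.Quotient.mkₐ_eq_mk, Ideal.Quotient.eq_zero_iff_mem]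
    exact h b hb)

theorem quotAlgHom_mk (b : B) :
    quotAlgHom ψ IA IB h (Ideal.Quotient.mk IB b) = Ideal.Quotient.mk IA (ψ b) := rfl

/-- the induced bialgebra map on quotients -/
noncomputable def quotBialgHom : (B ⧸ IB) →ₐc[R] (A ⧸ IA) :=
  BialgHom.ofAlgHom (quotAlgHom ψ IA IB h)
    (by
      apply Ideal.Quotient.algHom_ext
      apply AlgHom.ext
      intro b
      simp only [AlgHom.comp_apply, Ideal.Quotient.mkₐ_eq_mk, quotAlgHom_mk,
        Bialgebra.counitAlgHom_apply, Bialgebra.Quotient.counit_mk]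
      exact CoalgHomClass.counit_comp_apply ψ b)
    (by
      apply Ideal.Quotient.algHom_ext
      apply AlgHom.ext
      intro b
      simp only [AlgHom.comp_apply, Ideal.Quotient.mkₐ_eq_mk, quotAlgHom_mk,
        Bialgebra.comulAlgHom_apply, Bialgebra.Quotient.comul_mk]
      rw [← CoalgHomClass.map_comp_comul_apply ψ b]
      generalize Coalgebra.comul (R := R) b = z
      induction z using TensorProduct.induction_on with
      | zero => simp
      | tmul x y => simp [quotAlgHom_mk]
      | add x y hx hy => simp only [map_add, hx, hy])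

theorem quotBialgHom_mk (b : B) :
    quotBialgHom ψ IA IB h (Ideal.Quotient.mk IB b) = Ideal.Quotient.mk IA (ψ b) := rfl

end quot

end Groth.Agent.Lib.Helper3.GM1
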