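import Groth.Agent.Lib.Helper3.PiTensor
import Groth.Agent.Lib.Helper3.IndEtDescentAdapted
import Groth.Agent.Lib.Helper3.EtCover
import Groth.Prelude.Def_AzInv

/-! Gluing isomorphisms of algebras with involution over a finite product cover (helper3). -/

set_option autoImplicit false
universe u v w w'

open TensorProduct

namespace Groth.Agent.Lib.Helper3.GlueIso

open AzInv Groth.Agent.Lib.Helper3.IndEtDescent

variable {S : Type u} {R : Type v} [CommRing S] [CommRing R] [Algebra S R]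
  {A : Type w} [Ring A] [Algebra S A] [Algebra R A] [IsScalarTower S R A]
  {A' : Type w'} [Ring A'] [Algebra S A'] [Algebra R A'] [IsScalarTower S R A']

/-- isomorphisms with involution over the factors of a finite product glue -/
theorem exists_glue_iso (lam : R ≃ₐ[S] R) (t : LamInv R A lam) (t' : LamInv R A' lam)
    {ι : Type u} [Fintype ι] [DecidableEq ι]
    (T : ι → Type u) [∀ i, CommRing (T i)] [∀ i, Algebra S (T i)]
    (f : ∀ i, T i ⊗[S] A ≃ₐ[T i] T i ⊗[S] A')
    (h1 : ∀ (i : ι) (r : R) (x : T i ⊗[S] A),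
      f i (((1 : T i) ⊗ₜ[S] algebraMap R A r) * x) = ((1 : T i) ⊗ₜ[S] algebraMap R A' r) * f i x)
    (h2 : ∀ (i : ι) (x : T i ⊗[S] A), f i (t.bc S lam (T i) x) = t'.bc S lam (T i) (f i x)) :
    ∃ F : (∀ i, T i) ⊗[S] A ≃ₐ[∀ i, T i] (∀ i, T i) ⊗[S] A',
      (∀ (r : R) (x : (∀ i, T i) ⊗[S] A),
        F (((1 : ∀ i, T i) ⊗ₜ[S] algebraMap R A r) * x) =
          ((1 : ∀ i, T i) ⊗ₜ[S] algebraMap R A' r) * F x) ∧
      ∀ x : (∀ i, T i) ⊗[S] A, F (t.bc S lam (∀ i, T i) x) = t'.bc S lam (∀ i, T i) (F x) := by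
  let P : (∀ i, T i) ⊗[S] A ≃+* ∀ i, T i ⊗[S] A :=
    RingEquiv.ofBijective (PiTensor.prjAll S T A).toRingHom (PiTensor.bijective_prjAll S T A)
  let P' : (∀ i, T i) ⊗[S] A' ≃+* ∀ i, T i ⊗[S] A' :=
    RingEquiv.ofBijective (PiTensor.prjAll S T A').toRingHom (PiTensor.bijective_prjAll S T A')
  let M : (∀ i, T i ⊗[S] A) ≃+* ∀ i, T i ⊗[S] A' :=
    RingEquiv.piCongrRight (fun i => (f i).toRingEquiv)
  let F₀ : (∀ i, T i) ⊗[S] A ≃+* (∀ i, T i) ⊗[S] A' := (P.trans M).trans P'.symm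
  have hkey : ∀ (x : (∀ i, T i) ⊗[S] A) (i : ι),
      PiTensor.prj S T A' i (F₀ x) = f i (PiTensor.prj S T A i x) := by
    intro x i
    have h : P' (F₀ x) = M (P x) := by
      show P' (P'.symm (M (P x))) = _
      rw [RingEquiv.apply_symm_apply]
    exact congrFun h i
  let F : (∀ i, T i) ⊗[S] A ≃ₐ[∀ i, T i] (∀ i, T i) ⊗[S] A' :=
    AlgEquiv.ofRingEquiv (f := F₀) (by
      intro τ
      apply PiTensor.ext_prj
      intro i
      rw [hkey, Algebra.TensorProduct.algebraMap_apply, Algebra.TensorProduct.algebraMap_apply,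
        Algebra.algebraMap_self, RingHom.id_apply, PiTensor.prj_tmul, PiTensor.prj_tmul]
      have := (f i).commutes (τ i)
      rw [Algebra.TensorProduct.algebraMap_apply, Algebra.TensorProduct.algebraMap_apply,
        Algebra.algebraMap_self, RingHom.id_apply] at this
      exact this)
  have hkeyF : ∀ (x : (∀ i, T i) ⊗[S] A) (i : ι),
      PiTensor.prj S T A' i (F x) = f i (PiTensor.prj S T A i x) := hkey
  refine ⟨F, ?_, ?_⟩
  · intro r x
    apply PiTensor.ext_prj
    intro i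
    have e1 : PiTensor.prj S T A i (((1 : ∀ i, T i) ⊗ₜ[S] algebraMap R A r) * x) =
        ((1 : T i) ⊗ₜ[S] algebraMap R A r) * PiTensor.prj S T A i x := by
      rw [map_mul, PiTensor.prj_tmul]
      rfl
    have e2 : PiTensor.prj S T A' i (((1 : ∀ i, T i) ⊗ₜ[S] algebraMap R A' r) * F x) =
        ((1 : T i) ⊗ₜ[S] algebraMap R A' r) * PiTensor.prj S T A' i (F x) := by
      rw [map_mul, PiTensor.prj_tmul]
      rfl
    rw [hkeyF, e1, e2, hkeyF]
    exact h1 i r _
  · intro x
    apply PiTensor.ext_prj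
    intro i
    rw [hkeyF]
    have e1 := map_baseChange A (t.linS S lam) (Pi.evalAlgHom S T i) x
    have e2 := map_baseChange A' (t'.linS S lam) (Pi.evalAlgHom S T i) (F x)
    change PiTensor.prj S T A i (t.bc S lam (∀ i, T i) x) =
      t.bc S lam (T i) (PiTensor.prj S T A i x) at e1
    change PiTensor.prj S T A' i (t'.bc S lam (∀ i, T i) (F x)) =
      t'.bc S lam (T i) (PiTensor.prj S T A' i (F x)) at e2
    rw [e1, e2, hkeyF]
    exact h2 i _

/-- local-to-global for `LocIsoEt`: étale neighbourhoods of every prime carrying an isomorphism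
assemble to an étale faithfully flat cover -/
theorem locIsoEt_of_local (lam : R ≃ₐ[S] R) (t : LamInv R A lam) (t' : LamInv R A' lam)
    (hloc : ∀ q : PrimeSpectrum S, ∃ (T : Type u) (_ : CommRing T) (_ : Algebra S T)
      (_ : Algebra.Etale S T), q ∈ Set.range (PrimeSpectrum.comap (algebraMap S T)) ∧
      ∃ f : T ⊗[S] A ≃ₐ[T] T ⊗[S] A',
        (∀ (r : R) (x : T ⊗[S] A),
          f (((1 : T) ⊗ₜ[S] algebraMap R A r) * x) = ((1 : T) ⊗ₜ[S] algebraMap R A' r) * f x) ∧
        ∀ x : T ⊗[S] A, f (t.bc S lam T x) = t'.bc S lam T (f x)) :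
    LocIsoEt S lam t t' := by
  classical
  choose T iCR iAlg iEt hT f hf1 hf2 using hloc
  obtain ⟨s, hs⟩ := EtCover.exists_finite_cover T hT
  obtain ⟨F, hF1, hF2⟩ := exists_glue_iso lam t t' (fun i : s => T i) (fun i => f i)
    (fun i => hf1 i) (fun i => hf2 i)
  exact ⟨∀ i : s, T i, inferInstance, inferInstance, inferInstance, hs, F, hF1, hF2⟩

end Groth.Agent.Lib.Helper3.GlueIso
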