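import Mathlib.LinearAlgebra.Matrix.Determinant.Basic
import Mathlib.LinearAlgebra.Multilinear.Basic
import Mathlib.LinearAlgebra.Multilinear.Pi
import Mathlib.LinearAlgebra.Matrix.ToLin
import Mathlib.Data.Matrix.Basis

/-!
# Kronecker powers, permutation matrices and the antisymmetriser (helper3)

Explicit matrix model of `End((S^n)^{⊗n})`: `kron`, `permMat`, `alt = ∑ sign σ • permMat σ`,
`alt = ω ωᵀ` with `ω id = 1`, and the switch `∑ E_ab ⊗ E_ba` in two slots is a transposition.
-/

set_option autoImplicit false
universe u v w

open Matrix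

namespace Groth.Agent.Lib.Helper3.TPM

variable {S : Type*} [CommRing S] {n : ℕ}

/-- multi-indices -/
abbrev Idx (n : ℕ) := Fin n → Fin n

/-- Kronecker product of `n` matrices of size `n` -/
def kron (M : Fin n → Matrix (Fin n) (Fin n) S) : Matrix (Idx n) (Idx n) S :=
  Matrix.of fun I J => ∏ k, M k (I k) (J k)

lemma kron_apply (M : Fin n → Matrix (Fin n) (Fin n) S) (I J : Idx n) :
    kron M I J = ∏ k, M k (I k) (J k) := rfl

lemma kron_one : kron (fun _ => (1 : Matrix (Fin n) (Fin n) S)) = 1 := by
  ext I J
  simp only [kron_apply, Matrix.one_apply]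
  rw [Finset.prod_ite_zero]
  simp only [Finset.mem_univ, forall_const, Finset.prod_const_one]
  congr 1
  exact propext funext_iff.symm

lemma kron_mul (M N : Fin n → Matrix (Fin n) (Fin n) S) :
    kron (fun k => M k * N k) = kron M * kron N := by
  ext I J
  simp only [kron_apply, Matrix.mul_apply]
  rw [Finset.prod_univ_sum]
  simp only [Finset.prod_mul_distrib, Fintype.piFinset_univ]

/-- the Kronecker product as a multilinear map -/
noncomputable def kronML : MultilinearMap S (fun _ : Fin n => Matrix (Fin n) (Fin n) S)
    (Matrix (Idx n) (Idx n) S) :=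
  MultilinearMap.pi (fun I : Idx n => MultilinearMap.pi (fun J : Idx n =>
    (MultilinearMap.mkPiAlgebra S (Fin n) S).compLinearMap
      (fun k => (Matrix.entryLinearMap S S (I k) (J k)))))

lemma kronML_apply (M : Fin n → Matrix (Fin n) (Fin n) S) : kronML M = kron M := by
  ext I J
  rw [kron_apply]
  change (MultilinearMap.mkPiAlgebra S (Fin n) S)
    (fun k => Matrix.entryLinearMap S S (I k) (J k) (M k)) = _
  rw [MultilinearMap.mkPiAlgebra_apply]
  rfl

/-- permutation matrices on multi-indices -/
def permMat (S : Type*) [CommRing S] {n : ℕ} (σ : Equiv.Perm (Fin n)) : Matrix (Idx n) (Idx n) S :=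
  Matrix.of fun I J => if I ∘ σ = J then 1 else 0

lemma permMat_apply (σ : Equiv.Perm (Fin n)) (I J : Idx n) :
    permMat S σ I J = if I ∘ σ = J then 1 else 0 := rfl

lemma permMat_one : permMat S (1 : Equiv.Perm (Fin n)) = 1 := by
  ext I J
  simp [permMat_apply, Matrix.one_apply]

lemma permMat_mul (σ τ : Equiv.Perm (Fin n)) :
    permMat S (σ * τ) = permMat S σ * permMat S τ := by
  ext I J
  simp only [permMat_apply, Matrix.mul_apply]
  rw [Finset.sum_eq_single (I ∘ σ)]
  · simp only [if_true, one_mul]
    rfl
  · intro L _ hL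
    rw [if_neg (Ne.symm hL), zero_mul]
  · intro h; exact absurd (Finset.mem_univ _) h

/-- the matrix `(δ_{I a, c})` -/
def permD (S : Type*) [CommRing S] {n : ℕ} (I : Idx n) : Matrix (Fin n) (Fin n) S :=
  Matrix.of fun a c => if I a = c then 1 else 0

/-- the "volume form" -/
def omega (S : Type*) [CommRing S] {n : ℕ} (I : Idx n) : S := (permD S I).det

lemma omega_id : omega S (id : Idx n) = 1 := by
  have : permD S (id : Idx n) = 1 := by
    ext a c
    simp [permD, Matrix.one_apply]
  rw [omega, this, Matrix.det_one]

/-- the antisymmetriser -/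
def alt (S : Type*) [CommRing S] (n : ℕ) : Matrix (Idx n) (Idx n) S :=
  ∑ σ : Equiv.Perm (Fin n), Equiv.Perm.sign σ • permMat S σ

lemma alt_eq : alt S n = Matrix.vecMulVec (omega S) (omega S) := by
  ext I J
  rw [Matrix.vecMulVec_apply, omega, omega, ← Matrix.det_transpose (permD S J), ← Matrix.det_mul,
    Matrix.det_apply, alt, Matrix.sum_apply]
  apply Finset.sum_congr rfl
  intro σ _
  rw [Matrix.smul_apply, permMat_apply]
  congr 1
  have : ∀ a, (permD S I * (permD S J)ᵀ) (σ a) a = if I (σ a) = J a then 1 else 0 := by
    intro a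
    simp only [Matrix.mul_apply, permD, Matrix.of_apply, Matrix.transpose_apply]
    rw [Finset.sum_eq_single (I (σ a))]
    · simp [eq_comm]
    · intro c _ hc
      rw [if_neg (Ne.symm hc), zero_mul]
    · intro h; exact absurd (Finset.mem_univ _) h
  simp_rw [this]
  rw [Finset.prod_ite_zero]
  simp only [Finset.mem_univ, forall_const, Finset.prod_const_one]
  congr 1
  exact propext funext_iff

/-- the switch `∑ E_ab ⊗ E_ba` in slots `i`, `j` is the transposition of the two slots -/
lemma sum_kron_swap (i j : Fin n) (hij : i ≠ j) :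
    ∑ a, ∑ b, kron (Function.update (Function.update
      (fun _ => (1 : Matrix (Fin n) (Fin n) S)) i (Matrix.single a b 1)) j (Matrix.single b a 1)) =
      permMat S (Equiv.swap i j) := by
  classical
  ext I J
  rw [Matrix.sum_apply]
  simp_rw [Matrix.sum_apply]
  have hi : ∀ (X Y : Matrix (Fin n) (Fin n) S), (Function.update (Function.update
      (fun _ => (1 : Matrix (Fin n) (Fin n) S)) i X) j Y) i = X := by
    intro X Y
    rw [Function.update_of_ne hij, Function.update_self]
  have hj : ∀ (X Y : Matrix (Fin n) (Fin n) S), (Function.update (Function.update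
      (fun _ => (1 : Matrix (Fin n) (Fin n) S)) i X) j Y) j = Y := by
    intro X Y
    rw [Function.update_self]
  have hk : ∀ (X Y : Matrix (Fin n) (Fin n) S) (k : Fin n), k ≠ i → k ≠ j → (Function.update
      (Function.update (fun _ => (1 : Matrix (Fin n) (Fin n) S)) i X) j Y) k = 1 := by
    intro X Y k hki hkj
    rw [Function.update_of_ne hkj, Function.update_of_ne hki]
  rw [Finset.sum_eq_single (I i)]
  · rw [Finset.sum_eq_single (I j)]
    · rw [kron_apply, permMat_apply]
      have : ∀ k, (Function.update (Function.update (fun _ => (1 : Matrix (Fin n) (Fin n) S)) i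
          (Matrix.single (I i) (I j) 1)) j (Matrix.single (I j) (I i) 1)) k (I k) (J k) =
          if I (Equiv.swap i j k) = J k then 1 else 0 := by
        intro k
        by_cases hkj : k = j
        · subst hkj
          rw [hj, Equiv.swap_apply_right, Matrix.single_apply]
          simp
        · by_cases hki : k = i
          · subst hki
            rw [hi, Equiv.swap_apply_left, Matrix.single_apply]
            simp
          · rw [hk _ _ k hki hkj, Equiv.swap_apply_of_ne_of_ne hki hkj, Matrix.one_apply]
      simp_rw [this]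
      rw [Finset.prod_ite_zero]
      simp only [Finset.mem_univ, forall_const, Finset.prod_const_one]
      congr 1
      exact propext funext_iff.symm
    · intro b _ hb
      rw [kron_apply]
      apply Finset.prod_eq_zero (Finset.mem_univ j)
      rw [hj, Matrix.single_apply, if_neg]
      intro h
      exact hb h.1
    · intro h; exact absurd (Finset.mem_univ _) h
  · intro a _ ha
    apply Finset.sum_eq_zero
    intro b _
    rw [kron_apply]
    apply Finset.prod_eq_zero (Finset.mem_univ i)
    rw [hi, Matrix.single_apply, if_neg]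
    intro h
    exact ha h.1
  · intro h; exact absurd (Finset.mem_univ _) h

/-- `v ↦ v ωᵀ` -/
noncomputable def colMap (S : Type*) [CommRing S] (n : ℕ) :
    (Idx n → S) →ₗ[S] Matrix (Idx n) (Idx n) S where
  toFun v := Matrix.vecMulVec v (omega S)
  map_add' v w := Matrix.add_vecMulVec v w _
  map_smul' c v := Matrix.smul_vecMulVec c v _

lemma colMap_apply (v : Idx n → S) : colMap S n v = Matrix.vecMulVec v (omega S) := rfl

lemma colMap_injective : Function.Injective (colMap S n) := by
  intro v w h
  ext I
  have := congrFun (congrFun h I) (id : Idx n)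
  simpa [colMap_apply, Matrix.vecMulVec_apply, omega_id] using this

lemma range_mulRight_alt :
    LinearMap.range (LinearMap.mulRight S (alt S n)) = LinearMap.range (colMap S n) := by
  classical
  ext M
  constructor
  · rintro ⟨N, rfl⟩
    refine ⟨N *ᵥ omega S, ?_⟩
    rw [colMap_apply, LinearMap.mulRight_apply, alt_eq, Matrix.mul_vecMulVec]
  · rintro ⟨v, rfl⟩
    refine ⟨Matrix.vecMulVec v (Pi.single (id : Idx n) 1), ?_⟩
    rw [colMap_apply, LinearMap.mulRight_apply, alt_eq, Matrix.vecMulVec_mul_vecMulVec,
      single_one_dotProduct, omega_id, one_smul]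

end Groth.Agent.Lib.Helper3.TPM
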