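import Mathlib.Algebra.Azumaya.Matrix
import Mathlib.LinearAlgebra.Matrix.Charpoly.Coeff
import Mathlib.RingTheory.Flat.FaithfullyFlat.Algebra
import Groth.Agent.Lib.Helper3.RedCharpoly
import Groth.Agent.Lib.Helper3.TensorPowMat

/-!
# The Goldman element of an Azumaya algebra (helper3)

Reduced trace `trd` (by descent), the Goldman element `gold = mulLeftRight⁻¹(x ↦ trd x • 1)` and
its image `∑ E_ab ⊗ E_ba` under a splitting.
-/

set_option autoImplicit false
universe u v w

open TensorProduct MulOpposite Matrix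

namespace Groth.Agent.Lib.Helper3.Goldman

variable {R : Type u} [CommRing R] {A : Type v} [Ring A] [Algebra R A]
  {S : Type w} [CommRing S] [Algebra R S] {n : ℕ}

/-- the embedding `A → M_n(S)` given by a splitting -/
noncomputable def iota (φ : S ⊗[R] A ≃ₐ[S] Matrix (Fin n) (Fin n) S) :
    A →ₐ[R] Matrix (Fin n) (Fin n) S :=
  (φ.toAlgHom.restrictScalars R).comp Algebra.TensorProduct.includeRight

lemma iota_apply (φ : S ⊗[R] A ≃ₐ[S] Matrix (Fin n) (Fin n) S) (a : A) :
    iota φ a = φ (1 ⊗ₜ a) := rfl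

/-- every matrix is an `S`-combination of `ι a` -/
lemma induction_iota (φ : S ⊗[R] A ≃ₐ[S] Matrix (Fin n) (Fin n) S)
    {P : Matrix (Fin n) (Fin n) S → Prop} (h0 : P 0) (hadd : ∀ X Y, P X → P Y → P (X + Y))
    (hsmul : ∀ (s : S) (a : A), P (s • iota φ a)) (X : Matrix (Fin n) (Fin n) S) : P X := by
  obtain ⟨z, rfl⟩ := φ.surjective X
  induction z using TensorProduct.induction_on with
  | zero => rw [map_zero]; exact h0
  | tmul s a =>
    have : s ⊗ₜ[R] a = s • ((1 : S) ⊗ₜ[R] a) := by rw [TensorProduct.smul_tmul', smul_eq_mul, mul_one]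
    rw [this, map_smul]
    exact hsmul s a
  | add x y hx hy => rw [map_add]; exact hadd _ _ hx hy

section trd

variable [Module.FaithfullyFlat R S] [NeZero n]

lemma exists_trd (φ : S ⊗[R] A ≃ₐ[S] Matrix (Fin n) (Fin n) S) (a : A) :
    ∃ r : R, algebraMap R S r = Matrix.trace (iota φ a) := by
  have h := RedChar.charpoly_compat φ φ
    (Algebra.TensorProduct.includeLeft : S →ₐ[R] S ⊗[R] S)
    (Algebra.TensorProduct.includeRight : S →ₐ[R] S ⊗[R] S) a
  have hk := congrArg (fun Q => Q.coeff (Fintype.card (Fin n) - 1)) h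
  simp only [Polynomial.coeff_map] at hk
  have htr := Matrix.trace_eq_neg_charpoly_coeff (φ (1 ⊗ₜ a))
  have hex := Algebra.IsEffective.of_faithfullyFlat R S (Matrix.trace (iota φ a))
  have : Algebra.TensorProduct.includeLeftSubRight R S (Matrix.trace (iota φ a)) = 0 := by
    rw [Algebra.TensorProduct.includeLeftSubRight_apply, sub_eq_zero, iota_apply, htr]
    change (Algebra.TensorProduct.includeLeft : S →ₐ[R] S ⊗[R] S) _ =
      (Algebra.TensorProduct.includeRight : S →ₐ[R] S ⊗[R] S) _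
    rw [map_neg, map_neg]
    exact congrArg _ hk
  obtain ⟨r, hr⟩ := hex.mp this
  exact ⟨r, hr⟩

/-- the reduced trace -/
noncomputable def trd (φ : S ⊗[R] A ≃ₐ[S] Matrix (Fin n) (Fin n) S) : A →ₗ[R] R where
  toFun a := (exists_trd φ a).choose
  map_add' a b := by
    apply FaithfulSMul.algebraMap_injective R S
    have ha := (exists_trd φ a).choose_spec
    have hb := (exists_trd φ b).choose_spec
    have hab := (exists_trd φ (a + b)).choose_spec
    rw [hab, map_add (algebraMap R S), ha, hb, map_add, Matrix.trace_add]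
  map_smul' c a := by
    apply FaithfulSMul.algebraMap_injective R S
    have ha := (exists_trd φ a).choose_spec
    have hca := (exists_trd φ (c • a)).choose_spec
    rw [hca, RingHom.id_apply, smul_eq_mul, map_mul (algebraMap R S), ha, map_smul,
      Matrix.trace_smul, Algebra.smul_def]

lemma algebraMap_trd (φ : S ⊗[R] A ≃ₐ[S] Matrix (Fin n) (Fin n) S) (a : A) :
    algebraMap R S (trd φ a) = Matrix.trace (iota φ a) := (exists_trd φ a).choose_spec

end trd

section theta

variable (φ : S ⊗[R] A ≃ₐ[S] Matrix (Fin n) (Fin n) S)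

/-- `a ⊗ a'ᵒᵖ ↦ ι a ⊗ (ι a')ᵒᵖ` -/
noncomputable def theta : A ⊗[R] Aᵐᵒᵖ →ₗ[R]
    (Matrix (Fin n) (Fin n) S) ⊗[S] (Matrix (Fin n) (Fin n) S)ᵐᵒᵖ :=
  TensorProduct.lift (LinearMap.mk₂ R
    (fun (a : A) (a' : Aᵐᵒᵖ) => (iota φ a) ⊗ₜ[S] op (iota φ a'.unop))
    (fun a₁ a₂ a' => by simp only [map_add, add_tmul])
    (fun r a a' => by simp only [map_smul, smul_tmul'])
    (fun a a₁ a₂ => by simp only [unop_add, map_add, op_add, tmul_add])
    (fun r a a' => by simp only [unop_smul, map_smul, op_smul, tmul_smul]))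

@[simp] lemma theta_tmul (a : A) (a' : Aᵐᵒᵖ) :
    theta φ (a ⊗ₜ a') = (iota φ a) ⊗ₜ[S] op (iota φ a'.unop) := rfl

lemma mulLeftRight_theta (z : A ⊗[R] Aᵐᵒᵖ) (a : A) :
    AlgHom.mulLeftRight S (Matrix (Fin n) (Fin n) S) (theta φ z) (iota φ a) =
      iota φ (AlgHom.mulLeftRight R A z a) := by
  induction z using TensorProduct.induction_on with
  | zero => simp
  | tmul x y =>
    rw [theta_tmul, AlgHom.mulLeftRight_apply, AlgHom.mulLeftRight_apply, unop_op, map_mul, map_mul]
  | add x y hx hy =>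
    rw [map_add, map_add, LinearMap.add_apply, hx, hy, map_add, LinearMap.add_apply, map_add]

/-- the switch -/
noncomputable def switch (S : Type*) [CommRing S] (n : ℕ) :
    (Matrix (Fin n) (Fin n) S) ⊗[S] (Matrix (Fin n) (Fin n) S)ᵐᵒᵖ :=
  ∑ a : Fin n, ∑ b : Fin n, (Matrix.single a b (1 : S)) ⊗ₜ[S] op (Matrix.single b a (1 : S))

lemma mulLeftRight_switch (X : Matrix (Fin n) (Fin n) S) :
    AlgHom.mulLeftRight S (Matrix (Fin n) (Fin n) S) (switch S n) X =
      Matrix.trace X • (1 : Matrix (Fin n) (Fin n) S) := by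
  rw [switch, map_sum, LinearMap.sum_apply]
  simp_rw [map_sum, LinearMap.sum_apply, AlgHom.mulLeftRight_apply, unop_op,
    Matrix.single_mul_mul_single, one_mul, mul_one]
  ext p q
  simp only [Matrix.sum_apply, Matrix.single_apply, Matrix.smul_apply, Matrix.one_apply,
    Matrix.trace, Matrix.diag_apply, smul_eq_mul]
  by_cases hpq : p = q
  · subst hpq
    rw [if_pos rfl, mul_one, Finset.sum_eq_single p]
    · simp
    · intro a _ ha
      apply Finset.sum_eq_zero
      intro b _
      rw [if_neg]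
      intro h; exact ha h.1
    · intro h; exact absurd (Finset.mem_univ _) h
  · rw [if_neg hpq, mul_zero]
    apply Finset.sum_eq_zero
    intro a _
    apply Finset.sum_eq_zero
    intro b _
    rw [if_neg]
    rintro ⟨h1, h2⟩
    exact hpq (h1.symm.trans h2)

end theta

section goldman

variable [IsAzumaya R A] [Module.FaithfullyFlat R S] [NeZero n]
  (φ : S ⊗[R] A ≃ₐ[S] Matrix (Fin n) (Fin n) S)

/-- `x ↦ trd(x) • 1` -/
noncomputable def trMap : A →ₗ[R] A := (Algebra.linearMap R A) ∘ₗ trd φ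

lemma trMap_apply (a : A) : trMap φ a = algebraMap R A (trd φ a) := rfl

/-- the Goldman element -/
noncomputable def gold : A ⊗[R] Aᵐᵒᵖ :=
  (LinearEquiv.ofBijective (AlgHom.mulLeftRight R A).toLinearMap
    (IsAzumaya.bij (R := R) (A := A))).symm (trMap φ)

lemma mulLeftRight_gold : AlgHom.mulLeftRight R A (gold φ) = trMap φ :=
  (LinearEquiv.ofBijective (AlgHom.mulLeftRight R A).toLinearMap
    (IsAzumaya.bij (R := R) (A := A))).apply_symm_apply (trMap φ)

theorem theta_gold : theta φ (gold φ) = switch S n := by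
  haveI : Nonempty (Fin n) := ⟨⟨0, Nat.pos_of_ne_zero (NeZero.ne n)⟩⟩
  haveI : IsAzumaya S (Matrix (Fin n) (Fin n) S) := IsAzumaya.matrix S (Fin n)
  apply (IsAzumaya.bij (R := S) (A := Matrix (Fin n) (Fin n) S)).1
  apply LinearMap.ext
  intro X
  rw [mulLeftRight_switch]
  induction X using induction_iota φ with
  | h0 => simp
  | hadd X Y hX hY => rw [map_add, hX, hY, Matrix.trace_add, add_smul]
  | hsmul s a =>
    rw [map_smul, mulLeftRight_theta, mulLeftRight_gold, trMap_apply, AlgHom.commutes,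
      Matrix.trace_smul, smul_eq_mul, mul_smul, ← algebraMap_trd φ a,
      Algebra.algebraMap_eq_smul_one (R := R) (A := Matrix (Fin n) (Fin n) S), algebraMap_smul]

end goldman

end Groth.Agent.Lib.Helper3.Goldman
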