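import Mathlib.RingTheory.PiTensorProduct
import Mathlib.GroupTheory.Perm.Sign
import Groth.Agent.Lib.Helper3.RedCharpoly
import Groth.Agent.Lib.Helper3.TensorPowMat
import Groth.Agent.Lib.Helper3.Goldman0

/-!
# The antisymmetriser in the tensor power of an Azumaya algebra (helper3)

`Phi0 φ : A^{⊗n} → End((S^n)^{⊗n})` for a splitting `φ`, and `alt_mem`: the antisymmetriser lies in
its image (via Goldman elements in pairs of slots).
-/

set_option autoImplicit false
universe u v w

open TensorProduct MulOpposite Matrix PiTensorProduct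

namespace Groth.Agent.Lib.Helper3.Goldman

variable {R : Type u} [CommRing R] {A : Type v} [Ring A] [Algebra R A]
  {S : Type w} [CommRing S] [Algebra R S] {n : ℕ}

section phi

variable (φ : S ⊗[R] A ≃ₐ[S] Matrix (Fin n) (Fin n) S)

/-- the multilinear map `(a_k) ↦ ⊗ ι(a_k)` -/
noncomputable def phiML : MultilinearMap R (fun _ : Fin n => A) (Matrix (TPM.Idx n) (TPM.Idx n) S) :=
  ((TPM.kronML (S := S) (n := n)).restrictScalars R).compLinearMap (fun _ => (iota φ).toLinearMap)

lemma phiML_apply (x : Fin n → A) : phiML φ x = TPM.kron (fun k => iota φ (x k)) := by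
  change TPM.kronML (fun k => iota φ (x k)) = _
  rw [TPM.kronML_apply]

/-- the representation of the tensor power on `(S^n)^{⊗n}` -/
noncomputable def Phi0 : (⨂[R] _ : Fin n, A) →ₐ[R] Matrix (TPM.Idx n) (TPM.Idx n) S :=
  PiTensorProduct.liftAlgHom (phiML φ)
    (by rw [phiML_apply]; simp only [Pi.one_apply, map_one]; exact TPM.kron_one)
    (by
      intro x y
      rw [phiML_apply, phiML_apply, phiML_apply, ← TPM.kron_mul]
      simp only [Pi.mul_apply, map_mul])

lemma Phi0_tprod (x : Fin n → A) :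
    Phi0 φ (tprod R x) = TPM.kron (fun k => iota φ (x k)) := by
  rw [Phi0, PiTensorProduct.liftAlgHom_apply, PiTensorProduct.lift.tprod, phiML_apply]

end phi

section twoSlot

variable {K : Type*} [CommRing K] {V U : Type*} [AddCommGroup V] [Module K V] [AddCommGroup U]
  [Module K U] {n : ℕ}

/-- a multilinear map restricted to two slots -/
noncomputable def twoSlot (F : MultilinearMap K (fun _ : Fin n => V) U) (m : Fin n → V)
    (i j : Fin n) (hij : i ≠ j) : V →ₗ[K] V →ₗ[K] U :=
  LinearMap.mk₂ K (fun x y => F (Function.update (Function.update m i x) j y))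
    (fun x₁ x₂ y => by
      simp only [Function.update_comm hij _ _ m]
      exact F.map_update_add _ _ _ _)
    (fun c x y => by
      simp only [Function.update_comm hij _ _ m]
      exact F.map_update_smul _ _ _ _)
    (fun x y₁ y₂ => F.map_update_add _ _ _ _)
    (fun c x y => F.map_update_smul _ _ _ _)

@[simp] lemma twoSlot_apply (F : MultilinearMap K (fun _ : Fin n => V) U) (m : Fin n → V)
    (i j : Fin n) (hij : i ≠ j) (x y : V) :
    twoSlot F m i j hij x y = F (Function.update (Function.update m i x) j y) := rfl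

end twoSlot

section slots

variable (φ : S ⊗[R] A ≃ₐ[S] Matrix (Fin n) (Fin n) S) (i j : Fin n) (hij : i ≠ j)

/-- `x ⊗ yᵒᵖ ↦ 1 ⊗ … ⊗ x ⊗ … ⊗ y ⊗ … ⊗ 1` -/
noncomputable def beta : A ⊗[R] Aᵐᵒᵖ →ₗ[R] ⨂[R] _ : Fin n, A :=
  TensorProduct.lift ((twoSlot (tprod R) (fun _ => (1 : A)) i j hij).compl₂
    (MulOpposite.opLinearEquiv R).symm.toLinearMap)

lemma beta_tmul (x : A) (y : Aᵐᵒᵖ) :
    beta i j hij (x ⊗ₜ[R] y) =
      tprod R (Function.update (Function.update (fun _ => (1 : A)) i x) j y.unop) := rfl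

/-- `X ⊗ Yᵒᵖ ↦ 1 ⊗ … ⊗ X ⊗ … ⊗ Y ⊗ … ⊗ 1` on matrices -/
noncomputable def kappa : (Matrix (Fin n) (Fin n) S) ⊗[S] (Matrix (Fin n) (Fin n) S)ᵐᵒᵖ →ₗ[S]
    Matrix (TPM.Idx n) (TPM.Idx n) S :=
  TensorProduct.lift ((twoSlot (TPM.kronML (S := S) (n := n))
    (fun _ => (1 : Matrix (Fin n) (Fin n) S)) i j hij).compl₂
    (MulOpposite.opLinearEquiv S).symm.toLinearMap)

lemma kappa_tmul (X : Matrix (Fin n) (Fin n) S) (Y : (Matrix (Fin n) (Fin n) S)ᵐᵒᵖ) :
    kappa i j hij (X ⊗ₜ[S] Y) =
      TPM.kron (Function.update (Function.update (fun _ => (1 : Matrix (Fin n) (Fin n) S)) i X) j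
        Y.unop) := by
  change TPM.kronML _ = _
  rw [TPM.kronML_apply]
  rfl

lemma Phi0_beta (z : A ⊗[R] Aᵐᵒᵖ) :
    Phi0 φ (beta i j hij z) = kappa i j hij (theta φ z) := by
  induction z using TensorProduct.induction_on with
  | zero => simp
  | tmul x y =>
    rw [beta_tmul, Phi0_tprod, theta_tmul, kappa_tmul, unop_op]
    congr 1
    ext1 k
    by_cases hkj : k = j
    · subst hkj
      rw [Function.update_self, Function.update_self]
    · rw [Function.update_of_ne hkj, Function.update_of_ne hkj]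
      by_cases hki : k = i
      · subst hki
        rw [Function.update_self, Function.update_self]
      · rw [Function.update_of_ne hki, Function.update_of_ne hki, map_one]
  | add x y hx hy => simp only [map_add, hx, hy]

lemma kappa_switch : kappa i j hij (switch S n) = TPM.permMat S (Equiv.swap i j) := by
  rw [switch, map_sum]
  simp_rw [map_sum, kappa_tmul, unop_op]
  exact TPM.sum_kron_swap i j hij

end slots

section range

variable [IsAzumaya R A] [Module.FaithfullyFlat R S] [NeZero n]
  (φ : S ⊗[R] A ≃ₐ[S] Matrix (Fin n) (Fin n) S)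

lemma permMat_swap_mem (i j : Fin n) (hij : i ≠ j) :
    TPM.permMat S (Equiv.swap i j) ∈ (Phi0 φ).range :=
  ⟨beta i j hij (gold φ), by
    change Phi0 φ (beta i j hij (gold φ)) = _
    rw [Phi0_beta, theta_gold, kappa_switch]⟩

lemma permMat_mem (σ : Equiv.Perm (Fin n)) : TPM.permMat S σ ∈ (Phi0 φ).range := by
  induction σ using Equiv.Perm.swap_induction_on with
  | one => rw [TPM.permMat_one]; exact one_mem _
  | swap_mul f x y hxy hf =>
    rw [TPM.permMat_mul]
    exact mul_mem (permMat_swap_mem φ x y hxy) hf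

lemma alt_mem : TPM.alt S n ∈ (Phi0 φ).range := by
  rw [TPM.alt]
  apply sum_mem
  intro σ _
  rw [Units.smul_def]
  exact zsmul_mem (permMat_mem φ σ) _

end range

end Groth.Agent.Lib.Helper3.Goldman
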