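import Groth.Agent.S0523
import Groth.Agent.S0525
import Groth.Agent.S0526
import Groth.Agent.Lib.Helper3.AzSplitEtCover

/-!
# Azumaya algebras over integral algebras over strictly henselian local rings are split (helper3)

For `T` integral over a henselian local ring `H` with separably closed residue field and with
finitely many maximal ideals, étale faithfully flat `T`-algebras have sections (via the landed
S0523, S0525, S0526 rows), hence Azumaya `T`-algebras of constant degree `n` map to `M_n(T)`.
-/

set_option autoImplicit false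
universe u

open TensorProduct IsLocalRing

namespace Groth.Agent.Lib.Helper3.HensSplit

variable (H : Type u) [CommRing H] [HenselianLocalRing H]
  (T : Type u) [CommRing T] [Algebra H T] [Algebra.IsIntegral H T]

/-- every maximal ideal of `T` lies over the maximal ideal of `H` -/
lemma comap_eq_maximalIdeal (m : Ideal T) [hm : m.IsMaximal] :
    m.comap (algebraMap H T) = maximalIdeal H :=
  IsLocalRing.eq_maximalIdeal (Ideal.isMaximal_comap_of_isIntegral_of_isMaximal (R := H) m)

/-- the extension of the maximal ideal has the same radical as the Jacobson radical -/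
lemma radical_map_eq :
    ((maximalIdeal H).map (algebraMap H T)).radical = (Ideal.jacobson (⊥ : Ideal T)).radical := by
  apply le_antisymm
  · apply Ideal.radical_mono
    rw [Ideal.jacobson]
    apply le_sInf
    rintro m ⟨-, hm⟩
    rw [Ideal.map_le_iff_le_comap]
    haveI := hm
    exact (comap_eq_maximalIdeal H T m).ge
  · rw [Ideal.radical_le_radical_iff]
    rw [Ideal.radical_eq_sInf]
    apply le_sInf
    rintro P ⟨hIP, hP⟩
    have h1 : maximalIdeal H ≤ P.comap (algebraMap H T) := Ideal.map_le_iff_le_comap.mp hIP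
    haveI : (P.comap (algebraMap H T)).IsPrime := Ideal.comap_isPrime _ _
    have h3 : P.comap (algebraMap H T) = maximalIdeal H :=
      ((maximalIdeal.isMaximal H).eq_of_le (Ideal.IsPrime.ne_top inferInstance) h1).symm
    have h4 : P.IsMaximal :=
      Ideal.isMaximal_of_isIntegral_of_isMaximal_comap P (by rw [h3]; infer_instance)
    rw [Ideal.jacobson]
    exact sInf_le ⟨bot_le, h4⟩

/-- `(T, jac T)` is a henselian pair -/
theorem henselianRing_jacobson (H : Type u) [CommRing H] [HenselianLocalRing H]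
    (T : Type u) [CommRing T] [Algebra H T] [Algebra.IsIntegral H T] :
    HenselianRing T (Ideal.jacobson (⊥ : Ideal T)) := by
  haveI : HenselianRing T ((maximalIdeal H).map (algebraMap H T)) :=
    Groth.Agent.S0526.result H (maximalIdeal H) T
  exact (Groth.Agent.S0525.result T _ _ (radical_map_eq H T)).mp inferInstance


section point

variable [IsSepClosed (ResidueField H)]

include H

/-- residue fields of `T` are separably closed -/
lemma isSepClosed_quotient (m : Ideal T) [hm : m.IsMaximal] :
    letI := Ideal.Quotient.field m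
    IsSepClosed (T ⧸ m) := by
  letI := Ideal.Quotient.field m
  haveI : m.LiesOver (maximalIdeal H) := ⟨(comap_eq_maximalIdeal H T m).symm⟩
  letI : Field (H ⧸ maximalIdeal H) := Ideal.Quotient.field _
  haveI : IsSepClosed (H ⧸ maximalIdeal H) := ‹IsSepClosed (ResidueField H)›
  haveI : Algebra.IsIntegral (H ⧸ maximalIdeal H) (T ⧸ m) := inferInstance
  haveI : Algebra.IsAlgebraic (H ⧸ maximalIdeal H) (T ⧸ m) := Algebra.IsIntegral.isAlgebraic
  exact Algebra.IsAlgebraic.isSepClosed (F := H ⧸ maximalIdeal H) (E := T ⧸ m)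

/-- an étale faithfully flat `T`-algebra has a point in each residue field of `T` -/
lemma exists_point (m : Ideal T) [hm : m.IsMaximal] (E : Type u) [CommRing E] [Algebra T E]
    [Algebra.Etale T E] [Module.FaithfullyFlat T E] : Nonempty (E →ₐ[T] T ⧸ m) := by
  letI := Ideal.Quotient.field m
  haveI := isSepClosed_quotient H T m
  let κ := T ⧸ m
  haveI : Nontrivial (κ ⊗[T] E) := inferInstance
  let e := Algebra.FormallyEtale.equivPiOfIsSepClosed κ (κ ⊗[T] E)
  obtain ⟨P⟩ : Nonempty (PrimeSpectrum (κ ⊗[T] E)) := inferInstance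
  let pt : κ ⊗[T] E →ₐ[κ] κ := (Pi.evalAlgHom κ _ P).comp e.toAlgHom
  exact ⟨(pt.restrictScalars T).comp (Algebra.TensorProduct.includeRight : E →ₐ[T] κ ⊗[T] E)⟩


/-- étale faithfully flat algebras over `T` have sections -/
theorem exists_section (hfin : {m : Ideal T | m.IsMaximal}.Finite)
    (E : Type u) [CommRing E] [Algebra T E] [Algebra.Etale T E] [Module.FaithfullyFlat T E] :
    Nonempty (E →ₐ[T] T) := by
  classical
  haveI hHens := henselianRing_jacobson H T
  let ι := {m : Ideal T // m.IsMaximal}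
  haveI : Finite ι := hfin.to_subtype
  let f : ι → Ideal T := Subtype.val
  have hf : Pairwise (Function.onFun IsCoprime f) := by
    intro i j hij
    rw [Function.onFun, Ideal.isCoprime_iff_sup_eq]
    exact Ideal.IsMaximal.coprime_of_ne i.2 j.2 (fun h => hij (Subtype.ext h))
  have hinf : (⨅ i, f i) = Ideal.jacobson (⊥ : Ideal T) := by
    rw [Ideal.jacobson, sInf_eq_iInf']
    apply le_antisymm
    · apply le_iInf
      rintro ⟨m, -, hm⟩
      exact iInf_le f ⟨m, hm⟩
    · apply le_iInf
      rintro ⟨m, hm⟩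
      exact iInf_le (fun a : {J : Ideal T | ⊥ ≤ J ∧ J.IsMaximal} => (a : Ideal T))
        ⟨m, bot_le, hm⟩
  let crt := Ideal.quotientInfRingEquivPiQuotient f hf
  have hpt : ∀ i : ι, Nonempty (E →ₐ[T] T ⧸ f i) := fun i => by
    haveI : (f i).IsMaximal := i.2
    exact exists_point H T (f i) E
  let σi : ∀ i : ι, E →ₐ[T] T ⧸ f i := fun i => (hpt i).some
  let σ' : E →+* (T ⧸ ⨅ i, f i) :=
    (crt.symm : (∀ i, T ⧸ f i) →+* (T ⧸ ⨅ i, f i)).comp (RingHom.pi fun i => (σi i : E →+* T ⧸ f i))
  have hσ' : ∀ t : T, σ' (algebraMap T E t) = Ideal.Quotient.mk _ t := by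
    intro t
    show crt.symm _ = _
    rw [RingEquiv.symm_apply_eq]
    ext i
    show σi i (algebraMap T E t) = _
    rw [AlgHom.commutes]
    rfl
  let σ'' : E →ₐ[T] T ⧸ ⨅ i, f i := { σ' with commutes' := hσ' }
  let eJ : (T ⧸ ⨅ i, f i) ≃ₐ[T] T ⧸ Ideal.jacobson (⊥ : Ideal T) :=
    Ideal.quotientEquivAlgOfEq T hinf
  let σ : E →ₐ[T] T ⧸ Ideal.jacobson (⊥ : Ideal T) := eJ.toAlgHom.comp σ''
  obtain ⟨τ, -⟩ := (Groth.Agent.S0523.result T (Ideal.jacobson (⊥ : Ideal T))).mp hHens E σ
  exact ⟨τ⟩


/-- Azumaya algebras of constant degree over `T` are split -/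
theorem exists_algHom_matrix (hfin : {m : Ideal T | m.IsMaximal}.Finite)
    (B : Type u) [Ring B] [Algebra T B] [IsAzumaya T B] (n : ℕ)
    (hrk : ∀ p : PrimeSpectrum T, Module.rankAtStalk (R := T) B p = n ^ 2) :
    Nonempty (B →ₐ[T] Matrix (Fin n) (Fin n) T) := by
  obtain ⟨E, _, _, _, _, ⟨ρ⟩⟩ := AzSplitEtCover.exists_etale_cover_hom T B n hrk
  obtain ⟨τ⟩ := exists_section H T hfin E
  exact ⟨(τ.mapMatrix).comp ρ⟩

end point

end Groth.Agent.Lib.Helper3.HensSplit
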