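import Groth.Agent.Lib.Helper3.HensSplit
import Groth.Agent.Lib.Helper3.AzumayaBaseChange

/-! Universe-heterogeneous version of `HensSplit.exists_algHom_matrix` (helper3). -/

set_option autoImplicit false
universe u v w

open TensorProduct IsLocalRing

namespace Groth.Agent.Lib.Helper3.HensSplitUniv

lemma eval_map_ringEquiv {R S : Type*} [CommRing R] [CommRing S] (φ : R ≃+* S)
    (g : Polynomial R) (x : R) : (g.map (φ : R →+* S)).eval (φ x) = φ (g.eval x) :=
  Polynomial.eval_map_apply (φ : R →+* S) x

open Polynomial in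
/-- (after Helper82.SqBasics) separable closedness transfers along ring isomorphisms -/
theorem isSepClosed_of_ringEquiv {k k' : Type*} [Field k] [Field k'] (e : k ≃+* k')
    [IsSepClosed k] : IsSepClosed k' := by
  refine IsSepClosed.of_exists_root _ fun p hm hirr hsep => ?_
  have hp : (p.map (e.symm : k' →+* k)).map (e : k →+* k') = p := by
    rw [Polynomial.map_map]
    have : (e : k →+* k').comp (e.symm : k' →+* k) = RingHom.id k' := by
      ext x; simp
    rw [this, Polynomial.map_id]
  have hdeg : (p.map (e.symm : k' →+* k)).degree ≠ 0 := by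
    rw [Polynomial.degree_map]
    exact fun h0 => hirr.not_isUnit (Polynomial.isUnit_iff_degree_eq_zero.2 h0)
  obtain ⟨x, hx⟩ := IsSepClosed.exists_root (p.map (e.symm : k' →+* k)) hdeg hsep.map
  refine ⟨e x, ?_⟩
  rw [← hp, eval_map_ringEquiv, hx.eq_zero, map_zero]

open Polynomial in
/-- (after Helper82.SqBasics) henselianity transfers along ring isomorphisms -/
theorem henselianLocalRing_of_ringEquiv {R S : Type*} [CommRing R] [CommRing S] (e : R ≃+* S)
    [HenselianLocalRing R] : HenselianLocalRing S := by
  have : IsLocalRing S := e.isLocalRing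
  have hmem : ∀ x : S, x ∈ IsLocalRing.maximalIdeal S ↔ e.symm x ∈ IsLocalRing.maximalIdeal R := by
    intro x
    rw [IsLocalRing.mem_maximalIdeal, IsLocalRing.mem_maximalIdeal, mem_nonunits_iff,
      mem_nonunits_iff]
    exact not_congr (isUnit_map_iff e.symm x).symm
  refine ⟨fun f hf a₀ h1 h2 => ?_⟩
  let f₀ : R[X] := f.map (e.symm : S →+* R)
  have h1' : f₀.eval (e.symm a₀) ∈ IsLocalRing.maximalIdeal R := by
    rw [eval_map_ringEquiv]
    exact (hmem _).1 h1
  have h2' : IsUnit (f₀.derivative.eval (e.symm a₀)) := by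
    rw [Polynomial.derivative_map, eval_map_ringEquiv]
    exact (isUnit_map_iff e.symm _).2 h2
  obtain ⟨a, ha1, ha2⟩ := HenselianLocalRing.is_henselian f₀ (hf.map _) (e.symm a₀) h1' h2'
  refine ⟨e a, ?_, ?_⟩
  · have h3 : f = f₀.map (e : R →+* S) := by
      rw [Polynomial.map_map]
      have : (e : R →+* S).comp (e.symm : S →+* R) = RingHom.id S := by
        ext x; simp
      rw [this, Polynomial.map_id]
    rw [Polynomial.IsRoot.def, h3, eval_map_ringEquiv, ha1.eq_zero, map_zero]
  · rw [hmem, map_sub, RingEquiv.symm_apply_apply]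
    exact ha2

/-- lift of a ring to a higher universe (a plain `def`, to hide the `ULift` instances) -/
def Lift (T : Type v) : Type (max v w) := ULift.{w} T

namespace Lift

variable {T : Type v} [CommRing T]

instance : CommRing (Lift.{v, w} T) := inferInstanceAs (CommRing (ULift.{w} T))

instance {H : Type u} [CommRing H] [Algebra H T] : Algebra H (Lift.{v, w} T) :=
  inferInstanceAs (Algebra H (ULift.{w} T))

/-- the canonical isomorphism -/
def equiv (H : Type u) [CommRing H] [Algebra H T] : Lift.{v, w} T ≃ₐ[H] T := ULift.algEquiv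

end Lift

/-- Azumaya algebras of constant degree over an integral algebra with finitely many maximal
ideals over a strictly henselian local ring are split; universe-heterogeneous version -/
theorem exists_algHom_matrix
    (H : Type u) [CommRing H] [HenselianLocalRing H] [IsSepClosed (ResidueField H)]
    (T : Type v) [CommRing T] [Algebra H T] [Algebra.IsIntegral H T]
    (B : Type w) [Ring B] [Algebra T B] [IsAzumaya T B]
    (hfin : {m : Ideal T | m.IsMaximal}.Finite) (n : ℕ)
    (hrk : ∀ p : PrimeSpectrum T, Module.rankAtStalk (R := T) B p = n ^ 2) :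
    Nonempty (B →ₐ[T] Matrix (Fin n) (Fin n) T) := by
  let eH : Lift.{u, max v w} H ≃ₐ[H] H := Lift.equiv H
  let eT : Lift.{v, max u w} T ≃ₐ[T] T := Lift.equiv T
  letI : Algebra (Lift.{u, max v w} H) (Lift.{v, max u w} T) :=
    ((algebraMap H (Lift.{v, max u w} T)).comp eH.toAlgHom.toRingHom).toAlgebra
  haveI : HenselianLocalRing (Lift.{u, max v w} H) :=
    henselianLocalRing_of_ringEquiv eH.toRingEquiv.symm
  haveI : IsSepClosed (ResidueField (Lift.{u, max v w} H)) :=
    isSepClosed_of_ringEquiv (IsLocalRing.ResidueField.mapEquiv eH.toRingEquiv.symm)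
  haveI : Algebra.IsIntegral H (Lift.{v, max u w} T) :=
    Algebra.IsIntegral.of_surjective (Lift.equiv.{u, v, max u w} (T := T) H).symm.toAlgHom
      (Lift.equiv.{u, v, max u w} (T := T) H).symm.surjective
  haveI : IsScalarTower H (Lift.{u, max v w} H) (Lift.{v, max u w} T) :=
    IsScalarTower.of_algebraMap_eq fun x => rfl
  haveI : Algebra.IsIntegral (Lift.{u, max v w} H) (Lift.{v, max u w} T) :=
    Algebra.IsIntegral.tower_top (R := H)
  have hfin₁ : {m : Ideal (Lift.{v, max u w} T) | m.IsMaximal}.Finite := by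
    apply Set.Finite.subset (hfin.image (Ideal.comap eT.toRingEquiv))
    intro m (hm : m.IsMaximal)
    refine ⟨m.comap eT.symm.toRingEquiv, ?_, ?_⟩
    · exact Ideal.comap_isMaximal_of_surjective _ eT.symm.surjective
    · ext x
      simp [Ideal.mem_comap]
  haveI : IsAzumaya (Lift.{v, max u w} T) ((Lift.{v, max u w} T) ⊗[T] B) :=
    Az.isAzumaya_baseChange T (Lift.{v, max u w} T) B
  have hrk₁ : ∀ p : PrimeSpectrum (Lift.{v, max u w} T),
      Module.rankAtStalk (R := (Lift.{v, max u w} T)) ((Lift.{v, max u w} T) ⊗[T] B) p = n ^ 2 := by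
    intro p
    haveI : Module.Finite T B := IsAzumaya.toFinite
    haveI : Module.Projective T B := IsAzumaya.toProjective
    rw [Module.rankAtStalk_baseChange, hrk]
  obtain ⟨ρ₁⟩ := HensSplit.exists_algHom_matrix (Lift.{u, max v w} H) (Lift.{v, max u w} T) hfin₁
    ((Lift.{v, max u w} T) ⊗[T] B) n hrk₁
  exact ⟨(eT.toAlgHom.mapMatrix).comp ((ρ₁.restrictScalars T).comp
    Algebra.TensorProduct.includeRight)⟩

end Groth.Agent.Lib.Helper3.HensSplitUniv
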