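import Mathlib.RingTheory.Henselian
import Mathlib.FieldTheory.IsSepClosed

/-! Square roots of units in strictly henselian local rings (helper3). -/

set_option autoImplicit false
universe u

open IsLocalRing Polynomial

namespace Groth.Agent.Lib.Helper3.HensSqrt

/-- units of a strictly henselian local ring in which `2` is invertible are squares -/
theorem exists_sqrt {H : Type*} [CommRing H] [HenselianLocalRing H]
    [IsSepClosed (ResidueField H)] (h2 : IsUnit (2 : H)) (a : H) (ha : IsUnit a) :
    ∃ y : H, y * y = a := by
  haveI : NeZero (2 : ResidueField H) := by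
    constructor
    have : IsUnit (residue H 2) := h2.map (residue H)
    rw [map_ofNat] at this
    exact this.ne_zero
  obtain ⟨β, hβ⟩ := IsSepClosed.exists_eq_mul_self (residue H a)
  obtain ⟨b, rfl⟩ := residue_surjective β
  have hau : IsUnit (residue H a) := ha.map (residue H)
  have hbu : IsUnit b := by
    by_contra hb
    have : residue H b = 0 := (residue_eq_zero_iff b).mpr hb
    rw [this, mul_zero] at hβ
    rw [hβ] at hau
    exact not_isUnit_zero hau
  have hmem : (X ^ 2 - C a : H[X]).eval b ∈ maximalIdeal H := by
    rw [eval_sub, eval_pow, eval_X, eval_C, ← residue_eq_zero_iff, map_sub, map_pow, hβ]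
    ring
  have hder : IsUnit ((X ^ 2 - C a : H[X]).derivative.eval b) := by
    rw [derivative_sub, derivative_C, sub_zero, derivative_X_pow, eval_mul, eval_C, eval_pow,
      eval_X]
    simp only [Nat.cast_ofNat, Nat.add_one_sub_one, pow_one]
    exact h2.mul hbu
  obtain ⟨y, hy, -⟩ := HenselianLocalRing.is_henselian (X ^ 2 - C a : H[X])
    (monic_X_pow_sub_C a (by norm_num)) b hmem hder
  refine ⟨y, ?_⟩
  rw [IsRoot.def, eval_sub, eval_pow, eval_X, eval_C] at hy
  linear_combination hy

end Groth.Agent.Lib.Helper3.HensSqrt
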