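import Groth.Agent.Lib.Helper3.HermCong

/-! Diagonalization of hermitian invertible matrices of odd size over a local ring, without
assuming that `2` is invertible (helper3). -/

set_option autoImplicit false
universe u

open Matrix AzInv

namespace Groth.Agent.Lib.Helper3.HermDiagOdd

open Groth.Agent.Lib.Helper3.HermCong

variable {K : Type*} [CommRing K] (σ : K →+* K)

section schur1

variable {α : Type*} [Fintype α] [DecidableEq α]

/-- one Schur step on a trailing `1 × 1` block with unit entry -/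
lemma schur_one (hσ : ∀ a, σ (σ a) = a) (M : Matrix (α ⊕ Fin 1) (α ⊕ Fin 1) K) (hM : IsUnit M)
    (hh : lamTr σ M = M) (hu : IsUnit (M (Sum.inr 0) (Sum.inr 0))) :
    ∃ (Sc : Matrix α α K) (x : K), IsUnit x ∧ IsUnit Sc ∧ lamTr σ Sc = Sc ∧
      Cong σ M (Matrix.fromBlocks Sc 0 0
        (Matrix.diagonal fun _ : Fin 1 => M (Sum.inr 0) (Sum.inr 0))) ∧
      ∀ i j, Sc i j = M (Sum.inl i) (Sum.inl j) -
        M (Sum.inl i) (Sum.inr 0) * x * M (Sum.inr 0) (Sum.inl j) := by
  set A := M.toBlocks₁₁ with hA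
  set B := M.toBlocks₁₂ with hB
  set C := M.toBlocks₂₁ with hC
  set D := M.toBlocks₂₂ with hD
  have hfb : M = Matrix.fromBlocks A B C D := (Matrix.fromBlocks_toBlocks M).symm
  have hD00 : D 0 0 = M (Sum.inr 0) (Sum.inr 0) := rfl
  have hDu : IsUnit D := by
    rw [Matrix.isUnit_iff_isUnit_det, Matrix.det_fin_one, hD00]
    exact hu
  have hh' := hh
  rw [hfb, lamTr_fromBlocks, Matrix.fromBlocks_inj] at hh'
  obtain ⟨hAA, hCB, hBC, hDD⟩ := hh'
  have hcong₃ := Cong.schur σ A B C D hDu hCB hDD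
  rw [← hfb] at hcong₃
  set Sc := A - B * D⁻¹ * C with hSc
  have hu₄ := hcong₃.isUnit σ hM
  have hh₄ := hcong₃.herm σ hσ hh
  rw [lamTr_fromBlocks, Matrix.fromBlocks_inj] at hh₄
  have hScu : IsUnit Sc := by
    rw [Matrix.isUnit_iff_isUnit_det, Matrix.det_fromBlocks_zero₂₁] at hu₄
    exact (Matrix.isUnit_iff_isUnit_det _).mpr (isUnit_of_mul_isUnit_left hu₄)
  have hDdiag : D = Matrix.diagonal (fun _ : Fin 1 => M (Sum.inr 0) (Sum.inr 0)) := by
    ext a b
    rw [Subsingleton.elim a 0, Subsingleton.elim b 0]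
    simp [hD00]
  have hx : IsUnit (D⁻¹ 0 0) := by
    have h1 : D * D⁻¹ = 1 := Matrix.mul_nonsing_inv _ ((Matrix.isUnit_iff_isUnit_det _).mp hDu)
    have h2 := congrFun (congrFun h1 0) 0
    rw [Matrix.mul_apply, Fin.sum_univ_one, Matrix.one_apply_eq] at h2
    exact IsUnit.of_mul_eq_one _ (by rw [mul_comm]; exact h2)
  refine ⟨Sc, D⁻¹ 0 0, hx, hScu, hh₄.1, ?_, ?_⟩
  · rw [← hDdiag]
    exact hcong₃
  · intro i j
    rw [hSc, Matrix.sub_apply, Matrix.mul_apply, Fin.sum_univ_one, Matrix.mul_apply,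
      Fin.sum_univ_one]
    rfl

open IsLocalRing

/-- adding a basis vector of the first block to the last basis vector -/
lemma cong_add_vec (Sc : Matrix α α K) (d₀ : K) (i : α) :
    ∃ M₂ : Matrix (α ⊕ Fin 1) (α ⊕ Fin 1) K,
      Cong σ (Matrix.fromBlocks Sc 0 0 (Matrix.diagonal fun _ : Fin 1 => d₀)) M₂ ∧
      M₂ (Sum.inr 0) (Sum.inr 0) = d₀ + Sc i i ∧
      (∀ j k, M₂ (Sum.inl j) (Sum.inl k) = Sc j k) ∧
      (∀ j, M₂ (Sum.inl j) (Sum.inr 0) = Sc j i) ∧
      (∀ j, M₂ (Sum.inr 0) (Sum.inl j) = Sc i j) := by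
  set col : Matrix α (Fin 1) K := Matrix.single i 0 1 with hcol
  set row : Matrix (Fin 1) α K := Matrix.single 0 i 1 with hrow
  set D₁ : Matrix (Fin 1) (Fin 1) K := Matrix.diagonal fun _ : Fin 1 => d₀ with hD₁
  set v : Matrix (α ⊕ Fin 1) (α ⊕ Fin 1) K := Matrix.fromBlocks 1 col 0 1 with hv
  have hvu : IsUnit v := by
    refine ⟨⟨v, Matrix.fromBlocks 1 (-col) 0 1, ?_, ?_⟩, rfl⟩
    · simp [hv, Matrix.fromBlocks_multiply]
    · simp [hv, Matrix.fromBlocks_multiply]
  have hlv : lamTr σ v = Matrix.fromBlocks 1 0 row 1 := by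
    rw [hv, lamTr_fromBlocks, lamTr_one, lamTr_one]
    congr 1
    · ext a b; simp
    · ext a b
      simp only [hcol, hrow, Matrix.transpose_apply, Matrix.map_apply, Matrix.single_apply]
      by_cases h : i = b ∧ (0 : Fin 1) = a
      · rw [if_pos h, if_pos ⟨h.2, h.1⟩, map_one]
      · rw [if_neg h, if_neg (fun h' => h ⟨h'.2, h'.1⟩), map_zero]
  refine ⟨lamTr σ v * Matrix.fromBlocks Sc 0 0 D₁ * v, ⟨v, hvu, rfl⟩, ?_⟩
  have hprod : lamTr σ v * Matrix.fromBlocks Sc 0 0 D₁ * v =
      Matrix.fromBlocks Sc (Sc * col) (row * Sc) (row * Sc * col + D₁) := by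
    rw [hlv, hv]
    simp [Matrix.fromBlocks_multiply]
  rw [hprod]
  refine ⟨?_, fun j k => rfl, fun j => ?_, fun j => ?_⟩
  · rw [Matrix.fromBlocks_apply₂₂, Matrix.add_apply, hD₁, Matrix.diagonal_apply_eq, hcol, hrow,
      Matrix.mul_single_apply_same, Matrix.single_mul_apply_same, one_mul, mul_one, add_comm]
  · rw [Matrix.fromBlocks_apply₁₂, hcol, Matrix.mul_single_apply_same, mul_one]
  · rw [Matrix.fromBlocks_apply₂₁, hrow, Matrix.single_mul_apply_same, one_mul]

end schur1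

section main

variable [IsLocalRing K]

open IsLocalRing

/-- a hermitian invertible matrix over a local ring with a unit on the diagonal is
diagonalizable -/
theorem exists_cong_diagonal_of_unit_diag (hσ : ∀ a, σ (σ a) = a) :
    ∀ (n : ℕ) (c : Matrix (Fin n) (Fin n) K), IsUnit c → lamTr σ c = c →
      (∃ i, IsUnit (c i i)) → ∃ d : Fin n → K, Cong σ c (Matrix.diagonal d) := by
  intro n
  induction n with
  | zero =>
    intro c _ _ h
    obtain ⟨i, -⟩ := h
    exact i.elim0
  | succ n ih =>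
    intro c hc hh hdiag
    obtain ⟨i, hi⟩ := hdiag
    set l : Fin (n + 1) := finSumFinEquiv (Sum.inr (0 : Fin 1)) with hl
    set e : Fin (n + 1) ≃ Fin (n + 1) := Equiv.swap i l with he
    set c₂ := c.submatrix e e with hc₂def
    have hcong₂ : Cong σ c c₂ := Cong.perm σ e c
    have hc₂ := hcong₂.isUnit σ hc
    have hh₂ := hcong₂.herm σ hσ hh
    have hll : IsUnit (c₂ l l) := by
      rw [hc₂def, Matrix.submatrix_apply, he, Equiv.swap_apply_right]
      exact hi
    set c₃ : Matrix (Fin n ⊕ Fin 1) (Fin n ⊕ Fin 1) K :=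
      Matrix.reindex finSumFinEquiv.symm finSumFinEquiv.symm c₂ with hc₃def
    have hc₃ : IsUnit c₃ := by
      rw [Matrix.isUnit_iff_isUnit_det, hc₃def, Matrix.det_reindex_self]
      exact (Matrix.isUnit_iff_isUnit_det _).mp hc₂
    have hh₃ : lamTr σ c₃ = c₃ := by
      rw [hc₃def, Matrix.reindex_apply, lamTr_submatrix, hh₂]
    have hu₃ : IsUnit (c₃ (Sum.inr 0) (Sum.inr 0)) := hll
    -- the key claim
    have claim : ∃ (Sc' : Matrix (Fin n) (Fin n) K) (d₀ : K),
        Cong σ c₃ (Matrix.fromBlocks Sc' 0 0 (Matrix.diagonal fun _ : Fin 1 => d₀)) ∧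
        ∃ d' : Fin n → K, Cong σ Sc' (Matrix.diagonal d') := by
      obtain ⟨Sc, x, hx, hScu, hSch, hcong₃, hentry⟩ := schur_one σ hσ c₃ hc₃ hh₃ hu₃
      set d₀ := c₃ (Sum.inr 0) (Sum.inr 0) with hd₀
      by_cases hn0 : n = 0
      · subst hn0
        refine ⟨Sc, d₀, hcong₃, fun _ => 0, ?_⟩
        rw [Subsingleton.elim (Matrix.diagonal fun _ => (0 : K)) Sc]
        exact Cong.refl σ Sc
      by_cases hd : ∃ j, IsUnit (Sc j j)
      · exact ⟨Sc, d₀, hcong₃, ih Sc hScu hSch hd⟩
      · push Not at hd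
        haveI : Nonempty (Fin n) := ⟨⟨0, Nat.pos_of_ne_zero hn0⟩⟩
        obtain ⟨i', j', hij⟩ := exists_unit_entry Sc hScu
        obtain ⟨M₂, hcongM, h22, h11, h12, h21⟩ := cong_add_vec σ Sc d₀ i'
        have hM₁u := hcong₃.isUnit σ hc₃
        have hM₁h := hcong₃.herm σ hσ hh₃
        have hM₂u := hcongM.isUnit σ hM₁u
        have hM₂h := hcongM.herm σ hσ hM₁h
        have hu22 : IsUnit (M₂ (Sum.inr 0) (Sum.inr 0)) := by
          rw [h22]
          exact isUnit_add_of_mem hu₃ (hd i')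
        obtain ⟨Sc₂, x₂, hx₂, hSc₂u, hSc₂h, hcong₄, hentry₂⟩ := schur_one σ hσ M₂ hM₂u hM₂h hu22
        have hji : Sc j' i' = σ (Sc i' j') := by
          have := congrFun (congrFun hSch j') i'
          rw [lamTr_apply] at this
          exact this.symm
        have hjj : IsUnit (Sc₂ j' j') := by
          rw [hentry₂, h11, h12, h21, hji]
          have h1 : IsUnit (σ (Sc i' j') * x₂ * Sc i' j') := ((hij.map σ).mul hx₂).mul hij
          have : Sc j' j' - σ (Sc i' j') * x₂ * Sc i' j' =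
              -(σ (Sc i' j') * x₂ * Sc i' j') + Sc j' j' := by ring
          rw [this]
          exact isUnit_add_of_mem h1.neg (hd j')
        exact ⟨Sc₂, M₂ (Sum.inr 0) (Sum.inr 0), (hcong₃.trans σ hcongM).trans σ hcong₄,
          ih Sc₂ hSc₂u hSc₂h ⟨j', hjj⟩⟩
    obtain ⟨Sc', d₀, hcongA, d', hd'⟩ := claim
    have hcong₄ : Cong σ (Matrix.fromBlocks Sc' 0 0 (Matrix.diagonal fun _ : Fin 1 => d₀))
        (Matrix.diagonal (Sum.elim d' (fun _ : Fin 1 => d₀))) := by
      rw [← Matrix.fromBlocks_diagonal]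
      exact Cong.blockDiag σ hd' (Cong.refl σ _)
    have hcong₅ := (hcongA.trans σ hcong₄).reindex σ finSumFinEquiv
    have hback : Matrix.reindex finSumFinEquiv finSumFinEquiv c₃ = c₂ := by
      rw [hc₃def]
      ext a b
      simp
    rw [hback] at hcong₅
    refine ⟨Sum.elim d' (fun _ : Fin 1 => d₀) ∘ finSumFinEquiv.symm, ?_⟩
    have hdiag : Matrix.reindex finSumFinEquiv finSumFinEquiv
        (Matrix.diagonal (Sum.elim d' (fun _ : Fin 1 => d₀))) =
        Matrix.diagonal (Sum.elim d' (fun _ : Fin 1 => d₀) ∘ finSumFinEquiv.symm) := by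
      ext a b
      simp [Matrix.diagonal_apply]
    rw [hdiag] at hcong₅
    exact hcong₂.trans σ hcong₅

/-- a hermitian invertible matrix of odd size over a local ring is congruent to one with a unit
on the diagonal -/
theorem exists_cong_unit_diag_of_odd (hσ : ∀ a, σ (σ a) = a) :
    ∀ (n : ℕ), Odd n → ∀ (c : Matrix (Fin n) (Fin n) K), IsUnit c → lamTr σ c = c →
      ∃ c', Cong σ c c' ∧ ∃ i, IsUnit (c' i i) := by
  intro n
  induction n using Nat.strong_induction_on with
  | _ n ih =>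
    intro hodd c hc hh
    by_cases hd : ∃ i, IsUnit (c i i)
    · exact ⟨c, Cong.refl σ c, hd⟩
    push Not at hd
    have hn0 : 0 < n := hodd.pos
    haveI : Nonempty (Fin n) := ⟨⟨0, hn0⟩⟩
    obtain ⟨p, q, hpq⟩ := exists_unit_entry c hc
    have hne : p ≠ q := by
      rintro rfl
      exact hd p hpq
    obtain ⟨n', rfl⟩ : ∃ n', n = n' + 2 := by
      have h2 : 2 ≤ n := by
        by_contra hlt
        have h1 : n = 1 := by omega
        subst h1
        exact hne (Subsingleton.elim p q)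
      exact ⟨n - 2, by omega⟩
    have hodd' : Odd n' := by
      rcases hodd with ⟨m, hm⟩
      exact ⟨m - 1, by omega⟩
    set l0 : Fin (n' + 2) := finSumFinEquiv (Sum.inr (0 : Fin 2)) with hl0
    set l1 : Fin (n' + 2) := finSumFinEquiv (Sum.inr (1 : Fin 2)) with hl1
    have hl01 : l0 ≠ l1 := by
      rw [hl0, hl1]
      intro h
      have := finSumFinEquiv.injective h
      simp at this
    set e₁ : Fin (n' + 2) ≃ Fin (n' + 2) := Equiv.swap l0 p with he₁
    set q' := e₁ q with hq'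
    have hq'0 : q' ≠ l0 := by
      intro h
      have : e₁ q' = e₁ l0 := by rw [h]
      rw [hq', he₁, Equiv.swap_apply_self, Equiv.swap_apply_left] at this
      exact hne this.symm
    set e₂ : Fin (n' + 2) ≃ Fin (n' + 2) := Equiv.swap l1 q' with he₂
    set e := e₂.trans e₁ with he
    have hel0 : e l0 = p := by
      rw [he, Equiv.trans_apply, he₂, Equiv.swap_apply_of_ne_of_ne hl01 (Ne.symm hq'0), he₁,
        Equiv.swap_apply_left]
    have hel1 : e l1 = q := by
      rw [he, Equiv.trans_apply, he₂, Equiv.swap_apply_left, hq', he₁, Equiv.swap_apply_self]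
    set c₂ := c.submatrix e e with hc₂def
    have hcong₂ : Cong σ c c₂ := Cong.perm σ e c
    have hc₂ := hcong₂.isUnit σ hc
    have hh₂ := hcong₂.herm σ hσ hh
    have hd₂ : ∀ a, c₂ a a ∈ maximalIdeal K := fun a => hd (e a)
    have hll : IsUnit (c₂ l0 l1) := by
      rw [hc₂def, Matrix.submatrix_apply, hel0, hel1]
      exact hpq
    set c₃ : Matrix (Fin n' ⊕ Fin 2) (Fin n' ⊕ Fin 2) K :=
      Matrix.reindex finSumFinEquiv.symm finSumFinEquiv.symm c₂ with hc₃def
    have hc₃ : IsUnit c₃ := by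
      rw [Matrix.isUnit_iff_isUnit_det, hc₃def, Matrix.det_reindex_self]
      exact (Matrix.isUnit_iff_isUnit_det _).mp hc₂
    have hh₃ : lamTr σ c₃ = c₃ := by
      rw [hc₃def, Matrix.reindex_apply, lamTr_submatrix, hh₂]
    set A := c₃.toBlocks₁₁ with hA
    set B := c₃.toBlocks₁₂ with hB
    set C := c₃.toBlocks₂₁ with hC
    set D := c₃.toBlocks₂₂ with hD
    have hfb : c₃ = Matrix.fromBlocks A B C D := (Matrix.fromBlocks_toBlocks c₃).symm
    have hDab : ∀ a b, D a b = c₂ (finSumFinEquiv (Sum.inr a)) (finSumFinEquiv (Sum.inr b)) :=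
      fun a b => rfl
    have hD00 : D 0 0 ∈ maximalIdeal K := by rw [hDab]; exact hd₂ _
    have hD11 : D 1 1 ∈ maximalIdeal K := by rw [hDab]; exact hd₂ _
    have hD10 : D 1 0 = σ (D 0 1) := by
      rw [hDab, hDab]
      have h := congrFun (congrFun hh₂ (finSumFinEquiv (Sum.inr 1))) (finSumFinEquiv (Sum.inr 0))
      rw [lamTr_apply] at h
      exact h.symm
    have hD01 : IsUnit (D 0 1) := hll
    have hDu : IsUnit D := by
      rw [Matrix.isUnit_iff_isUnit_det, Matrix.det_fin_two, hD10]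
      have h1 : IsUnit (D 0 1 * σ (D 0 1)) := hD01.mul (hD01.map σ)
      have : D 0 0 * D 1 1 - D 0 1 * σ (D 0 1) = -(D 0 1 * σ (D 0 1)) + D 0 0 * D 1 1 := by ring
      rw [this]
      exact isUnit_add_of_mem h1.neg (Ideal.mul_mem_right _ _ hD00)
    have hh₃' := hh₃
    rw [hfb, lamTr_fromBlocks, Matrix.fromBlocks_inj] at hh₃'
    obtain ⟨hAA, hCB, hBC, hDD⟩ := hh₃'
    have hcong₃ := Cong.schur σ A B C D hDu hCB hDD
    rw [← hfb] at hcong₃
    set Sc := A - B * D⁻¹ * C with hSc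
    have hu₄ := hcong₃.isUnit σ hc₃
    have hh₄ := hcong₃.herm σ hσ hh₃
    rw [lamTr_fromBlocks, Matrix.fromBlocks_inj] at hh₄
    have hScu : IsUnit Sc := by
      rw [Matrix.isUnit_iff_isUnit_det, Matrix.det_fromBlocks_zero₂₁] at hu₄
      exact (Matrix.isUnit_iff_isUnit_det _).mpr (isUnit_of_mul_isUnit_left hu₄)
    obtain ⟨Sc', hScc, i, hi⟩ := ih n' (by omega) hodd' Sc hScu hh₄.1
    have hcong₄ := Cong.blockDiag σ hScc (Cong.refl σ D)
    have hcong₅ := (hcong₃.trans σ hcong₄).reindex σ finSumFinEquiv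
    have hback : Matrix.reindex finSumFinEquiv finSumFinEquiv c₃ = c₂ := by
      rw [hc₃def]
      ext a b
      simp
    rw [hback] at hcong₅
    refine ⟨_, hcong₂.trans σ hcong₅, finSumFinEquiv (Sum.inl i), ?_⟩
    rw [Matrix.reindex_apply, Matrix.submatrix_apply, Equiv.symm_apply_apply,
      Matrix.fromBlocks_apply₁₁]
    exact hi

/-- a hermitian invertible matrix of odd size over a local ring is diagonalizable -/
theorem exists_cong_diagonal_of_odd (hσ : ∀ a, σ (σ a) = a) (n : ℕ) (hn : Odd n)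
    (c : Matrix (Fin n) (Fin n) K) (hc : IsUnit c) (hh : lamTr σ c = c) :
    ∃ d : Fin n → K, Cong σ c (Matrix.diagonal d) := by
  obtain ⟨c', hcc', hi⟩ := exists_cong_unit_diag_of_odd σ hσ n hn c hc hh
  obtain ⟨d, hd⟩ := exists_cong_diagonal_of_unit_diag σ hσ n c' (hcc'.isUnit σ hc)
    (hcc'.herm σ hσ hh) hi
  exact ⟨d, hcc'.trans σ hd⟩

end main

section sqrt

/-- with square roots of fixed units, a diagonalizable hermitian invertible matrix is congruent
to `1` -/
theorem cong_one_of_cong_diagonal (hσ : ∀ a, σ (σ a) = a)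
    (hsq : ∀ a : K, IsUnit a → σ a = a → ∃ y : K, σ y = y ∧ y * y = a)
    (n : ℕ) (c : Matrix (Fin n) (Fin n) K) (hc : IsUnit c) (hh : lamTr σ c = c)
    (d : Fin n → K) (hd : Cong σ c (Matrix.diagonal d)) : Cong σ c 1 := by
  refine hd.trans σ ?_
  have hdu := hd.isUnit σ hc
  have hdh := hd.herm σ hσ hh
  have hdi : ∀ i, IsUnit (d i) := by
    intro i
    rw [Matrix.isUnit_iff_isUnit_det, Matrix.det_diagonal] at hdu
    exact isUnit_of_dvd_unit (Finset.dvd_prod_of_mem d (Finset.mem_univ i)) hdu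
  have hdσ : ∀ i, σ (d i) = d i := by
    intro i
    have := congrFun (congrFun hdh i) i
    simpa [lamTr_apply] using this
  have hy : ∀ i, ∃ y : K, σ y = y ∧ y * y = d i := fun i => hsq (d i) (hdi i) (hdσ i)
  choose y hyσ hyy using hy
  have hyu : ∀ i, IsUnit (y i) := fun i => by
    have := hdi i
    rw [← hyy i] at this
    exact isUnit_of_mul_isUnit_left this
  choose z hz using fun i => (hyu i).exists_left_inv
  have hzy : ∀ i, y i * z i = 1 := fun i => by rw [mul_comm, hz]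
  have hzσ : ∀ i, σ (z i) = z i := by
    intro i
    have h1 : σ (z i) * y i = 1 := by
      rw [← hyσ i, ← map_mul, hz, map_one]
    calc σ (z i) = σ (z i) * (y i * z i) := by rw [hzy, mul_one]
      _ = (σ (z i) * y i) * z i := by ring
      _ = z i := by rw [h1, one_mul]
  refine ⟨Matrix.diagonal z, ?_, ?_⟩
  · refine ⟨⟨Matrix.diagonal z, Matrix.diagonal y, ?_, ?_⟩, rfl⟩
    · rw [Matrix.diagonal_mul_diagonal]
      simp [hz]
    · rw [Matrix.diagonal_mul_diagonal]
      simp [hzy]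
  · have hl : lamTr σ (Matrix.diagonal z) = Matrix.diagonal z := by
      ext i j
      rw [lamTr_apply, Matrix.diagonal_apply, Matrix.diagonal_apply]
      by_cases h : j = i
      · rw [if_pos h, if_pos h.symm, h, hzσ]
      · rw [if_neg h, if_neg (Ne.symm h), map_zero]
    rw [hl, Matrix.diagonal_mul_diagonal, Matrix.diagonal_mul_diagonal, ← Matrix.diagonal_one]
    congr 1
    funext i
    rw [← hyy i]
    calc z i * (y i * y i) * z i = (z i * y i) * (y i * z i) := by ring
      _ = 1 := by rw [hz, hzy, one_mul]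

/-- a hermitian invertible matrix of odd size over a local ring in which fixed units have fixed
square roots is congruent to `1` -/
theorem exists_cong_one_of_odd [IsLocalRing K] (hσ : ∀ a, σ (σ a) = a)
    (hsq : ∀ a : K, IsUnit a → σ a = a → ∃ y : K, σ y = y ∧ y * y = a)
    (n : ℕ) (hn : Odd n) (c : Matrix (Fin n) (Fin n) K) (hc : IsUnit c) (hh : lamTr σ c = c) :
    Cong σ c 1 := by
  obtain ⟨d, hd⟩ := exists_cong_diagonal_of_odd σ hσ n hn c hc hh
  exact cong_one_of_cong_diagonal σ hσ hsq n c hc hh d hd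

end sqrt

end Groth.Agent.Lib.Helper3.HermDiagOdd
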