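import Groth.Agent.Lib.Helper3.QuadEtIdem
import Groth.Agent.Lib.Helper3.StrictHensPrime
import Groth.Agent.Lib.Helper87.IndEtaleHens

/-! Square roots of units in the strictly henselian local rings of `S` from étale-local square
roots (helper3). -/

set_option autoImplicit false
universe u

open TensorProduct IsLocalRing

namespace Groth.Agent.Lib.Helper3.HsqLift

open Groth.Agent.Lib.Helper87 Groth.Agent.Lib.Helper87.Hens Groth.Agent.Lib.Helper3.StrictHensPrime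

/-- a point in a separably closed field lifts along an étale faithfully flat map -/
theorem exists_point_lift {S : Type u} [CommRing S] {Ω : Type u} [Field Ω] [IsSepClosed Ω]
    [Algebra S Ω] {A₁ : Type u} [CommRing A₁] [Algebra S A₁] (φ₁ : A₁ →ₐ[S] Ω)
    {S₂ : Type u} [CommRing S₂] [Algebra A₁ S₂] [Algebra S S₂] [IsScalarTower S A₁ S₂]
    [Algebra.Etale A₁ S₂] [Module.FaithfullyFlat A₁ S₂] :
    ∃ ψ : S₂ →ₐ[S] Ω, ∀ a : A₁, ψ (algebraMap A₁ S₂ a) = φ₁ a := by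
  letI : Algebra A₁ Ω := φ₁.toRingHom.toAlgebra
  have halg : ∀ a : A₁, algebraMap A₁ Ω a = φ₁ a := fun a => rfl
  haveI : IsScalarTower S A₁ Ω := IsScalarTower.of_algebraMap_eq (fun r => (φ₁.commutes r).symm)
  haveI : Nontrivial (Ω ⊗[A₁] S₂) := Module.FaithfullyFlat.rTensor_nontrivial A₁ S₂ Ω
  obtain ⟨M, hM⟩ := Ideal.exists_maximal (Ω ⊗[A₁] S₂)
  haveI := hM
  letI : Field ((Ω ⊗[A₁] S₂) ⧸ M) := Ideal.Quotient.field M
  haveI : Algebra.FormallyUnramified Ω ((Ω ⊗[A₁] S₂) ⧸ M) := inferInstance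
  haveI : Algebra.FiniteType Ω ((Ω ⊗[A₁] S₂) ⧸ M) := inferInstance
  haveI : Algebra.EssFiniteType Ω ((Ω ⊗[A₁] S₂) ⧸ M) := inferInstance
  haveI : Algebra.IsSeparable Ω ((Ω ⊗[A₁] S₂) ⧸ M) := Algebra.FormallyUnramified.isSeparable Ω _
  have hsurj := QuadEtIdem.algebraMap_surjective_of_isDomain Ω ((Ω ⊗[A₁] S₂) ⧸ M)
  have hinj : Function.Injective (algebraMap Ω ((Ω ⊗[A₁] S₂) ⧸ M)) :=
    (algebraMap Ω ((Ω ⊗[A₁] S₂) ⧸ M)).injective
  let e : Ω ≃ₐ[Ω] ((Ω ⊗[A₁] S₂) ⧸ M) := AlgEquiv.ofBijective (Algebra.ofId Ω _) ⟨hinj, hsurj⟩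
  let g : S₂ →ₐ[A₁] (Ω ⊗[A₁] S₂) := Algebra.TensorProduct.includeRight
  let ψ₀ : S₂ →+* Ω := (e.symm : ((Ω ⊗[A₁] S₂) ⧸ M) →+* Ω).comp
    ((Ideal.Quotient.mk M).comp g.toRingHom)
  have hψ₀ : ∀ a : A₁, ψ₀ (algebraMap A₁ S₂ a) = φ₁ a := by
    intro a
    show e.symm (Ideal.Quotient.mk M (g (algebraMap A₁ S₂ a))) = φ₁ a
    rw [AlgHom.commutes, AlgEquiv.symm_apply_eq]
    show _ = algebraMap Ω _ (φ₁ a)
    rw [Algebra.TensorProduct.algebraMap_apply, ← halg]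
    rfl
  refine ⟨⟨ψ₀, fun r => ?_⟩, hψ₀⟩
  rw [IsScalarTower.algebraMap_apply S A₁ S₂]
  show ψ₀ _ = _
  rw [hψ₀, AlgHom.commutes]

variable {S : Type u} [CommRing S]

/-- if units have square roots étale-locally on `S`, then units of the strictly henselian local
rings of `S` have square roots -/
theorem exists_sqrt_of_hsq
    (hsq : ∀ (S₁ : Type u) [CommRing S₁] [Algebra S S₁] [Algebra.Etale S S₁] (x : S₁ˣ),
      ∃ (S₂ : Type u) (_ : CommRing S₂) (_ : Algebra S₁ S₂) (_ : Algebra.Etale S₁ S₂)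
        (_ : Module.FaithfullyFlat S₁ S₂) (y : S₂), y * y = algebraMap S₁ S₂ ↑x)
    (q : Ideal S) [q.IsPrime] (h : Hq q) (hh : IsUnit h) : ∃ y : Hq q, y * y = h := by
  obtain ⟨A₀, _, _, _, f₀, a₀, ha₀⟩ := H.coveredByEtale (R := S) (Ω := Ωq q) h
  have ha₀' : f₀ a₀ = h := ha₀
  have hu₀ : IsUnit (f₀ a₀) := by rw [ha₀']; exact hh
  obtain ⟨A₁, _, _, _, g, f₁, hfg, hga, -⟩ := exists_away_factor f₀ a₀ hu₀
  obtain ⟨x, hx⟩ := hga
  have hf₁x : f₁ (x : A₁) = h := by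
    rw [hx, ← ha₀', ← hfg]
    rfl
  obtain ⟨S₂, _, _, _, _, y, hy⟩ := hsq A₁ x
  letI : Algebra S S₂ := Algebra.compHom S₂ (algebraMap S A₁)
  haveI : IsScalarTower S A₁ S₂ := IsScalarTower.of_algebraMap_eq fun _ => rfl
  haveI : Algebra.Etale S S₂ := Algebra.Etale.comp S A₁ S₂
  set v : Hq q →ₐ[S] Ωq q := H.ε with hv
  obtain ⟨ψ, hψ⟩ := exists_point_lift (v.comp f₁) (S₂ := S₂)
  have hvs : Function.Surjective v := ε_surjective q
  have hkv : RingHom.ker v.toRingHom = maximalIdeal (Hq q) := H.ker_ε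
  obtain ⟨F₂, hF₂⟩ := IndEt.exists_lift_etale v hvs hkv ψ
  have hcomp : F₂.comp (IsScalarTower.toAlgHom S A₁ S₂) = f₁ := by
    apply IndEt.algHom_ext_of_comp_eq v hkv
    refine AlgHom.ext fun a => ?_
    rw [AlgHom.comp_apply, AlgHom.comp_apply, ← AlgHom.comp_apply v F₂, hF₂]
    exact hψ a
  refine ⟨F₂ y, ?_⟩
  rw [← map_mul, hy, ← hf₁x, ← hcomp]
  rfl

end Groth.Agent.Lib.Helper3.HsqLift
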