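import Mathlib
import Groth.Agent.Lib.Helper3.IS4
import Groth.Agent.Lib.Helper66.CoBase

set_option autoImplicit false
universe u v w
open scoped TensorProduct
open CartDual

namespace Groth.Agent.Lib.Helper3.IS6
open TensorProduct Coalgebra

lemma isCocomm_of_equiv {S : Type*} {C C' : Type*} [CommRing S] [AddCommGroup C] [Module S C]
    [Coalgebra S C] [AddCommGroup C'] [Module S C'] [Coalgebra S C'] [Coalgebra.IsCocomm S C']
    (e : C ≃ₗc[S] C') : Coalgebra.IsCocomm S C := by
  refine ⟨?_⟩
  apply LinearMap.ext; intro a
  have hinj : Function.Injective (TensorProduct.map (e : C →ₗ[S] C') (e : C →ₗ[S] C')) :=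
    (TensorProduct.map_bijective e.bijective e.bijective).injective
  apply hinj
  rw [LinearMap.comp_apply, LinearEquiv.coe_coe]
  have hcomm : ∀ t : C ⊗[S] C, TensorProduct.map (e : C →ₗ[S] C') (e : C →ₗ[S] C')
      (TensorProduct.comm S C C t) =
      TensorProduct.comm S C' C' (TensorProduct.map (e : C →ₗ[S] C') (e : C →ₗ[S] C') t) := by
    intro t
    induction t using TensorProduct.induction_on with
    | zero => simp
    | tmul x y => simp
    | add x y hx hy => simp only [map_add, hx, hy]
  have hmap : TensorProduct.map (e : C →ₗ[S] C') (e : C →ₗ[S] C') (Coalgebra.comul (R := S) a) =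
      Coalgebra.comul (R := S) (e a) := CoalgHomClass.map_comp_comul_apply e a
  rw [hcomm, hmap, Coalgebra.comm_comul]

section L1
variable (R : Type u) [CommRing R] (A : Type u) [CommRing A] [HopfAlgebra R A] [Module.Finite R A]
  (K : Type u) [CommRing K] [Algebra R K] [Module.FaithfullyFlat R K] (M : Type u) [CommGroup M]
  (e : K ⊗[R] A ≃ₐc[K] MonoidAlgebra K M)

include e

theorem finite_of_diag [Nontrivial R] : Finite M := by
  have hK : Nontrivial K := (FaithfulSMul.algebraMap_injective R K).nontrivial
  have hfinMA : Module.Finite K (MonoidAlgebra K M) := Module.Finite.equiv e.toLinearEquiv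
  exact Module.Finite.finite_basis (MonoidAlgebra.basis M K)

theorem projective_of_diag : Module.Projective R A := by
  rcases subsingleton_or_nontrivial R with hR | hR
  · have : Subsingleton A := Module.subsingleton R A
    infer_instance
  have hK : Nontrivial K := (FaithfulSMul.algebraMap_injective R K).nontrivial
  have hfinMA : Module.Finite K (MonoidAlgebra K M) := Module.Finite.equiv e.toLinearEquiv
  have hfree : Module.Free K (MonoidAlgebra K M) := Module.Free.of_basis (MonoidAlgebra.basis M K)
  have hfreeKA : Module.Free K (K ⊗[R] A) := Module.Free.of_equiv e.toLinearEquiv.symm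
  have hflat : Module.Flat R A := Module.Flat.of_flat_tensorProduct R A K
  have hfpM : Module.FinitePresentation K (K ⊗[R] A) := Module.finitePresentation_of_projective K _
  have hfpA : Algebra.FinitePresentation K (K ⊗[R] A) := inferInstance
  have hfpA' : Algebra.FinitePresentation R A :=
    Algebra.FinitePresentation.of_finitePresentation_tensorProduct_of_faithfullyFlat K
  have hfpM' : Module.FinitePresentation R A :=
    Module.FinitePresentation.of_finite_of_finitePresentation R A
  exact Module.Flat.projective_of_finitePresentation

theorem cocomm_of_diag : Coalgebra.IsCocomm R A := by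
  have h2 : Coalgebra.IsCocomm K (K ⊗[R] A) := isCocomm_of_equiv e.toCoalgEquiv
  refine Groth.Agent.Lib.Helper66.CoBase.isCocomm_of_injective R K A (fun x hx => ?_)
  have := Module.FaithfullyFlat.tensorProduct_mk_injective (A := R) (B := K) (A ⊗[R] A)
  apply this
  rw [map_zero]
  exact hx

theorem etale_dual_of_diag [Coalgebra.IsCocomm R A] [Module.Projective R A] :
    Algebra.Etale R (CartDual.D R A) := by
  classical
  rcases subsingleton_or_nontrivial R with hR | hR
  · have : Algebra.IsFiniteSplit R (CartDual.D R A) := Algebra.IsFiniteSplit.of_subsingleton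
    infer_instance
  have hK : Nontrivial K := (FaithfulSMul.algebraMap_injective R K).nontrivial
  have hfinMA : Module.Finite K (MonoidAlgebra K M) := Module.Finite.equiv e.toLinearEquiv
  have hfinM : Finite M := Module.Finite.finite_basis (MonoidAlgebra.basis M K)
  have := Fintype.ofFinite M
  have hfree : Module.Free K (MonoidAlgebra K M) := Module.Free.of_basis (MonoidAlgebra.basis M K)
  obtain ⟨e2, -⟩ := Groth.Agent.S16070.result K M
  have het2 : Algebra.Etale K (ConstGrp.F K M) := by
    change Algebra.Etale K (M → K)
    infer_instance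
  have het3 : Algebra.Etale K (CartDual.D K (MonoidAlgebra K M)) :=
    Algebra.Etale.of_equiv (e2 : CartDual.D K (MonoidAlgebra K M) ≃ₐ[K] ConstGrp.F K M).symm
  have het4 : Algebra.Etale K (CartDual.D K (K ⊗[R] A)) :=
    Algebra.Etale.of_equiv (IS4.transposeEquiv e)
  have het5 : Algebra.Etale K (K ⊗[R] CartDual.D R A) :=
    Algebra.Etale.of_equiv (IS1.PhiE (k := R) (A := A) (R := K)).symm
  exact Algebra.Etale.of_etale_tensorProduct_of_faithfullyFlat K

end L1

end Groth.Agent.Lib.Helper3.IS6
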