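import Mathlib
import Groth.Agent.Lib.Helper3.IS6
import Groth.Agent.Lib.Helper3.IS5

set_option autoImplicit false
universe u v w
open scoped TensorProduct
open CartDual

namespace Groth.Agent.Lib.Helper3.IS7
open TensorProduct Coalgebra

section L2
variable (R : Type u) [CommRing R] (A : Type u) [CommRing A] [HopfAlgebra R A] [Module.Finite R A]
  (s : Set R) (hs : Ideal.span s = ⊤)

include hs

theorem projective_of_span
    (h : ∀ r : s, Module.Projective (Localization.Away r.1) (Localization.Away r.1 ⊗[R] A)) :
    Module.Projective R A := by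
  have hfp : Module.FinitePresentation R A := by
    refine Module.FinitePresentation.of_localizationSpan' s hs
      (Rₚ := fun g => Localization.Away g.1) (Mₚ := fun g => Localization.Away g.1 ⊗[R] A)
      (fun g => TensorProduct.mk R (Localization.Away g.1) A 1) (fun g => ?_)
    have := h g
    exact Module.finitePresentation_of_projective _ _
  have hflat : Module.Flat R A := by
    refine Module.flat_of_isLocalized_span R A s hs (fun g => Localization.Away g.1 ⊗[R] A)
      (fun g => TensorProduct.mk R (Localization.Away g.1) A 1) (fun g => ?_)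
    have := h g
    have h1 : Module.Flat R (Localization.Away g.1) := IsLocalization.flat _ (Submonoid.powers g.1)
    exact Module.Flat.trans R (Localization.Away g.1) _
  exact Module.Flat.projective_of_finitePresentation

theorem cocomm_of_span
    (h : ∀ r : s, Coalgebra.IsCocomm (Localization.Away r.1) (Localization.Away r.1 ⊗[R] A)) :
    Coalgebra.IsCocomm R A := by
  refine ⟨?_⟩
  apply LinearMap.ext
  intro a
  rw [LinearMap.comp_apply, LinearEquiv.coe_coe, ← sub_eq_zero]
  refine Module.eq_zero_of_isLocalized_span s hs
    (fun g => Localization.Away g.1 ⊗[R] (A ⊗[R] A))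
    (fun g => TensorProduct.mk R (Localization.Away g.1) (A ⊗[R] A) 1) _ (fun g => ?_)
  haveI := h g
  show (1 : Localization.Away g.1) ⊗ₜ[R] _ = 0
  rw [← Groth.Agent.Lib.Helper66.CoBase.Θ_eq_zero_iff, map_sub,
    Groth.Agent.Lib.Helper66.CoBase.Θ_comm_comul, sub_self]

end L2


attribute [local instance] Algebra.TensorProduct.rightAlgebra in
theorem etale_of_span (R : Type u) [CommRing R] (E : Type u) [CommRing E] [Algebra R E]
    (s : Set R) (hs : Ideal.span s = ⊤)
    (h : ∀ r : s, Algebra.Etale (Localization.Away r.1) (Localization.Away r.1 ⊗[R] E)) :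
    Algebra.Etale R E := by
  rw [← RingHom.etale_algebraMap]
  apply RingHom.Etale.ofLocalizationSpan.ofIsLocalization RingHom.Etale.respectsIso _ s hs
  intro r
  have hloc : IsLocalization.Away (algebraMap R E r.1) (Localization.Away r.1 ⊗[R] E) := by
    have := IsLocalization.tensorRight (S := E) (A := Localization.Away r.1) (Submonoid.powers r.1)
    rw [Algebra.algebraMapSubmonoid_powers] at this
    exact this
  refine ⟨Localization.Away r.1, Localization.Away r.1 ⊗[R] E, inferInstance, inferInstance,
    inferInstance, inferInstance, inferInstance, hloc,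
    algebraMap (Localization.Away r.1) (Localization.Away r.1 ⊗[R] E), ?_, ?_⟩
  · ext x
    simp only [RingHom.comp_apply, Algebra.TensorProduct.algebraMap_apply,
      Algebra.TensorProduct.right_algebraMap_apply]
    rw [Algebra.algebraMap_self, RingHom.id_apply]
    exact Algebra.TensorProduct.tmul_one_eq_one_tmul (A := Localization.Away r.1) (B := E) x
  · exact RingHom.etale_algebraMap.mpr (h r)


theorem isotrivial_of_multType (R : Type u) [CommRing R] [ConnectedSpace (PrimeSpectrum R)]
    (A : Type u) [CommRing A] [HopfAlgebra R A] [Module.Finite R A]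
    (hA : SGA3b.IsMultType R A) : SGA3b.IsIsotrivial R A := by
  obtain ⟨s, hs, hf⟩ := hA
  have hproj_loc : ∀ r : s,
      Module.Projective (Localization.Away r.1) (Localization.Away r.1 ⊗[R] A) := fun r => by
    obtain ⟨K, _, _, hff, M, _, ⟨e⟩⟩ := hf r.1 r.2
    exact IS6.projective_of_diag (Localization.Away r.1) (Localization.Away r.1 ⊗[R] A) K M e
  have hcc_loc : ∀ r : s,
      Coalgebra.IsCocomm (Localization.Away r.1) (Localization.Away r.1 ⊗[R] A) := fun r => by
    obtain ⟨K, _, _, hff, M, _, ⟨e⟩⟩ := hf r.1 r.2
    exact IS6.cocomm_of_diag (Localization.Away r.1) (Localization.Away r.1 ⊗[R] A) K M e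
  haveI hproj : Module.Projective R A := projective_of_span R A s hs hproj_loc
  haveI hcc : Coalgebra.IsCocomm R A := cocomm_of_span R A s hs hcc_loc
  have het : Algebra.Etale R (CartDual.D R A) := by
    apply etale_of_span R (CartDual.D R A) s hs
    intro r
    obtain ⟨K, _, _, hff, M, _, ⟨e⟩⟩ := hf r.1 r.2
    haveI := hproj_loc r
    haveI := hcc_loc r
    have h1 : Algebra.Etale (Localization.Away r.1)
        (CartDual.D (Localization.Away r.1) (Localization.Away r.1 ⊗[R] A)) :=
      IS6.etale_dual_of_diag (Localization.Away r.1) (Localization.Away r.1 ⊗[R] A) K M e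
    exact Algebra.Etale.of_equiv
      (IS1.PhiE (k := R) (A := A) (R := Localization.Away r.1)).symm
  exact IS5.forward' R A het

end Groth.Agent.Lib.Helper3.IS7
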