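import Mathlib
import Groth.Agent.Lib.Helper3.IS7

set_option autoImplicit false
universe u v w
open scoped TensorProduct
open CartDual

namespace Groth.Agent.Lib.Helper3.IS8
open TensorProduct Coalgebra

section
variable (R : Type u) [CommRing R] (A : Type u) [CommRing A] [HopfAlgebra R A] [Module.Finite R A]
  (hA : SGA3b.IsMultType R A)
include hA

theorem projective_of_multType : Module.Projective R A := by
  obtain ⟨s, hs, hf⟩ := hA
  refine IS7.projective_of_span R A s hs (fun r => ?_)
  obtain ⟨K, _, _, hff, M, _, ⟨e⟩⟩ := hf r.1 r.2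
  exact IS6.projective_of_diag (Localization.Away r.1) (Localization.Away r.1 ⊗[R] A) K M e

theorem cocomm_of_multType : Coalgebra.IsCocomm R A := by
  obtain ⟨s, hs, hf⟩ := hA
  refine IS7.cocomm_of_span R A s hs (fun r => ?_)
  obtain ⟨K, _, _, hff, M, _, ⟨e⟩⟩ := hf r.1 r.2
  exact IS6.cocomm_of_diag (Localization.Away r.1) (Localization.Away r.1 ⊗[R] A) K M e

theorem etale_dual_of_multType [Module.Projective R A] [Coalgebra.IsCocomm R A] :
    Algebra.Etale R (CartDual.D R A) := by
  obtain ⟨s, hs, hf⟩ := hA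
  apply IS7.etale_of_span R (CartDual.D R A) s hs
  intro r
  obtain ⟨K, _, _, hff, M, _, ⟨e⟩⟩ := hf r.1 r.2
  have h1 : Algebra.Etale (Localization.Away r.1)
      (CartDual.D (Localization.Away r.1) (Localization.Away r.1 ⊗[R] A)) :=
    IS6.etale_dual_of_diag (Localization.Away r.1) (Localization.Away r.1 ⊗[R] A) K M e
  exact Algebra.Etale.of_equiv
    (IS1.PhiE (k := R) (A := A) (R := Localization.Away r.1)).symm

end

end Groth.Agent.Lib.Helper3.IS8
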