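import Mathlib
import Groth.Agent.Lib.Helper9.HenselSplit
import Groth.Agent.Lib.Helper87.PurelyInsepTensor2

set_option autoImplicit false
universe u v w
open scoped TensorProduct

namespace Groth.Agent.Lib.Helper3.IS9
open TensorProduct IsLocalRing

/-- `m S ≤ Jac S` for a finite algebra over a local ring. -/
lemma map_maximalIdeal_le_jacobson (A : Type*) [CommRing A] [IsLocalRing A] (S : Type*) [CommRing S]
    [Algebra A S] [Algebra.IsIntegral A S] :
    Ideal.map (algebraMap A S) (maximalIdeal A) ≤ Ideal.jacobson (⊥ : Ideal S) := by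
  rw [Ideal.jacobson]
  apply le_sInf
  rintro M ⟨-, hM⟩
  rw [Ideal.map_le_iff_le_comap]
  have : (M.comap (algebraMap A S)).IsMaximal := Ideal.isMaximal_comap_of_isIntegral_of_isMaximal M
  exact le_of_eq (IsLocalRing.eq_maximalIdeal this).symm

section HL
variable {A : Type u} [CommRing A] [HenselianLocalRing A]
  {E : Type u} [CommRing E] [Algebra A E] [Algebra.Etale A E]
  {F : Type u} [CommRing F] [Algebra A F] [Module.Finite A F]

/-- Henselian lifting of maps from an étale algebra to a finite algebra modulo an ideal in the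
Jacobson radical. -/
theorem exists_lift (I : Ideal F) (hI : I ≤ Ideal.jacobson (⊥ : Ideal F))
    (h : E →ₐ[A] F ⧸ I) : ∃ g : E →ₐ[A] F, (Ideal.Quotient.mkₐ A I).comp g = h := by
  classical
  obtain ⟨n, e, he, hloc⟩ := Groth.Agent.Lib.Helper9.exists_completeOrthogonalIdempotents_of_finite
    (R := A) F
  -- the local factors
  have hHens : ∀ i, HenselianLocalRing (F ⧸ Ideal.span {1 - e i}) := fun i => by
    haveI := hloc i
    exact Groth.Agent.Lib.Helper87.PurelyInsepTensor.henselianLocalRing_of_isIntegral A _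
  -- maximal ideals of `F` from the factors
  have hmaxi : ∀ i, (Ideal.comap (Ideal.Quotient.mk (Ideal.span {1 - e i}))
      (@maximalIdeal _ _ (hloc i))).IsMaximal := fun i => by
    haveI := hloc i
    exact Ideal.comap_isMaximal_of_surjective _ Ideal.Quotient.mk_surjective
  -- maps to the residue fields of the factors
  have hθ : ∀ i, ∃ θ : F ⧸ I →ₐ[A] @ResidueField (F ⧸ Ideal.span {1 - e i}) _ (hloc i),
      ∀ y : F, θ (Ideal.Quotient.mk I y) =
        @residue _ _ (hloc i) (Ideal.Quotient.mk (Ideal.span {1 - e i}) y) := fun i => by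
    haveI := hloc i
    let ρ : F →ₐ[A] ResidueField (F ⧸ Ideal.span {1 - e i}) :=
      (IsScalarTower.toAlgHom A (F ⧸ Ideal.span {1 - e i}) (ResidueField (F ⧸ Ideal.span {1 - e i}))).comp
        (Ideal.Quotient.mkₐ A (Ideal.span {1 - e i}))
    have hρ : ∀ a ∈ I, ρ a = 0 := fun a ha => by
      have h1 : a ∈ Ideal.comap (Ideal.Quotient.mk (Ideal.span {1 - e i}))
          (maximalIdeal (F ⧸ Ideal.span {1 - e i})) := by
        have h2 := hI ha
        rw [Ideal.jacobson, Ideal.mem_sInf] at h2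
        exact h2 ⟨bot_le, hmaxi i⟩
      rw [Ideal.mem_comap] at h1
      exact (residue_eq_zero_iff _).mpr h1
    exact ⟨Ideal.Quotient.liftₐ I ρ hρ, fun y => rfl⟩
  choose θ hθ using hθ
  -- the lifts
  have hg : ∀ i, ∃ gi : E →ₐ[A] F ⧸ Ideal.span {1 - e i},
      ∀ x, @residue _ _ (hloc i) (gi x) = (θ i).comp h x := fun i => by
    haveI := hloc i
    haveI := hHens i
    exact Groth.Agent.Lib.Helper9.exists_lift_of_etale_of_algebra (R := A)
      (T := F ⧸ Ideal.span {1 - e i}) (A := E) ((θ i).comp h)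
  choose gi hgi using hg
  let PiF : F →ₐ[A] (∀ i, F ⧸ Ideal.span {1 - e i}) :=
    Pi.algHom _ _ (fun i => Ideal.Quotient.mkₐ A (Ideal.span {1 - e i}))
  have hPiF : Function.Bijective PiF := he.bijective_pi
  let PiE : F ≃ₐ[A] (∀ i, F ⧸ Ideal.span {1 - e i}) := AlgEquiv.ofBijective PiF hPiF
  let g : E →ₐ[A] F := (PiE.symm : _ →ₐ[A] F).comp (Pi.algHom _ _ gi)
  have hgi' : ∀ x i, Ideal.Quotient.mk (Ideal.span {1 - e i}) (g x) = gi i x := fun x i => by
    have h1 : PiE (g x) = fun i => gi i x := PiE.apply_symm_apply _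
    exact congrFun h1 i
  refine ⟨g, ?_⟩
  apply Groth.Agent.Lib.Helper9.algHom_ext_of_sub_mem_jacobson
  intro x
  rw [Ideal.jacobson, Ideal.mem_sInf]
  rintro N ⟨-, hN⟩
  obtain ⟨y, hy⟩ := Ideal.Quotient.mk_surjective (h x)
  have hN'max : (Ideal.comap (Ideal.Quotient.mk I) N).IsMaximal :=
    Ideal.comap_isMaximal_of_surjective _ Ideal.Quotient.mk_surjective
  -- some `1 - e i` lies in the maximal ideal
  obtain ⟨i, hi⟩ : ∃ i, 1 - e i ∈ Ideal.comap (Ideal.Quotient.mk I) N := by
    by_contra hcon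
    push Not at hcon
    have hall : ∀ i, e i ∈ Ideal.comap (Ideal.Quotient.mk I) N := fun i => by
      have h0 : e i * (1 - e i) ∈ Ideal.comap (Ideal.Quotient.mk I) N := by
        have : e i * (1 - e i) = 0 := by
          rw [mul_sub, mul_one, (he.idem i).eq, sub_self]
        rw [this]; exact Ideal.zero_mem _
      exact (hN'max.isPrime.mem_or_mem h0).resolve_right (hcon i)
    have h1 : (1 : F) ∈ Ideal.comap (Ideal.Quotient.mk I) N := by
      rw [← he.complete]
      exact Ideal.sum_mem _ (fun i _ => hall i)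
    exact hN'max.ne_top ((Ideal.eq_top_iff_one _).mpr h1)
  haveI := hloc i
  have hle : Ideal.comap (Ideal.Quotient.mk I) N ≤
      Ideal.comap (Ideal.Quotient.mk (Ideal.span {1 - e i}))
        (maximalIdeal (F ⧸ Ideal.span {1 - e i})) := by
    intro z hz
    rw [Ideal.mem_comap]
    by_contra hnot
    have hu : IsUnit (Ideal.Quotient.mk (Ideal.span {1 - e i}) z) := by
      by_contra hnu
      exact hnot ((mem_maximalIdeal _).mpr hnu)
    obtain ⟨w', hw'⟩ := hu.exists_right_inv
    obtain ⟨w, rfl⟩ := Ideal.Quotient.mk_surjective w'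
    rw [← map_mul, ← map_one (Ideal.Quotient.mk (Ideal.span {1 - e i})), Ideal.Quotient.eq,
      Ideal.mem_span_singleton'] at hw'
    obtain ⟨a, ha⟩ := hw'
    have h1 : (1 : F) ∈ Ideal.comap (Ideal.Quotient.mk I) N := by
      have : (1 : F) = z * w - a * (1 - e i) := by rw [ha]; ring
      rw [this]
      exact Ideal.sub_mem _ (Ideal.mul_mem_right _ _ hz) (Ideal.mul_mem_left _ _ hi)
    exact hN'max.ne_top ((Ideal.eq_top_iff_one _).mpr h1)
  have heq := hN'max.eq_of_le (hmaxi i).ne_top hle
  have hmem : g x - y ∈ Ideal.comap (Ideal.Quotient.mk I) N := by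
    rw [heq, Ideal.mem_comap, map_sub, ← residue_eq_zero_iff, map_sub, sub_eq_zero, hgi', hgi i x,
      AlgHom.comp_apply, ← hy, hθ]
  rw [Ideal.mem_comap, map_sub, hy] at hmem
  exact hmem

end HL

end Groth.Agent.Lib.Helper3.IS9
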