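import Mathlib
import Groth.Agent.Lib.Helper3.IS8
import Groth.Agent.Lib.Helper3.IS9
import Groth.Agent.S2985
import Groth.Agent.S15893

set_option autoImplicit false
universe u v w
open scoped TensorProduct
open CartDual

namespace Groth.Agent.Lib.Helper3.IS10
open TensorProduct Coalgebra IsLocalRing

section residue
variable {A : Type u} [CommRing A] [IsLocalRing A]

lemma exists_one_tmul {M : Type*} [AddCommGroup M] [Module A M] (t : ResidueField A ⊗[A] M) :
    ∃ m : M, t = (1 : ResidueField A) ⊗ₜ[A] m := by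
  induction t using TensorProduct.induction_on with
  | zero => exact ⟨0, by simp⟩
  | tmul r m =>
    obtain ⟨a, rfl⟩ := residue_surjective r
    refine ⟨a • m, ?_⟩
    rw [TensorProduct.tmul_smul, TensorProduct.smul_tmul', Algebra.smul_def, mul_one]
    rfl
  | add t t' ht ht' =>
    obtain ⟨m, rfl⟩ := ht
    obtain ⟨m', rfl⟩ := ht'
    exact ⟨m + m', by rw [TensorProduct.tmul_add]⟩

lemma mem_of_one_tmul_eq_zero {M : Type*} [AddCommGroup M] [Module A M] (x : M)
    (h : (1 : ResidueField A) ⊗ₜ[A] x = 0) : x ∈ (maximalIdeal A) • (⊤ : Submodule A M) := by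
  have h1 := Groth.Agent.Lib.Helper66.CoBase.mem_smul_top_of_one_tmul_eq_zero (R := A)
    (κ := ResidueField A) (residue_surjective) x h
  have h2 : RingHom.ker (algebraMap A (ResidueField A)) = maximalIdeal A := ker_residue
  rwa [h2] at h1

lemma dual_mem_smul_top {C : Type*} [AddCommGroup C] [Module A C] [Module.Finite A C]
    [Module.Projective A C] (y : Module.Dual A C) (hy : ∀ c, y c ∈ maximalIdeal A) :
    y ∈ (maximalIdeal A) • (⊤ : Submodule A (Module.Dual A C)) := by
  classical
  obtain ⟨n, f, g', -, -, hfg⟩ := Module.Finite.exists_comp_eq_id_of_projective A C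
  have hyy : y = ∑ i, y (f (Pi.single i 1)) •
      ((LinearMap.proj i : (Fin n → A) →ₗ[A] A) ∘ₗ g') := by
    apply LinearMap.ext; intro c
    have hc : c = f (g' c) := by rw [← LinearMap.comp_apply, hfg]; rfl
    have hg : g' c = ∑ i, (g' c i) • (Pi.single i 1 : Fin n → A) := by
      ext k; simp [Finset.sum_apply, Pi.single_apply]
    conv_lhs => rw [hc, hg, map_sum, map_sum]
    simp [LinearMap.sum_apply, mul_comm]
  rw [hyy]
  exact Submodule.sum_mem _ (fun i _ => Submodule.smul_mem_smul (hy _) Submodule.mem_top)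

end residue


section bc
variable {A : Type u} [CommRing A] [IsLocalRing A]
  {B : Type u} [CommRing B] [HopfAlgebra A B] [Module.Finite A B] [Module.Projective A B]

lemma bc_one_tmul (x : CartDual.D A B) (b : B) :
    IS1.bc (R := ResidueField A) x ((1 : ResidueField A) ⊗ₜ[A] b) = residue A (x b) := by
  rw [IS1.bc_apply, IS1.pairL_tmul, Algebra.smul_def, mul_one]
  rfl

lemma bc_surjective (z : CartDual.D (ResidueField A) (ResidueField A ⊗[A] B)) :
    ∃ x : CartDual.D A B, IS1.bc (R := ResidueField A) x = z := by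
  obtain ⟨t, rfl⟩ := (IS1.PhiL_bijective (k := A) (A := B) (R := ResidueField A)).2 z
  obtain ⟨x, rfl⟩ := exists_one_tmul t
  exact ⟨x, by rw [IS1.PhiL_tmul, one_smul]⟩

lemma mem_of_bc_eq_zero (x : CartDual.D A B) (h : IS1.bc (R := ResidueField A) x = 0) :
    x ∈ (maximalIdeal A) • (⊤ : Submodule A (CartDual.D A B)) := by
  apply mem_of_one_tmul_eq_zero
  apply (IS1.PhiL_bijective (k := A) (A := B) (R := ResidueField A)).1
  rw [IS1.PhiL_tmul, one_smul, h, map_zero]

lemma bc_smul (a : A) (x : CartDual.D A B) :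
    IS1.bc (R := ResidueField A) (a • x) = residue A a • IS1.bc (R := ResidueField A) x := by
  have h1 : IS1.bc (R := ResidueField A) (a • x) = a • IS1.bc (R := ResidueField A) x :=
    (IS1.bcLin (k := A) (A := B) (R := ResidueField A)).map_smul a x
  rw [h1]
  exact (algebraMap_smul (ResidueField A) a _).symm

/-- `bc` as a ring hom. -/
noncomputable def bcRing : CartDual.D A B →+* CartDual.D (ResidueField A) (ResidueField A ⊗[A] B) where
  toFun := IS1.bc (R := ResidueField A)
  map_one' := IS1.bc_one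
  map_mul' := IS1.bc_mul
  map_zero' := (IS1.bcLin (k := A) (A := B) (R := ResidueField A)).map_zero
  map_add' := IS1.bc_add

@[simp] lemma bcRing_apply (x : CartDual.D A B) : bcRing x = IS1.bc (R := ResidueField A) x := rfl

end bc


section inj
variable {A : Type u} [CommRing A] [IsLocalRing A]
  (B : Type u) [CommRing B] [HopfAlgebra A B] [Module.Finite A B] (hG : SGA3b.IsMultType A B)
  (C : Type u) [CommRing C] [HopfAlgebra A C] [Module.Finite A C] (hH : SGA3b.IsMultType A C)

include hG hH in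
theorem inj (φ ψ : C →ₐc[A] B)
    (h : ∀ c, (1 : ResidueField A) ⊗ₜ[A] φ c = (1 : ResidueField A) ⊗ₜ[A] ψ c) : φ = ψ := by
  haveI := IS8.projective_of_multType A C hH
  haveI := IS8.cocomm_of_multType A C hH
  have hfpM : Module.FinitePresentation A C := Module.finitePresentation_of_projective A C
  have hfp : Algebra.FinitePresentation A C := inferInstance
  have hft : Algebra.FiniteType A B := inferInstance
  apply Groth.Agent.S2985.result A B hft hG C hfp φ ψ
  intro c
  have h1 : (1 : ResidueField A) ⊗ₜ[A] (φ c - ψ c) = 0 := by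
    rw [TensorProduct.tmul_sub, h c, sub_self]
  have h2 := mem_of_one_tmul_eq_zero (φ c - ψ c) h1
  rw [Ideal.smul_top_eq_map] at h2
  exact h2

end inj


section surj
variable {A : Type u} [CommRing A] [HenselianLocalRing A]
  {B : Type u} [CommRing B] [HopfAlgebra A B] [Module.Finite A B] [Module.Projective A B]
  [Coalgebra.IsCocomm A B]
  {C : Type u} [CommRing C] [HopfAlgebra A C] [Module.Finite A C] [Module.Projective A C]
  [Coalgebra.IsCocomm A C]
  [Algebra.Etale A (CartDual.D A B)] [Algebra.Etale A (CartDual.D A C)]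

/-- lifting the transposed map. -/
theorem exists_lift_dual
    (φ₀ : (ResidueField A ⊗[A] C) →ₐc[ResidueField A] (ResidueField A ⊗[A] B)) :
    ∃ g : CartDual.D A B →ₐ[A] CartDual.D A C, ∀ x : CartDual.D A B,
      IS1.bc (R := ResidueField A) (g x) =
        CartDual.transpose (ResidueField A) φ₀ (IS1.bc (R := ResidueField A) x) := by
  set I : Ideal (CartDual.D A C) :=
    Ideal.map (algebraMap A (CartDual.D A C)) (maximalIdeal A) with hI
  have hIjac : I ≤ Ideal.jacobson ⊥ := IS9.map_maximalIdeal_le_jacobson A _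
  have hker : RingHom.ker (bcRing (A := A) (B := C)) = I := by
    apply le_antisymm
    · intro y hy
      have h1 := mem_of_bc_eq_zero y hy
      rw [Ideal.smul_top_eq_map] at h1
      exact h1
    · rw [hI, Ideal.map_le_iff_le_comap]
      intro a ha
      rw [Ideal.mem_comap, RingHom.mem_ker, bcRing_apply, Algebra.algebraMap_eq_smul_one, bc_smul,
        (residue_eq_zero_iff a).mpr ha, zero_smul]
  have hsurjC : Function.Surjective (bcRing (A := A) (B := C)) := fun z => bc_surjective z
  let β : (CartDual.D A C ⧸ I) ≃+* CartDual.D (ResidueField A) (ResidueField A ⊗[A] C) :=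
    (Ideal.quotEquivOfEq hker.symm).trans (RingHom.quotientKerEquivOfSurjective hsurjC)
  have hβ : ∀ y, β (Ideal.Quotient.mk I y) = IS1.bc (R := ResidueField A) y := fun y => rfl
  let T₀ : CartDual.D (ResidueField A) (ResidueField A ⊗[A] B) →+*
      CartDual.D (ResidueField A) (ResidueField A ⊗[A] C) :=
    ((CartDual.transpose (ResidueField A) φ₀ :
      CartDual.D (ResidueField A) (ResidueField A ⊗[A] B) →ₐ[ResidueField A]
        CartDual.D (ResidueField A) (ResidueField A ⊗[A] C)) : _ →+* _)
  let h₀ : CartDual.D A B →+* CartDual.D A C ⧸ I :=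
    (β.symm : _ →+* _).comp (T₀.comp bcRing)
  have hh₀ : ∀ x, β (h₀ x) = CartDual.transpose (ResidueField A) φ₀ (IS1.bc (R := ResidueField A) x) :=
    fun x => β.apply_symm_apply _
  let h : CartDual.D A B →ₐ[A] CartDual.D A C ⧸ I :=
    { h₀ with
      commutes' := fun a => by
        apply β.injective
        change β (h₀ (algebraMap A (CartDual.D A B) a)) = β (Ideal.Quotient.mk I (algebraMap A _ a))
        rw [hh₀, hβ, Algebra.algebraMap_eq_smul_one, Algebra.algebraMap_eq_smul_one, bc_smul, bc_smul,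
          IS1.bc_one, IS1.bc_one, map_smul, map_one] }
  have hh : ∀ x, h x = h₀ x := fun x => rfl
  obtain ⟨g, hg⟩ := IS9.exists_lift I hIjac h
  refine ⟨g, fun x => ?_⟩
  have h1 : Ideal.Quotient.mk I (g x) = h x := by
    rw [← hg]; rfl
  rw [← hβ, h1, hh, hh₀]

omit [HenselianLocalRing A] in
lemma mem_map_of_mem_smul_top {S : Type*} [CommRing S] [Algebra A S] (J : Ideal A) {t : S}
    (ht : t ∈ J • (⊤ : Submodule A S)) : t ∈ Ideal.map (algebraMap A S) J := by
  rw [Ideal.smul_top_eq_map] at ht; exact ht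

omit [HenselianLocalRing A] in
lemma map_mem_smul_top {M N : Type*} [AddCommMonoid M] [Module A M] [AddCommMonoid N] [Module A N]
    (L : M →ₗ[A] N) (J : Ideal A) {z : M} (hz : z ∈ J • (⊤ : Submodule A M)) :
    L z ∈ J • (⊤ : Submodule A N) := by
  refine Submodule.smul_induction_on hz (fun r hr n _ => ?_) (fun x y hx hy => ?_)
  · rw [map_smul]; exact Submodule.smul_mem_smul hr Submodule.mem_top
  · rw [map_add]; exact Submodule.add_mem _ hx hy

theorem counit_comp_lift
    (φ₀ : (ResidueField A ⊗[A] C) →ₐc[ResidueField A] (ResidueField A ⊗[A] B))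
    (g : CartDual.D A B →ₐ[A] CartDual.D A C)
    (hg : ∀ x : CartDual.D A B, IS1.bc (R := ResidueField A) (g x) =
        CartDual.transpose (ResidueField A) φ₀ (IS1.bc (R := ResidueField A) x)) :
    (Bialgebra.counitAlgHom A (CartDual.D A C)).comp g = Bialgebra.counitAlgHom A (CartDual.D A B) := by
  apply Groth.Agent.Lib.Helper9.algHom_ext_of_sub_mem_jacobson
  intro x
  rw [IsLocalRing.jacobson_eq_maximalIdeal ⊥ bot_ne_top, ← residue_eq_zero_iff, map_sub, sub_eq_zero]
  change residue A ((g x) 1) = residue A (x 1)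
  rw [← bc_one_tmul, ← bc_one_tmul, hg, CartDual.transpose_apply, ← Algebra.TensorProduct.one_def,
    ← Algebra.TensorProduct.one_def, map_one]

theorem comul_comp_lift
    (φ₀ : (ResidueField A ⊗[A] C) →ₐc[ResidueField A] (ResidueField A ⊗[A] B))
    (g : CartDual.D A B →ₐ[A] CartDual.D A C)
    (hg : ∀ x : CartDual.D A B, IS1.bc (R := ResidueField A) (g x) =
        CartDual.transpose (ResidueField A) φ₀ (IS1.bc (R := ResidueField A) x)) :
    (Algebra.TensorProduct.map g g).comp (Bialgebra.comulAlgHom A (CartDual.D A B)) =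
      (Bialgebra.comulAlgHom A (CartDual.D A C)).comp g := by
  refine Groth.Agent.Lib.Helper9.algHom_ext_of_sub_mem_jacobson (R := A) (A := CartDual.D A B)
    (S := CartDual.D A C ⊗[A] CartDual.D A C) _ _ ?_
  intro x
  have hle := IS9.map_maximalIdeal_le_jacobson A (CartDual.D A C ⊗[A] CartDual.D A C)
  apply hle
  have key : ∀ t : CartDual.D A C ⊗[A] CartDual.D A C,
      (∀ c c', CartDual.ev₂ A C t (c ⊗ₜ c') ∈ maximalIdeal A) →
      t ∈ maximalIdeal A • (⊤ : Submodule A (CartDual.D A C ⊗[A] CartDual.D A C)) := by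
    intro t ht
    have h1 : CartDual.ev₂ A C t ∈
        maximalIdeal A • (⊤ : Submodule A (Module.Dual A (C ⊗[A] C))) := by
      apply dual_mem_smul_top
      intro w
      induction w using TensorProduct.induction_on with
      | zero => simp
      | tmul c c' => exact ht c c'
      | add w w' hw hw' => rw [map_add]; exact Ideal.add_mem _ hw hw'
    have h2 := map_mem_smul_top (CartDual.ev₂ A C).symm.toLinearMap (maximalIdeal A) h1
    rw [LinearEquiv.coe_coe, LinearEquiv.symm_apply_apply] at h2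
    exact h2
  have h5 := key (((Algebra.TensorProduct.map g g).comp (Bialgebra.comulAlgHom A (CartDual.D A B))) x -
    ((Bialgebra.comulAlgHom A (CartDual.D A C)).comp g) x) ?_
  · exact mem_map_of_mem_smul_top _ h5
  intro c c'
  rw [← residue_eq_zero_iff, map_sub, LinearMap.sub_apply, map_sub, sub_eq_zero]
  obtain ⟨b, hb⟩ := exists_one_tmul (φ₀ ((1 : ResidueField A) ⊗ₜ[A] c))
  obtain ⟨b', hb'⟩ := exists_one_tmul (φ₀ ((1 : ResidueField A) ⊗ₜ[A] c'))
  have e1 : ∀ (x' : CartDual.D A B) (c₀ : C) (b₀ : B),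
      φ₀ ((1 : ResidueField A) ⊗ₜ[A] c₀) = (1 : ResidueField A) ⊗ₜ[A] b₀ →
      residue A ((g x') c₀) = residue A (x' b₀) := by
    intro x' c₀ b₀ h0
    rw [← bc_one_tmul, ← bc_one_tmul, hg, CartDual.transpose_apply, h0]
  have hgen : ∀ s : CartDual.D A B ⊗[A] CartDual.D A B,
      residue A (CartDual.ev₂ A C (Algebra.TensorProduct.map g g s) (c ⊗ₜ c')) =
        residue A (CartDual.ev₂ A B s (b ⊗ₜ b')) := by
    intro s
    induction s using TensorProduct.induction_on with
    | zero => simp
    | tmul x₁ x₂ =>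
      rw [Algebra.TensorProduct.map_tmul, CartDual.ev₂_tmul, CartDual.ev₂_tmul, map_mul, map_mul,
        e1 x₁ c b hb, e1 x₂ c' b' hb']
    | add s s' hs hs' => simp only [map_add, LinearMap.add_apply, hs, hs']
  have hmul : φ₀ ((1 : ResidueField A) ⊗ₜ[A] (c * c')) = (1 : ResidueField A) ⊗ₜ[A] (b * b') := by
    have h3 : (1 : ResidueField A) ⊗ₜ[A] (c * c') =
        ((1 : ResidueField A) ⊗ₜ[A] c) * ((1 : ResidueField A) ⊗ₜ[A] c') := by
      rw [Algebra.TensorProduct.tmul_mul_tmul, one_mul]
    rw [h3, map_mul, hb, hb', Algebra.TensorProduct.tmul_mul_tmul, one_mul]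
  change residue A (CartDual.ev₂ A C (Algebra.TensorProduct.map g g (Coalgebra.comul (R := A) x)) (c ⊗ₜ c')) =
    residue A (CartDual.ev₂ A C (Coalgebra.comul (R := A) (g x)) (c ⊗ₜ c'))
  rw [hgen, CartDual.ev₂_coalgebra_comul_tmul, CartDual.ev₂_coalgebra_comul_tmul,
    e1 x (c * c') (b * b') hmul]

theorem surj
    (φ₀ : (ResidueField A ⊗[A] C) →ₐc[ResidueField A] (ResidueField A ⊗[A] B)) :
    ∃ φ : C →ₐc[A] B, ∀ c : C, φ₀ ((1 : ResidueField A) ⊗ₜ[A] c) =
      (1 : ResidueField A) ⊗ₜ[A] (φ c) := by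
  obtain ⟨g, hg⟩ := exists_lift_dual φ₀
  let gB : CartDual.D A B →ₐc[A] CartDual.D A C :=
    BialgHom.ofAlgHom g (counit_comp_lift φ₀ g hg) (comul_comp_lift φ₀ g hg)
  obtain ⟨φ, hφ⟩ := (Groth.Agent.S15893.result A C B).2 gB
  refine ⟨φ, fun c => ?_⟩
  apply IS2.eq_of_forall (S := ResidueField A)
  intro z
  obtain ⟨x, rfl⟩ := bc_surjective z
  have h1 : g x = CartDual.transpose A φ x := by
    have : CartDual.transpose A φ = gB := hφ
    rw [this]; rfl
  rw [← CartDual.transpose_apply (ResidueField A) φ₀, ← hg, bc_one_tmul, bc_one_tmul, h1,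
    CartDual.transpose_apply]

end surj

end Groth.Agent.Lib.Helper3.IS10
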