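import Mathlib

set_option autoImplicit false
universe u v w
open scoped TensorProduct

namespace Groth.Agent.Lib.Helper3.IS13
open TensorProduct

section theta
variable (A : Type u) [CommRing A] (S : Type u) [CommRing S] [Algebra A S]
  (F : Type u) [CommRing F] [Algebra A F] (G : Type u) [CommRing G] [Algebra A G]

/-- base change of an algebra map. -/
noncomputable abbrev bar {F G : Type u} [CommRing F] [Algebra A F] [CommRing G] [Algebra A G]
    (g : F →ₐ[A] G) : S ⊗[A] F →ₐ[S] S ⊗[A] G :=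
  Algebra.TensorProduct.map (AlgHom.id S S) g

/-- `θ : (S ⊗ F) ⊗_S (S ⊗ G) → S ⊗ (F ⊗ G)`. -/
noncomputable def θ : (S ⊗[A] F) ⊗[S] (S ⊗[A] G) →ₐ[S] S ⊗[A] (F ⊗[A] G) :=
  Algebra.TensorProduct.lift
    (bar A S (Algebra.TensorProduct.includeLeft : F →ₐ[A] F ⊗[A] G))
    (bar A S (Algebra.TensorProduct.includeRight : G →ₐ[A] F ⊗[A] G))
    (fun _ _ => Commute.all _ _)

@[simp] lemma θ_tmul (s t : S) (x : F) (y : G) :
    θ A S F G ((s ⊗ₜ[A] x) ⊗ₜ[S] (t ⊗ₜ[A] y)) = (s * t) ⊗ₜ[A] (x ⊗ₜ[A] y) := by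
  simp [θ, bar]

/-- the inverse direction. -/
noncomputable def σ : S ⊗[A] (F ⊗[A] G) →ₐ[S] (S ⊗[A] F) ⊗[S] (S ⊗[A] G) :=
  Algebra.TensorProduct.lift (Algebra.ofId S _)
    (Algebra.TensorProduct.lift
      (((Algebra.TensorProduct.includeLeft :
          (S ⊗[A] F) →ₐ[S] (S ⊗[A] F) ⊗[S] (S ⊗[A] G)).restrictScalars A).comp
        (Algebra.TensorProduct.includeRight : F →ₐ[A] S ⊗[A] F))
      (((Algebra.TensorProduct.includeRight :
          (S ⊗[A] G) →ₐ[S] (S ⊗[A] F) ⊗[S] (S ⊗[A] G)).restrictScalars A).comp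
        (Algebra.TensorProduct.includeRight : G →ₐ[A] S ⊗[A] G))
      (fun _ _ => Commute.all _ _))
    (fun _ _ => Commute.all _ _)

@[simp] lemma σ_tmul (s : S) (x : F) (y : G) :
    σ A S F G (s ⊗ₜ[A] (x ⊗ₜ[A] y)) = s • (((1 : S) ⊗ₜ[A] x) ⊗ₜ[S] ((1 : S) ⊗ₜ[A] y)) := by
  simp [σ, Algebra.ofId_apply, Algebra.algebraMap_eq_smul_one, Algebra.TensorProduct.one_def]

lemma σ_comp_θ : (σ A S F G).comp (θ A S F G) = AlgHom.id S _ := by
  ext x
  · simp [Algebra.TensorProduct.one_def]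
  · simp [Algebra.TensorProduct.one_def]

lemma θ_comp_σ : (θ A S F G).comp (σ A S F G) = AlgHom.id S _ := by
  ext x
  · simp [Algebra.TensorProduct.one_def]
  · simp [Algebra.TensorProduct.one_def]

/-- naturality of `θ`. -/
lemma θ_natural {F' G' : Type u} [CommRing F'] [Algebra A F'] [CommRing G'] [Algebra A G']
    (g₁ : F →ₐ[A] F') (g₂ : G →ₐ[A] G') :
    (bar A S (Algebra.TensorProduct.map g₁ g₂)).comp (θ A S F G) =
      (θ A S F' G').comp (Algebra.TensorProduct.map (bar A S g₁) (bar A S g₂)) := by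
  ext x
  · simp [Algebra.TensorProduct.one_def]
  · simp [Algebra.TensorProduct.one_def]

/-- associativity coherence of `θ`. -/
lemma θ_assoc (H : Type u) [CommRing H] [Algebra A H] :
    (bar A S (Algebra.TensorProduct.assoc A A A F G H).toAlgHom).comp
      ((θ A S (F ⊗[A] G) H).comp
        (Algebra.TensorProduct.map (θ A S F G) (AlgHom.id S (S ⊗[A] H)))) =
    (θ A S F (G ⊗[A] H)).comp
      ((Algebra.TensorProduct.map (AlgHom.id S (S ⊗[A] F)) (θ A S G H)).comp
        (Algebra.TensorProduct.assoc S S S (S ⊗[A] F) (S ⊗[A] G) (S ⊗[A] H)).toAlgHom) := by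
  ext x
  · simp [Algebra.TensorProduct.one_def]
  · simp [Algebra.TensorProduct.one_def]
  · simp [Algebra.TensorProduct.one_def]

/-- `S ⊗ A ≃ S`. -/
noncomputable abbrev ridS : S ⊗[A] A ≃ₐ[S] S := Algebra.TensorProduct.rid A S S

/-- left unit coherence. -/
lemma θ_lid :
    (bar A S (Algebra.TensorProduct.lid A F).toAlgHom).comp (θ A S A F) =
      (Algebra.TensorProduct.lid S (S ⊗[A] F)).toAlgHom.comp
        (Algebra.TensorProduct.map (ridS A S).toAlgHom (AlgHom.id S (S ⊗[A] F))) := by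
  ext x
  · simp [Algebra.TensorProduct.one_def]

/-- right unit coherence. -/
lemma θ_rid :
    (bar A S (Algebra.TensorProduct.rid A A F).toAlgHom).comp (θ A S F A) =
      (Algebra.TensorProduct.rid S S (S ⊗[A] F)).toAlgHom.comp
        (Algebra.TensorProduct.map (AlgHom.id S (S ⊗[A] F)) (ridS A S).toAlgHom) := by
  ext x
  · simp [Algebra.TensorProduct.one_def]

/-- multiplication coherence. -/
lemma θ_mul :
    (bar A S (Algebra.TensorProduct.lmul' A (S := F))).comp (θ A S F F) =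
      Algebra.TensorProduct.lmul' S (S := S ⊗[A] F) := by
  ext x
  · simp [Algebra.TensorProduct.one_def]
  · simp [Algebra.TensorProduct.one_def]

/-- commutativity coherence. -/
lemma θ_comm :
    (bar A S (Algebra.TensorProduct.comm A F G).toAlgHom).comp (θ A S F G) =
      (θ A S G F).comp (Algebra.TensorProduct.comm S (S ⊗[A] F) (S ⊗[A] G)).toAlgHom := by
  ext x
  · simp [Algebra.TensorProduct.one_def]
  · simp [Algebra.TensorProduct.one_def]

end theta

end Groth.Agent.Lib.Helper3.IS13
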