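import Groth.Agent.Lib.Helper3.IndEtDescent

/-! Descent of matrix units symmetric for a linear endomorphism (helper3). -/

set_option autoImplicit false
universe u w

open TensorProduct CategoryTheory

namespace Groth.Agent.Lib.Helper3.IndEtDescent

open Groth.Agent.Lib.Helper87.IndEt Groth.Agent.Lib.Helper3.MatUnits

variable {S : Type u} [CommRing S] {H : Type u} [CommRing H] [Algebra S H]
variable (A : Type w) [Ring A] [Algebra S A] (τ : A →ₗ[S] A)

lemma fA_baseChange (j : EIdx S H) (y : j.A ⊗[S] A) :
    fA A j (τ.baseChange j.A y) = τ.baseChange H (fA A j y) := by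
  induction y using TensorProduct.induction_on with
  | zero => simp
  | tmul e a => simp
  | add x y hx hy => rw [map_add, map_add, map_add, map_add, hx, hy]

lemma mapA_baseChange {j k : EIdx S H} (g : j ⟶ k) (y : j.A ⊗[S] A) :
    mapA A g (τ.baseChange j.A y) = τ.baseChange k.A (mapA A g y) := by
  induction y using TensorProduct.induction_on with
  | zero => simp
  | tmul e a => simp
  | add x y hx hy => rw [map_add, map_add, map_add, map_add, hx, hy]

variable (h1 : CoveredByEtale S H) (h2 : KillsRelations S H)

include h1 h2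

/-- symmetric matrix units in `H ⊗ A` descend to a stage -/
theorem exists_symm_matUnits [Module.Flat S H] {n : ℕ} (E : Fin n → Fin n → H ⊗[S] A)
    (hE : IsMatUnits E) (hτ : ∀ i l, τ.baseChange H (E i l) = E l i) :
    ∃ (k : EIdx S H) (E' : Fin n → Fin n → k.A ⊗[S] A), IsMatUnits E' ∧
      ∀ i l, τ.baseChange k.A (E' i l) = E' l i := by
  classical
  obtain ⟨j, y, hy⟩ := exists_rep_family A h1 h2 (fun p : Fin n × Fin n => E p.1 p.2)
  let rel : (Fin n × Fin n) × (Fin n × Fin n) → j.A ⊗[S] A := fun p =>
    y (p.1.1, p.1.2) * y (p.2.1, p.2.2) - if p.1.2 = p.2.1 then y (p.1.1, p.2.2) else 0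
  let rel' : Fin n × Fin n → j.A ⊗[S] A := fun p => τ.baseChange j.A (y (p.1, p.2)) - y (p.2, p.1)
  obtain ⟨k, g, hk⟩ := exists_kill_tensor_finset A h1 h2 j
    (insert (∑ i, y (i, i) - 1) (Finset.univ.image rel ∪ Finset.univ.image rel')) (by
      intro r hr
      rcases Finset.mem_insert.mp hr with rfl | hr
      · have e1 : fA A j 1 = 1 := (fA A j).map_one
        rw [map_sub, map_sum, e1]
        simp only [hy]
        rw [hE.sum, sub_self]
      · rcases Finset.mem_union.mp hr with hr | hr
        · obtain ⟨p, -, rfl⟩ := Finset.mem_image.mp hr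
          simp only [rel]
          rw [map_sub, map_mul, hy, hy, hE.mul]
          split_ifs with h
          · rw [hy, sub_self]
          · rw [map_zero, sub_self]
        · obtain ⟨p, -, rfl⟩ := Finset.mem_image.mp hr
          simp only [rel']
          rw [map_sub, fA_baseChange, hy, hy, hτ, sub_self])
  refine ⟨k, fun i l => mapA A g (y (i, l)), ⟨?_, ?_⟩, ?_⟩
  · intro i₁ i₂ i₃ i₄
    have := hk _ (Finset.mem_insert_of_mem (Finset.mem_union_left _ (Finset.mem_image_of_mem rel
      (Finset.mem_univ ((i₁, i₂), (i₃, i₄))))))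
    simp only [rel] at this
    rw [map_sub, map_mul, sub_eq_zero] at this
    rw [this]
    split_ifs with h
    · rfl
    · rw [map_zero]
  · have := hk _ (Finset.mem_insert_self _ _)
    have e1 : mapA A g 1 = 1 := (mapA A g).map_one
    rw [map_sub, map_sum, e1, sub_eq_zero] at this
    exact this
  · intro i l
    have := hk _ (Finset.mem_insert_of_mem (Finset.mem_union_right _ (Finset.mem_image_of_mem rel'
      (Finset.mem_univ (i, l)))))
    simp only [rel'] at this
    rw [map_sub, sub_eq_zero, mapA_baseChange] at this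
    exact this

end Groth.Agent.Lib.Helper3.IndEtDescent
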