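import Groth.Agent.Lib.Helper3.SymplCong

/-! Normal form of invertible skew-hermitian matrices over a local ring with residually trivial
involution (helper3). -/

set_option autoImplicit false
universe u

open Matrix AzInv

namespace Groth.Agent.Lib.Helper3.SymplCongGen

open Groth.Agent.Lib.Helper3.HermCong Groth.Agent.Lib.Helper3.SymplCong IsLocalRing

variable {K : Type*} [CommRing K] (σ : K →+* K)

/-- scaling the second basis vector -/
lemma cong_scale (a b c d l : K) (hl : IsUnit l) :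
    Cong σ !![a, b; c, d] !![a, b * l; σ l * c, σ l * d * l] := by
  refine ⟨!![1, 0; 0, l], ?_, ?_⟩
  · rw [Matrix.isUnit_iff_isUnit_det, Matrix.det_fin_two]
    simpa using hl
  · ext i j
    fin_cases i <;> fin_cases j <;>
      simp [Matrix.mul_apply, Fin.sum_univ_two, lamTr_apply]

/-- adding a multiple of the second basis vector to the first -/
lemma cong_shear₁ (a b c d x : K) :
    Cong σ !![a, b; c, d]
      !![a + σ x * c + (b + σ x * d) * x, b + σ x * d; c + d * x, d] := by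
  refine ⟨!![1, 0; x, 1], ?_, ?_⟩
  · rw [Matrix.isUnit_iff_isUnit_det, Matrix.det_fin_two]
    simp
  · ext i j
    fin_cases i <;> fin_cases j <;>
      simp [Matrix.mul_apply, Fin.sum_univ_two, lamTr_apply] <;> ring

/-- adding a multiple of the first basis vector to the second -/
lemma cong_shear₂ (a b c d y : K) :
    Cong σ !![a, b; c, d]
      !![a, a * y + b; σ y * a + c, (σ y * a + c) * y + σ y * b + d] := by
  refine ⟨!![1, y; 0, 1], ?_, ?_⟩
  · rw [Matrix.isUnit_iff_isUnit_det, Matrix.det_fin_two]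
    simp
  · ext i j
    fin_cases i <;> fin_cases j <;>
      simp [Matrix.mul_apply, Fin.sum_univ_two, lamTr_apply] <;> ring

section local_

variable [IsLocalRing K]

/-- skew elements are non-units when the involution is residually trivial and `2` is a unit -/
lemma mem_of_skew (h2 : IsUnit (2 : K)) (hσm : ∀ a, σ a - a ∈ maximalIdeal K) (x : K)
    (hx : σ x = -x) : x ∈ maximalIdeal K := by
  have h := hσm x
  rw [hx] at h
  have h3 : (2 : K) * x ∈ maximalIdeal K := by
    have : (2 : K) * x = -(-x - x) := by ring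
    rw [this]
    exact (maximalIdeal K).neg_mem h
  rcases (Ideal.IsPrime.mem_or_mem inferInstance h3) with h4 | h4
  · exact absurd h2 ((mem_maximalIdeal _).mp h4)
  · exact h4

/-- normal form of a `2 × 2` skew-hermitian matrix with unit off-diagonal entry -/
theorem cong_J2_gen (hσ : ∀ a, σ (σ a) = a) (h2 : IsUnit (2 : K))
    (hσm : ∀ a, σ a - a ∈ maximalIdeal K)
    (hH : ∀ s : K, σ s = s → s ∈ maximalIdeal K →
      ∃ w : K, σ w = w ∧ IsUnit w ∧ w * w - 2 * w + s = 0)
    (α u β : K) (hα : σ α = -α) (hβ : σ β = -β) (hu : IsUnit u) :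
    Cong σ !![α, u; -σ u, β] J2 := by
  obtain ⟨uu, rfl⟩ := hu
  set ui : K := ↑uu⁻¹ with hui
  have huui : (↑uu : K) * ui = 1 := Units.mul_inv uu
  have hσuui : σ (↑uu : K) * σ ui = 1 := by rw [← map_mul, huui, map_one]
  -- step 1
  have h1 := cong_scale σ α (↑uu : K) (-σ (↑uu : K)) β (-ui)
    (by rw [IsUnit.neg_iff]; exact ⟨uu⁻¹, rfl⟩)
  set β₁ : K := σ (-ui) * β * (-ui) with hβ₁
  have hβ₁s : σ β₁ = -β₁ := by
    rw [hβ₁]
    simp only [map_mul, map_neg, hσ, hβ]
    ring
  have e1 : (!![α, (↑uu : K) * (-ui); σ (-ui) * (-σ (↑uu : K)), σ (-ui) * β * (-ui)] :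
      Matrix (Fin 2) (Fin 2) K) = !![α, -1; 1, β₁] := by
    have a1 : (↑uu : K) * (-ui) = -1 := by rw [mul_neg, huui]
    have a2 : σ (-ui) * (-σ (↑uu : K)) = 1 := by
      rw [map_neg, neg_mul_neg, mul_comm, hσuui]
    rw [a1, a2]
  rw [e1] at h1
  -- the Hensel step
  have hαm := mem_of_skew σ h2 hσm α hα
  obtain ⟨w, hwσ, hwu, hw⟩ := hH (-(β₁ * α))
    (by rw [map_neg, map_mul, hα, hβ₁s]; ring)
    ((maximalIdeal K).neg_mem ((maximalIdeal K).mul_mem_left _ hαm))
  obtain ⟨wu, rfl⟩ := hwu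
  set wi : K := ↑wu⁻¹ with hwi
  have hwwi : (↑wu : K) * wi = 1 := Units.mul_inv wu
  have hσwi : σ wi = wi := by
    have h : σ (↑wu : K) * σ wi = 1 := by rw [← map_mul, hwwi, map_one]
    rw [hwσ] at h
    calc σ wi = (wi * ↑wu) * σ wi := by rw [mul_comm wi, hwwi, one_mul]
      _ = wi * (↑wu * σ wi) := by ring
      _ = wi := by rw [h, mul_one]
  set x : K := α * wi with hx
  have hxs : σ x = -x := by rw [hx, map_mul, hα, hσwi]; ring
  -- step 2
  have h2' := cong_shear₁ σ α (-1) 1 β₁ x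
  set μ : K := 1 + β₁ * x with hμ
  have e2 : (!![α + σ x * 1 + (-1 + σ x * β₁) * x, -1 + σ x * β₁; 1 + β₁ * x, β₁] :
      Matrix (Fin 2) (Fin 2) K) = !![0, -μ; μ, β₁] := by
    have a1 : α + σ x * 1 + (-1 + σ x * β₁) * x = 0 := by
      rw [hxs, hx]
      have : α + -(α * wi) * 1 + (-1 + -(α * wi) * β₁) * (α * wi) =
          α * (wi * wi) * ((↑wu : K) * ↑wu - 2 * ↑wu + -(β₁ * α)) +
            α * (1 - (↑wu : K) * wi) * (1 + (↑wu : K) * wi - 2 * wi) := by ring
      rw [this, hw, hwwi]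
      ring
    have a2 : -1 + σ x * β₁ = -μ := by rw [hxs, hμ]; ring
    rw [a1, a2]
  rw [e2] at h2'
  have hμσ : σ μ = μ := by rw [hμ, map_add, map_one, map_mul, hβ₁s, hxs]; ring
  have hμu : IsUnit μ := by
    rw [hμ]
    exact isUnit_add_of_mem isUnit_one
      ((maximalIdeal K).mul_mem_left _ ((maximalIdeal K).mul_mem_right _ hαm))
  obtain ⟨μu, hμu'⟩ := hμu
  set μi : K := ↑μu⁻¹ with hμi
  have hμμi : μ * μi = 1 := by rw [← hμu']; exact Units.mul_inv μu
  have hσμi : σ μi = μi := by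
    have h : σ μ * σ μi = 1 := by rw [← map_mul, hμμi, map_one]
    rw [hμσ] at h
    calc σ μi = (μi * μ) * σ μi := by rw [mul_comm μi, hμμi, one_mul]
      _ = μi * (μ * σ μi) := by ring
      _ = μi := by rw [h, mul_one]
  -- step 3
  have h3 := cong_scale σ 0 (-μ) μ β₁ μi ⟨μu⁻¹, rfl⟩
  set β₃ : K := σ μi * β₁ * μi with hβ₃
  have hβ₃s : σ β₃ = -β₃ := by
    rw [hβ₃]
    simp only [map_mul, hσ, hβ₁s, hσμi]
    ring
  have e3 : (!![0, -μ * μi; σ μi * μ, σ μi * β₁ * μi] : Matrix (Fin 2) (Fin 2) K) =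
      !![0, -1; 1, β₃] := by
    have a1 : -μ * μi = -1 := by rw [neg_mul, hμμi]
    have a2 : σ μi * μ = 1 := by rw [hσμi, mul_comm, hμμi]
    rw [a1, a2]
  rw [e3] at h3
  -- step 4
  obtain ⟨tu, htu⟩ := h2
  set ti : K := ↑tu⁻¹ with hti
  have htti : (2 : K) * ti = 1 := by rw [← htu]; exact Units.mul_inv tu
  have hσti : σ ti = ti := by
    have h : σ (2 : K) * σ ti = 1 := by rw [← map_mul, htti, map_one]
    rw [map_ofNat] at h
    calc σ ti = (ti * 2) * σ ti := by rw [mul_comm ti, htti, one_mul]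
      _ = ti * (2 * σ ti) := by ring
      _ = ti := by rw [h, mul_one]
  set y : K := -(β₃ * ti) with hy
  have hys : σ y = -y := by rw [hy, map_neg, map_mul, hβ₃s, hσti]; ring
  have h4 := cong_shear₂ σ 0 (-1) 1 β₃ y
  have e4 : (!![0, 0 * y + -1; σ y * 0 + 1, (σ y * 0 + 1) * y + σ y * (-1) + β₃] :
      Matrix (Fin 2) (Fin 2) K) = J2 := by
    have a1 : (0 : K) * y + -1 = -1 := by ring
    have a2 : σ y * 0 + 1 = (1 : K) := by ring
    have a3 : (σ y * 0 + 1) * y + σ y * (-1) + β₃ = 0 := by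
      rw [hys, hy]
      have : (-(-(β₃ * ti)) * 0 + 1) * -(β₃ * ti) + -(-(β₃ * ti)) * (-1) + β₃ =
          β₃ * (1 - 2 * ti) := by ring
      rw [this, htti]
      ring
    rw [a3, a1, a2]
    rfl
  rw [e4] at h4
  exact ((h1.trans σ h2').trans σ h3).trans σ h4

/-- normal form of invertible skew-hermitian matrices over a local ring with residually trivial
involution, `2` invertible and the Hensel-type condition `hH` -/
theorem exists_cong_Jst_gen (hσ : ∀ a, σ (σ a) = a) (h2 : IsUnit (2 : K))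
    (hσm : ∀ a, σ a - a ∈ maximalIdeal K)
    (hH : ∀ s : K, σ s = s → s ∈ maximalIdeal K →
      ∃ w : K, σ w = w ∧ IsUnit w ∧ w * w - 2 * w + s = 0) :
    ∀ (k : ℕ) (c : Matrix (Fin k × Fin 2) (Fin k × Fin 2) K), IsUnit c →
      lamTr σ c = -c → Cong σ c (Jst k) := by
  intro k
  induction k with
  | zero =>
    intro c _ _
    rw [Subsingleton.elim (Jst 0 : Matrix (Fin 0 × Fin 2) (Fin 0 × Fin 2) K) c]
    exact Cong.refl _ c
  | succ k ih =>
    intro c hc hs
    have hdiag : ∀ (c' : Matrix (Fin (k + 1) × Fin 2) (Fin (k + 1) × Fin 2) K),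
        lamTr σ c' = -c' → ∀ p, c' p p ∈ maximalIdeal K := by
      intro c' hs' p
      apply mem_of_skew σ h2 hσm
      have h := congrFun (congrFun hs' p) p
      rw [lamTr_apply, Matrix.neg_apply] at h
      exact h
    obtain ⟨p, q, hpq⟩ := exists_unit_entry c hc
    have hne : p ≠ q := by
      rintro rfl
      exact (hdiag c hs p) hpq
    set l0 : Fin (k + 1) × Fin 2 := E k (Sum.inr 0) with hl0
    set l1 : Fin (k + 1) × Fin 2 := E k (Sum.inr 1) with hl1
    have hl01 : l0 ≠ l1 := by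
      rw [hl0, hl1]
      intro h
      have := (E k).injective h
      simp at this
    set e₁ : Fin (k + 1) × Fin 2 ≃ Fin (k + 1) × Fin 2 := Equiv.swap l0 p with he₁
    set q' := e₁ q with hq'
    have hq'0 : q' ≠ l0 := by
      intro h
      have : e₁ q' = e₁ l0 := by rw [h]
      rw [hq', he₁, Equiv.swap_apply_self, Equiv.swap_apply_left] at this
      exact hne this.symm
    set e₂ : Fin (k + 1) × Fin 2 ≃ Fin (k + 1) × Fin 2 := Equiv.swap l1 q' with he₂
    set e := e₂.trans e₁ with he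
    have hel0 : e l0 = p := by
      rw [he, Equiv.trans_apply, he₂, Equiv.swap_apply_of_ne_of_ne hl01 (Ne.symm hq'0), he₁,
        Equiv.swap_apply_left]
    have hel1 : e l1 = q := by
      rw [he, Equiv.trans_apply, he₂, Equiv.swap_apply_left, hq', he₁, Equiv.swap_apply_self]
    set c₂ := c.submatrix e e with hc₂def
    have hcong₂ : Cong σ c c₂ := Cong.perm _ e c
    have hc₂ := hcong₂.isUnit _ hc
    have hs₂ := hcong₂.skew _ hσ hs
    have hll : IsUnit (c₂ l0 l1) := by
      rw [hc₂def, Matrix.submatrix_apply, hel0, hel1]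
      exact hpq
    set c₃ : Matrix ((Fin k × Fin 2) ⊕ Fin 2) ((Fin k × Fin 2) ⊕ Fin 2) K :=
      Matrix.reindex (E k).symm (E k).symm c₂ with hc₃def
    have hc₃ : IsUnit c₃ := by
      rw [Matrix.isUnit_iff_isUnit_det, hc₃def, Matrix.det_reindex_self]
      exact (Matrix.isUnit_iff_isUnit_det _).mp hc₂
    have hs₃ : lamTr σ c₃ = -c₃ := by
      rw [hc₃def, Matrix.reindex_apply, lamTr_submatrix, hs₂]
      rfl
    set A := c₃.toBlocks₁₁ with hA
    set B := c₃.toBlocks₁₂ with hB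
    set C := c₃.toBlocks₂₁ with hC
    set D := c₃.toBlocks₂₂ with hD
    have hfb : c₃ = Matrix.fromBlocks A B C D := (Matrix.fromBlocks_toBlocks c₃).symm
    have hDab : ∀ a b, D a b = c₂ (E k (Sum.inr a)) (E k (Sum.inr b)) := fun a b => rfl
    have hD00 : D 0 0 ∈ maximalIdeal K := by rw [hDab]; exact hdiag c₂ hs₂ _
    have hD11 : D 1 1 ∈ maximalIdeal K := by rw [hDab]; exact hdiag c₂ hs₂ _
    have hD00s : σ (D 0 0) = - D 0 0 := by
      rw [hDab]
      have h := congrFun (congrFun hs₂ (E k (Sum.inr 0))) (E k (Sum.inr 0))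
      rw [lamTr_apply, Matrix.neg_apply] at h
      exact h
    have hD11s : σ (D 1 1) = - D 1 1 := by
      rw [hDab]
      have h := congrFun (congrFun hs₂ (E k (Sum.inr 1))) (E k (Sum.inr 1))
      rw [lamTr_apply, Matrix.neg_apply] at h
      exact h
    have hD10 : D 1 0 = - σ (D 0 1) := by
      rw [hDab, hDab]
      have h := congrFun (congrFun hs₂ (E k (Sum.inr 1))) (E k (Sum.inr 0))
      rw [lamTr_apply, Matrix.neg_apply] at h
      rw [h, neg_neg]
    have hD01 : IsUnit (D 0 1) := hll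
    have hDeta : D = !![D 0 0, D 0 1; -σ (D 0 1), D 1 1] := by
      rw [← hD10]
      exact Matrix.eta_fin_two D
    have hDu : IsUnit D := by
      rw [Matrix.isUnit_iff_isUnit_det, Matrix.det_fin_two, hD10]
      have : D 0 0 * D 1 1 - D 0 1 * -σ (D 0 1) = D 0 1 * σ (D 0 1) + D 0 0 * D 1 1 := by ring
      rw [this]
      exact isUnit_add_of_mem (hD01.mul (hD01.map σ)) ((maximalIdeal K).mul_mem_left _ hD11)
    have hs₃' := hs₃
    rw [hfb, lamTr_fromBlocks, Matrix.fromBlocks_neg, Matrix.fromBlocks_inj] at hs₃'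
    obtain ⟨hAA, hCB, hBC, hDD⟩ := hs₃'
    have hcong₃ := Cong.schur_skew σ A B C D hDu hCB hDD
    rw [← hfb] at hcong₃
    set Sc := A - B * D⁻¹ * C with hSc
    have hu₄ := hcong₃.isUnit _ hc₃
    have hs₄ := hcong₃.skew _ hσ hs₃
    rw [lamTr_fromBlocks, Matrix.fromBlocks_neg, Matrix.fromBlocks_inj] at hs₄
    have hScu : IsUnit Sc := by
      rw [Matrix.isUnit_iff_isUnit_det, Matrix.det_fromBlocks_zero₂₁] at hu₄
      exact (Matrix.isUnit_iff_isUnit_det _).mpr (isUnit_of_mul_isUnit_left hu₄)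
    have hih := ih Sc hScu hs₄.1
    have hDJ : Cong σ D J2 := by
      rw [hDeta]
      exact cong_J2_gen σ hσ h2 hσm hH (D 0 0) (D 0 1) (D 1 1) hD00s hD11s hD01
    have hcong₄ := Cong.blockDiag σ hih hDJ
    have hcong₅ := (hcong₃.trans _ hcong₄).reindex _ (E k)
    have hback : Matrix.reindex (E k) (E k) c₃ = c₂ := by
      rw [hc₃def]
      ext a b
      simp
    rw [hback, reindex_Jst] at hcong₅
    exact hcong₂.trans _ hcong₅

/-- normal form of invertible skew-hermitian matrices of even size -/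
theorem exists_cong_Jn_gen (hσ : ∀ a, σ (σ a) = a) (h2 : IsUnit (2 : K))
    (hσm : ∀ a, σ a - a ∈ maximalIdeal K)
    (hH : ∀ s : K, σ s = s → s ∈ maximalIdeal K →
      ∃ w : K, σ w = w ∧ IsUnit w ∧ w * w - 2 * w + s = 0) (k : ℕ)
    (c : Matrix (Fin (k * 2)) (Fin (k * 2)) K) (hc : IsUnit c)
    (hs : lamTr σ c = -c) : Cong σ c (Jn k) := by
  set c' := Matrix.reindex finProdFinEquiv.symm finProdFinEquiv.symm c with hc'
  have hc'u : IsUnit c' := by
    rw [Matrix.isUnit_iff_isUnit_det, hc', Matrix.det_reindex_self]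
    exact (Matrix.isUnit_iff_isUnit_det _).mp hc
  have hs' : lamTr σ c' = -c' := by
    rw [hc', Matrix.reindex_apply, lamTr_submatrix, hs]
    rfl
  have h := (exists_cong_Jst_gen σ hσ h2 hσm hH k c' hc'u hs').reindex _ finProdFinEquiv
  have hback : Matrix.reindex finProdFinEquiv finProdFinEquiv c' = c := by
    rw [hc']
    ext a b
    simp only [Matrix.reindex_apply, Matrix.submatrix_apply, Equiv.symm_symm,
      Equiv.apply_symm_apply]
  rw [hback] at h
  exact h

/-- an invertible skew-hermitian matrix has even size -/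
lemma even_of_isUnit_skew_gen (h2 : IsUnit (2 : K))
    (hσm : ∀ a, σ a - a ∈ maximalIdeal K) {n : ℕ}
    (c : Matrix (Fin n) (Fin n) K) (hc : IsUnit c) (hs : lamTr σ c = -c) :
    Even n := by
  by_contra hodd
  rw [Nat.not_even_iff_odd] at hodd
  have h1 : σ c.det = (-c).det := by
    rw [← hs]
    show σ c.det = ((c.map σ)ᵀ).det
    rw [Matrix.det_transpose, RingHom.map_det]
    rfl
  rw [Matrix.det_neg, Fintype.card_fin, hodd.neg_one_pow, neg_one_mul] at h1
  have hm := mem_of_skew σ h2 hσm c.det h1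
  exact hm ((Matrix.isUnit_iff_isUnit_det _).mp hc)

end local_

end Groth.Agent.Lib.Helper3.SymplCongGen
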