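import Groth.Agent.Lib.Helper3.InvLocal
import Groth.Agent.Lib.Helper3.SymplCongGen

/-! The hermitian transpose is not conjugate to a skew-hermitian twist (helper3). -/

set_option autoImplicit false
universe u

open Matrix AzInv

namespace Groth.Agent.Lib.Helper3.InvLocal

open Groth.Agent.Lib.Helper3.HermCong Groth.Agent.Lib.Helper3.SN IsLocalRing

variable {K : Type u} [CommRing K] [IsLocalRing K] {n : ℕ}

/-- the hermitian transpose is not conjugate to a skew-hermitian twist, when the involution is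
residually trivial and `2` is invertible -/
theorem false_of_herm_skew (σ : K →+* K) (hσ : ∀ a, σ (σ a) = a) (h2 : IsUnit (2 : K))
    (hσm : ∀ a, σ a - a ∈ maximalIdeal K) (hn : 0 < n)
    (φ : Matrix (Fin n) (Fin n) K ≃ₐ[K] Matrix (Fin n) (Fin n) K)
    (W W' : Matrix (Fin n) (Fin n) K) (hWW' : W * W' = 1)
    (hW : lamTr σ W = -W)
    (h : ∀ y, φ (lamTr σ y) = W * lamTr σ (φ y) * W') : False := by
  classical
  haveI : IsAzumaya K (Matrix (Fin n) (Fin n) K) := by
    haveI : NeZero n := ⟨hn.ne'⟩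
    exact IsAzumaya.matrix K (Fin n)
  obtain ⟨g, hg, c, d, hc, hcd⟩ := exists_local_generator φ (maximalIdeal K)
  have hgu : IsUnit g := by
    by_contra h
    exact hg h
  obtain ⟨gu, rfl⟩ := hgu
  have hcr : c * ((↑gu⁻¹ : K) • d) = 1 := by
    rw [mul_smul_comm, hcd, Algebra.algebraMap_eq_smul_one, smul_smul, Units.inv_mul, one_smul]
  have hcu : IsUnit c :=
    (Matrix.isUnit_iff_isUnit_det _).mpr (Matrix.isUnit_det_of_right_inverse hcr)
  obtain ⟨cu, rfl⟩ := hcu
  set G : Matrix (Fin n) (Fin n) K := ↑cu with hG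
  set Gi : Matrix (Fin n) (Fin n) K := ↑cu⁻¹ with hGi
  have hGGi : G * Gi = 1 := Units.mul_inv cu
  have hGiG : Gi * G = 1 := Units.inv_mul cu
  have hφ : ∀ y, φ y = G * y * Gi := by
    intro y
    rw [← hc y, mul_assoc, hGGi, mul_one]
  have hLL : lamTr σ Gi * lamTr σ G = 1 := by
    rw [← lamTr_mul, hGGi, lamTr_one]
  set z : Matrix (Fin n) (Fin n) K := Gi * W * lamTr σ Gi with hz
  set zi : Matrix (Fin n) (Fin n) K := lamTr σ G * W' * G with hzi
  have hzzi : z * zi = 1 := by
    rw [hz, hzi]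
    calc Gi * W * lamTr σ Gi * (lamTr σ G * W' * G)
        = Gi * W * (lamTr σ Gi * lamTr σ G) * W' * G := by
          simp only [mul_assoc]
      _ = Gi * (W * W') * G := by rw [hLL, mul_one]; simp only [mul_assoc]
      _ = 1 := by rw [hWW', mul_one, hGiG]
  have hziz : zi * z = 1 := mul_eq_one_comm.mp hzzi
  have hcomm : ∀ y, y * z = z * y := by
    intro y
    have h1 := h (lamTr σ y)
    rw [lamTr_lamTr _ hσ, hφ, hφ, lamTr_mul, lamTr_mul, lamTr_lamTr _ hσ] at h1
    have h2' : y = z * y * zi := by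
      calc y = Gi * (G * y * Gi) * G := by
            rw [mul_assoc, mul_assoc, hGiG, mul_one, ← mul_assoc, hGiG, one_mul]
        _ = Gi * (W * (lamTr σ Gi * (y * lamTr σ G)) * W') * G := by
            rw [h1]
        _ = z * y * zi := by rw [hz, hzi]; simp only [mul_assoc]
    calc y * z = (z * y * zi) * z := by rw [← h2']
      _ = z * y * (zi * z) := by simp only [mul_assoc]
      _ = z * y := by rw [hziz, mul_one]
  obtain ⟨l, hl⟩ : z ∈ Set.range (Matrix.scalar (Fin n)) := by
    rw [Matrix.mem_range_scalar_iff_commute_single']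
    intro i j
    exact hcomm _
  have hzk : lamTr σ z = -z := by
    rw [hz, lamTr_mul, lamTr_mul, lamTr_lamTr _ hσ, hW]
    simp only [mul_neg, neg_mul, mul_assoc]
  have hls : σ l = -l := by
    have := congrFun (congrFun hzk ⟨0, hn⟩) ⟨0, hn⟩
    rw [← hl] at this
    simpa [lamTr_apply] using this
  have hlm := SymplCongGen.mem_of_skew σ h2 hσm l hls
  have hlu : IsUnit l := by
    have := congrFun (congrFun hzzi ⟨0, hn⟩) ⟨0, hn⟩
    rw [← hl, Matrix.scalar_apply, Matrix.diagonal_mul, Matrix.one_apply_eq] at this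
    exact IsUnit.of_mul_eq_one _ this
  exact hlm hlu

end Groth.Agent.Lib.Helper3.InvLocal
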