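import Groth.Agent.Lib.Helper3.IndEtDescentAdapted
import Groth.Prelude.Def_AzInv

/-! Base change of isomorphisms of algebras with involution along a map of covers (helper3). -/

set_option autoImplicit false
universe u u₁ u₂ v w w'

open TensorProduct

namespace Groth.Agent.Lib.Helper3.IsoBC

open AzInv Groth.Agent.Lib.Helper3.IndEtDescent

variable {S : Type u} [CommRing S]
  {A : Type w} [Ring A] [Algebra S A] {A' : Type w'} [Ring A'] [Algebra S A']
  {S₁ : Type u₁} [CommRing S₁] [Algebra S S₁] {T : Type u₂} [CommRing T] [Algebra S T]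

/-- base change of an algebra map `S₁ ⊗ A → S₁ ⊗ A'` along `β : S₁ → T` -/
noncomputable def bcHom (β : S₁ →ₐ[S] T) (g : S₁ ⊗[S] A →ₐ[S₁] S₁ ⊗[S] A') :
    T ⊗[S] A →ₐ[T] T ⊗[S] A' :=
  Algebra.TensorProduct.lift (Algebra.ofId T (T ⊗[S] A'))
    ((Algebra.TensorProduct.map β (AlgHom.id S A')).comp
      ((g.restrictScalars S).comp (Algebra.TensorProduct.includeRight : A →ₐ[S] S₁ ⊗[S] A)))
    (fun x _ => show Commute (algebraMap T (T ⊗[S] A') x) _ from
      Algebra.commute_algebraMap_left x _)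

lemma bcHom_tmul (β : S₁ →ₐ[S] T) (g : S₁ ⊗[S] A →ₐ[S₁] S₁ ⊗[S] A') (k : T) (a : A) :
    bcHom β g (k ⊗ₜ[S] a) =
      algebraMap T (T ⊗[S] A') k *
        Algebra.TensorProduct.map β (AlgHom.id S A') (g ((1 : S₁) ⊗ₜ[S] a)) := by
  exact Algebra.TensorProduct.lift_tmul _ _ _ k a

/-- compatibility of `bcHom` with the comparison maps -/
lemma bcHom_map (β : S₁ →ₐ[S] T) (g : S₁ ⊗[S] A →ₐ[S₁] S₁ ⊗[S] A') (y : S₁ ⊗[S] A) :
    bcHom β g (Algebra.TensorProduct.map β (AlgHom.id S A) y) =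
      Algebra.TensorProduct.map β (AlgHom.id S A') (g y) := by
  induction y using TensorProduct.induction_on with
  | zero => simp
  | add x y hx hy => rw [map_add, map_add, hx, hy, map_add, map_add]
  | tmul s a =>
    rw [Algebra.TensorProduct.map_tmul, AlgHom.id_apply, bcHom_tmul]
    have h1 : s ⊗ₜ[S] a = s • ((1 : S₁) ⊗ₜ[S] a) := by
      rw [TensorProduct.smul_tmul', smul_eq_mul, mul_one]
    rw [h1, map_smul, Algebra.smul_def, map_mul]
    congr 1

/-- base change of an isomorphism of algebras with involution along `β : S₁ → T` -/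
theorem iso_baseChange {R : Type v} [CommRing R] [Algebra S R] [Algebra R A] [IsScalarTower S R A]
    [Algebra R A'] [IsScalarTower S R A'] (lam : R ≃ₐ[S] R)
    (t : LamInv R A lam) (t' : LamInv R A' lam) (β : S₁ →ₐ[S] T)
    (g : S₁ ⊗[S] A ≃ₐ[S₁] S₁ ⊗[S] A')
    (h1 : ∀ (r : R) (x : S₁ ⊗[S] A),
      g (((1 : S₁) ⊗ₜ[S] algebraMap R A r) * x) = ((1 : S₁) ⊗ₜ[S] algebraMap R A' r) * g x)
    (h2 : ∀ x : S₁ ⊗[S] A, g (t.bc S lam S₁ x) = t'.bc S lam S₁ (g x)) :
    ∃ gT : T ⊗[S] A ≃ₐ[T] T ⊗[S] A',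
      (∀ (r : R) (x : T ⊗[S] A),
        gT (((1 : T) ⊗ₜ[S] algebraMap R A r) * x) = ((1 : T) ⊗ₜ[S] algebraMap R A' r) * gT x) ∧
      ∀ x : T ⊗[S] A, gT (t.bc S lam T x) = t'.bc S lam T (gT x) := by
  set G := bcHom β g.toAlgHom with hG
  set G' := bcHom β g.symm.toAlgHom with hG'
  have hGG' : ∀ x, G' (G x) = x := by
    intro x
    induction x using TensorProduct.induction_on with
    | zero => simp
    | add x y hx hy => rw [map_add, map_add, hx, hy]
    | tmul k a =>
      rw [hG, bcHom_tmul, map_mul, AlgHom.commutes, hG', bcHom_map]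
      show _ * Algebra.TensorProduct.map β (AlgHom.id S A) (g.symm (g ((1 : S₁) ⊗ₜ[S] a))) = _
      rw [AlgEquiv.symm_apply_apply, Algebra.TensorProduct.map_tmul, map_one,
        Algebra.TensorProduct.algebraMap_apply, Algebra.TensorProduct.tmul_mul_tmul]
      simp
  have hG'G : ∀ x, G (G' x) = x := by
    intro x
    induction x using TensorProduct.induction_on with
    | zero => simp
    | add x y hx hy => rw [map_add, map_add, hx, hy]
    | tmul k a =>
      rw [hG', bcHom_tmul, map_mul, AlgHom.commutes, hG, bcHom_map]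
      show _ * Algebra.TensorProduct.map β (AlgHom.id S A') (g (g.symm ((1 : S₁) ⊗ₜ[S] a))) = _
      rw [AlgEquiv.apply_symm_apply, Algebra.TensorProduct.map_tmul, map_one,
        Algebra.TensorProduct.algebraMap_apply, Algebra.TensorProduct.tmul_mul_tmul]
      simp
  let gT : T ⊗[S] A ≃ₐ[T] T ⊗[S] A' :=
    AlgEquiv.ofAlgHom G G' (AlgHom.ext hG'G) (AlgHom.ext hGG')
  have hgT : ∀ x, gT x = G x := fun x => rfl
  have hg1 : ∀ r : R, g ((1 : S₁) ⊗ₜ[S] algebraMap R A r) = (1 : S₁) ⊗ₜ[S] algebraMap R A' r := by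
    intro r
    have := h1 r 1
    rwa [mul_one, map_one, mul_one] at this
  refine ⟨gT, ?_, ?_⟩
  · intro r x
    rw [map_mul]
    congr 1
    rw [hgT, hG, bcHom_tmul, map_one, one_mul]
    show Algebra.TensorProduct.map β (AlgHom.id S A') (g ((1 : S₁) ⊗ₜ[S] algebraMap R A r)) = _
    rw [hg1, Algebra.TensorProduct.map_tmul, map_one]
    rfl
  · intro x
    induction x using TensorProduct.induction_on with
    | zero => simp
    | add x y hx hy => rw [map_add, map_add, hx, hy, map_add, map_add]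
    | tmul k a =>
      rw [LamInv.bc_tmul, hgT, hgT, hG, bcHom_tmul, bcHom_tmul]
      show _ * Algebra.TensorProduct.map β (AlgHom.id S A') (g ((1 : S₁) ⊗ₜ[S] t a)) =
        t'.bc S lam T (_ * Algebra.TensorProduct.map β (AlgHom.id S A') (g ((1 : S₁) ⊗ₜ[S] a)))
      have e1 : (1 : S₁) ⊗ₜ[S] t a = t.bc S lam S₁ ((1 : S₁) ⊗ₜ[S] a) := by
        rw [LamInv.bc_tmul]
      rw [e1, h2]
      have e2 := map_baseChange A' (t'.linS S lam) β (g ((1 : S₁) ⊗ₜ[S] a))
      change Algebra.TensorProduct.map β (AlgHom.id S A') (t'.bc S lam S₁ (g ((1 : S₁) ⊗ₜ[S] a))) =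
        t'.bc S lam T (Algebra.TensorProduct.map β (AlgHom.id S A') (g ((1 : S₁) ⊗ₜ[S] a))) at e2
      rw [e2, ← Algebra.smul_def, ← Algebra.smul_def, map_smul]

end Groth.Agent.Lib.Helper3.IsoBC
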