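import Groth.Agent.Lib.Helper3.GlueIso
import Groth.Agent.Lib.Helper3.AdaptedCore
import Groth.Agent.Lib.Helper3.AdaptedSplit
import Groth.Agent.Lib.Helper3.CommonField2

/-! A common étale neighbourhood for two algebras with involution having units adapted to the
same constants (helper3). -/

set_option autoImplicit false
universe u v w w'

open TensorProduct

namespace Groth.Agent.Lib.Helper3.JointNbhd

open AzInv Groth.Agent.Lib.Helper3.IndEtDescent Groth.Agent.Lib.Helper3.AdaptedSplit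
  Groth.Agent.Lib.Helper3.StrictHensPrime

variable {S : Type u} {R : Type v} [CommRing S] [CommRing R] [Algebra S R]
  {A : Type w} [Ring A] [Algebra S A] [Algebra R A] [IsScalarTower S R A]
  {A' : Type w'} [Ring A'] [Algebra S A'] [Algebra R A'] [IsScalarTower S R A']

/-- the tensor product of two étale neighbourhoods of `q` is an étale neighbourhood of `q` -/
theorem mem_range_comap_tensor (T₁ T₂ : Type u) [CommRing T₁] [CommRing T₂]
    [Algebra S T₁] [Algebra S T₂] (q : PrimeSpectrum S)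
    (h₁ : q ∈ Set.range (PrimeSpectrum.comap (algebraMap S T₁)))
    (h₂ : q ∈ Set.range (PrimeSpectrum.comap (algebraMap S T₂))) :
    q ∈ Set.range (PrimeSpectrum.comap (algebraMap S (T₁ ⊗[S] T₂))) := by
  obtain ⟨K₀, iF, iAlg, ⟨γ₁⟩, ⟨γ₂⟩, hker⟩ := CommonField.exists_common_field' T₁ T₂ q h₁ h₂
  let γ : T₁ ⊗[S] T₂ →ₐ[S] K₀ := Algebra.TensorProduct.productMap γ₁ γ₂
  refine ⟨⟨RingHom.ker γ.toRingHom, RingHom.ker_isPrime _⟩, ?_⟩
  ext1
  ext r
  show algebraMap S (T₁ ⊗[S] T₂) r ∈ RingHom.ker γ.toRingHom ↔ r ∈ q.asIdeal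
  rw [RingHom.mem_ker, ← hker]
  show γ (algebraMap S (T₁ ⊗[S] T₂) r) = 0 ↔ _
  rw [AlgHom.commutes]

/-- if both algebras with involution have units adapted to the same constants over the strict
henselization at `q`, they are isomorphic over an étale neighbourhood of `q` -/
theorem exists_iso_at (lam : R ≃ₐ[S] R) (n : ℕ) (hn : 0 < n)
    (hA : IsAzumayaDeg R A n) (hA' : IsAzumayaDeg R A' n)
    (t : LamInv R A lam) (t' : LamInv R A' lam) (w w' : Matrix (Fin n) (Fin n) R)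
    (q : PrimeSpectrum S)
    (h₁ : ∃ E : Fin n → Fin n → (Hq q.asIdeal) ⊗[S] A,
      IsAdaptedC A (t.linS S lam) (Hq q.asIdeal) (cst A w) (cst A w') E)
    (h₂ : ∃ E : Fin n → Fin n → (Hq q.asIdeal) ⊗[S] A',
      IsAdaptedC A' (t'.linS S lam) (Hq q.asIdeal) (cst A' w) (cst A' w') E) :
    ∃ (T : Type u) (_ : CommRing T) (_ : Algebra S T) (_ : Algebra.Etale S T),
      q ∈ Set.range (PrimeSpectrum.comap (algebraMap S T)) ∧
      ∃ f : T ⊗[S] A ≃ₐ[T] T ⊗[S] A',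
        (∀ (r : R) (x : T ⊗[S] A),
          f (((1 : T) ⊗ₜ[S] algebraMap R A r) * x) = ((1 : T) ⊗ₜ[S] algebraMap R A' r) * f x) ∧
        ∀ x : T ⊗[S] A, f (t.bc S lam T x) = t'.bc S lam T (f x) := by
  obtain ⟨T₁, _, _, _, hq₁, E₁, hE₁⟩ := AdaptedCore.exists_adapted_at A _ _ _ q h₁
  obtain ⟨T₂, _, _, _, hq₂, E₂, hE₂⟩ := AdaptedCore.exists_adapted_at A' _ _ _ q h₂
  haveI : Algebra.Etale S (T₁ ⊗[S] T₂) := Algebra.Etale.comp S T₁ (T₁ ⊗[S] T₂)
  refine ⟨T₁ ⊗[S] T₂, inferInstance, inferInstance, inferInstance,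
    mem_range_comap_tensor T₁ T₂ q hq₁ hq₂, ?_⟩
  have hE₁' := hE₁.map A _ (Algebra.TensorProduct.includeLeft : T₁ →ₐ[S] T₁ ⊗[S] T₂)
  have hE₂' := hE₂.map A' _ (Algebra.TensorProduct.includeRight : T₂ →ₐ[S] T₁ ⊗[S] T₂)
  exact iso_of_adapted (T₁ ⊗[S] T₂) n hn lam w w' hA t _ hE₁' hA' t' _ hE₂'

end Groth.Agent.Lib.Helper3.JointNbhd
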