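import Mathlib.RingTheory.TensorProduct.Maps
import Mathlib.Algebra.Algebra.Opposite
import Mathlib.LinearAlgebra.TensorProduct.Basic
import Groth.Agent.Lib.Helper3.Azumaya

/-!
# `A ⊗ P` as a module over `A ⊗ End P` (helper3)

For a faithfully projective `R`-module `P` and an `R`-algebra `A`: `TP R A P = A ⊗ P` is a finitely
generated projective module over `A ⊗ End_R P`, with endomorphism algebra `Aᵐᵒᵖ`
(`TP.endHom_bijective`).  All by explicit formulas from a trace decomposition `∑ f_j(p_j) = 1`.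
-/

set_option autoImplicit false
universe u v w
open scoped TensorProduct

namespace Groth.Agent.Lib.Helper3

section

variable (R : Type u) [CommRing R] (A : Type v) [Ring A] [Algebra R A]
  (P : Type w) [AddCommGroup P] [Module R P]

/-- the action of `A ⊗ End P` on `A ⊗ P` -/
noncomputable def tpAct : A ⊗[R] Module.End R P →ₐ[R] Module.End R (A ⊗[R] P) :=
  (Module.endTensorEndAlgHom (R := R) (S := R) (A := R) (M := A) (N := P)).comp
    (Algebra.TensorProduct.map (Algebra.lmul R A) (AlgHom.id R (Module.End R P)))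

lemma tpAct_tmul (a a' : A) (g : Module.End R P) (p : P) :
    tpAct R A P (a ⊗ₜ g) (a' ⊗ₜ p) = (a * a') ⊗ₜ g p := by
  simp [tpAct, Module.endTensorEndAlgHom_apply]

/-- `A ⊗ P` as a module over `A ⊗ End P` -/
def TP : Type _ := A ⊗[R] P

namespace TP

noncomputable instance : AddCommGroup (TP R A P) := inferInstanceAs (AddCommGroup (A ⊗[R] P))
noncomputable instance : Module R (TP R A P) := inferInstanceAs (Module R (A ⊗[R] P))
noncomputable instance : Module (A ⊗[R] Module.End R P) (TP R A P) :=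
  Module.compHom (A ⊗[R] P) (tpAct R A P).toRingHom

variable {R A P} in
/-- the underlying tensor -/
def out (v : TP R A P) : A ⊗[R] P := v

variable {R A P} in
/-- a tensor as an element of the module -/
def mk (z : A ⊗[R] P) : TP R A P := z

theorem smul_def (x : A ⊗[R] Module.End R P) (v : TP R A P) :
    x • v = mk (tpAct R A P x (out v)) := rfl

noncomputable instance : IsScalarTower R (A ⊗[R] Module.End R P) (TP R A P) where
  smul_assoc r x v := by
    change mk (tpAct R A P (r • x) (out v)) = mk (r • (tpAct R A P x (out v)))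
    rw [map_smul]
    rfl

instance [Module.Finite R A] [Module.Finite R P] : Module.Finite R (TP R A P) :=
  inferInstanceAs (Module.Finite R (A ⊗[R] P))
instance [Module.Projective R A] [Module.Projective R P] : Module.Projective R (TP R A P) :=
  inferInstanceAs (Module.Projective R (A ⊗[R] P))

end TP

end

section lin

variable {R : Type u} [CommRing R] {A : Type v} [Ring A] [Algebra R A]
  {P : Type w} [AddCommGroup P] [Module R P]

/-- linearity over `A ⊗ End P` can be checked on pure tensors -/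
lemma map_smul_of_tmul {V W : Type*} [AddCommGroup V] [Module R V]
    [Module (A ⊗[R] Module.End R P) V] [IsScalarTower R (A ⊗[R] Module.End R P) V]
    [AddCommGroup W] [Module R W] [Module (A ⊗[R] Module.End R P) W]
    [IsScalarTower R (A ⊗[R] Module.End R P) W]
    (h : V →ₗ[R] W) (S : Set V) (hS : Submodule.span R S = ⊤)
    (hh : ∀ (a : A) (g : Module.End R P), ∀ v ∈ S,
      h ((a ⊗ₜ[R] g : A ⊗[R] Module.End R P) • v) = (a ⊗ₜ[R] g : A ⊗[R] Module.End R P) • h v) :
    ∀ (x : A ⊗[R] Module.End R P) (v : V), h (x • v) = x • h v := by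
  intro x v
  induction x using TensorProduct.induction_on with
  | zero =>
    show h ((0 : A ⊗[R] Module.End R P) • v) = (0 : A ⊗[R] Module.End R P) • h v
    rw [zero_smul (A ⊗[R] Module.End R P) v, map_zero, zero_smul (A ⊗[R] Module.End R P) (h v)]
  | add x y hx hy =>
    show h ((x + y : A ⊗[R] Module.End R P) • v) = (x + y : A ⊗[R] Module.End R P) • h v
    rw [add_smul, map_add, hx, hy, add_smul]
  | tmul a g =>
    have hv : v ∈ Submodule.span R S := by rw [hS]; trivial
    induction hv using Submodule.span_induction with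
    | mem v hv => exact hh a g v hv
    | zero => simp
    | add v w _ _ hv hw => rw [smul_add, map_add, hv, hw, map_add, smul_add]
    | smul r v _ hv => rw [smul_comm, map_smul, hv, map_smul, smul_comm]

lemma span_tmul_TP : Submodule.span R
    {v : TP R A P | ∃ (a : A) (p : P), v = TP.mk (a ⊗ₜ[R] p)} = ⊤ := by
  have := TensorProduct.span_tmul_eq_top R A P
  rw [eq_top_iff] at this ⊢
  intro v _
  have hv := this (show TP.out v ∈ ⊤ from trivial)
  refine Submodule.span_mono ?_ hv
  rintro _ ⟨a, p, rfl⟩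
  exact ⟨a, p, rfl⟩

lemma span_tmul_Lam : Submodule.span R
    {x : A ⊗[R] Module.End R P | ∃ (a : A) (g : Module.End R P), x = a ⊗ₜ[R] g} = ⊤ := by
  have := TensorProduct.span_tmul_eq_top R A (Module.End R P)
  rw [eq_top_iff] at this ⊢
  intro v _
  have hv := this (show v ∈ ⊤ from trivial)
  refine Submodule.span_mono ?_ hv
  rintro _ ⟨a, p, rfl⟩
  exact ⟨a, p, rfl⟩

lemma TP.tmul_smul_mk (a a' : A) (g : Module.End R P) (p : P) :
    (a ⊗ₜ[R] g : A ⊗[R] Module.End R P) • (TP.mk (a' ⊗ₜ[R] p) : TP R A P) =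
      TP.mk ((a * a') ⊗ₜ[R] g p) := by
  rw [TP.smul_def]
  exact congrArg TP.mk (tpAct_tmul R A P a a' g p)

end lin

section split

variable {R : Type u} [CommRing R] {A : Type v} [Ring A] [Algebra R A]
  {P : Type w} [AddCommGroup P] [Module R P]

/-- the identity as an `R`-linear map from the synonym -/
noncomputable def TP.outₗ : TP R A P →ₗ[R] A ⊗[R] P := LinearMap.id

/-- the identity as an `R`-linear map to the synonym -/
noncomputable def TP.mkₗ : A ⊗[R] P →ₗ[R] TP R A P := LinearMap.id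

/-- `A ⊗ P → A ⊗ End P`, `a ⊗ x ↦ a ⊗ (y ↦ φ y • x)` -/
noncomputable def TP.incl (φ : P →ₗ[R] R) :
    TP R A P →ₗ[A ⊗[R] Module.End R P] (A ⊗[R] Module.End R P) :=
  { toFun := fun v => LinearMap.lTensor A (LinearMap.smulRightₗ φ) (TP.out v)
    map_add' := fun v w => map_add (LinearMap.lTensor A (LinearMap.smulRightₗ φ)) _ _
    map_smul' := by
      refine map_smul_of_tmul ((LinearMap.lTensor A (LinearMap.smulRightₗ φ)) ∘ₗ TP.outₗ) _
        span_tmul_TP ?_
      rintro a g _ ⟨a', x, rfl⟩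
      rw [TP.tmul_smul_mk]
      change (a * a') ⊗ₜ[R] (LinearMap.smulRightₗ φ (g x)) =
        (a ⊗ₜ[R] g) * (a' ⊗ₜ[R] (LinearMap.smulRightₗ φ x))
      rw [Algebra.TensorProduct.tmul_mul_tmul]
      congr 1
      ext y
      simp }

/-- `A ⊗ End P → A ⊗ P`, `a ⊗ g ↦ a ⊗ g x` -/
noncomputable def TP.proj (x : P) :
    (A ⊗[R] Module.End R P) →ₗ[A ⊗[R] Module.End R P] TP R A P :=
  { toFun := fun z => TP.mk (LinearMap.lTensor A (LinearMap.applyₗ x) z)
    map_add' := fun v w => map_add (LinearMap.lTensor A (LinearMap.applyₗ x)) _ _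
    map_smul' := by
      refine map_smul_of_tmul (TP.mkₗ ∘ₗ (LinearMap.lTensor A (LinearMap.applyₗ x))) _
        span_tmul_Lam ?_
      rintro a g _ ⟨a', g', rfl⟩
      rw [smul_eq_mul, Algebra.TensorProduct.tmul_mul_tmul]
      change TP.mk ((a * a') ⊗ₜ[R] ((g * g') x)) = (a ⊗ₜ[R] g : A ⊗[R] Module.End R P) •
        (TP.mk (a' ⊗ₜ[R] (g' x)) : TP R A P)
      rw [TP.tmul_smul_mk]
      rfl }

variable {k : ℕ} (f : Fin k → P →ₗ[R] R) (p : Fin k → P)

lemma TP.sum_proj_incl (hfp : ∑ j, f j (p j) = 1) (v : TP R A P) :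
    ∑ j, TP.proj (A := A) (p j) (TP.incl (f j) v) = v := by
  have key : ∀ z : A ⊗[R] P, ∑ j, LinearMap.lTensor A (LinearMap.applyₗ (p j))
      (LinearMap.lTensor A (LinearMap.smulRightₗ (f j)) z) = z := by
    intro z
    induction z using TensorProduct.induction_on with
    | zero => simp
    | add x y hx hy => simp only [map_add, Finset.sum_add_distrib, hx, hy]
    | tmul a x =>
      simp only [LinearMap.lTensor_tmul, LinearMap.applyₗ_apply_apply, LinearMap.smulRightₗ_apply,
        LinearMap.smulRight_apply]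
      rw [← TensorProduct.tmul_sum, ← Finset.sum_smul, hfp, one_smul]
  exact key (TP.out v)

end split

section proj

variable {R : Type u} [CommRing R] (A : Type v) [Ring A] [Algebra R A]
  (P : Type w) [AddCommGroup P] [Module R P] [Module.Finite R P] [Module.Projective R P]
  [FaithfulSMul R P]

omit [Ring A] [Algebra R A] in
variable {A} in
lemma exists_trace_data :
    ∃ (k : ℕ) (f : Fin k → P →ₗ[R] R) (p : Fin k → P), ∑ j, f j (p j) = 1 := by
  obtain ⟨k, c, g, hg⟩ := Submodule.mem_span_set'.mp (Az.one_mem_trace (R := R) P)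
  choose φ x hφ using fun j : Fin k => (g j).2
  refine ⟨k, fun j => c j • φ j, x, ?_⟩
  rw [← hg]
  refine Finset.sum_congr rfl fun j _ => ?_
  rw [LinearMap.smul_apply, hφ j]

instance TP.instProjectiveLam : Module.Projective (A ⊗[R] Module.End R P) (TP R A P) := by
  obtain ⟨k, f, p, hfp⟩ := exists_trace_data (R := R) P
  refine Module.Projective.of_split
    (LinearMap.pi fun j => TP.incl (A := A) (f j) :
      TP R A P →ₗ[A ⊗[R] Module.End R P] (Fin k → A ⊗[R] Module.End R P))
    (∑ j, (TP.proj (A := A) (p j)) ∘ₗ LinearMap.proj j) ?_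
  ext v
  simp only [LinearMap.comp_apply, LinearMap.coe_sum, Finset.sum_apply, LinearMap.pi_apply,
    LinearMap.proj_apply, LinearMap.id_apply]
  exact TP.sum_proj_incl f p hfp v

instance TP.instFiniteLam : Module.Finite (A ⊗[R] Module.End R P) (TP R A P) := by
  obtain ⟨k, f, p, hfp⟩ := exists_trace_data (R := R) P
  refine Module.Finite.of_surjective
    (∑ j, (TP.proj (A := A) (p j)) ∘ₗ LinearMap.proj j :
      (Fin k → A ⊗[R] Module.End R P) →ₗ[A ⊗[R] Module.End R P] TP R A P) (fun v => ?_)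
  refine ⟨fun j => TP.incl (A := A) (f j) v, ?_⟩
  simp only [LinearMap.coe_sum, Finset.sum_apply, LinearMap.comp_apply, LinearMap.proj_apply]
  exact TP.sum_proj_incl f p hfp v

end proj

section endo

variable {R : Type u} [CommRing R] (A : Type v) [Ring A] [Algebra R A]
  (P : Type w) [AddCommGroup P] [Module R P]

/-- right multiplication by `c` on `A ⊗ P` as a `A ⊗ End P`-linear map -/
noncomputable def TP.rmul (c : A) : Module.End (A ⊗[R] Module.End R P) (TP R A P) :=
  { toFun := fun v => TP.mk (LinearMap.rTensor P (LinearMap.mulRight R c) (TP.out v))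
    map_add' := fun v w => map_add (LinearMap.rTensor P (LinearMap.mulRight R c)) _ _
    map_smul' := by
      refine map_smul_of_tmul (TP.mkₗ ∘ₗ (LinearMap.rTensor P (LinearMap.mulRight R c)) ∘ₗ TP.outₗ) _
        span_tmul_TP ?_
      rintro a g _ ⟨a', x, rfl⟩
      rw [TP.tmul_smul_mk]
      change TP.mk ((a * a' * c) ⊗ₜ[R] g x) = (a ⊗ₜ[R] g : A ⊗[R] Module.End R P) •
        (TP.mk ((a' * c) ⊗ₜ[R] x) : TP R A P)
      rw [TP.tmul_smul_mk, mul_assoc] }

variable {A P} in
lemma TP.rmul_mk_tmul (c a : A) (x : P) :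
    TP.rmul A P c (TP.mk (a ⊗ₜ[R] x)) = TP.mk ((a * c) ⊗ₜ[R] x) := rfl

lemma TP.ext_end {g g' : Module.End (A ⊗[R] Module.End R P) (TP R A P)}
    (h : ∀ (a : A) (x : P), g (TP.mk (a ⊗ₜ[R] x)) = g' (TP.mk (a ⊗ₜ[R] x))) : g = g' := by
  have : g.restrictScalars R = g'.restrictScalars R := by
    apply LinearMap.ext_on (span_tmul_TP (R := R) (A := A) (P := P))
    rintro _ ⟨a, x, rfl⟩
    exact h a x
  ext v
  exact LinearMap.congr_fun this v

/-- `Aᵐᵒᵖ → End_{A ⊗ End P}(A ⊗ P)` -/
noncomputable def TP.endHom : Aᵐᵒᵖ →ₐ[R] Module.End (A ⊗[R] Module.End R P) (TP R A P) where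
  toFun c := TP.rmul A P c.unop
  map_one' := by
    apply TP.ext_end
    intro a x
    rw [TP.rmul_mk_tmul, MulOpposite.unop_one, mul_one]
    rfl
  map_mul' c c' := by
    apply TP.ext_end
    intro a x
    rw [TP.rmul_mk_tmul, Module.End.mul_apply, TP.rmul_mk_tmul, TP.rmul_mk_tmul,
      MulOpposite.unop_mul, mul_assoc]
  map_zero' := by
    apply TP.ext_end
    intro a x
    rw [TP.rmul_mk_tmul, MulOpposite.unop_zero, mul_zero, TensorProduct.zero_tmul]
    rfl
  map_add' c c' := by
    apply TP.ext_end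
    intro a x
    rw [LinearMap.add_apply, TP.rmul_mk_tmul, TP.rmul_mk_tmul, TP.rmul_mk_tmul,
      MulOpposite.unop_add, mul_add, TensorProduct.add_tmul]
    rfl
  commutes' r := by
    apply TP.ext_end
    intro a x
    rw [TP.rmul_mk_tmul, MulOpposite.algebraMap_apply, MulOpposite.unop_op,
      Module.algebraMap_end_apply, ← Algebra.commutes, ← Algebra.smul_def]
    rfl

/-- contraction `A ⊗ P → A`, `a ⊗ x ↦ φ x • a` -/
noncomputable def TP.contr (φ : P →ₗ[R] R) : A ⊗[R] P →ₗ[R] A :=
  (TensorProduct.rid R A).toLinearMap ∘ₗ LinearMap.lTensor A φ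

variable {A P} in
lemma TP.contr_tmul (φ : P →ₗ[R] R) (a : A) (x : P) : TP.contr A P φ (a ⊗ₜ[R] x) = φ x • a := by
  simp [TP.contr]

variable {A P} in
lemma TP.tmul_smulRight_smul (φ : P →ₗ[R] R) (a : A) (x : P) (w : TP R A P) :
    (a ⊗ₜ[R] (LinearMap.smulRightₗ φ x) : A ⊗[R] Module.End R P) • w =
      TP.mk ((a * TP.contr A P φ (TP.out w)) ⊗ₜ[R] x) := by
  have key : ∀ z : A ⊗[R] P, tpAct R A P (a ⊗ₜ[R] (LinearMap.smulRightₗ φ x)) z =
      (a * TP.contr A P φ z) ⊗ₜ[R] x := by
    intro z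
    induction z using TensorProduct.induction_on with
    | zero => simp
    | add z₁ z₂ h₁ h₂ => rw [map_add, h₁, h₂, map_add, mul_add, TensorProduct.add_tmul]
    | tmul a' y =>
      rw [tpAct_tmul, TP.contr_tmul]
      simp only [LinearMap.smulRightₗ_apply, LinearMap.smulRight_apply]
      rw [TensorProduct.tmul_smul, mul_smul_comm, TensorProduct.smul_tmul']
  rw [TP.smul_def]
  exact congrArg TP.mk (key _)

variable {k : ℕ} (f : Fin k → P →ₗ[R] R) (p : Fin k → P)

theorem TP.endHom_bijective (hfp : ∑ j, f j (p j) = 1) :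
    Function.Bijective (TP.endHom (R := R) A P) := by
  constructor
  · intro c c' hcc
    apply MulOpposite.unop_injective
    have h1 : ∀ j, f j (p j) • c.unop = f j (p j) • c'.unop := by
      intro j
      have := LinearMap.congr_fun hcc (TP.mk ((1 : A) ⊗ₜ[R] p j))
      change TP.mk ((1 * c.unop) ⊗ₜ[R] p j) = TP.mk ((1 * c'.unop) ⊗ₜ[R] p j) at this
      rw [one_mul, one_mul] at this
      have := congrArg (fun v => TP.contr A P (f j) (TP.out v)) this
      simpa [TP.out, TP.mk, TP.contr_tmul] using this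
    calc c.unop = (∑ j, f j (p j)) • c.unop := by rw [hfp, one_smul]
      _ = (∑ j, f j (p j)) • c'.unop := by rw [Finset.sum_smul, Finset.sum_smul]; exact Finset.sum_congr rfl fun j _ => h1 j
      _ = c'.unop := by rw [hfp, one_smul]
  · intro g
    refine ⟨MulOpposite.op (∑ j, TP.contr A P (f j) (TP.out (g (TP.mk ((1 : A) ⊗ₜ[R] p j))))), ?_⟩
    apply TP.ext_end
    intro a x
    change TP.rmul A P _ (TP.mk (a ⊗ₜ[R] x)) = _
    rw [TP.rmul_mk_tmul]
    have hax : (TP.mk (a ⊗ₜ[R] x) : TP R A P) = ∑ j,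
        (a ⊗ₜ[R] (LinearMap.smulRightₗ (f j) x) : A ⊗[R] Module.End R P) •
          (TP.mk ((1 : A) ⊗ₜ[R] p j) : TP R A P) := by
      have : ∀ j, (a ⊗ₜ[R] (LinearMap.smulRightₗ (f j) x) : A ⊗[R] Module.End R P) •
          (TP.mk ((1 : A) ⊗ₜ[R] p j) : TP R A P) = TP.mk (a ⊗ₜ[R] (f j (p j) • x)) := by
        intro j
        rw [TP.tmul_smul_mk, mul_one]
        rfl
      simp only [this]
      change _ = TP.mk (∑ j, a ⊗ₜ[R] (f j (p j) • x))
      rw [← TensorProduct.tmul_sum, ← Finset.sum_smul, hfp, one_smul]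
    have hg : ∀ j, g ((a ⊗ₜ[R] (LinearMap.smulRightₗ (f j) x) : A ⊗[R] Module.End R P) •
          (TP.mk ((1 : A) ⊗ₜ[R] p j) : TP R A P)) =
        TP.mk ((a * TP.contr A P (f j) (TP.out (g (TP.mk ((1 : A) ⊗ₜ[R] p j))))) ⊗ₜ[R] x) := by
      intro j
      rw [LinearMap.map_smul, TP.tmul_smulRight_smul]
    rw [hax, map_sum]
    simp only [hg]
    change TP.mk _ = TP.mk (∑ j, _)
    rw [MulOpposite.unop_op, Finset.mul_sum, TensorProduct.sum_tmul]
    rfl

end endo

end Groth.Agent.Lib.Helper3
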