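import Mathlib.RingTheory.Spectrum.Prime.FreeLocus
import Mathlib.RingTheory.Support
import Groth.Agent.Lib.Helper3.LGAz
import Groth.Agent.Lib.Helper3.Pull
import Groth.Agent.Lib.Helper3.TensorEndMod
import Groth.Agent.Lib.Helper3.AzumayaTensor
import Groth.Agent.Lib.Helper11.AzumayaEnd

/-!
# Brauer-equivalent Azumaya algebras of the same degree over an LG-ring are isomorphic (helper3)
-/

set_option autoImplicit false
universe u v w
open scoped TensorProduct

namespace Groth.Agent.Lib.Helper3.LGBrauer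

open Groth.Agent.Lib.Helper3.LGAz

section rank

variable {R : Type u} [CommRing R] (P : Type*) [AddCommGroup P] [Module R P] [Module.Finite R P]
  [Module.Projective R P]

lemma rankAtStalk_end (p : PrimeSpectrum R) :
    haveI := Groth.Agent.Lib.Helper11.Azumaya.finite_end R P
    haveI := Groth.Agent.Lib.Helper11.Azumaya.projective_end R P
    Module.rankAtStalk (Module.End R P) p = Module.rankAtStalk P p * Module.rankAtStalk P p := by
  haveI := Groth.Agent.Lib.Helper11.Azumaya.finite_end R P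
  haveI := Groth.Agent.Lib.Helper11.Azumaya.projective_end R P
  rw [Module.rankAtStalk_eq, Module.rankAtStalk_eq]
  have e := Groth.Agent.Lib.Helper11.Azumaya.endBaseChangeAlgEquiv R P p.asIdeal.ResidueField
  rw [e.toLinearEquiv.finrank_eq, Module.finrank_linearMap]

lemma rankAtStalk_pos [FaithfulSMul R P] (p : PrimeSpectrum R) : 0 < Module.rankAtStalk P p := by
  rw [Module.rankAtStalk_pos_iff_mem_support, Module.support_eq_zeroLocus,
    (Module.annihilator_eq_bot (R := R) (M := P)).mpr inferInstance]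
  simp

end rank

theorem main {R : Type u} [CommRing R] (hR : LGRing.IsLGRing R)
    (A B : Type v) [Ring A] [Algebra R A] [IsAzumaya R A] [Ring B] [Algebra R B] [IsAzumaya R B]
    (hdeg : ∀ p : PrimeSpectrum R, Module.rankAtStalk A p = Module.rankAtStalk B p)
    (P Q : Type w) [AddCommGroup P] [Module R P] [Module.Finite R P] [Module.Projective R P]
    [FaithfulSMul R P]
    [AddCommGroup Q] [Module R Q] [Module.Finite R Q] [Module.Projective R Q] [FaithfulSMul R Q]
    (e : A ⊗[R] Module.End R P ≃ₐ[R] B ⊗[R] Module.End R Q) : Nonempty (A ≃ₐ[R] B) := by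
  haveI : Module.Finite R A := IsAzumaya.toFinite
  haveI : Module.Projective R A := IsAzumaya.toProjective
  haveI : FaithfulSMul R A := IsAzumaya.toFaithfulSMul
  haveI : Module.Finite R B := IsAzumaya.toFinite
  haveI : Module.Projective R B := IsAzumaya.toProjective
  haveI := Groth.Agent.Lib.Helper11.Azumaya.finite_end R P
  haveI := Groth.Agent.Lib.Helper11.Azumaya.projective_end R P
  haveI := Groth.Agent.Lib.Helper11.Azumaya.finite_end R Q
  haveI := Groth.Agent.Lib.Helper11.Azumaya.projective_end R Q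
  haveI : IsAzumaya R (Module.End R P) := Groth.Agent.Lib.Helper3.Az.isAzumaya_end R P
  haveI : IsAzumaya R (A ⊗[R] Module.End R P) :=
    Groth.Agent.Lib.Helper3.Az.isAzumaya_tensor R A (Module.End R P)
  have hPQ : ∀ p : PrimeSpectrum R, Module.rankAtStalk P p = Module.rankAtStalk Q p := by
    intro p
    have h1 := congrFun (Module.rankAtStalk_eq_of_equiv (R := R) e.toLinearEquiv) p
    rw [Module.rankAtStalk_tensorProduct, Module.rankAtStalk_tensorProduct, Pi.mul_apply,
      Pi.mul_apply, rankAtStalk_end, rankAtStalk_end, hdeg p] at h1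
    have hpos : 0 < Module.rankAtStalk B p := by rw [← hdeg p]; exact rankAtStalk_pos A p
    exact Nat.mul_self_inj.mp (Nat.eq_of_mul_eq_mul_left hpos h1)
  obtain ⟨θ⟩ := nonempty_linearEquiv (A := A ⊗[R] Module.End R P) (TP R A P)
    (Pull e (TP R B Q)) hR (fun m hm => by
      have h1 : Module.rankAtStalk (A ⊗[R] P) ⟨m, hm.isPrime⟩ =
          Module.rankAtStalk A ⟨m, hm.isPrime⟩ * Module.rankAtStalk P ⟨m, hm.isPrime⟩ := by
        rw [Module.rankAtStalk_tensorProduct, Pi.mul_apply]
      have h2 : Module.rankAtStalk (B ⊗[R] Q) ⟨m, hm.isPrime⟩ =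
          Module.rankAtStalk B ⟨m, hm.isPrime⟩ * Module.rankAtStalk Q ⟨m, hm.isPrime⟩ := by
        rw [Module.rankAtStalk_tensorProduct, Pi.mul_apply]
      rw [hdeg, hPQ] at h1
      exact h2.trans h1.symm)
  obtain ⟨kP, fP, pP, hP⟩ := exists_trace_data (R := R) P
  obtain ⟨kQ, fQ, pQ, hQ⟩ := exists_trace_data (R := R) Q
  let E1 : Aᵐᵒᵖ ≃ₐ[R] Module.End (A ⊗[R] Module.End R P) (TP R A P) :=
    AlgEquiv.ofBijective (TP.endHom A P) (TP.endHom_bijective A P fP pP hP)
  let E3 := θ.conjAlgEquiv R
  let E4 := Pull.endEquiv e (TP R B Q)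
  let E5 : Bᵐᵒᵖ ≃ₐ[R] Module.End (B ⊗[R] Module.End R Q) (TP R B Q) :=
    AlgEquiv.ofBijective (TP.endHom B Q) (TP.endHom_bijective B Q fQ pQ hQ)
  exact ⟨AlgEquiv.unop (E1.trans (E3.trans (E4.trans E5.symm)))⟩

end Groth.Agent.Lib.Helper3.LGBrauer
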