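import Mathlib.Algebra.Azumaya.Basic
import Groth.Agent.Lib.Helper3.LGBrauer

/-!
# Cancellation `A ⊗ C ≃ B ⊗ C ⇒ A ≃ B` for Azumaya algebras over LG-rings (helper3)
-/

set_option autoImplicit false
universe u v w
open scoped TensorProduct

namespace Groth.Agent.Lib.Helper3.LGBrauer

theorem cancel {R : Type u} [CommRing R]
    (hR : LGRing.IsLGRing R) (A B C : Type v) [Ring A] [Algebra R A] [IsAzumaya R A] [Ring B] [Algebra R B]
    [IsAzumaya R B] [Ring C] [Algebra R C] [IsAzumaya R C]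
    (e : A ⊗[R] C ≃ₐ[R] B ⊗[R] C) : Nonempty (A ≃ₐ[R] B) := by
  haveI : Module.Finite R A := IsAzumaya.toFinite
  haveI : Module.Projective R A := IsAzumaya.toProjective
  haveI : Module.Finite R B := IsAzumaya.toFinite
  haveI : Module.Projective R B := IsAzumaya.toProjective
  haveI : Module.Finite R C := IsAzumaya.toFinite
  haveI : Module.Projective R C := IsAzumaya.toProjective
  haveI : FaithfulSMul R C := IsAzumaya.toFaithfulSMul
  have hdeg : ∀ p : PrimeSpectrum R, Module.rankAtStalk A p = Module.rankAtStalk B p := by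
    intro p
    have h1 := congrFun (Module.rankAtStalk_eq_of_equiv (R := R) e.toLinearEquiv) p
    rw [Module.rankAtStalk_tensorProduct, Module.rankAtStalk_tensorProduct, Pi.mul_apply,
      Pi.mul_apply] at h1
    exact Nat.eq_of_mul_eq_mul_right (rankAtStalk_pos C p) h1
  let ψ : C ⊗[R] Cᵐᵒᵖ ≃ₐ[R] Module.End R C :=
    AlgEquiv.ofBijective (AlgHom.mulLeftRight R C) IsAzumaya.bij
  let e' : A ⊗[R] Module.End R C ≃ₐ[R] B ⊗[R] Module.End R C :=
    (Algebra.TensorProduct.congr (AlgEquiv.refl : A ≃ₐ[R] A) ψ.symm).trans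
      ((Algebra.TensorProduct.assoc R R R A C Cᵐᵒᵖ).symm.trans
        ((Algebra.TensorProduct.congr e (AlgEquiv.refl : Cᵐᵒᵖ ≃ₐ[R] Cᵐᵒᵖ)).trans
          ((Algebra.TensorProduct.assoc R R R B C Cᵐᵒᵖ).trans
            (Algebra.TensorProduct.congr (AlgEquiv.refl : B ≃ₐ[R] B) ψ))))
  exact main hR A B hdeg C C e'

end Groth.Agent.Lib.Helper3.LGBrauer
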