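import Mathlib.RingTheory.Spectrum.Prime.FreeLocus
import Mathlib.Algebra.Module.FinitePresentation
import Groth.Agent.Lib.Helper3.LGAz

/-!
# Indecomposable projective modules over an Azumaya algebra over a connected LG-ring (helper3)
-/

set_option autoImplicit false
universe u v w

namespace Groth.Agent.Lib.Helper3.LGIndec

lemma nonempty_linearEquiv_of_surjective {A : Type*} [Ring A] (P Q : Type*) [AddCommGroup P]
    [Module A P] [Module.Projective A P] [Nontrivial P] [AddCommGroup Q] [Module A Q]
    (hQ : ∀ e : Module.End A Q, IsIdempotentElem e → e = 0 ∨ e = 1)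
    (f : Q →ₗ[A] P) (hf : Function.Surjective f) : Nonempty (Q ≃ₗ[A] P) := by
  obtain ⟨s, hs⟩ := Module.projective_lifting_property f LinearMap.id hf
  have hs' : ∀ x, f (s x) = x := fun x => LinearMap.congr_fun hs x
  have hidem : IsIdempotentElem (s ∘ₗ f : Module.End A Q) := by
    change (s ∘ₗ f) ∘ₗ (s ∘ₗ f) = s ∘ₗ f
    ext x
    simp [hs']
  rcases hQ _ hidem with h0 | h1
  · exfalso
    obtain ⟨x, hx⟩ := exists_ne (0 : P)
    apply hx
    have := LinearMap.congr_fun h0 (s x)
    simp only [LinearMap.comp_apply, hs', LinearMap.zero_apply] at this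
    rw [← hs' x, this, map_zero]
  · have hinj : Function.Injective f := by
      intro x y hxy
      have hx := LinearMap.congr_fun h1 x
      have hy := LinearMap.congr_fun h1 y
      simp only [LinearMap.comp_apply, Module.End.one_apply] at hx hy
      rw [← hx, ← hy, hxy]
    exact ⟨LinearEquiv.ofBijective f ⟨hinj, hf⟩⟩

open Groth.Agent.Lib.Helper3.LGAz in
theorem main {R : Type u} [CommRing R]
    (hR : LGRing.IsLGRing R) [ConnectedSpace (PrimeSpectrum R)] {A : Type v} [Ring A] [Algebra R A] [IsAzumaya R A]
    (P Q : Type w) [AddCommGroup P] [Module A P] [Module.Finite A P] [Module.Projective A P] [Nontrivial P]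
    [AddCommGroup Q] [Module A Q] [Module.Finite A Q] [Module.Projective A Q] [Nontrivial Q]
    (hP : ∀ e : Module.End A P, IsIdempotentElem e → e = 0 ∨ e = 1)
    (hQ : ∀ e : Module.End A Q, IsIdempotentElem e → e = 0 ∨ e = 1) : Nonempty (P ≃ₗ[A] Q) := by
  letI : Module R P := Module.compHom P (algebraMap R A)
  letI : Module R Q := Module.compHom Q (algebraMap R A)
  haveI : IsScalarTower R A P := ⟨fun r a x => by
    change (r • a) • x = algebraMap R A r • a • x
    rw [Algebra.smul_def, mul_smul]⟩
  haveI : IsScalarTower R A Q := ⟨fun r a x => by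
    change (r • a) • x = algebraMap R A r • a • x
    rw [Algebra.smul_def, mul_smul]⟩
  haveI : Module.Finite R P := finite_of_finite (A := A) P
  haveI : Module.Finite R Q := finite_of_finite (A := A) Q
  haveI : Module.Projective R P := projective_of_projective (A := A) P
  haveI : Module.Projective R Q := projective_of_projective (A := A) Q
  haveI : Module.FinitePresentation R P := Module.finitePresentation_of_projective R P
  haveI : Module.FinitePresentation R Q := Module.finitePresentation_of_projective R Q
  obtain ⟨p₀⟩ := (inferInstance : Nonempty (PrimeSpectrum R))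
  have hcP : ∀ p, Module.rankAtStalk P p = Module.rankAtStalk P p₀ := fun p =>
    (Module.isLocallyConstant_rankAtStalk (R := R) (M := P)).apply_eq_of_preconnectedSpace p p₀
  have hcQ : ∀ p, Module.rankAtStalk Q p = Module.rankAtStalk Q p₀ := fun p =>
    (Module.isLocallyConstant_rankAtStalk (R := R) (M := Q)).apply_eq_of_preconnectedSpace p p₀
  rcases le_total (Module.rankAtStalk P p₀) (Module.rankAtStalk Q p₀) with hle | hle
  · obtain ⟨f, hf⟩ := exists_surjective (A := A) Q P hR (fun m hm => by rw [hcP, hcQ]; exact hle)
    obtain ⟨e⟩ := nonempty_linearEquiv_of_surjective P Q hQ f hf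
    exact ⟨e.symm⟩
  · obtain ⟨f, hf⟩ := exists_surjective (A := A) P Q hR (fun m hm => by rw [hcP, hcQ]; exact hle)
    exact nonempty_linearEquiv_of_surjective Q P hP f hf

end Groth.Agent.Lib.Helper3.LGIndec
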