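import Mathlib.Data.Matrix.Composition
import Mathlib.LinearAlgebra.Matrix.Reindex
import Mathlib.LinearAlgebra.TensorProduct.Pi
import Mathlib.RingTheory.TensorProduct.Maps
import Mathlib.Logic.Equiv.Fin.Basic
import Groth.Prelude.Def_AzInv

/-! Splitting `T ⊗ M_m(A)` from a splitting of `T ⊗ A`, compatibly with involutions (helper3). -/

set_option autoImplicit false
universe u u' v w

open TensorProduct AzInv

namespace Groth.Agent.Lib.Helper3.MatSplit

section theta

variable (S : Type u) [CommRing S] (T : Type u') [CommRing T] [Algebra S T]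
  (A : Type w) [Ring A] [Algebra S A] (m : ℕ)

/-- `T ⊗ M_m(A) ≃ M_m(T ⊗ A)` as a linear equivalence -/
noncomputable def thetaLin :
    T ⊗[S] Matrix (Fin m) (Fin m) A ≃ₗ[T] Matrix (Fin m) (Fin m) (T ⊗[S] A) :=
  (TensorProduct.piRight S T T (fun _ : Fin m => Fin m → A)).trans
    (LinearEquiv.piCongrRight fun _ => TensorProduct.piRight S T T (fun _ : Fin m => A))

lemma thetaLin_tmul (s : T) (M : Matrix (Fin m) (Fin m) A) (a b : Fin m) :
    thetaLin S T A m (s ⊗ₜ[S] M) a b = s ⊗ₜ[S] M a b := rfl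

/-- `T ⊗ M_m(A) ≃ M_m(T ⊗ A)` as an algebra equivalence -/
noncomputable def theta :
    T ⊗[S] Matrix (Fin m) (Fin m) A ≃ₐ[T] Matrix (Fin m) (Fin m) (T ⊗[S] A) :=
  AlgEquiv.ofLinearEquiv (thetaLin S T A m)
    (by
      ext a b
      rw [Algebra.TensorProduct.one_def, thetaLin_tmul, Matrix.one_apply, Matrix.one_apply]
      split_ifs
      · rfl
      · rw [TensorProduct.tmul_zero])
    (by
      apply LinearMap.map_mul_of_map_mul_tmul
      intro s₁ s₂ M₁ M₂
      ext a b
      show thetaLin S T A m ((s₁ * s₂) ⊗ₜ[S] (M₁ * M₂)) a b =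
        (thetaLin S T A m (s₁ ⊗ₜ[S] M₁) * thetaLin S T A m (s₂ ⊗ₜ[S] M₂)) a b
      rw [thetaLin_tmul, Matrix.mul_apply, Matrix.mul_apply, TensorProduct.tmul_sum]
      refine Finset.sum_congr rfl fun c _ => ?_
      rw [thetaLin_tmul, thetaLin_tmul, Algebra.TensorProduct.tmul_mul_tmul])

lemma theta_tmul (s : T) (M : Matrix (Fin m) (Fin m) A) (a b : Fin m) :
    theta S T A m (s ⊗ₜ[S] M) a b = s ⊗ₜ[S] M a b := rfl

end theta

section Gm

variable (K : Type*) [CommRing K] (m n : ℕ)

/-- block matrices as big matrices -/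
noncomputable def Gm : Matrix (Fin m) (Fin m) (Matrix (Fin n) (Fin n) K) ≃ₐ[K]
    Matrix (Fin (m * n)) (Fin (m * n)) K :=
  (Matrix.compAlgEquiv (Fin m) (Fin n) K K).trans (Matrix.reindexAlgEquiv K K finProdFinEquiv)

lemma Gm_apply (Y : Matrix (Fin m) (Fin m) (Matrix (Fin n) (Fin n) K)) (p q : Fin (m * n)) :
    Gm K m n Y p q = Y (finProdFinEquiv.symm p).1 (finProdFinEquiv.symm q).1
      (finProdFinEquiv.symm p).2 (finProdFinEquiv.symm q).2 := rfl

lemma Gm_lamTr (σ : K → K) (Y : Matrix (Fin m) (Fin m) (Matrix (Fin n) (Fin n) K)) :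
    Gm K m n (lamTr (lamTr σ) Y) = lamTr σ (Gm K m n Y) := rfl

end Gm

section main

variable {S : Type u} {R : Type v} [CommRing S] [CommRing R] [Algebra S R]
  {A : Type w} [Ring A] [Algebra S A] [Algebra R A] [IsScalarTower S R A]

/-- a splitting of `T ⊗ A` in which the involution is `x ↦ W * lamTr x * W'` induces a splitting
of `T ⊗ M_m(A)` in which the matrix involution has the same shape, with block diagonal `W` -/
theorem split_matrix (T : Type u') [CommRing T] [Algebra S T] (m n : ℕ)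
    (f : T ⊗[S] A ≃ₐ[T] Matrix (Fin n) (Fin n) (T ⊗[S] R))
    (hf : ∀ (r : R) (x : T ⊗[S] A), f (((1 : T) ⊗ₜ[S] algebraMap R A r) * x) =
      Matrix.scalar (Fin n) ((1 : T) ⊗ₜ[S] r) * f x)
    (lam : R ≃ₐ[S] R) (t : LamInv R A lam) (σ : T ⊗[S] R → T ⊗[S] R)
    (W W' : Matrix (Fin n) (Fin n) (T ⊗[S] R))
    (ht : ∀ x, f (t.bc S lam T x) = W * lamTr σ (f x) * W') :
    ∃ F : T ⊗[S] Matrix (Fin m) (Fin m) A ≃ₐ[T] Matrix (Fin (m * n)) (Fin (m * n)) (T ⊗[S] R),
      (∀ (r : R) (X : T ⊗[S] Matrix (Fin m) (Fin m) A),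
        F (((1 : T) ⊗ₜ[S] algebraMap R (Matrix (Fin m) (Fin m) A) r) * X) =
          Matrix.scalar (Fin (m * n)) ((1 : T) ⊗ₜ[S] r) * F X) ∧
      ∀ X, F ((t.matrix (Fin m)).bc S lam T X) =
        Gm (T ⊗[S] R) m n (Matrix.diagonal fun _ => W) * lamTr σ (F X) *
          Gm (T ⊗[S] R) m n (Matrix.diagonal fun _ => W') := by
  let F : T ⊗[S] Matrix (Fin m) (Fin m) A ≃ₐ[T] Matrix (Fin (m * n)) (Fin (m * n)) (T ⊗[S] R) :=
    (theta S T A m).trans (f.mapMatrix.trans ((Gm (T ⊗[S] R) m n).restrictScalars T))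
  have hF : ∀ X, F X = Gm (T ⊗[S] R) m n ((theta S T A m X).map f) := fun X => rfl
  refine ⟨F, ?_, ?_⟩
  · intro r X
    have h1 : f ((1 : T) ⊗ₜ[S] algebraMap R A r) = Matrix.scalar (Fin n) ((1 : T) ⊗ₜ[S] r) := by
      have := hf r 1
      rwa [mul_one, map_one, mul_one] at this
    have h2 : F ((1 : T) ⊗ₜ[S] algebraMap R (Matrix (Fin m) (Fin m) A) r) =
        Matrix.scalar (Fin (m * n)) ((1 : T) ⊗ₜ[S] r) := by
      rw [hF]
      have h3 : (theta S T A m ((1 : T) ⊗ₜ[S] algebraMap R (Matrix (Fin m) (Fin m) A) r)).map f =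
          algebraMap (T ⊗[S] R) (Matrix (Fin m) (Fin m) (Matrix (Fin n) (Fin n) (T ⊗[S] R)))
            ((1 : T) ⊗ₜ[S] r) := by
        ext a b : 2
        rw [Matrix.map_apply, theta_tmul, Matrix.algebraMap_matrix_apply,
          Matrix.algebraMap_matrix_apply]
        split_ifs with hab
        · rw [h1]
          rfl
        · rw [TensorProduct.tmul_zero, map_zero]
      rw [h3, AlgEquiv.commutes]
      rfl
    rw [map_mul, h2]
  · intro X
    have hA : theta S T A m ((t.matrix (Fin m)).bc S lam T X) =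
        lamTr (t.bc S lam T) (theta S T A m X) := by
      induction X using TensorProduct.induction_on with
      | zero =>
        rw [map_zero, map_zero]
        ext a b
        simp [lamTr_apply]
      | tmul s M =>
        ext a b
        rw [LamInv.bc_tmul, theta_tmul, lamTr_apply, theta_tmul, LamInv.bc_tmul]
        rfl
      | add x y hx hy =>
        rw [map_add, map_add, hx, hy, map_add]
        ext a b
        simp [lamTr_apply]
    set Y := (theta S T A m X).map f with hY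
    have hB : (theta S T A m ((t.matrix (Fin m)).bc S lam T X)).map f =
        Matrix.diagonal (fun _ => W) * lamTr (lamTr σ) Y * Matrix.diagonal (fun _ => W') := by
      rw [hA]
      ext a b : 2
      rw [Matrix.map_apply, lamTr_apply, ht, Matrix.mul_diagonal, Matrix.diagonal_mul,
        lamTr_apply, hY, Matrix.map_apply]
    rw [hF, hB, map_mul, map_mul, Gm_lamTr, hF]

end main

end Groth.Agent.Lib.Helper3.MatSplit
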