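import Groth.Agent.Lib.Helper3.JointNbhd
import Groth.Agent.Lib.Helper3.MatSplit
import Groth.Agent.Lib.Helper3.AdaptedLocal
import Groth.Agent.Lib.Helper3.SymplCong

/-! Local isomorphisms between matrix algebras over two algebras with involution whose adapted
constants match after a reindexing (helper3). -/

set_option autoImplicit false
universe u v w w'

open TensorProduct

namespace Groth.Agent.Lib.Helper3.MatIsoAt

open AzInv Groth.Agent.Lib.Helper3.IndEtDescent Groth.Agent.Lib.Helper3.AdaptedSplit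
  Groth.Agent.Lib.Helper3.StrictHensPrime Groth.Agent.Lib.Helper3.MatSplit
  Groth.Agent.Lib.Helper3.AdaptedLocal Groth.Agent.Lib.Helper3.SymplCong

variable {S : Type u} {R : Type v} [CommRing S] [CommRing R] [Algebra S R]
  {A : Type w} [Ring A] [Algebra S A] [Algebra R A] [IsScalarTower S R A]
  {A' : Type w'} [Ring A'] [Algebra S A'] [Algebra R A'] [IsScalarTower S R A']

lemma Gm_diag_apply {K : Type*} [CommRing K] (m n : ℕ) (W : Matrix (Fin n) (Fin n) K)
    (p q : Fin (m * n)) :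
    Gm K m n (Matrix.diagonal fun _ => W) p q =
      if (finProdFinEquiv.symm p).1 = (finProdFinEquiv.symm q).1 then
        W (finProdFinEquiv.symm p).2 (finProdFinEquiv.symm q).2 else 0 := by
  rw [Gm_apply, Matrix.diagonal_apply]
  split_ifs
  · rfl
  · rfl

lemma Gm_diag_bcMat (T : Type*) [CommRing T] [Algebra S T] (m n : ℕ)
    (w : Matrix (Fin n) (Fin n) R) (p q : Fin (m * n)) :
    Gm (T ⊗[S] R) m n (Matrix.diagonal fun _ => bcMat T w) p q =
      (1 : T) ⊗ₜ[S] Gm R m n (Matrix.diagonal fun _ => w) p q := by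
  rw [Gm_diag_apply, Gm_diag_apply]
  split_ifs
  · rfl
  · rw [TensorProduct.tmul_zero]

/-- matrix algebras over two algebras with involution, with units adapted to constants that
match after a reindexing, are isomorphic over an étale neighbourhood -/
theorem exists_mat_iso_at (lam : R ≃ₐ[S] R) (n n' : ℕ) (hn : 0 < n) (hn' : 0 < n')
    (hA : IsAzumayaDeg R A n) (hA' : IsAzumayaDeg R A' n')
    (t : LamInv R A lam) (t' : LamInv R A' lam) (m m' : ℕ)
    (w₁ w₁' : Matrix (Fin n) (Fin n) R) (w₂ w₂' : Matrix (Fin n') (Fin n') R)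
    (e : Fin (m * n) ≃ Fin (m' * n'))
    (hw : ∀ p q, Gm R m n (Matrix.diagonal fun _ => w₁) p q =
      Gm R m' n' (Matrix.diagonal fun _ => w₂) (e p) (e q))
    (hw' : ∀ p q, Gm R m n (Matrix.diagonal fun _ => w₁') p q =
      Gm R m' n' (Matrix.diagonal fun _ => w₂') (e p) (e q))
    (q : PrimeSpectrum S)
    (h₁ : ∃ E : Fin n → Fin n → (Hq q.asIdeal) ⊗[S] A,
      IsAdaptedC A (t.linS S lam) (Hq q.asIdeal) (cst A w₁) (cst A w₁') E)
    (h₂ : ∃ E : Fin n' → Fin n' → (Hq q.asIdeal) ⊗[S] A',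
      IsAdaptedC A' (t'.linS S lam) (Hq q.asIdeal) (cst A' w₂) (cst A' w₂') E) :
    ∃ (T : Type u) (_ : CommRing T) (_ : Algebra S T) (_ : Algebra.Etale S T),
      q ∈ Set.range (PrimeSpectrum.comap (algebraMap S T)) ∧
      ∃ f : T ⊗[S] Matrix (Fin m) (Fin m) A ≃ₐ[T] T ⊗[S] Matrix (Fin m') (Fin m') A',
        (∀ (r : R) (x : T ⊗[S] Matrix (Fin m) (Fin m) A),
          f (((1 : T) ⊗ₜ[S] algebraMap R (Matrix (Fin m) (Fin m) A) r) * x) =
            ((1 : T) ⊗ₜ[S] algebraMap R (Matrix (Fin m') (Fin m') A') r) * f x) ∧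
        ∀ x : T ⊗[S] Matrix (Fin m) (Fin m) A,
          f ((t.matrix (Fin m)).bc S lam T x) = (t'.matrix (Fin m')).bc S lam T (f x) := by
  obtain ⟨T₁, _, _, _, hq₁, E₁, hE₁⟩ := AdaptedCore.exists_adapted_at A _ _ _ q h₁
  obtain ⟨T₂, _, _, _, hq₂, E₂, hE₂⟩ := AdaptedCore.exists_adapted_at A' _ _ _ q h₂
  haveI : Algebra.Etale S (T₁ ⊗[S] T₂) := Algebra.Etale.comp S T₁ (T₁ ⊗[S] T₂)
  refine ⟨T₁ ⊗[S] T₂, inferInstance, inferInstance, inferInstance,
    JointNbhd.mem_range_comap_tensor T₁ T₂ q hq₁ hq₂, ?_⟩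
  set T := T₁ ⊗[S] T₂ with hT
  have hE₁' := hE₁.map A _ (Algebra.TensorProduct.includeLeft : T₁ →ₐ[S] T₁ ⊗[S] T₂)
  have hE₂' := hE₂.map A' _ (Algebra.TensorProduct.includeRight : T₂ →ₐ[S] T₁ ⊗[S] T₂)
  obtain ⟨f₁, hf₁, ht₁⟩ := split_of_adapted T n hn hA lam t w₁ w₁' _ hE₁'
  obtain ⟨f₂, hf₂, ht₂⟩ := split_of_adapted T n' hn' hA' lam t' w₂ w₂' _ hE₂'
  rw [← coe_sig] at ht₁ ht₂
  set K := T ⊗[S] R with hK
  set σ := sig lam T with hσ
  obtain ⟨F₁, hF₁s, hF₁t⟩ := split_matrix T m n f₁ hf₁ lam t (⇑σ) _ _ ht₁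
  obtain ⟨F₂, hF₂s, hF₂t⟩ := split_matrix T m' n' f₂ hf₂ lam t' (⇑σ) _ _ ht₂
  let ρ : Matrix (Fin (m * n)) (Fin (m * n)) K ≃ₐ[T]
      Matrix (Fin (m' * n')) (Fin (m' * n')) K :=
    (Matrix.reindexAlgEquiv K K e).restrictScalars T
  have hρ : ∀ Y p' q', ρ Y p' q' = Y (e.symm p') (e.symm q') := fun Y p' q' => rfl
  have hρs : ∀ (z : K) Y, ρ (Matrix.scalar _ z * Y) = Matrix.scalar _ z * ρ Y := by
    intro z Y
    have h1 : ρ (Matrix.scalar _ z) = Matrix.scalar _ z := by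
      ext p' q'
      rw [hρ, Matrix.scalar_apply, Matrix.scalar_apply, Matrix.diagonal_apply,
        Matrix.diagonal_apply]
      by_cases h : p' = q'
      · rw [if_pos h, if_pos (by rw [h])]
      · rw [if_neg h, if_neg (fun h' => h (e.symm.injective h'))]
    rw [map_mul, h1]
  have hρt : ∀ Y, ρ (lamTr σ Y) = lamTr σ (ρ Y) := fun Y => rfl
  have hρW : ρ (Gm K m n (Matrix.diagonal fun _ => bcMat T w₁)) =
      Gm K m' n' (Matrix.diagonal fun _ => bcMat T w₂) := by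
    ext p' q'
    rw [hρ, Gm_diag_bcMat, Gm_diag_bcMat, hw, Equiv.apply_symm_apply, Equiv.apply_symm_apply]
  have hρW' : ρ (Gm K m n (Matrix.diagonal fun _ => bcMat T w₁')) =
      Gm K m' n' (Matrix.diagonal fun _ => bcMat T w₂') := by
    ext p' q'
    rw [hρ, Gm_diag_bcMat, Gm_diag_bcMat, hw', Equiv.apply_symm_apply, Equiv.apply_symm_apply]
  refine ⟨F₁.trans (ρ.trans F₂.symm), ?_, ?_⟩
  · intro r X
    show F₂.symm (ρ (F₁ _)) = _ * F₂.symm (ρ (F₁ X))
    apply F₂.injective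
    rw [AlgEquiv.apply_symm_apply, hF₁s, hρs, hF₂s, AlgEquiv.apply_symm_apply]
  · intro X
    show F₂.symm (ρ (F₁ _)) = _
    apply F₂.injective
    rw [AlgEquiv.apply_symm_apply, hF₁t, map_mul, map_mul, hρW, hρW', hρt, hF₂t]
    show _ = _ * lamTr σ (F₂ (F₂.symm (ρ (F₁ X)))) * _
    rw [AlgEquiv.apply_symm_apply]

/-- the index equivalence exhibiting a block diagonal of standard symplectic patterns as a
standard pattern -/
def eJ (m k : ℕ) : (Fin m × Fin k) × Fin 2 ≃ Fin (m * (k * 2)) :=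
  (Equiv.prodAssoc (Fin m) (Fin k) (Fin 2)).trans
    ((Equiv.prodCongr (Equiv.refl (Fin m)) finProdFinEquiv).trans finProdFinEquiv)

lemma eJ_apply (m k : ℕ) (x : (Fin m × Fin k) × Fin 2) :
    eJ m k x = finProdFinEquiv (x.1.1, finProdFinEquiv (x.1.2, x.2)) := rfl

lemma Gm_diag_Jn_apply {K : Type*} [CommRing K] (m k : ℕ) (x y : (Fin m × Fin k) × Fin 2) :
    Gm K m (k * 2) (Matrix.diagonal fun _ => Jn k) (eJ m k x) (eJ m k y) =
      if x.1 = y.1 then J2 x.2 y.2 else 0 := by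
  rw [Gm_diag_apply, eJ_apply, eJ_apply, Equiv.symm_apply_apply, Equiv.symm_apply_apply]
  show (if x.1.1 = y.1.1 then
    (Jn k : Matrix (Fin (k * 2)) (Fin (k * 2)) K) (finProdFinEquiv (x.1.2, x.2))
      (finProdFinEquiv (y.1.2, y.2)) else 0) = _
  have hJ : (Jn k : Matrix (Fin (k * 2)) (Fin (k * 2)) K) (finProdFinEquiv (x.1.2, x.2))
      (finProdFinEquiv (y.1.2, y.2)) = if x.1.2 = y.1.2 then J2 x.2 y.2 else 0 := by
    rw [Jn, Matrix.reindex_apply, Matrix.submatrix_apply, Equiv.symm_apply_apply,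
      Equiv.symm_apply_apply, Jst, Matrix.of_apply]
  rw [hJ]
  by_cases h1 : x.1.1 = y.1.1
  · by_cases h2 : x.1.2 = y.1.2
    · rw [if_pos h1, if_pos h2, if_pos (Prod.ext h1 h2)]
    · rw [if_pos h1, if_neg h2, if_neg (fun h => h2 (congrArg Prod.snd h))]
  · rw [if_neg h1, if_neg (fun h => h1 (congrArg Prod.fst h))]

lemma Gm_diag_neg {K : Type*} [CommRing K] (m n : ℕ) (W : Matrix (Fin n) (Fin n) K)
    (p q : Fin (m * n)) :
    Gm K m n (Matrix.diagonal fun _ => -W) p q = -Gm K m n (Matrix.diagonal fun _ => W) p q := by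
  rw [Gm_diag_apply, Gm_diag_apply]
  split_ifs
  · rfl
  · rw [neg_zero]

/-- block diagonals of standard symplectic patterns of the same total size match after a
reindexing -/
theorem exists_equiv_Jn (K : Type*) [CommRing K] (k k' : ℕ) :
    ∃ e : Fin ((k' * 2) * (k * 2)) ≃ Fin ((k * 2) * (k' * 2)),
      (∀ p q, Gm K (k' * 2) (k * 2) (Matrix.diagonal fun _ => Jn k) p q =
        Gm K (k * 2) (k' * 2) (Matrix.diagonal fun _ => Jn k') (e p) (e q)) ∧
      (∀ p q, Gm K (k' * 2) (k * 2) (Matrix.diagonal fun _ => -Jn k) p q =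
        Gm K (k * 2) (k' * 2) (Matrix.diagonal fun _ => -Jn k') (e p) (e q)) := by
  let β : Fin (k' * 2) × Fin k ≃ Fin (k * 2) × Fin k' :=
    Fintype.equivOfCardEq (by
      rw [Fintype.card_prod, Fintype.card_prod, Fintype.card_fin, Fintype.card_fin,
        Fintype.card_fin, Fintype.card_fin]
      ring)
  let e : Fin ((k' * 2) * (k * 2)) ≃ Fin ((k * 2) * (k' * 2)) :=
    (eJ (k' * 2) k).symm.trans ((Equiv.prodCongr β (Equiv.refl (Fin 2))).trans (eJ (k * 2) k'))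
  have he : ∀ x, e (eJ (k' * 2) k x) = eJ (k * 2) k' (β x.1, x.2) := by
    intro x
    show eJ (k * 2) k' ((Equiv.prodCongr β (Equiv.refl (Fin 2)))
      ((eJ (k' * 2) k).symm (eJ (k' * 2) k x))) = _
    rw [Equiv.symm_apply_apply]
    rfl
  have main : ∀ p q, Gm K (k' * 2) (k * 2) (Matrix.diagonal fun _ => Jn k) p q =
      Gm K (k * 2) (k' * 2) (Matrix.diagonal fun _ => Jn k') (e p) (e q) := by
    intro p q
    obtain ⟨x, rfl⟩ := (eJ (k' * 2) k).surjective p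
    obtain ⟨y, rfl⟩ := (eJ (k' * 2) k).surjective q
    rw [he, he, Gm_diag_Jn_apply, Gm_diag_Jn_apply]
    by_cases h : x.1 = y.1
    · rw [if_pos h, if_pos (by rw [h])]
    · rw [if_neg h, if_neg (fun h' => h (β.injective h'))]
  refine ⟨e, main, ?_⟩
  intro p q
  rw [Gm_diag_neg, Gm_diag_neg, main]

end Groth.Agent.Lib.Helper3.MatIsoAt
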