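import Groth.Agent.Lib.Helper3.EndIso
import Mathlib.LinearAlgebra.Matrix.ToLin
import Mathlib.LinearAlgebra.TensorProduct.Pi
import Mathlib.LinearAlgebra.Matrix.GeneralLinearGroup.Defs

/-!
# Automorphisms of matrix algebras and `Pic_n` (helper3)
-/
set_option autoImplicit false
universe u
open TensorProduct
open Groth.Agent.Lib.Helper3.EndIso

namespace Groth.Agent.Lib.Helper3.MatAut

variable {R : Type u} [CommRing R]

/-- Lemma A: an `End F`-linear isomorphism `F ⊗ N ≃ F` (F = R^n, n ≥ 1) forces `N ≃ R`. -/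
theorem linearEquiv_of_endLinear {n : ℕ} (hn : 1 ≤ n) [Nontrivial R] (N : Type*) [AddCommGroup N] [Module R N]
    (e₂ : (Fin n → R) ⊗[R] N ≃ₗ[R] (Fin n → R))
    (he₂ : ∀ (f : Module.End R (Fin n → R)) (x : Fin n → R) (ν : N),
      e₂ ((f x) ⊗ₜ ν) = f (e₂ (x ⊗ₜ ν))) :
    Nonempty (N ≃ₗ[R] R) := by
  classical
  let i0 : Fin n := ⟨0, hn⟩
  -- λ
  let lam : N →ₗ[R] R :=
    (LinearMap.proj i0) ∘ₗ e₂.toLinearMap ∘ₗ (TensorProduct.mk R (Fin n → R) N (Pi.single i0 1))
  have hlam : ∀ ν, lam ν = e₂ ((Pi.single i0 1) ⊗ₜ ν) i0 := fun ν => rfl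
  have key : ∀ (x : Fin n → R) (ν : N), e₂ (x ⊗ₜ ν) = lam ν • x := by
    intro x ν
    -- f_x : y ↦ y i0 • x
    have h := he₂ ((LinearMap.proj i0 : (Fin n → R) →ₗ[R] R).smulRight x) (Pi.single i0 1) ν
    rw [LinearMap.smulRight_apply, LinearMap.smulRight_apply] at h
    simp only [LinearMap.proj_apply, Pi.single_eq_same, one_smul] at h
    rw [h, hlam]
  have hcomp : ∀ z, e₂ z = TensorProduct.rid R (Fin n → R) (lam.lTensor (Fin n → R) z) := by
    intro z
    induction z with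
    | zero => simp
    | tmul x ν => rw [key, LinearMap.lTensor_tmul, TensorProduct.rid_tmul]
    | add a b ha hb => rw [map_add, ha, hb, map_add, map_add]
  have hbij : Function.Bijective (lam.lTensor (Fin n → R)) := by
    have : (lam.lTensor (Fin n → R) : _ → _) = (TensorProduct.rid R (Fin n → R)).symm ∘ e₂ := by
      funext z
      simp [hcomp]
    rw [this]
    exact (LinearEquiv.bijective _).comp e₂.bijective
  haveI : Nonempty (Fin n) := ⟨i0⟩
  haveI : Nontrivial (Fin n → R) := inferInstance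
  have h := @Module.FaithfullyFlat.lTensor_bijective_iff_bijective R (Fin n → R) _ _ _
      N R _ _ _ _ lam _
  exact ⟨LinearEquiv.ofBijective lam (h.mp hbij)⟩

end Groth.Agent.Lib.Helper3.MatAut

namespace Groth.Agent.Lib.Helper3.MatAut

variable {R : Type u} [CommRing R]

/-- the algebra automorphism of `End F` attached to `e' : F ⊗ N ≃ F` for invertible `N`. -/
noncomputable def autOf {F : Type*} [AddCommGroup F] [Module R F] (N : Type*) [AddCommGroup N] [Module R N]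
    [Module.Invertible R N] (e' : F ⊗[R] N ≃ₗ[R] F) : Module.End R F ≃ₐ[R] Module.End R F :=
  AlgEquiv.ofBijective
    (AlgHom.ofLinearMap ((e'.conj : Module.End R (F ⊗[R] N) ≃ₗ[R] Module.End R F).toLinearMap ∘ₗ
        (LinearMap.rTensorHom N : (F →ₗ[R] F) →ₗ[R] (F ⊗[R] N →ₗ[R] F ⊗[R] N)))
      (by
        simp only [LinearMap.comp_apply, LinearMap.coe_rTensorHom]
        rw [Module.End.one_eq_id, LinearMap.rTensor_id]
        ext x
        simp [LinearEquiv.conj_apply])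
      (by
        intro f g
        simp only [LinearMap.comp_apply, LinearMap.coe_rTensorHom, LinearEquiv.coe_coe]
        rw [Module.End.mul_eq_comp, LinearMap.rTensor_comp]
        ext x
        simp [LinearEquiv.conj_apply]))
    (by
      have h1 : Function.Bijective (LinearMap.rTensorHom N :
          (F →ₗ[R] F) →ₗ[R] (F ⊗[R] N →ₗ[R] F ⊗[R] N)) :=
        (Module.Invertible.rTensorEquiv F F (TensorProduct.comm R N (Module.Dual R N) ≪≫ₗ
          Module.Invertible.linearEquiv R N)).bijective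
      exact (e'.conj : Module.End R (F ⊗[R] N) ≃ₗ[R] Module.End R F).bijective.comp h1)

lemma autOf_apply {F : Type*} [AddCommGroup F] [Module R F] (N : Type*) [AddCommGroup N] [Module R N]
    [Module.Invertible R N] (e' : F ⊗[R] N ≃ₗ[R] F) (f : Module.End R F) (z : F ⊗[R] N) :
    autOf N e' f (e' z) = e' (f.rTensor N z) := by
  show (e'.conj (f.rTensor N)) (e' z) = _
  rw [LinearEquiv.conj_apply_apply, LinearEquiv.symm_apply_apply]

end Groth.Agent.Lib.Helper3.MatAut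

namespace Groth.Agent.Lib.Helper3.MatAut

variable {R : Type u} [CommRing R]

theorem inner_imp_free (n : ℕ) (hn : 1 ≤ n) [Nontrivial R]
    (H : ∀ φ : Matrix (Fin n) (Fin n) R ≃ₐ[R] Matrix (Fin n) (Fin n) R,
        ∃ P : GL (Fin n) R, ∀ A : Matrix (Fin n) (Fin n) R, φ A = P.1 * A * (P⁻¹).1)
    (N : Type u) [AddCommGroup N] [Module R N] [Module.Invertible R N]
    (e : (Fin n → N) ≃ₗ[R] (Fin n → R)) : Module.Free R N := by
  classical
  let e' : (Fin n → R) ⊗[R] N ≃ₗ[R] (Fin n → R) :=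
    TensorProduct.comm R (Fin n → R) N ≪≫ₗ TensorProduct.piScalarRight R R N (Fin n) ≪≫ₗ e
  let φE := autOf N e'
  let φM : Matrix (Fin n) (Fin n) R ≃ₐ[R] Matrix (Fin n) (Fin n) R :=
    Matrix.toLinAlgEquiv'.trans (φE.trans Matrix.toLinAlgEquiv'.symm)
  obtain ⟨P, hP⟩ := H φM
  let p : Module.End R (Fin n → R) := Matrix.toLinAlgEquiv' P.1
  let q : Module.End R (Fin n → R) := Matrix.toLinAlgEquiv' (P⁻¹).1
  have hpq : p * q = 1 := by
    show Matrix.toLinAlgEquiv' P.1 * Matrix.toLinAlgEquiv' (P⁻¹).1 = 1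
    rw [← map_mul, ← Units.val_mul, mul_inv_cancel, Units.val_one, map_one]
  have hqp : q * p = 1 := by
    show Matrix.toLinAlgEquiv' (P⁻¹).1 * Matrix.toLinAlgEquiv' P.1 = 1
    rw [← map_mul, ← Units.val_mul, inv_mul_cancel, Units.val_one, map_one]
  have hφE : ∀ f : Module.End R (Fin n → R), φE f = p * f * q := by
    intro f
    have h1 := hP (Matrix.toLinAlgEquiv'.symm f)
    have h2 : φM (Matrix.toLinAlgEquiv'.symm f) = Matrix.toLinAlgEquiv'.symm (φE f) := by
      simp [φM]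
    rw [h2] at h1
    have h3 := congrArg Matrix.toLinAlgEquiv' h1
    rw [AlgEquiv.apply_symm_apply, map_mul, map_mul, AlgEquiv.apply_symm_apply] at h3
    exact h3
  have hqp' : ∀ y, q (p y) = y := fun y => by
    rw [← Module.End.mul_apply, hqp]; rfl
  have hpq' : ∀ y, p (q y) = y := fun y => by
    rw [← Module.End.mul_apply, hpq]; rfl
  let pe : (Fin n → R) ≃ₗ[R] (Fin n → R) :=
    LinearEquiv.ofLinearMap q p (LinearMap.ext hqp') (LinearMap.ext hpq')
  let e₂ : (Fin n → R) ⊗[R] N ≃ₗ[R] (Fin n → R) := e' ≪≫ₗ pe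
  have he₂ : ∀ (f : Module.End R (Fin n → R)) (x : Fin n → R) (ν : N),
      e₂ ((f x) ⊗ₜ ν) = f (e₂ (x ⊗ₜ ν)) := by
    intro f x ν
    show q (e' ((f x) ⊗ₜ ν)) = f (q (e' (x ⊗ₜ ν)))
    have h1 : e' ((f x) ⊗ₜ ν) = φE f (e' (x ⊗ₜ ν)) := by
      rw [autOf_apply, LinearMap.rTensor_tmul]
    rw [h1, hφE]
    show q (p (f (q _))) = _
    rw [hqp']
  obtain ⟨g⟩ := linearEquiv_of_endLinear hn N e₂ he₂
  exact Module.Free.of_equiv g.symm

end Groth.Agent.Lib.Helper3.MatAut

namespace Groth.Agent.Lib.Helper3.MatAut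

variable {R : Type u} [CommRing R]

theorem free_imp_inner (n : ℕ) (hn : 1 ≤ n) [Nontrivial R]
    (H : ∀ (N : Type u) [AddCommGroup N] [Module R N] [Module.Invertible R N],
        Nonempty ((Fin n → N) ≃ₗ[R] (Fin n → R)) → Module.Free R N)
    (φ : Matrix (Fin n) (Fin n) R ≃ₐ[R] Matrix (Fin n) (Fin n) R) :
    ∃ P : GL (Fin n) R, ∀ A : Matrix (Fin n) (Fin n) R, φ A = P.1 * A * (P⁻¹).1 := by
  classical
  let φE : Module.End R (Fin n → R) ≃ₐ[R] Module.End R (Fin n → R) :=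
    Matrix.toLinAlgEquiv'.symm.trans (φ.trans Matrix.toLinAlgEquiv')
  haveI : Nonempty (Fin n) := ⟨⟨0, hn⟩⟩
  haveI : Module.Invertible R (Lmod φE) := invertible_Lmod φE
  have hfree : Module.Free R (Lmod φE) :=
    H (Lmod φE) ⟨(TensorProduct.piScalarRight R R (Lmod φE) (Fin n)).symm ≪≫ₗ
      TensorProduct.comm R (Lmod φE) (Fin n → R) ≪≫ₗ xiEquiv φE⟩
  obtain ⟨g⟩ := Module.Invertible.free_iff_linearEquiv.mp hfree
  set θ : Lmod φE := g.symm 1 with hθ
  have hgθ : g θ = 1 := by rw [hθ, LinearEquiv.apply_symm_apply]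
  have hall : ∀ ℓ : Lmod φE, ℓ = g ℓ • θ := by
    intro ℓ
    apply g.injective
    rw [map_smul, hgθ, smul_eq_mul, mul_one]
  -- every tensor is x ⊗ θ
  have hten : ∀ z : (Fin n → R) ⊗[R] (Lmod φE), ∃ x, z = x ⊗ₜ θ := by
    intro z
    induction z with
    | zero => exact ⟨0, by simp⟩
    | tmul x ℓ =>
      refine ⟨g ℓ • x, ?_⟩
      conv_lhs => rw [hall ℓ]
      rw [TensorProduct.smul_tmul]
    | add a b ha hb =>
      obtain ⟨x, rfl⟩ := ha
      obtain ⟨y, rfl⟩ := hb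
      exact ⟨x + y, by rw [TensorProduct.add_tmul]⟩
  have hsurj : Function.Surjective (θ : (Fin n → R) →ₗ[R] (Fin n → R)) := by
    intro y
    obtain ⟨z, rfl⟩ := (xiEquiv φE).surjective y
    obtain ⟨x, rfl⟩ := hten z
    exact ⟨x, (xiEquiv_tmul φE x θ).symm⟩
  have hinj : Function.Injective (θ : (Fin n → R) →ₗ[R] (Fin n → R)) := by
    rw [injective_iff_map_eq_zero]
    intro x hx
    have h1 : xiEquiv φE (x ⊗ₜ θ) = 0 := by rw [xiEquiv_tmul]; exact hx
    have h2 : (x ⊗ₜ[R] θ : (Fin n → R) ⊗[R] (Lmod φE)) = 0 := by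
      apply (xiEquiv φE).injective
      rw [h1, map_zero]
    have h3 := congrArg (fun z => TensorProduct.rid R (Fin n → R)
      ((g.toLinearMap).lTensor (Fin n → R) z)) h2
    simp only [LinearMap.lTensor_tmul, LinearEquiv.coe_coe, hgθ, TensorProduct.rid_tmul, one_smul,
      map_zero] at h3
    exact h3
  let θe : (Fin n → R) ≃ₗ[R] (Fin n → R) := LinearEquiv.ofBijective _ ⟨hinj, hsurj⟩
  let P : Matrix (Fin n) (Fin n) R := LinearMap.toMatrixAlgEquiv' (θe : (Fin n → R) →ₗ[R] (Fin n → R))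
  let Q : Matrix (Fin n) (Fin n) R :=
    LinearMap.toMatrixAlgEquiv' (θe.symm : (Fin n → R) →ₗ[R] (Fin n → R))
  have hPQ : P * Q = 1 := by
    show LinearMap.toMatrixAlgEquiv' _ * LinearMap.toMatrixAlgEquiv' _ = 1
    rw [← map_mul]
    have : ((θe : (Fin n → R) →ₗ[R] (Fin n → R)) * (θe.symm : (Fin n → R) →ₗ[R] (Fin n → R))) = 1 := by
      ext x
      simp
    rw [this, map_one]
  have hQP : Q * P = 1 := by
    show LinearMap.toMatrixAlgEquiv' _ * LinearMap.toMatrixAlgEquiv' _ = 1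
    rw [← map_mul]
    have : ((θe.symm : (Fin n → R) →ₗ[R] (Fin n → R)) * (θe : (Fin n → R) →ₗ[R] (Fin n → R))) = 1 := by
      ext x
      simp
    rw [this, map_one]
  refine ⟨⟨P, Q, hPQ, hQP⟩, ?_⟩
  intro A
  show φ A = P * A * Q
  -- θ ∘ f = φE f ∘ θ
  have hθf := θ.2 (Matrix.toLinAlgEquiv' A)
  have hφE : φE (Matrix.toLinAlgEquiv' A) = Matrix.toLinAlgEquiv' (φ A) := by
    simp [φE]
  rw [hφE] at hθf
  -- apply toMatrix
  have h4 : Matrix.toLinAlgEquiv' (φ A) =
      (θe : (Fin n → R) →ₗ[R] (Fin n → R)) * Matrix.toLinAlgEquiv' A *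
        (θe.symm : (Fin n → R) →ₗ[R] (Fin n → R)) := by
    apply LinearMap.ext
    intro x
    rw [Module.End.mul_apply, Module.End.mul_apply]
    have := LinearMap.congr_fun hθf (θe.symm x)
    simp only [LinearMap.comp_apply] at this
    have hx : (θ : (Fin n → R) →ₗ[R] (Fin n → R)) (θe.symm x) = x := θe.apply_symm_apply x
    rw [hx] at this
    rw [← this]
    rfl
  have h5 := congrArg LinearMap.toMatrixAlgEquiv' h4
  rw [LinearMap.toMatrixAlgEquiv'_toLinAlgEquiv', map_mul, map_mul,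
    LinearMap.toMatrixAlgEquiv'_toLinAlgEquiv'] at h5
  exact h5

end Groth.Agent.Lib.Helper3.MatAut
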