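import Groth.Agent.Lib.Helper3.SepGen
import Groth.Agent.Lib.Helper3.AzSplit
import Groth.Agent.Lib.Helper3.EtaleRoot
import Groth.Agent.Lib.Helper3.RedCharpoly
import Groth.Agent.S5719

/-!
# Maximal étale subalgebras of Azumaya algebras over local rings (helper3)

`exists_monic_aeval`: reduced characteristic polynomial killing an element;
`main`: over a local ring `R`, an Azumaya algebra of rank `r²` contains `R[X]/(Q) → A` with `Q`
monic of degree `r`, `R[X]/(Q)` étale, injective on the special fibre.
-/

set_option autoImplicit false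
universe u v
open TensorProduct Polynomial
open Groth.Agent.Lib.Helper3

namespace Groth.Agent.Lib.Helper3.MaxEtale

/-- every element of an Azumaya algebra of constant rank `r²` is killed by a monic polynomial of
degree `r` (its reduced characteristic polynomial) -/
theorem exists_monic_aeval (R : Type u) [CommRing R] [Nontrivial R] (A : Type u) [Ring A]
    [Algebra R A] [IsAzumaya R A] (r : ℕ)
    (hrank : ∀ p : PrimeSpectrum R, Module.rankAtStalk A p = r ^ 2) (ξ : A) :
    ∃ p : R[X], p.Monic ∧ p.natDegree = r ∧ aeval ξ p = 0 := by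
  obtain ⟨S, _, _, hFF, ⟨φ⟩⟩ := AzSplit.exists_faithfullyFlat_split R A r hrank
  obtain ⟨p, hp⟩ := RedChar.exists_redCharpoly φ ξ
  have hinj : Function.Injective (algebraMap R S) := FaithfulSMul.algebraMap_injective R S
  have hmonic : p.Monic := by
    apply Polynomial.monic_of_injective hinj
    rw [hp]
    exact Matrix.charpoly_monic _
  have hdeg : p.natDegree = r := by
    rw [← Polynomial.natDegree_map_eq_of_injective hinj, hp]
    rcases subsingleton_or_nontrivial S with hS | hS
    · have : Subsingleton R := hinj.subsingleton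
      exact absurd (inferInstance : Nontrivial R) (not_nontrivial_iff_subsingleton.mpr this)
    · rw [Matrix.charpoly_natDegree_eq_dim, Fintype.card_fin]
  exact ⟨p, hmonic, hdeg, RedChar.aeval_redCharpoly φ ξ p hp⟩

theorem main (R : Type u) [CommRing R] [IsLocalRing R] (A : Type u) [Ring A] [Algebra R A]
    [IsAzumaya R A] (r : ℕ) (hA : Module.finrank R A = r ^ 2) :
    ∃ (Q : R[X]) (x : A) (hx : aeval x Q = 0), Q.Monic ∧ Q.natDegree = r ∧
      Algebra.Etale R (AdjoinRoot Q) ∧
      Function.Injective ((SepGen.liftNC Q x hx).toLinearMap.lTensor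
        (IsLocalRing.ResidueField R)) := by
  classical
  set k := IsLocalRing.ResidueField R with hk
  haveI : Module.Free R A := Module.free_of_flat_of_isLocalRing
  haveI : IsAzumaya k (k ⊗[R] A) := Az.isAzumaya_baseChange R k A
  haveI : IsSimpleRing (k ⊗[R] A) := Groth.Agent.S5719.isSimpleRing_of_isAzumaya_field k _
  have hdim : Module.finrank k (k ⊗[R] A) = r ^ 2 := by rw [Module.finrank_baseChange, hA]
  obtain ⟨xb, Pb, hPm, hPs, hPd, hPx, hPmin⟩ := SepGen.exists_isSepGen k (k ⊗[R] A) r hdim
  obtain ⟨x, hx⟩ := TensorProduct.mk_surjective R A k IsLocalRing.residue_surjective xb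
  have hrank : ∀ p : PrimeSpectrum R, Module.rankAtStalk A p = r ^ 2 := by
    intro p
    rw [Module.rankAtStalk_eq_finrank_of_free, Pi.natCast_apply, hA]
    rfl
  obtain ⟨Q, hQm, hQd, hQx⟩ := exists_monic_aeval R A r hrank x
  -- the reduction of `Q` is `Pb`
  have hxb : xb = (Algebra.TensorProduct.includeRight : A →ₐ[R] k ⊗[R] A) x := hx.symm
  have hQb : aeval xb (Q.map (algebraMap R k)) = 0 := by
    rw [aeval_map_algebraMap, hxb, aeval_algHom_apply, hQx, map_zero]
  have hQP : Q.map (algebraMap R k) = Pb := by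
    have hdvd := hPmin _ hQb
    apply Polynomial.eq_of_monic_of_dvd_of_natDegree_le hPm (hQm.map _) hdvd
    rw [hQm.natDegree_map, hQd, hPd]
  -- étale
  have hsep : (Q.map (algebraMap R k)).Separable := by rw [hQP]; exact hPs
  obtain ⟨f, hf, hdvd⟩ := EtaleRoot.exists_dvd_derivative Q (K := k) hQm hsep
  have hfu : IsUnit f := by
    by_contra hnu
    apply hf
    exact (IsLocalRing.residue_eq_zero_iff f).mpr ((IsLocalRing.mem_maximalIdeal f).mpr hnu)
  have hunit : IsUnit (aeval (AdjoinRoot.root Q) (derivative Q)) :=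
    isUnit_of_dvd_unit hdvd (hfu.map _)
  refine ⟨Q, x, hQx, hQm, hQd, EtaleRoot.etale_adjoinRoot Q hQm hunit, ?_⟩
  -- injectivity on the special fibre
  set u := SepGen.liftNC Q x hQx with hu
  have hbc : (u.toLinearMap.lTensor k : k ⊗[R] AdjoinRoot Q → k ⊗[R] A) =
      (u.toLinearMap.baseChange k) := (LinearMap.baseChange_eq_ltensor _).symm
  rw [hbc]
  let b := (AdjoinRoot.powerBasis' hQm).basis.baseChange k
  apply LinearMap.injective_of_linearIndependent (v := b) b.span_eq
  -- the images are the powers of `xb`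
  have hdimQ : (AdjoinRoot.powerBasis' hQm).dim = r := by rw [AdjoinRoot.powerBasis'_dim, hQd]
  have himg : (u.toLinearMap.baseChange k) ∘ b =
      (fun i : Fin r => xb ^ (i : ℕ)) ∘ Fin.cast hdimQ := by
    ext1 i
    simp only [Function.comp_apply, b, Module.Basis.baseChange_apply, LinearMap.baseChange_tmul,
      PowerBasis.coe_basis, AdjoinRoot.powerBasis'_gen, AlgHom.toLinearMap_apply, map_pow,
      Fin.val_cast]
    have : u (AdjoinRoot.root Q) = x := by
      rw [hu, ← AdjoinRoot.mk_X, SepGen.liftNC_mk, aeval_X]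
    rw [this, hxb]
    change _ = ((1 : k) ⊗ₜ[R] x) ^ (i : ℕ)
    rw [Algebra.TensorProduct.tmul_pow, one_pow]
  rw [himg]
  refine LinearIndependent.comp ?_ _ (Fin.cast_injective _)
  -- linear independence of the powers of `xb`
  rw [Fintype.linearIndependent_iff]
  intro a ha i
  let g : k[X] := ∑ j : Fin r, C (a j) * X ^ (j : ℕ)
  have hg : aeval xb g = 0 := by
    rw [← ha]
    simp only [g, map_sum, map_mul, aeval_C, map_pow, aeval_X, Algebra.smul_def]
    rfl
  have hgd : g.degree < (r : WithBot ℕ) := by
    apply lt_of_le_of_lt (Polynomial.degree_sum_le _ _)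
    refine (Finset.sup_lt_iff (WithBot.bot_lt_coe r)).mpr ?_
    intro j _
    apply lt_of_le_of_lt (Polynomial.degree_C_mul_X_pow_le _ _)
    exact WithBot.coe_lt_coe.mpr j.2
  have hg0 : g = 0 := by
    by_contra hne
    have h1 := Polynomial.degree_le_of_dvd (hPmin g hg) hne
    rw [Polynomial.degree_eq_natDegree hPm.ne_zero, hPd] at h1
    exact absurd (lt_of_le_of_lt h1 hgd) (lt_irrefl _)
  have hc : g.coeff (i : ℕ) = a i := by
    simp only [g, Polynomial.finsetSum_coeff, Polynomial.coeff_C_mul_X_pow]
    rw [Finset.sum_eq_single i]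
    · simp
    · intro j _ hji
      rw [if_neg]
      intro h
      exact hji (Fin.ext h.symm)
    · intro h; exact absurd (Finset.mem_univ _) h
  rw [← hc, hg0, Polynomial.coeff_zero]

end Groth.Agent.Lib.Helper3.MaxEtale
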