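import Groth.Prelude.Def_EtMil
import Groth.Agent.Lib.Helper63.Milnor
import Mathlib.LinearAlgebra.TensorProduct.Tower
import Mathlib.LinearAlgebra.TensorProduct.RightExactness
import Mathlib.RingTheory.TensorProduct.IsBaseChangeHom
import Mathlib.Algebra.Exact.Basic

/-!
# Milnor patching: base change of the glued module (helper3)

For a fibre square `B' = B ×_A A'` with `A' → A` surjective, and `(N, M', φ)` a glueing datum,
`G = EtMil.glue B' φ`, the canonical maps `B ⊗[B'] G → N` and `A' ⊗[B'] G → M'` are bijective.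
-/

set_option autoImplicit false
set_option linter.unusedSectionVars false
universe u
open TensorProduct

namespace Groth.Agent.Lib.Helper3.MilnorGlue

open Groth.Agent.Lib.Helper63

/-- Over a surjective ring map every element of the base change is `1 ⊗ m`. -/
theorem exists_one_tmul {R S M : Type*} [CommRing R] [CommRing S] [Algebra R S] [AddCommGroup M]
    [Module R M] (hs : Function.Surjective (algebraMap R S)) (z : S ⊗[R] M) :
    ∃ m : M, z = (1 : S) ⊗ₜ[R] m := by
  induction z with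
  | zero => exact ⟨0, by simp⟩
  | tmul a m =>
    obtain ⟨a', rfl⟩ := hs a
    refine ⟨a' • m, ?_⟩
    rw [← TensorProduct.smul_tmul, Algebra.smul_def, mul_one]
  | add x y hx hy =>
    obtain ⟨a, rfl⟩ := hx
    obtain ⟨b, rfl⟩ := hy
    exact ⟨a + b, by rw [TensorProduct.tmul_add]⟩

theorem one_tmul_eq_zero_of_mem_smul_top {R S M : Type*} [CommRing R] [CommRing S] [Algebra R S]
    [AddCommGroup M] [Module R M] (m : M)
    (hm : m ∈ (RingHom.ker (algebraMap R S)) • (⊤ : Submodule R M)) :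
    ((1 : S) ⊗ₜ[R] m : S ⊗[R] M) = 0 := by
  refine Submodule.smul_induction_on hm ?_ ?_
  · intro i hi x _
    rw [← TensorProduct.smul_tmul, Algebra.smul_def, mul_one, (RingHom.mem_ker).1 hi,
      TensorProduct.zero_tmul]
  · intro x y hx hy
    rw [TensorProduct.tmul_add, hx, hy, add_zero]

variable {B' B A' A : Type u} [CommRing B'] [CommRing B] [CommRing A'] [CommRing A]
  [Algebra B' B] [Algebra B' A'] [Algebra B A] [Algebra A' A] [Algebra B' A]
  [IsScalarTower B' B A] [IsScalarTower B' A' A]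
  {N M' : Type u} [AddCommGroup N] [Module B N] [Module B' N] [IsScalarTower B' B N]
  [AddCommGroup M'] [Module A' M'] [Module B' M'] [IsScalarTower B' A' M']

theorem exists_snd (hsq : EtMil.IsFibreSquare B' B A' A) (φ : A ⊗[B] N ≃ₗ[A] A ⊗[A'] M') (n : N) :
    ∃ m' : M', (n, m') ∈ EtMil.glue B' φ := by
  obtain ⟨m', hm'⟩ := exists_one_tmul hsq.1 (φ ((1 : A) ⊗ₜ[B] n))
  exact ⟨m', hm'⟩

theorem zero_smul_mem (φ : A ⊗[B] N ≃ₗ[A] A ⊗[A'] M') (i : A') (hi : algebraMap A' A i = 0)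
    (m' : M') : ((0 : N), i • m') ∈ EtMil.glue B' φ := by
  show φ ((1 : A) ⊗ₜ[B] (0 : N)) = (1 : A) ⊗ₜ[A'] (i • m')
  rw [TensorProduct.tmul_zero, map_zero, ← TensorProduct.smul_tmul, Algebra.smul_def, hi, zero_mul,
    TensorProduct.zero_tmul]

theorem span_range_snd (hsq : EtMil.IsFibreSquare B' B A' A) (φ : A ⊗[B] N ≃ₗ[A] A ⊗[A'] M') :
    Submodule.span A' (Set.range (EtMil.glueSnd B' φ)) = ⊤ := by
  set T := Submodule.span A' (Set.range (EtMil.glueSnd B' φ)) with hT
  have h1 : (RingHom.ker (algebraMap A' A)) • (⊤ : Submodule A' M') ≤ T := by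
    rw [Submodule.smul_le]
    intro i hi m' _
    apply Submodule.subset_span
    exact ⟨⟨(0, i • m'), zero_smul_mem φ i hi m'⟩, rfl⟩
  have h2 : ∀ z : A ⊗[B] N, ∃ t ∈ T, φ z = (1 : A) ⊗ₜ[A'] t := by
    intro z
    induction z with
    | zero => exact ⟨0, T.zero_mem, by simp⟩
    | tmul a n =>
      obtain ⟨a', rfl⟩ := hsq.1 a
      obtain ⟨m', hm'⟩ := exists_snd hsq φ n
      have hm'' : φ ((1 : A) ⊗ₜ[B] n) = (1 : A) ⊗ₜ[A'] m' := hm'
      refine ⟨a' • m', T.smul_mem _ (Submodule.subset_span ⟨⟨(n, m'), hm'⟩, rfl⟩), ?_⟩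
      have : (algebraMap A' A a' ⊗ₜ[B] n : A ⊗[B] N) = algebraMap A' A a' • ((1 : A) ⊗ₜ[B] n) := by
        rw [TensorProduct.smul_tmul', smul_eq_mul, mul_one]
      rw [this, map_smul, hm'', TensorProduct.smul_tmul', smul_eq_mul, mul_one,
        ← TensorProduct.smul_tmul, Algebra.smul_def, mul_one]
    | add x y hx hy =>
      obtain ⟨s, hs, hxs⟩ := hx
      obtain ⟨t, ht, hyt⟩ := hy
      exact ⟨s + t, T.add_mem hs ht, by rw [map_add, hxs, hyt, TensorProduct.tmul_add]⟩
  rw [eq_top_iff]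
  intro m' _
  obtain ⟨t, ht, hφ⟩ := h2 (φ.symm ((1 : A) ⊗ₜ[A'] m'))
  rw [LinearEquiv.apply_symm_apply] at hφ
  have h0 : ((1 : A) ⊗ₜ[A'] (m' - t) : A ⊗[A'] M') = 0 := by
    rw [TensorProduct.tmul_sub, hφ, sub_self]
  have h3 := h1 (Milnor.mem_smul_top_of_tmul_eq_zero hsq.1 M' (m' - t) h0)
  have h4 := T.add_mem h3 ht
  simpa using h4

theorem liftBaseChange_snd_surjective (hsq : EtMil.IsFibreSquare B' B A' A)
    (φ : A ⊗[B] N ≃ₗ[A] A ⊗[A'] M') :
    Function.Surjective (LinearMap.liftBaseChange A' (EtMil.glueSnd B' φ)) := by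
  rw [← LinearMap.range_eq_top, eq_top_iff, ← span_range_snd hsq φ, Submodule.span_le]
  rintro _ ⟨g, rfl⟩
  exact ⟨(1 : A') ⊗ₜ[B'] g, by simp⟩

theorem liftBaseChange_fst_surjective (hsq : EtMil.IsFibreSquare B' B A' A)
    (φ : A ⊗[B] N ≃ₗ[A] A ⊗[A'] M') :
    Function.Surjective (LinearMap.liftBaseChange B (EtMil.glueFst B' φ)) := by
  intro n
  obtain ⟨m', hm'⟩ := exists_snd hsq φ n
  exact ⟨(1 : B) ⊗ₜ[B'] ⟨(n, m'), hm'⟩, by simp [EtMil.glueFst]⟩

theorem liftBaseChange_fst_injective (hsq : EtMil.IsFibreSquare B' B A' A)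
    (φ : A ⊗[B] N ≃ₗ[A] A ⊗[A'] M') :
    Function.Injective (LinearMap.liftBaseChange B (EtMil.glueFst B' φ)) := by
  rw [injective_iff_map_eq_zero]
  intro z hz
  obtain ⟨g, rfl⟩ := exists_one_tmul (Milnor.surjective_left hsq) z
  rw [LinearMap.liftBaseChange_tmul, one_smul] at hz
  have hg1 : g.1.1 = 0 := hz
  have hg2 : ((1 : A) ⊗ₜ[A'] g.1.2 : A ⊗[A'] M') = 0 := by
    have h := g.2
    have h' : φ ((1 : A) ⊗ₜ[B] g.1.1) = (1 : A) ⊗ₜ[A'] g.1.2 := h
    rw [← h', hg1, TensorProduct.tmul_zero, map_zero]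
  have hm := Milnor.mem_smul_top_of_tmul_eq_zero hsq.1 M' g.1.2 hg2
  set W : Submodule B' (N × M') :=
    ((RingHom.ker (algebraMap B' B)) • (⊤ : Submodule B' (EtMil.glue B' φ))).map
      (EtMil.glue B' φ).subtype with hW
  have key1 : ∀ m'' : M', ∀ i ∈ RingHom.ker (algebraMap A' A), ((0 : N), i • m'') ∈ W := by
    intro m''
    have hm'' : m'' ∈ Submodule.span A' (Set.range (EtMil.glueSnd B' φ)) := by
      rw [span_range_snd hsq φ]; trivial
    induction hm'' using Submodule.span_induction with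
    | mem x hx =>
      obtain ⟨g', rfl⟩ := hx
      intro i hi
      obtain ⟨i', hi'1, hi'2⟩ := Milnor.exists_of_mem_ker hsq i hi
      refine ⟨i' • g', Submodule.smul_mem_smul hi'1 trivial, ?_⟩
      refine Prod.ext ?_ ?_
      · show i' • g'.1.1 = 0
        rw [← IsScalarTower.algebraMap_smul B i' g'.1.1, hi'1, zero_smul]
      · show i' • g'.1.2 = i • g'.1.2
        rw [← IsScalarTower.algebraMap_smul A' i' g'.1.2, hi'2]
    | zero =>
      intro i _
      rw [smul_zero]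
      exact W.zero_mem
    | add x y _ _ hx hy =>
      intro i hi
      rw [smul_add]
      have := W.add_mem (hx i hi) (hy i hi)
      simpa using this
    | smul a x _ hx =>
      intro i hi
      rw [smul_smul]
      exact hx (i * a) (Ideal.mul_mem_right _ _ hi)
  have key : ∀ m' ∈ (RingHom.ker (algebraMap A' A)) • (⊤ : Submodule A' M'), ((0 : N), m') ∈ W := by
    intro m' hm'
    refine Submodule.smul_induction_on hm' ?_ ?_
    · intro i hi m'' _
      exact key1 m'' i hi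
    · intro x y hx hy
      have := W.add_mem hx hy
      simpa using this
  obtain ⟨w, hw, hwg⟩ := key _ hm
  have hwg' : w = g := by
    apply Subtype.ext
    have : (w : N × M') = (0, g.1.2) := hwg
    rw [this]
    exact Prod.ext hg1.symm rfl
  rw [← hwg']
  exact one_tmul_eq_zero_of_mem_smul_top w hw

/-- The `B'`-linear map `ker(A' → A) → B'`, `k ↦ (0, k)`. -/
noncomputable def kerLift (hsq : EtMil.IsFibreSquare B' B A' A) :
    LinearMap.ker ((IsScalarTower.toAlgHom B' A' A).toLinearMap) →ₗ[B'] B' where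
  toFun k := Milnor.lift hsq 0 k.1 (by rw [map_zero]; exact k.2.symm)
  map_add' x y := by
    apply Milnor.ext' hsq
    · rw [map_add, Milnor.lift_fst, Milnor.lift_fst, Milnor.lift_fst, add_zero]
    · rw [map_add, Milnor.lift_snd, Milnor.lift_snd, Milnor.lift_snd]; rfl
  map_smul' c x := by
    apply Milnor.ext' hsq
    · rw [RingHom.id_apply, smul_eq_mul, map_mul, Milnor.lift_fst, Milnor.lift_fst, mul_zero]
    · rw [RingHom.id_apply, smul_eq_mul, map_mul, Milnor.lift_snd, Milnor.lift_snd]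
      show ((c • x : LinearMap.ker ((IsScalarTower.toAlgHom B' A' A).toLinearMap)) : A') = _
      rw [Submodule.coe_smul, Algebra.smul_def]

theorem liftBaseChange_snd_injective (hsq : EtMil.IsFibreSquare B' B A' A)
    (φ : A ⊗[B] N ≃ₗ[A] A ⊗[A'] M') :
    Function.Injective (LinearMap.liftBaseChange A' (EtMil.glueSnd B' φ)) := by
  have hc : Function.Bijective (LinearMap.liftBaseChange B (EtMil.glueFst B' φ)) :=
    ⟨liftBaseChange_fst_injective hsq φ, liftBaseChange_fst_surjective hsq φ⟩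
  let cE : B ⊗[B'] (EtMil.glue B' φ) ≃ₗ[B] N := LinearEquiv.ofBijective _ hc
  let e1 : A ⊗[B] (B ⊗[B'] (EtMil.glue B' φ)) ≃ₗ[A] A ⊗[B'] (EtMil.glue B' φ) :=
    AlgebraTensorModule.cancelBaseChange B' B A A (EtMil.glue B' φ)
  let e2 : A ⊗[B] (B ⊗[B'] (EtMil.glue B' φ)) ≃ₗ[A] A ⊗[B] N := LinearEquiv.baseChange B A _ _ cE
  let Γ : A ⊗[B'] (EtMil.glue B' φ) ≃ₗ[A] A ⊗[A'] M' := e1.symm.trans (e2.trans φ)
  have hΓ : ∀ (a : A) (g : EtMil.glue B' φ), Γ (a ⊗ₜ[B'] g) = a ⊗ₜ[A'] (EtMil.glueSnd B' φ g) := by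
    intro a g
    show φ (e2 (e1.symm (a ⊗ₜ[B'] g))) = _
    rw [AlgebraTensorModule.cancelBaseChange_symm_tmul, LinearEquiv.baseChange_tmul]
    show φ (a ⊗ₜ[B] (LinearMap.liftBaseChange B (EtMil.glueFst B' φ) ((1 : B) ⊗ₜ[B'] g))) = _
    rw [LinearMap.liftBaseChange_tmul, one_smul]
    have h1 : (a ⊗ₜ[B] (EtMil.glueFst B' φ g) : A ⊗[B] N) = a • ((1 : A) ⊗ₜ[B] g.1.1) := by
      rw [TensorProduct.smul_tmul', smul_eq_mul, mul_one]; rfl
    have h2 : φ ((1 : A) ⊗ₜ[B] g.1.1) = (1 : A) ⊗ₜ[A'] g.1.2 := g.2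
    rw [h1, map_smul, h2, TensorProduct.smul_tmul', smul_eq_mul, mul_one]; rfl
  let tM : A' →ₗ[B'] A := (IsScalarTower.toAlgHom B' A' A).toLinearMap
  have hΓ2 : ∀ x : A' ⊗[B'] (EtMil.glue B' φ), Γ (tM.rTensor _ x) =
      (1 : A) ⊗ₜ[A'] (LinearMap.liftBaseChange A' (EtMil.glueSnd B' φ) x) := by
    intro x
    induction x with
    | zero => simp
    | tmul a' g =>
      rw [LinearMap.rTensor_tmul, hΓ, LinearMap.liftBaseChange_tmul]
      show algebraMap A' A a' ⊗ₜ[A'] _ = _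
      rw [← TensorProduct.smul_tmul, Algebra.smul_def, mul_one]
    | add x y hx hy => rw [map_add, map_add, map_add, TensorProduct.tmul_add, hx, hy]
  rw [injective_iff_map_eq_zero]
  intro x hx
  have h0 : tM.rTensor _ x = 0 := by
    apply Γ.injective
    rw [hΓ2, hx, TensorProduct.tmul_zero, map_zero]
  have hex : Function.Exact (LinearMap.ker tM).subtype tM := LinearMap.exact_subtype_ker_map tM
  have hsurj : Function.Surjective tM := hsq.1
  have hexG := rTensor_exact (EtMil.glue B' φ) hex hsurj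
  obtain ⟨y, rfl⟩ := (hexG x).1 h0
  let σ : (LinearMap.ker tM) ⊗[B'] (EtMil.glue B' φ) →ₗ[B'] (EtMil.glue B' φ) :=
    TensorProduct.lift ((LinearMap.lsmul B' (EtMil.glue B' φ)).comp (kerLift hsq))
  have hσ : ∀ y : (LinearMap.ker tM) ⊗[B'] (EtMil.glue B' φ),
      (LinearMap.ker tM).subtype.rTensor _ y = (1 : A') ⊗ₜ[B'] σ y := by
    intro y
    induction y with
    | zero => simp
    | tmul k g =>
      rw [LinearMap.rTensor_tmul]
      show (k : A') ⊗ₜ[B'] g = (1 : A') ⊗ₜ[B'] (kerLift hsq k • g)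
      rw [← TensorProduct.smul_tmul, Algebra.smul_def, mul_one]
      congr 1
      exact (Milnor.lift_snd hsq 0 k.1 (by rw [map_zero]; exact k.2.symm)).symm
    | add x y hx hy => rw [map_add, map_add, TensorProduct.tmul_add, hx, hy]
  have hσ1 : ∀ y : (LinearMap.ker tM) ⊗[B'] (EtMil.glue B' φ), (σ y).1.1 = 0 := by
    intro y
    induction y with
    | zero => simp
    | tmul k g =>
      show kerLift hsq k • g.1.1 = 0
      rw [← IsScalarTower.algebraMap_smul B (kerLift hsq k) g.1.1]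
      have : algebraMap B' B (kerLift hsq k) = 0 :=
        Milnor.lift_fst hsq 0 k.1 (by rw [map_zero]; exact k.2.symm)
      rw [this, zero_smul]
    | add x y hx hy =>
      rw [map_add]
      show (σ x).1.1 + (σ y).1.1 = 0
      rw [hx, hy, add_zero]
  rw [hσ y] at hx ⊢
  rw [LinearMap.liftBaseChange_tmul, one_smul] at hx
  have : σ y = 0 := Subtype.ext (Prod.ext (hσ1 y) hx)
  rw [this, TensorProduct.tmul_zero]

theorem liftBaseChange_fst_bijective (hsq : EtMil.IsFibreSquare B' B A' A)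
    (φ : A ⊗[B] N ≃ₗ[A] A ⊗[A'] M') :
    Function.Bijective (LinearMap.liftBaseChange B (EtMil.glueFst B' φ)) :=
  ⟨liftBaseChange_fst_injective hsq φ, liftBaseChange_fst_surjective hsq φ⟩

theorem liftBaseChange_snd_bijective (hsq : EtMil.IsFibreSquare B' B A' A)
    (φ : A ⊗[B] N ≃ₗ[A] A ⊗[A'] M') :
    Function.Bijective (LinearMap.liftBaseChange A' (EtMil.glueSnd B' φ)) :=
  ⟨liftBaseChange_snd_injective hsq φ, liftBaseChange_snd_surjective hsq φ⟩

end Groth.Agent.Lib.Helper3.MilnorGlue
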