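import Mathlib.Order.WellFounded
import Groth.Agent.Lib.Helper3.CornerAz
import Groth.Agent.Lib.Helper3.ConnProj

/-!
# Every Brauer class over a connected ring is represented by an algebra with trivial idempotents (helper3)

Take a non-zero idempotent `e` of `A` with `rank(eAe)` minimal; `B = eAe` is Azumaya with only trivial
idempotents and `A ⊗ End(B) ≃ B ⊗ End(Ae)`.
-/

set_option autoImplicit false
universe u v
open scoped TensorProduct

namespace Groth.Agent.Lib.Helper3.MinIdem

open Groth.Agent.Lib.Helper3.CornerAz Groth.Agent.Lib.Helper3.ConnProj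

section Pe

variable (R : Type*) [CommRing R] {A : Type*} [Ring A] [Algebra R A]

/-- `x ↦ e x e` -/
def Pe (e : A) : Module.End R A := LinearMap.mulLeft R e * LinearMap.mulRight R e

@[simp] lemma Pe_apply (e x : A) : Pe R e x = e * (x * e) := rfl

variable {R}

lemma Pe_idem {e : A} (he : IsIdempotentElem e) : IsIdempotentElem (Pe R e) := by
  ext x
  simp only [Module.End.mul_apply, Pe_apply]
  calc e * (e * (x * e) * e) = (e * e) * x * (e * e) := by simp only [mul_assoc]
    _ = e * (x * e) := by rw [he.eq, mul_assoc]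

lemma Pe_mul_Pe {e f : A} (h1 : e * f = f) (h2 : f * e = f) :
    Pe R f * Pe R e = Pe R f ∧ Pe R e * Pe R f = Pe R f := by
  constructor
  · ext x
    simp only [Module.End.mul_apply, Pe_apply]
    calc f * (e * (x * e) * f) = (f * e) * x * (e * f) := by simp only [mul_assoc]
      _ = f * (x * f) := by rw [h1, h2, mul_assoc]
  · ext x
    simp only [Module.End.mul_apply, Pe_apply]
    calc e * (f * (x * f) * e) = (e * f) * x * (f * e) := by simp only [mul_assoc]
      _ = f * (x * f) := by rw [h1, h2, mul_assoc]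

end Pe

theorem main {R : Type u} [CommRing R] [ConnectedSpace (PrimeSpectrum R)] (A : Type u) [Ring A]
    [Algebra R A] [IsAzumaya R A] :
    ∃ (B : Type u) (_ : Ring B) (_ : Algebra R B) (_ : IsAzumaya R B) (P Q : Type u) (_ : AddCommGroup P)
      (_ : Module R P) (_ : AddCommGroup Q) (_ : Module R Q),
      (∀ b : B, IsIdempotentElem b → b = 0 ∨ b = 1) ∧ Module.Finite R P ∧ Module.Projective R P ∧
      FaithfulSMul R P ∧ Module.Finite R Q ∧ Module.Projective R Q ∧ FaithfulSMul R Q ∧
      Nonempty (A ⊗[R] Module.End R P ≃ₐ[R] B ⊗[R] Module.End R Q) := by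
  classical
  haveI : Module.Finite R A := IsAzumaya.toFinite
  haveI : Module.Projective R A := IsAzumaya.toProjective
  haveI : FaithfulSMul R A := IsAzumaya.toFaithfulSMul
  obtain ⟨p₀⟩ := (inferInstance : Nonempty (PrimeSpectrum R))
  haveI : Nontrivial R := ⟨⟨0, 1, fun h => p₀.isPrime.ne_top ((Ideal.eq_top_iff_one _).mpr
    (h ▸ p₀.asIdeal.zero_mem))⟩⟩
  have h1A : (1 : A) ≠ 0 := by
    intro h
    have : (1 : R) = 0 := FaithfulSMul.eq_of_smul_eq_smul (α := A) (fun a => by
      rw [one_smul, zero_smul, ← mul_one a, h, mul_zero])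
    exact one_ne_zero this
  let n : A → ℕ := fun e => Module.rankAtStalk (LinearMap.range (Pe R e)) p₀
  obtain ⟨e, ⟨he, he0⟩, hmin⟩ := WellFounded.has_min (measure n).wf
    {e : A | IsIdempotentElem e ∧ e ≠ 0} ⟨1, IsIdempotentElem.one, h1A⟩
  haveI : Nontrivial he.Corner := ⟨⟨1, 0, fun h => he0 (congrArg (val he) h)⟩⟩
  have hfaith : ∀ r : R, r • e = 0 → r = 0 := by
    intro r hr
    apply eq_zero_of_smul_eq_zero he.Corner r
    intro b
    apply val_injective he
    rw [val_smul, val_zero, ← e_mul he b, ← smul_mul_assoc, hr, zero_mul]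
  haveI hAz : IsAzumaya R he.Corner := isAzumaya_corner he hfaith
  -- trivial idempotents
  have htriv : ∀ b : he.Corner, IsIdempotentElem b → b = 0 ∨ b = 1 := by
    intro b hb
    by_cases hb0 : b = 0
    · exact Or.inl hb0
    right
    set f := val he b with hf
    have hfi : IsIdempotentElem f := by
      have := congrArg (val he) hb.eq
      rwa [val_mul] at this
    have hf0 : f ≠ 0 := fun h => hb0 (val_injective he (by rw [← hf, h, val_zero]))
    have hef : e * f = f := e_mul he b
    have hfe : f * e = f := mul_e he b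
    have hq := Pe_idem (R := R) he
    have hq' := Pe_idem (R := R) hfi
    obtain ⟨h1, h2⟩ := Pe_mul_Pe (R := R) hef hfe
    have hq'' : IsIdempotentElem (Pe R e - Pe R f) := by
      change (Pe R e - Pe R f) * (Pe R e - Pe R f) = Pe R e - Pe R f
      rw [mul_sub, sub_mul, sub_mul, hq.eq, hq'.eq, h1, h2]
      abel
    haveI : Fact (IsIdempotentElem (Pe R f)) := ⟨hq'⟩
    haveI : Fact (IsIdempotentElem (Pe R e - Pe R f)) := ⟨hq''⟩
    have E := rangeEquivProd hq hq' h1 h2
    have hrank : n e = n f + Module.rankAtStalk (LinearMap.range (Pe R e - Pe R f)) p₀ := by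
      change Module.rankAtStalk (LinearMap.range (Pe R e)) p₀ = _
      rw [congrFun (Module.rankAtStalk_eq_of_equiv E) p₀, Module.rankAtStalk_prod]
      rfl
    have hnf : ¬ n f < n e := hmin f ⟨hfi, hf0⟩
    have h0 : Module.rankAtStalk (LinearMap.range (Pe R e - Pe R f)) p₀ = 0 := by omega
    have hss := subsingleton_of_rankAtStalk_eq_zero (LinearMap.range (Pe R e - Pe R f)) p₀ h0
    have hz : (⟨(Pe R e - Pe R f) 1, ⟨1, rfl⟩⟩ : LinearMap.range (Pe R e - Pe R f)) = 0 :=
      Subsingleton.elim _ _
    have hz' := congrArg Subtype.val hz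
    simp only [LinearMap.sub_apply, Pe_apply, one_mul, he.eq, hfi.eq, ZeroMemClass.coe_zero] at hz'
    apply val_injective he
    rw [val_one, ← hf]
    exact (sub_eq_zero.mp hz').symm
  -- the modules
  haveI : Module.Projective R (Lid (R := R) e) :=
    Module.Projective.of_split (Lid (R := R) e).subtype toLid (by
      ext m
      exact congrArg Subtype.val (toLid_coe he m))
  haveI : Module.Finite R (Lid (R := R) e) := Module.Finite.range _
  have hfaithB : FaithfulSMul R he.Corner := hAz.toFaithfulSMul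
  have hfaithL : FaithfulSMul R (Lid (R := R) e) := ⟨fun {r s} h => by
    have h1 := congrArg Subtype.val (h ⟨e, (mem_Lid he).mpr he.eq⟩)
    simp only [Submodule.coe_smul] at h1
    rw [← sub_eq_zero, ← sub_smul] at h1
    exact sub_eq_zero.mp (hfaith _ h1)⟩
  refine ⟨he.Corner, inferInstance, inferInstance, hAz, he.Corner, Lid (R := R) e, inferInstance,
    inferInstance, inferInstance, inferInstance, htriv, inferInstance, inferInstance, hfaithB,
    inferInstance, inferInstance, hfaithL, ?_⟩
  let ψ : he.Corner ⊗[R] he.Cornerᵐᵒᵖ ≃ₐ[R] Module.End R he.Corner :=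
    AlgEquiv.ofBijective (AlgHom.mulLeftRight R he.Corner) IsAzumaya.bij
  let Φ' : A ⊗[R] he.Cornerᵐᵒᵖ ≃ₐ[R] Module.End R (Lid (R := R) e) :=
    AlgEquiv.ofBijective (Φ he) (Φ_bijective he)
  exact ⟨(Algebra.TensorProduct.congr (AlgEquiv.refl : A ≃ₐ[R] A) ψ.symm).trans
    ((Algebra.TensorProduct.congr (AlgEquiv.refl : A ≃ₐ[R] A)
        (Algebra.TensorProduct.comm R he.Corner he.Cornerᵐᵒᵖ)).trans
      ((Algebra.TensorProduct.assoc R R R A he.Cornerᵐᵒᵖ he.Corner).symm.trans
        ((Algebra.TensorProduct.congr Φ' (AlgEquiv.refl : he.Corner ≃ₐ[R] he.Corner)).trans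
          (Algebra.TensorProduct.comm R _ _))))⟩

end Groth.Agent.Lib.Helper3.MinIdem
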