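import Groth.Agent.Lib.Helper3.QuadEtIdem
import Groth.Agent.Lib.Helper3.HensUnits
import Groth.Agent.Lib.Helper3.LamInvBC

/-! Symmetric matrix units over a strictly henselian local ring in the quadratic étale case
(helper3). -/

set_option autoImplicit false
universe u v w

open TensorProduct IsLocalRing

namespace Groth.Agent.Lib.Helper3.SymUnitsHens

open AzInv Groth.Agent.Lib.Helper3.FixedBC Groth.Agent.Lib.Helper3.MatUnits
  Groth.Agent.Lib.Helper3.LamInvBC

lemma central_idem_mul {B : Type*} [Ring B] (P Q : B) (hP : ∀ y, P * y = y * P)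
    (hQ : ∀ y, Q * y = y * Q) (hPP : P * P = P) (hQQ : Q * Q = Q) (hPQ : P * Q = 0)
    (a b c d : B) : (P * a + Q * b) * (P * c + Q * d) = P * (a * c) + Q * (b * d) := by
  have hQP : Q * P = 0 := by rw [hQ, hPQ]
  have h1 : P * a * (P * c) = P * (a * c) := by
    rw [mul_assoc, ← mul_assoc a, ← hP a, mul_assoc, ← mul_assoc, hPP]
  have h2 : P * a * (Q * d) = 0 := by
    rw [mul_assoc, ← mul_assoc a, ← hQ a, mul_assoc, ← mul_assoc, hPQ, zero_mul]
  have h3 : Q * b * (P * c) = 0 := by
    rw [mul_assoc, ← mul_assoc b, ← hP b, mul_assoc, ← mul_assoc, hQP, zero_mul]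
  have h4 : Q * b * (Q * d) = Q * (b * d) := by
    rw [mul_assoc, ← mul_assoc b, ← hQ b, mul_assoc, ← mul_assoc, hQQ]
  rw [add_mul, mul_add, mul_add, h1, h2, h3, h4, add_zero, zero_add]

variable {S : Type u} {R : Type v} {A : Type w} [CommRing S] [CommRing R] [Algebra S R]
  [Ring A] [Algebra S A] [Algebra R A] [IsScalarTower S R A]

/-- over a flat strictly henselian local `S`-algebra `H`, with `R` quadratic étale over `S`, the
algebra `H ⊗ A` has matrix units that are symmetric for the involution -/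
theorem exists_symm_matUnits (lam : R ≃ₐ[S] R) (hlam : ∀ r, lam (lam r) = r)
    (hfix : RInv.IsFixedRing S R lam.toRingEquiv) (hq : RInv.IsQuadEtale S R) (n : ℕ) (hn : 0 < n)
    (hA : IsAzumayaDeg R A n) (t : LamInv R A lam)
    (H : Type u) [CommRing H] [HenselianLocalRing H] [IsSepClosed (ResidueField H)]
    [Algebra S H] [Module.Flat S H] :
    ∃ E : Fin n → Fin n → H ⊗[S] A, IsMatUnits E ∧ ∀ i j, t.bc S lam H (E i j) = E j i := by
  obtain ⟨G, hG⟩ := HensUnits.exists_matUnits lam hlam hfix n hn hA H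
  obtain ⟨e, hee, he⟩ := QuadEtIdem.exists_idem_swap lam hlam hfix hq H
  set τ := t.bc S lam H with hτ
  set P : H ⊗[S] A := mu S H R A e with hPdef
  set Q : H ⊗[S] A := 1 - P with hQdef
  have hP : ∀ y, P * y = y * P := fun y => mu_central S H R A e y
  have hQ : ∀ y, Q * y = y * Q := fun y => by rw [hQdef, sub_mul, mul_sub, one_mul, mul_one, hP]
  have hPP : P * P = P := by rw [hPdef, ← map_mul, hee]
  have hPQ : P * Q = 0 := by rw [hQdef, mul_sub, mul_one, hPP, sub_self]
  have hQQ : Q * Q = Q := by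
    rw [hQdef, sub_mul, one_mul, mul_sub, mul_one, hPP, sub_self, sub_zero]
  have hτmul : ∀ x y, τ (x * y) = τ y * τ x := bc_mul lam t H
  have hττ : ∀ x, τ (τ x) = x := bc_invol lam t H
  have hτ1 : τ 1 = 1 := bc_one lam t H
  have hτP : τ P = Q := by
    rw [hPdef, hτ, bc_mu, he, map_sub, map_one]
  have hτQ : τ Q = P := by rw [← hτP, hττ]
  refine ⟨fun i j => P * G i j + Q * τ (G j i), ⟨?_, ?_⟩, ?_⟩
  · intro i j k l
    show (P * G i j + Q * τ (G j i)) * (P * G k l + Q * τ (G l k)) = _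
    rw [central_idem_mul P Q hP hQ hPP hQQ hPQ, ← hτmul, hG.mul, hG.mul]
    by_cases h : j = k
    · rw [if_pos h, if_pos h.symm, if_pos h]
    · rw [if_neg h, if_neg (Ne.symm h), if_neg h, map_zero, mul_zero, mul_zero, add_zero]
  · show ∑ i, (P * G i i + Q * τ (G i i)) = 1
    rw [Finset.sum_add_distrib, ← Finset.mul_sum, ← Finset.mul_sum, ← map_sum, hG.sum, hτ1,
      mul_one, mul_one, hQdef]
    abel
  · intro i j
    show τ (P * G i j + Q * τ (G j i)) = P * G j i + Q * τ (G i j)
    rw [map_add, hτmul, hτmul, hττ, hτP, hτQ, ← hQ, ← hP, add_comm]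

end Groth.Agent.Lib.Helper3.SymUnitsHens
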