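import Mathlib.RingTheory.Etale.Pi
import Groth.Agent.Lib.Helper3.SymUnitsHens
import Groth.Agent.Lib.Helper3.IndEtDescentSym
import Groth.Agent.Lib.Helper3.StrictHensPrime
import Groth.Agent.Lib.Helper3.PiTensor
import Groth.Agent.Lib.Helper3.EtCover

/-! Étale-local (over the fixed ring) symmetric matrix units in the quadratic étale case
(helper3). -/

set_option autoImplicit false
universe u v w

open TensorProduct IsLocalRing

namespace Groth.Agent.Lib.Helper3.SymSplitCore

open AzInv Groth.Agent.Lib.Helper3.MatUnits Groth.Agent.Lib.Helper87 Groth.Agent.Lib.Helper87.Hens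
  Groth.Agent.Lib.Helper3.StrictHensPrime Groth.Agent.Lib.Helper3.LamInvBC

variable {S : Type u} {R : Type v} {A : Type w} [CommRing S] [CommRing R] [Algebra S R]
  [Ring A] [Algebra S A] [Algebra R A] [IsScalarTower S R A]

/-- étale-local (on the fixed ring) existence of symmetric matrix units, at a prime -/
theorem exists_symm_matUnits_at (lam : R ≃ₐ[S] R) (hlam : ∀ r, lam (lam r) = r)
    (hfix : RInv.IsFixedRing S R lam.toRingEquiv) (hq : RInv.IsQuadEtale S R) (n : ℕ) (hn : 0 < n)
    (hA : IsAzumayaDeg R A n) (t : LamInv R A lam) (q : PrimeSpectrum S) :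
    ∃ (T : Type u) (_ : CommRing T) (_ : Algebra S T) (_ : Algebra.Etale S T),
      q ∈ Set.range (PrimeSpectrum.comap (algebraMap S T)) ∧
      ∃ E : Fin n → Fin n → T ⊗[S] A, IsMatUnits E ∧ ∀ i j, t.bc S lam T (E i j) = E j i := by
  haveI := q.isPrime
  obtain ⟨E, hE, hEs⟩ :=
    SymUnitsHens.exists_symm_matUnits lam hlam hfix hq n hn hA t (Hq q.asIdeal)
  obtain ⟨k, E', hE', hEs'⟩ := IndEtDescent.exists_symm_matUnits A (t.linS S lam)
    (H.coveredByEtale (R := S) (Ω := Ωq q.asIdeal)) (H.killsRelations (R := S) (Ω := Ωq q.asIdeal))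
    E hE hEs
  refine ⟨k.A, inferInstance, inferInstance, inferInstance, ?_, E', hE', hEs'⟩
  refine ⟨⟨(maximalIdeal (Hq q.asIdeal)).comap k.f.toRingHom, inferInstance⟩, ?_⟩
  ext1
  change ((maximalIdeal (Hq q.asIdeal)).comap k.f.toRingHom).comap (algebraMap S k.A) = q.asIdeal
  rw [Ideal.comap_comap]
  have : k.f.toRingHom.comp (algebraMap S k.A) = algebraMap S (Hq q.asIdeal) := by
    ext x
    exact k.f.commutes x
  rw [this, comap_maximalIdeal]

/-- étale-local (on the fixed ring) existence of symmetric matrix units -/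
theorem exists_symm_matUnits (lam : R ≃ₐ[S] R) (hlam : ∀ r, lam (lam r) = r)
    (hfix : RInv.IsFixedRing S R lam.toRingEquiv) (hq : RInv.IsQuadEtale S R) (n : ℕ) (hn : 0 < n)
    (hA : IsAzumayaDeg R A n) (t : LamInv R A lam) :
    ∃ (S' : Type u) (_ : CommRing S') (_ : Algebra S S') (_ : Algebra.Etale S S')
      (_ : Module.FaithfullyFlat S S') (E : Fin n → Fin n → S' ⊗[S] A), IsMatUnits E ∧
        ∀ i j, t.bc S lam S' (E i j) = E j i := by
  classical
  choose T iCR iAlg iEt hT E hE hEs using
    exists_symm_matUnits_at (A := A) lam hlam hfix hq n hn hA t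
  obtain ⟨s, hs⟩ := EtCover.exists_finite_cover T hT
  refine ⟨∀ i : s, T i, inferInstance, inferInstance, inferInstance, hs, ?_⟩
  have hglue := fun a b => PiTensor.exists_glue S (fun i : s => T i) A (fun i => E i a b)
  choose G hG using hglue
  refine ⟨G, ⟨?_, ?_⟩, ?_⟩
  · intro a b c d
    apply PiTensor.ext_prj
    intro i
    rw [map_mul, hG, hG, (hE i).mul]
    split_ifs with h
    · rw [hG]
    · rw [map_zero]
  · apply PiTensor.ext_prj
    intro i
    rw [map_sum]
    simp only [hG]
    rw [(hE i).sum]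
    exact ((PiTensor.prj S (fun i : s => T i) A i).map_one).symm
  · intro a b
    apply PiTensor.ext_prj
    intro i
    have := bc_map lam t (∀ i : s, T i) (Pi.evalAlgHom S (fun i : s => T i) i) (G a b)
    change PiTensor.prj S (fun i : s => T i) A i (t.bc S lam (∀ i : s, T i) (G a b)) =
      t.bc S lam (T i) (PiTensor.prj S (fun i : s => T i) A i (G a b)) at this
    rw [this, hG, hG, hEs]

end Groth.Agent.Lib.Helper3.SymSplitCore
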