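import Groth.Agent.Lib.Helper3.SymIso
import Groth.Agent.Lib.Helper3.SymSplitCore

/-! Matrix-algebra instances for the symmetric matrix unit machinery (helper3). -/

set_option autoImplicit false
universe u u' v w w'

open TensorProduct

namespace Groth.Agent.Lib.Helper3.SymIsoMat

open AzInv Groth.Agent.Lib.Helper3.FixedBC Groth.Agent.Lib.Helper3.MatUnits
  Groth.Agent.Lib.Helper3.LamInvBC Groth.Agent.Lib.Helper3.SymIso

variable {S : Type u} {R : Type v} [CommRing S] [CommRing R] [Algebra S R]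
  {A : Type w} [Ring A] [Algebra S A] [Algebra R A] [IsScalarTower S R A]

/-- the matrix algebra over `R` is Azumaya of degree `n` -/
theorem isAzumayaDeg_matrix (n : ℕ) (hn : 0 < n) :
    IsAzumayaDeg R (Matrix (Fin n) (Fin n) R) n := by
  haveI : NeZero n := ⟨hn.ne'⟩
  refine ⟨IsAzumaya.matrix R (Fin n), ?_⟩
  intro p
  haveI : Nontrivial R := p.nontrivial
  rw [LGMat.rankAtStalk_matrix, Module.rankAtStalk_self]
  simp [sq]

/-- `A ≃ M₁(A)` -/
noncomputable def matOneEquiv (R₀ : Type*) [CommRing R₀] [Algebra R₀ A] :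
    A ≃ₐ[R₀] Matrix (Fin 1) (Fin 1) A :=
  AlgEquiv.ofBijective (Matrix.scalarAlgHom (Fin 1) R₀) ⟨fun a b h => Matrix.scalar_inj.mp h,
    fun M => ⟨M 0 0, by
      ext i j
      rw [Subsingleton.elim i 0, Subsingleton.elim j 0]
      simp⟩⟩

lemma matOneEquiv_apply (R₀ : Type*) [CommRing R₀] [Algebra R₀ A] (a : A) (i j : Fin 1) :
    matOneEquiv R₀ a i j = a := by
  rw [Subsingleton.elim i 0, Subsingleton.elim j 0]
  show Matrix.scalar (Fin 1) a 0 0 = a
  simp

/-- `M₁(A)` is Azumaya of the same degree as `A` -/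
theorem isAzumayaDeg_matrix_one (n : ℕ) (hA : IsAzumayaDeg R A n) :
    IsAzumayaDeg R (Matrix (Fin 1) (Fin 1) A) n := by
  haveI := hA.1
  refine ⟨IsAzumaya.of_AlgEquiv _ _ _ (matOneEquiv (A := A) R), ?_⟩
  intro p
  rw [← Module.rankAtStalk_eq_of_equiv (matOneEquiv (A := A) R).toLinearEquiv, hA.2]

/-- the standard matrix units of `M_n(R)` are symmetric for the `lam`-transpose -/
theorem exists_symm_matUnits_matrix (S' : Type u') [CommRing S'] [Algebra S S'] (n : ℕ)
    (lam : R ≃ₐ[S] R) (hlam : ∀ r, lam (lam r) = r) :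
    ∃ E : Fin n → Fin n → S' ⊗[S] Matrix (Fin n) (Fin n) R, IsMatUnits E ∧
      ∀ i j, ((LamInv.self lam hlam).matrix (Fin n)).bc S lam S' (E i j) = E j i := by
  have h0 := (isMatUnits_single (n := n) R).map
      ((Algebra.TensorProduct.includeRight : Matrix (Fin n) (Fin n) R →ₐ[S]
        S' ⊗[S] Matrix (Fin n) (Fin n) R).toRingHom)
  refine ⟨fun i j => (1 : S') ⊗ₜ[S] Matrix.single i j (1 : R), h0, ?_⟩
  intro i j
  rw [LamInv.bc_tmul]
  congr 1
  ext k l
  simp only [LamInv.matrix_apply, LamInv.self_apply, Matrix.single_apply]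
  split_ifs with h1 h2 h2
  · exact map_one lam
  · exact absurd ⟨h1.2, h1.1⟩ h2
  · exact absurd ⟨h2.2, h2.1⟩ h1
  · exact map_zero lam

lemma matOneEquiv_inv (lam : R ≃ₐ[S] R) (t : LamInv R A lam) (a : A) :
    matOneEquiv S (t a) = (t.matrix (Fin 1)) (matOneEquiv S a) := by
  ext i j
  rw [LamInv.matrix_apply, matOneEquiv_apply, matOneEquiv_apply]

end Groth.Agent.Lib.Helper3.SymIsoMat
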