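import Groth.Agent.Lib.Helper3.OrthSymplLocal
import Groth.Agent.Lib.Helper3.SymIsoMat
import Groth.Agent.Lib.Helper3.AdaptedCore

/-! Standard adapted matrix units for the orthogonal and symplectic model involutions (helper3). -/

set_option autoImplicit false
universe u u' v w w'

open TensorProduct

namespace Groth.Agent.Lib.Helper3.OrthSymplTarget

open AzInv Groth.Agent.Lib.Helper3.FixedBC Groth.Agent.Lib.Helper3.MatUnits
  Groth.Agent.Lib.Helper3.LamInvBC Groth.Agent.Lib.Helper3.FixedSplitSym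
  Groth.Agent.Lib.Helper3.IndEtDescent Groth.Agent.Lib.Helper3.AdaptedSplit
  Groth.Agent.Lib.Helper3.HermCong Groth.Agent.Lib.Helper3.SymplCong
  Groth.Agent.Lib.Helper3.SymIsoMat

section general

variable {S : Type u} {R : Type v} [CommRing S] [CommRing R] [Algebra S R]
  {A : Type w} [Ring A] [Algebra S A] [Algebra R A] [IsScalarTower S R A]
  {A' : Type w'} [Ring A'] [Algebra S A'] [Algebra R A'] [IsScalarTower S R A']

/-- Azumaya of degree `n` is invariant under algebra isomorphisms -/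
theorem isAzumayaDeg_of_algEquiv {B B' : Type*} [Ring B] [Ring B'] [Algebra R B] [Algebra R B']
    (e : B ≃ₐ[R] B') (n : ℕ) (hB : IsAzumayaDeg R B n) : IsAzumayaDeg R B' n := by
  haveI := hB.1
  refine ⟨IsAzumaya.of_AlgEquiv _ _ _ e, ?_⟩
  intro p
  rw [← Module.rankAtStalk_eq_of_equiv e.toLinearEquiv, hB.2]

lemma Wc_one (T : Type*) [CommRing T] [Algebra S T] {n : ℕ} (E : Fin n → Fin n → T ⊗[S] A)
    (hE : IsMatUnits E) :
    Wc A T (cst A (1 : Matrix (Fin n) (Fin n) R)) E = 1 := by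
  rw [← hE.sum]
  simp only [Wc, cst]
  refine Finset.sum_congr rfl fun k _ => ?_
  rw [Finset.sum_eq_single k]
  · rw [Matrix.one_apply_eq, map_one, ← Algebra.TensorProduct.one_def, one_mul]
  · intro l _ hl
    rw [Matrix.one_apply_ne (Ne.symm hl), map_zero, TensorProduct.tmul_zero, zero_mul]
  · intro h
    exact absurd (Finset.mem_univ k) h

/-- symmetric matrix units are adapted for the constants `(1, 1)` -/
theorem adapted_one_of_symm (τ : A →ₗ[S] A) (T : Type*) [CommRing T] [Algebra S T] {n : ℕ}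
    (E : Fin n → Fin n → T ⊗[S] A) (hE : IsMatUnits E)
    (hs : ∀ i j, τ.baseChange T (E i j) = E j i) :
    IsAdaptedC A τ T (cst A (1 : Matrix (Fin n) (Fin n) R))
      (cst A (1 : Matrix (Fin n) (Fin n) R)) E := by
  refine ⟨hE, fun i j => ?_⟩
  rw [Wc_one T E hE, one_mul, mul_one, hs]

/-- the standard units of `M_n(R)` are adapted `(1, 1)` for the `lam`-transpose -/
theorem adapted_std_self (S' : Type u') [CommRing S'] [Algebra S S'] (n : ℕ)
    (lam : R ≃ₐ[S] R) (hlam : ∀ r, lam (lam r) = r) :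
    ∃ E : Fin n → Fin n → S' ⊗[S] Matrix (Fin n) (Fin n) R,
      IsAdaptedC (Matrix (Fin n) (Fin n) R) (((LamInv.self lam hlam).matrix (Fin n)).linS S lam) S'
        (cst _ (1 : Matrix (Fin n) (Fin n) R)) (cst _ (1 : Matrix (Fin n) (Fin n) R)) E := by
  obtain ⟨E, hE, hs⟩ := exists_symm_matUnits_matrix (S := S) (R := R) S' n lam hlam
  exact ⟨E, adapted_one_of_symm _ S' E hE hs⟩

/-- transport of adapted units to `M₁(A)` -/
theorem adapted_matOne (S' : Type u') [CommRing S'] [Algebra S S'] {n : ℕ}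
    (lam : R ≃ₐ[S] R) (t : LamInv R A lam) (w w' : Matrix (Fin n) (Fin n) R)
    (E : Fin n → Fin n → S' ⊗[S] A)
    (hE : IsAdaptedC A (t.linS S lam) S' (cst A w) (cst A w') E) :
    ∃ E' : Fin n → Fin n → S' ⊗[S] Matrix (Fin 1) (Fin 1) A,
      IsAdaptedC (Matrix (Fin 1) (Fin 1) A) ((t.matrix (Fin 1)).linS S lam) S'
        (cst _ w) (cst _ w') E' := by
  refine adapted_map S' lam t (t.matrix (Fin 1)) (matOneEquiv (A := A) S).toAlgHom
    (matOneEquiv_inv lam t) ?_ w w' E hE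
  intro r
  ext i j
  show matOneEquiv S (algebraMap R A r) i j = _
  rw [matOneEquiv_apply, Matrix.algebraMap_matrix_apply, if_pos (Subsingleton.elim i j)]

end general

section sympl

variable {R : Type u} [CommRing R]

/-- `M_{2k}(R) ≃ M_k(M_2(R))` -/
noncomputable def iota (k : ℕ) : Matrix (Fin (k * 2)) (Fin (k * 2)) R ≃ₐ[R]
    Matrix (Fin k) (Fin k) (Matrix (Fin 2) (Fin 2) R) :=
  (Matrix.reindexAlgEquiv R R finProdFinEquiv.symm).trans
    (Matrix.compAlgEquiv (Fin k) (Fin 2) R R).symm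

lemma iota_apply (k : ℕ) (x : Matrix (Fin (k * 2)) (Fin (k * 2)) R) (a b : Fin k) (p q : Fin 2) :
    iota k x a b p q = x (finProdFinEquiv (a, p)) (finProdFinEquiv (b, q)) := rfl

lemma iota_Jn (k : ℕ) :
    iota k (Jn k : Matrix (Fin (k * 2)) (Fin (k * 2)) R) = Matrix.diagonal (fun _ => J2) := by
  ext a b p q
  rw [iota_apply, Jn, Matrix.reindex_apply, Matrix.submatrix_apply,
    Equiv.symm_apply_apply, Equiv.symm_apply_apply]
  simp only [Jst, Matrix.of_apply, Matrix.diagonal_apply]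
  split_ifs <;> rfl

lemma iota_lamTr (k : ℕ) (σ : R → R) (x : Matrix (Fin (k * 2)) (Fin (k * 2)) R) (a b : Fin k) :
    iota k (lamTr σ x) a b = lamTr σ (iota k x b a) := by
  ext p q
  rfl

/-- the standard units of `M_k(M_2(R))` are adapted `(Jn, -Jn)` for the symplectic involution -/
theorem adapted_std_sympl (S' : Type u') [CommRing S'] [Algebra R S'] (k : ℕ)
    (hlam : ∀ r : R, (AlgEquiv.refl : R ≃ₐ[R] R) ((AlgEquiv.refl : R ≃ₐ[R] R) r) = r)
    (J : (Matrix (Fin 2) (Fin 2) R)ˣ)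
    (hJ : (↑J : Matrix (Fin 2) (Fin 2) R) = Matrix.of ![![0, -1], ![1, 0]])
    (hJt : LamInv.transpose (AlgEquiv.refl : R ≃ₐ[R] R) (Fin 2) hlam
      (↑J : Matrix (Fin 2) (Fin 2) R) = (-1 : R) • (↑J : Matrix (Fin 2) (Fin 2) R))
    (hneg : (AlgEquiv.refl : R ≃ₐ[R] R) (-1) * (-1) = 1) :
    ∃ E : Fin (k * 2) → Fin (k * 2) → S' ⊗[R] Matrix (Fin k) (Fin k) (Matrix (Fin 2) (Fin 2) R),
      IsAdaptedC (Matrix (Fin k) (Fin k) (Matrix (Fin 2) (Fin 2) R))
        ((((LamInv.transpose (AlgEquiv.refl : R ≃ₐ[R] R) (Fin 2) hlam).conj J (-1) hJt hneg).matrix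
          (Fin k)).linS R (AlgEquiv.refl : R ≃ₐ[R] R)) S'
        (cst _ (Jn k : Matrix (Fin (k * 2)) (Fin (k * 2)) R))
        (cst _ (-Jn k : Matrix (Fin (k * 2)) (Fin (k * 2)) R)) E := by
  let WU : (Matrix (Fin (k * 2)) (Fin (k * 2)) R)ˣ :=
    ⟨Jn k, -Jn k, by rw [Matrix.mul_neg, Jn_mul_Jn, neg_neg],
      by rw [Matrix.neg_mul, Jn_mul_Jn, neg_neg]⟩
  have hw : LamInv.transpose (AlgEquiv.refl : R ≃ₐ[R] R) (Fin (k * 2)) hlam
      (↑WU : Matrix (Fin (k * 2)) (Fin (k * 2)) R) =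
        (-1 : R) • (↑WU : Matrix (Fin (k * 2)) (Fin (k * 2)) R) := by
    ext i j
    have := congrFun (congrFun (lamTr_Jn (RingHom.id R) k) i) j
    simp only [lamTr_apply, RingHom.id_apply, Matrix.neg_apply] at this
    show (Jn k : Matrix (Fin (k * 2)) (Fin (k * 2)) R) j i =
      ((-1 : R) • (Jn k : Matrix (Fin (k * 2)) (Fin (k * 2)) R)) i j
    rw [Matrix.smul_apply, smul_eq_mul, neg_one_mul]
    exact this
  have hstd := adapted_std (S := R) S' (k * 2) (AlgEquiv.refl : R ≃ₐ[R] R) hlam WU (-1) hw hneg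
  have hJ2 : (↑J : Matrix (Fin 2) (Fin 2) R) = J2 := hJ
  have hJi : (↑J⁻¹ : Matrix (Fin 2) (Fin 2) R) = -J2 := by
    apply Units.inv_eq_of_mul_eq_one_right
    rw [hJ2, Matrix.mul_neg, J2_mul_J2, neg_neg]
  refine adapted_map S' (AlgEquiv.refl : R ≃ₐ[R] R) _
    (((LamInv.transpose (AlgEquiv.refl : R ≃ₐ[R] R) (Fin 2) hlam).conj J (-1) hJt hneg).matrix
      (Fin k)) (iota k).toAlgHom ?_ (fun r => (iota k).commutes r) _ _ _ hstd
  intro x
  show iota k ((↑WU : Matrix (Fin (k * 2)) (Fin (k * 2)) R) *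
      lamTr (AlgEquiv.refl : R ≃ₐ[R] R) x * (↑WU⁻¹ : Matrix (Fin (k * 2)) (Fin (k * 2)) R)) = _
  have e1 : (↑WU : Matrix (Fin (k * 2)) (Fin (k * 2)) R) = Jn k := rfl
  have e2 : (↑WU⁻¹ : Matrix (Fin (k * 2)) (Fin (k * 2)) R) = -Jn k := rfl
  rw [e1, e2, map_mul, map_mul, map_neg, iota_Jn]
  refine Matrix.ext fun a b => ?_
  rw [LamInv.matrix_apply, LamInv.conj_apply, hJ2, hJi]
  rw [Matrix.diagonal_neg, Matrix.mul_diagonal, Matrix.diagonal_mul, iota_lamTr]
  rfl

end sympl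

end Groth.Agent.Lib.Helper3.OrthSymplTarget
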