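import Groth.Agent.Lib.Helper3.SymUnitsHens

/-! Symmetric matrix units over a strictly henselian local ring `H` when `H ⊗ R` is quadratic
étale over `H` (local version of `SymUnitsHens`; helper3). -/

set_option autoImplicit false
universe u v w

open TensorProduct IsLocalRing

namespace Groth.Agent.Lib.Helper3.SymUnitsLocal

open AzInv Groth.Agent.Lib.Helper3.FixedBC Groth.Agent.Lib.Helper3.MatUnits
  Groth.Agent.Lib.Helper3.LamInvBC

variable {S : Type u} {R : Type v} {A : Type w} [CommRing S] [CommRing R] [Algebra S R]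
  [Ring A] [Algebra S A] [Algebra R A] [IsScalarTower S R A]

/-- over a flat strictly henselian local `S`-algebra `H`, an `R` with involution whose fixed ring is `S` and with
`H ⊗ R` quadratic étale over `H` acquires an idempotent swapped with its complement -/
theorem exists_idem_swap' (lam : R ≃ₐ[S] R) (hlam : ∀ r, lam (lam r) = r)
    (hfix : RInv.IsFixedRing S R lam.toRingEquiv)
    (H : Type u) [CommRing H] [HenselianLocalRing H] [IsSepClosed (ResidueField H)]
    [Algebra S H] [Module.Flat S H] (hq' : RInv.IsQuadEtale H (H ⊗[S] R)) :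
    ∃ e : H ⊗[S] R, e * e = e ∧ LinearMap.lTensor H lam.toLinearMap e = 1 - e := by
  obtain ⟨e, hee, he0, he1⟩ := QuadEtIdem.exists_nontrivial_idem H (H ⊗[S] R) hq'
  let σ : H ⊗[S] R →ₐ[H] H ⊗[S] R := Algebra.TensorProduct.map (AlgHom.id H H) lam.toAlgHom
  have hσ : ∀ x, σ x = LinearMap.lTensor H lam.toLinearMap x := by
    intro x
    induction x using TensorProduct.induction_on with
    | zero => simp
    | tmul s c => rfl
    | add x y hx hy => rw [map_add, map_add, hx, hy]
  have hσσ : ∀ x, σ (σ x) = x := by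
    intro x
    induction x using TensorProduct.induction_on with
    | zero => simp
    | tmul s c =>
      show (s ⊗ₜ[S] lam (lam c) : H ⊗[S] R) = _
      rw [hlam]
    | add x y hx hy => rw [map_add, map_add, hx, hy]
  -- a `σ`-fixed idempotent dividing a nontrivial idempotent vanishes
  have key : ∀ f : H ⊗[S] R, f * f = f → f ≠ 1 → f * σ f = 0 := by
    intro f hff hf1
    obtain ⟨h, hh⟩ := exists_of_fixed_bc (S := S) (S' := H) lam hfix (f * σ f) (by
      rw [← hσ, map_mul, hσσ, mul_comm])
    have hx : f * σ f = algebraMap H (H ⊗[S] R) h := by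
      rw [Algebra.TensorProduct.algebraMap_apply]
      exact hh.symm
    have hidem : (f * σ f) * (f * σ f) = f * σ f := by
      have : σ f * σ f = σ f := by rw [← map_mul, hff]
      calc (f * σ f) * (f * σ f) = (f * f) * (σ f * σ f) := by ring
        _ = f * σ f := by rw [hff, this]
    rcases IsLocalRing.isUnit_or_isUnit_one_sub_self h with hu | hu
    · exfalso
      apply hf1
      have hu' : IsUnit (f * σ f) := hx ▸ hu.map (algebraMap H (H ⊗[S] R))
      have hfu : IsUnit f := isUnit_of_mul_isUnit_left hu'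
      have : f * (1 - f) = 0 := by rw [mul_sub, mul_one, hff, sub_self]
      have := hfu.mul_right_eq_zero.mp this
      rw [sub_eq_zero] at this
      exact this.symm
    · have hu' : IsUnit (1 - f * σ f) := by
        rw [hx, ← map_one (algebraMap H (H ⊗[S] R)), ← map_sub]
        exact hu.map _
      have : (f * σ f) * (1 - f * σ f) = 0 := by rw [mul_sub, mul_one, hidem, sub_self]
      exact hu'.mul_left_eq_zero.mp this
  have h1 := key e hee he1
  have h2 := key (1 - e) (by ring_nf; rw [pow_two, hee]; ring) (by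
    intro h
    apply he0
    have : e = 1 - (1 - e) := by ring
    rw [this, h, sub_self])
  refine ⟨e, hee, ?_⟩
  rw [← hσ]
  rw [map_sub, map_one] at h2
  have : (1 - e) * (1 - σ e) = 1 - e - σ e + e * σ e := by ring
  rw [this, h1, add_zero] at h2
  linear_combination (-1 : H ⊗[S] R) * h2

/-- over a flat strictly henselian local `S`-algebra `H`, with `H ⊗ R` quadratic étale over `H`, the
algebra `H ⊗ A` has matrix units that are symmetric for the involution -/
theorem exists_symm_matUnits' (lam : R ≃ₐ[S] R) (hlam : ∀ r, lam (lam r) = r)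
    (hfix : RInv.IsFixedRing S R lam.toRingEquiv) (n : ℕ) (hn : 0 < n)
    (hA : IsAzumayaDeg R A n) (t : LamInv R A lam)
    (H : Type u) [CommRing H] [HenselianLocalRing H] [IsSepClosed (ResidueField H)]
    [Algebra S H] [Module.Flat S H] (hq' : RInv.IsQuadEtale H (H ⊗[S] R)) :
    ∃ E : Fin n → Fin n → H ⊗[S] A, IsMatUnits E ∧ ∀ i j, t.bc S lam H (E i j) = E j i := by
  obtain ⟨G, hG⟩ := HensUnits.exists_matUnits lam hlam hfix n hn hA H
  obtain ⟨e, hee, he⟩ := exists_idem_swap' lam hlam hfix H hq'
  set τ := t.bc S lam H with hτ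
  set P : H ⊗[S] A := mu S H R A e with hPdef
  set Q : H ⊗[S] A := 1 - P with hQdef
  have hP : ∀ y, P * y = y * P := fun y => mu_central S H R A e y
  have hQ : ∀ y, Q * y = y * Q := fun y => by rw [hQdef, sub_mul, mul_sub, one_mul, mul_one, hP]
  have hPP : P * P = P := by rw [hPdef, ← map_mul, hee]
  have hPQ : P * Q = 0 := by rw [hQdef, mul_sub, mul_one, hPP, sub_self]
  have hQQ : Q * Q = Q := by
    rw [hQdef, sub_mul, one_mul, mul_sub, mul_one, hPP, sub_self, sub_zero]
  have hτmul : ∀ x y, τ (x * y) = τ y * τ x := bc_mul lam t H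
  have hττ : ∀ x, τ (τ x) = x := bc_invol lam t H
  have hτ1 : τ 1 = 1 := bc_one lam t H
  have hτP : τ P = Q := by
    rw [hPdef, hτ, bc_mu, he, map_sub, map_one]
  have hτQ : τ Q = P := by rw [← hτP, hττ]
  refine ⟨fun i j => P * G i j + Q * τ (G j i), ⟨?_, ?_⟩, ?_⟩
  · intro i j k l
    show (P * G i j + Q * τ (G j i)) * (P * G k l + Q * τ (G l k)) = _
    rw [SymUnitsHens.central_idem_mul P Q hP hQ hPP hQQ hPQ, ← hτmul, hG.mul, hG.mul]
    by_cases h : j = k
    · rw [if_pos h, if_pos h.symm, if_pos h]
    · rw [if_neg h, if_neg (Ne.symm h), if_neg h, map_zero, mul_zero, mul_zero, add_zero]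
  · show ∑ i, (P * G i i + Q * τ (G i i)) = 1
    rw [Finset.sum_add_distrib, ← Finset.mul_sum, ← Finset.mul_sum, ← map_sum, hG.sum, hτ1,
      mul_one, mul_one, hQdef]
    abel
  · intro i j
    show τ (P * G i j + Q * τ (G j i)) = P * G j i + Q * τ (G i j)
    rw [map_add, hτmul, hτmul, hττ, hτP, hτQ, ← hQ, ← hP, add_comm]

end Groth.Agent.Lib.Helper3.SymUnitsLocal
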