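import Groth.Agent.Lib.Helper3.RamDichotomy
import Groth.Agent.Lib.Helper3.HermDiagOdd
import Groth.Agent.Lib.Helper3.HsqLift
import Groth.Agent.Lib.Helper3.SymUnitsLocal
import Groth.Agent.Lib.Helper3.OrthSymplTarget
import Groth.Agent.Lib.Helper3.AdaptedCore

/-! Azumaya algebras of odd degree with involution: the neutral type (helper3). -/

set_option autoImplicit false
universe u v w

open TensorProduct IsLocalRing

namespace Groth.Agent.Lib.Helper3.OddLocal

open AzInv Groth.Agent.Lib.Helper3.FixedBC Groth.Agent.Lib.Helper3.MatUnits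
  Groth.Agent.Lib.Helper3.LamInvBC Groth.Agent.Lib.Helper3.FixedSplitSym
  Groth.Agent.Lib.Helper3.IndEtDescent Groth.Agent.Lib.Helper3.AdaptedSplit
  Groth.Agent.Lib.Helper3.HermCong Groth.Agent.Lib.Helper3.InvLocal
  Groth.Agent.Lib.Helper3.AdaptedLocal Groth.Agent.Lib.Helper3.RamDichotomy
  Groth.Agent.Lib.Helper3.StrictHensPrime Groth.Agent.Lib.Helper80.RInvLib
  Groth.Agent.Lib.Helper3.OrthSymplTarget Groth.Agent.Lib.Helper3.SymIsoMat

variable {S : Type u} {R : Type v} [CommRing S] [CommRing R] [Algebra S R]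
  {A : Type w} [Ring A] [Algebra S A] [Algebra R A] [IsScalarTower S R A]

/-- for odd degree, over the strict henselization at any prime there are adapted units for the
constants `(1, 1)` -/
theorem local_odd (lam : R ≃ₐ[S] R) (hlam : ∀ r, lam (lam r) = r)
    (hfix : RInv.IsFixedRing S R lam.toRingEquiv)
    (hsq : ∀ (S₁ : Type u) [CommRing S₁] [Algebra S S₁] [Algebra.Etale S S₁] (x : S₁ˣ),
      ∃ (S₂ : Type u) (_ : CommRing S₂) (_ : Algebra S₁ S₂) (_ : Algebra.Etale S₁ S₂)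
        (_ : Module.FaithfullyFlat S₁ S₂) (y : S₂), y * y = algebraMap S₁ S₂ ↑x)
    (n : ℕ) (hn : Odd n) (hA : IsAzumayaDeg R A n) (t : LamInv R A lam) (q : PrimeSpectrum S) :
    ∃ E : Fin n → Fin n → Hq q.asIdeal ⊗[S] A,
      IsAdaptedC A (t.linS S lam) (Hq q.asIdeal) (cst A (1 : Matrix (Fin n) (Fin n) R))
        (cst A (1 : Matrix (Fin n) (Fin n) R)) E := by
  haveI := q.isPrime
  have hn0 : 0 < n := hn.pos
  set H := Hq q.asIdeal with hH
  have hinv : Function.Involutive lam.toRingEquiv := hlam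
  have hσ' : ∀ z, (lamBC H hfix).toRingEquiv z = sig lam H z := by
    intro z
    induction z using TensorProduct.induction_on with
    | zero => simp
    | tmul s r =>
      show lamBC H hfix (s ⊗ₜ[S] r) = _
      rw [lamBC_tmul, sig_tmul]
      rfl
    | add x y hx hy => rw [map_add, map_add, hx, hy]
  have hfix' := isFixedRing_baseChange H hfix
  have hinv' := lamBC_involutive H hinv hfix
  by_cases hcase : ∃ z : H ⊗[S] R, (lamBC H hfix).toRingEquiv z - z ∉ Ring.jacobson (H ⊗[S] R)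
  · have hq' : RInv.IsQuadEtale H (H ⊗[S] R) :=
      Groth.Agent.S15576.result H (H ⊗[S] R) (lamBC H hfix).toRingEquiv hinv' hfix' hcase
    obtain ⟨E, hE, hEs⟩ := SymUnitsLocal.exists_symm_matUnits' lam hlam hfix n hn0 hA t H hq'
    exact ⟨E, adapted_one_of_symm (R := R) (t.linS S lam) H E hE hEs⟩
  · push Not at hcase
    obtain ⟨hloc, -⟩ := Groth.Agent.S15577.result H (H ⊗[S] R) (lamBC H hfix).toRingEquiv hinv'
      hfix' hcase
    haveI := hloc
    set σ := sig lam H with hσdef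
    have hσσ := sig_sig lam hlam H
    have hfixed : ∀ a : H ⊗[S] R, σ a = a → ∃ h₀ : H, algebraMap H (H ⊗[S] R) h₀ = a := by
      intro a ha
      obtain ⟨s, hs⟩ := exists_of_fixed_bc (S' := H) lam hfix a (by rw [← sig_apply]; exact ha)
      exact ⟨s, by rw [Algebra.TensorProduct.algebraMap_apply, Algebra.algebraMap_self,
        RingHom.id_apply]; exact hs⟩
    have hσalg : ∀ h₀ : H, σ (algebraMap H (H ⊗[S] R) h₀) = algebraMap H (H ⊗[S] R) h₀ := by
      intro h₀
      rw [Algebra.TensorProduct.algebraMap_apply, Algebra.algebraMap_self, RingHom.id_apply,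
        hσdef, sig_tmul, map_one]
    have hnonunit : ∀ h₀ : H, ¬ IsUnit h₀ →
        algebraMap H (H ⊗[S] R) h₀ ∈ maximalIdeal (H ⊗[S] R) := fun h₀ hh =>
      algebraMap_mem_of_not_isUnit hinv' hfix' hh (maximalIdeal.isMaximal _)
    have hsqK : ∀ a : H ⊗[S] R, IsUnit a → σ a = a → ∃ y : H ⊗[S] R, σ y = y ∧ y * y = a := by
      intro a hau ha
      obtain ⟨h₀, rfl⟩ := hfixed a ha
      have hh₀ : IsUnit h₀ := by
        by_contra hh
        exact (hnonunit h₀ hh) hau
      obtain ⟨y, hy⟩ := HsqLift.exists_sqrt_of_hsq hsq q.asIdeal h₀ hh₀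
      exact ⟨algebraMap H _ y, hσalg y, by rw [← map_mul, hy]⟩
    obtain ⟨G, hG⟩ := HensUnits.exists_matUnits (A := A) lam hlam hfix n hn0 hA H
    obtain ⟨f, hf1, -⟩ := split_of_matUnits' H n hn0 hA G hG
    obtain ⟨c, e, he, hce, hτ⟩ := exists_conj_form_bc H f hf1 hn0 lam hlam t
    have hτ' : ∀ (a : (H ⊗[S] R)ˣ) x, f (t.bc S lam H x) =
        (↑(smulUnit a c) : Matrix (Fin n) (Fin n) (H ⊗[S] R)) *
          lamTr (sig lam H) (f x) *
          (↑(smulUnit a c)⁻¹ : Matrix (Fin n) (Fin n) (H ⊗[S] R)) := by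
      intro a x
      rw [smulUnit_conj]
      exact hτ x
    have hlam_smul : ∀ (a : (H ⊗[S] R)ˣ),
        lamTr σ (↑(smulUnit a c) : Matrix (Fin n) (Fin n) (H ⊗[S] R)) =
          (σ (a : H ⊗[S] R) * e) • (↑c : Matrix (Fin n) (Fin n) (H ⊗[S] R)) := by
      intro a
      show lamTr σ ((a : H ⊗[S] R) • (↑c : Matrix (Fin n) (Fin n) (H ⊗[S] R))) = _
      rw [lamTr_smul, hce, smul_smul]
    -- normalization
    obtain ⟨m, hm⟩ := hn
    set C : Matrix (Fin n) (Fin n) (H ⊗[S] R) := ↑c with hC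
    set dt := C.det with hdt
    have hdtu : IsUnit dt := (Matrix.isUnit_iff_isUnit_det _).mp c.isUnit
    have heu : IsUnit e := IsUnit.of_mul_eq_one _ (by rw [mul_comm]; exact he)
    have hσdt : σ dt = e ^ n * dt := by
      have h1 : (lamTr σ C).det = σ dt := by
        show (Matrix.transpose (C.map σ)).det = _
        rw [Matrix.det_transpose, hdt, RingHom.map_det]
        rfl
      rw [← h1, hce, Matrix.det_smul, Fintype.card_fin]
    obtain ⟨bU, hbU⟩ : IsUnit (dt * e ^ (m + 1)) := hdtu.mul (heu.pow _)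
    have hb : σ (bU : H ⊗[S] R) * e = (bU : H ⊗[S] R) := by
      rw [hbU, map_mul, map_pow, hσdt, hm]
      have h1 : (σ e) ^ (m + 1) * e ^ (m + 1) = 1 := by rw [← mul_pow, he, one_pow]
      calc e ^ (2 * m + 1) * dt * σ e ^ (m + 1) * e
          = dt * e ^ (m + 1) * (σ e ^ (m + 1) * e ^ (m + 1)) := by ring
        _ = dt * e ^ (m + 1) := by rw [h1, mul_one]
    have hh : lamTr σ (↑(smulUnit bU c) : Matrix (Fin n) (Fin n) (H ⊗[S] R)) =
        (↑(smulUnit bU c) : Matrix (Fin n) (Fin n) (H ⊗[S] R)) := by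
      rw [hlam_smul, hb]
      rfl
    have hcong := HermDiagOdd.exists_cong_one_of_odd σ hσσ hsqK n ⟨m, hm⟩ _
      (smulUnit bU c).isUnit hh
    refine adapted_of_cong H f hf1 lam hlam t (smulUnit bU c) (hτ' bU) 1 1 (one_mul 1) ?_
    rw [bcMat_one']
    exact hcong

/-- odd degree: the involution has the same type as `lam` itself -/
theorem sameType_self_of_odd (lam : R ≃ₐ[S] R) (hlam : ∀ r, lam (lam r) = r)
    (hfix : RInv.IsFixedRing S R lam.toRingEquiv)
    (hsq : ∀ (S₁ : Type u) [CommRing S₁] [Algebra S S₁] [Algebra.Etale S S₁] (x : S₁ˣ),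
      ∃ (S₂ : Type u) (_ : CommRing S₂) (_ : Algebra S₁ S₂) (_ : Algebra.Etale S₁ S₂)
        (_ : Module.FaithfullyFlat S₁ S₂) (y : S₂), y * y = algebraMap S₁ S₂ ↑x)
    (n : ℕ) (hn : Odd n) (hA : IsAzumayaDeg R A n) (t : LamInv R A lam) :
    SameType S lam t (LamInv.self lam hlam) := by
  have hn0 : 0 < n := hn.pos
  have h : ∀ q : PrimeSpectrum S, ∃ (T : Type u) (_ : CommRing T) (_ : Algebra S T)
      (_ : Algebra.Etale S T), q ∈ Set.range (PrimeSpectrum.comap (algebraMap S T)) ∧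
      ∃ E : Fin n → Fin n → T ⊗[S] A, IsAdaptedC A (t.linS S lam) T
        (cst A (1 : Matrix (Fin n) (Fin n) R)) (cst A (1 : Matrix (Fin n) (Fin n) R)) E :=
    fun q => AdaptedCore.exists_adapted_at A _ _ _ q (local_odd lam hlam hfix hsq n hn hA t q)
  obtain ⟨S', iCR, iAlg, iEt, iFF, E, hE⟩ := AdaptedCore.exists_adapted_cover A
    (t.linS S lam) _ _ h
  obtain ⟨E₁, hE₁⟩ := adapted_matOne S' lam t _ _ E hE
  obtain ⟨E₂, hE₂⟩ := adapted_std_self (S := S) (R := R) S' n lam hlam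
  exact ⟨1, n, Nat.one_pos, hn0,
    locIsoEt_of_adapted S' n hn0 lam 1 1
      (isAzumayaDeg_matrix_one n hA) (t.matrix (Fin 1)) E₁ hE₁
      (isAzumayaDeg_matrix n hn0) ((LamInv.self lam hlam).matrix (Fin n))
      E₂ hE₂⟩

end Groth.Agent.Lib.Helper3.OddLocal
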