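import Groth.Agent.Lib.Helper3.OrdinaryRam

/-! Ordinary involutions: the everywhere ramified case and the quadratic étale case (helper3). -/

set_option autoImplicit false
universe u v w

open TensorProduct IsLocalRing

namespace Groth.Agent.Lib.Helper3.OrdinaryMain

open AzInv Groth.Agent.Lib.Helper3.MatUnits
  Groth.Agent.Lib.Helper3.IndEtDescent Groth.Agent.Lib.Helper3.AdaptedSplit
  Groth.Agent.Lib.Helper3.HermCong Groth.Agent.Lib.Helper3.InvLocal
  Groth.Agent.Lib.Helper3.SymplCong Groth.Agent.Lib.Helper3.RamDichotomy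
  Groth.Agent.Lib.Helper3.StrictHensPrime
  Groth.Agent.Lib.Helper3.OrthSympl Groth.Agent.Lib.Helper3.OrdinaryRam
  Groth.Agent.Lib.Helper3.SymIsoMat

section mats

variable {K : Type*} [CommRing K]

/-- the global matrix attached to an idempotent -/
def wMat (ε : K) (k : ℕ) : Matrix (Fin (k * 2)) (Fin (k * 2)) K := ε • 1 + (1 - ε) • Jn k

/-- its inverse -/
def wMat' (ε : K) (k : ℕ) : Matrix (Fin (k * 2)) (Fin (k * 2)) K := ε • 1 + (1 - ε) • (-Jn k)

lemma wMat_mul (ε : K) (hε : ε * ε = ε) (k : ℕ) : wMat ε k * wMat' ε k = 1 := by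
  have h1 : ε * (1 - ε) = 0 := by rw [mul_sub, mul_one, hε, sub_self]
  have h2 : (1 - ε) * ε = 0 := by rw [mul_comm, h1]
  have h3 : (1 - ε) * (1 - ε) = 1 - ε := by
    rw [sub_mul, one_mul, h1, sub_zero]
  simp only [wMat, wMat', add_mul, mul_add, smul_mul_smul_comm, one_mul, mul_one,
    Matrix.mul_neg, Jn_mul_Jn, neg_neg, hε, h1, h2, h3, zero_smul, add_zero, zero_add]
  rw [← add_smul]
  have : ε + (1 - ε) = 1 := by ring
  rw [this, one_smul]

lemma lamTr_smul' {n : ℕ} (σ : K →+* K) (z : K) (x : Matrix (Fin n) (Fin n) K) :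
    lamTr σ (z • x) = σ z • lamTr σ x := by
  ext i j
  simp [lamTr_apply]

lemma lamTr_wMat (σ : K →+* K) (ε : K) (hε : ε * ε = ε) (hσε : σ ε = ε) (k : ℕ) :
    lamTr σ (wMat ε k) = (2 * ε - 1) • wMat ε k := by
  have h1 : (2 * ε - 1) * ε = ε := by
    have : (2 * ε - 1) * ε = 2 * (ε * ε) - ε := by ring
    rw [this, hε]; ring
  have h2 : (2 * ε - 1) * (1 - ε) = -(1 - ε) := by
    have : (2 * ε - 1) * (1 - ε) = 3 * ε - 2 * (ε * ε) - 1 := by ring
    rw [this, hε]; ring
  rw [wMat, lamTr_add, lamTr_smul', lamTr_smul', lamTr_one, lamTr_Jn, map_sub, map_one, hσε,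
    smul_add, smul_smul, smul_smul, h1, h2, neg_smul, smul_neg]

end mats

variable {S : Type u} {R : Type v} [CommRing S] [CommRing R] [Algebra S R]
  {A : Type w} [Ring A] [Algebra S A] [Algebra R A] [IsScalarTower S R A]

lemma one_tmul_mix (T : Type*) [CommRing T] [Algebra S T] (ε : S) (x y : R) :
    (1 : T) ⊗ₜ[S] algebraMap R A (algebraMap S R ε * x + (1 - algebraMap S R ε) * y) =
      algebraMap S T ε • ((1 : T) ⊗ₜ[S] algebraMap R A x) +
        (1 - algebraMap S T ε) • ((1 : T) ⊗ₜ[S] algebraMap R A y) := by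
  have e1 : algebraMap R A (algebraMap S R ε * x + (1 - algebraMap S R ε) * y) =
      ε • algebraMap R A x + (algebraMap R A y - ε • algebraMap R A y) := by
    rw [map_add, map_mul, map_mul, map_sub, map_one, ← IsScalarTower.algebraMap_apply,
      ← Algebra.smul_def, sub_mul, one_mul, ← Algebra.smul_def]
  rw [e1, TensorProduct.tmul_add, TensorProduct.tmul_sub, TensorProduct.tmul_smul,
    TensorProduct.tmul_smul, sub_smul, one_smul, algebraMap_smul, algebraMap_smul]

/-- `LocIsoEt` with the standard model from étale-local adapted units -/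
theorem ordinary_of_cover (lam : R ≃ₐ[S] R) (hlam : ∀ r, lam (lam r) = r)
    (n : ℕ) (hn : 0 < n) (hA : IsAzumayaDeg R A n) (t : LamInv R A lam)
    (wU : (Matrix (Fin n) (Fin n) R)ˣ) (e : R)
    (hw : LamInv.transpose lam (Fin n) hlam (↑wU : Matrix (Fin n) (Fin n) R) =
      e • (↑wU : Matrix (Fin n) (Fin n) R)) (he : lam e * e = 1)
    (h : ∀ q, HasNbhd (t.linS S lam) (cst A (↑wU : Matrix (Fin n) (Fin n) R))
      (cst A (↑wU⁻¹ : Matrix (Fin n) (Fin n) R)) q) :
    LocIsoEt S lam t ((LamInv.transpose lam (Fin n) hlam).conj wU e hw he) := by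
  obtain ⟨S', iCR, iAlg, iEt, iFF, E, hE⟩ := AdaptedCore.exists_adapted_cover A
    (t.linS S lam) _ _ h
  exact locIsoEt_of_adapted S' n hn lam _ _ hA t E hE (isAzumayaDeg_matrix n hn) _ _
    (adapted_std S' n lam hlam wU e hw he)

section main

open Groth.Agent.Lib.Helper3.OrthSymplTarget

/-- the unit `1` with both components literally `1` -/
def oneU (n : ℕ) : (Matrix (Fin n) (Fin n) R)ˣ := ⟨1, 1, one_mul 1, one_mul 1⟩

lemma hw_one (lam : R ≃ₐ[S] R) (hlam : ∀ r, lam (lam r) = r) (n : ℕ) :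
    LamInv.transpose lam (Fin n) hlam (↑(oneU (R := R) n) : Matrix (Fin n) (Fin n) R) =
      (1 : R) • (↑(oneU (R := R) n) : Matrix (Fin n) (Fin n) R) := by
  rw [one_smul]
  show lamTr (lam : R →+* R) (1 : Matrix (Fin n) (Fin n) R) = 1
  exact lamTr_one _

lemma he_one (lam : R ≃ₐ[S] R) : lam (1 : R) * 1 = 1 := by rw [map_one, mul_one]

/-- the quadratic étale case -/
theorem ordinary_quadEtale (lam : R ≃ₐ[S] R) (hlam : ∀ r, lam (lam r) = r)
    (hfix : RInv.IsFixedRing S R lam.toRingEquiv) (hq : RInv.IsQuadEtale S R)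
    (n : ℕ) (hn : 0 < n) (hA : IsAzumayaDeg R A n) (t : LamInv R A lam) :
    LocIsoEt S lam t ((LamInv.transpose lam (Fin n) hlam).conj (oneU n) 1 (hw_one lam hlam n)
      (he_one lam)) := by
  obtain ⟨S', iCR, iAlg, iEt, iFF, E, hE, hEs⟩ :=
    SymSplitCore.exists_symm_matUnits (A := A) lam hlam hfix hq n hn hA t
  have hE' := adapted_one_of_symm (R := R) (t.linS S lam) S' E hE hEs
  exact locIsoEt_of_adapted S' n hn lam 1 1 hA t E hE' (isAzumayaDeg_matrix n hn) _ _
    (adapted_std S' n lam hlam (oneU n) 1 (hw_one lam hlam n) (he_one lam))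

/-- the everywhere ramified case with `2` invertible -/
theorem ordinary_ram (lam : R ≃ₐ[S] R) (hlam : ∀ r, lam (lam r) = r)
    (hfix : RInv.IsFixedRing S R lam.toRingEquiv) (h2 : IsUnit (2 : S))
    (hram : ∀ p : PrimeSpectrum S, ¬ RInv.IsQuadEtale (Localization.AtPrime p.asIdeal)
      (Localization.AtPrime p.asIdeal ⊗[S] R))
    (n : ℕ) (hn : 0 < n) (hA : IsAzumayaDeg R A n) (t : LamInv R A lam) :
    ∃ (w : (Matrix (Fin n) (Fin n) R)ˣ) (e : R)
      (hw : LamInv.transpose lam (Fin n) hlam (↑w : Matrix (Fin n) (Fin n) R) =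
        e • (↑w : Matrix (Fin n) (Fin n) R)) (he : lam e * e = 1),
      LocIsoEt S lam t ((LamInv.transpose lam (Fin n) hlam).conj w e hw he) := by
  have hloc := fun q => local_dichotomy_ram lam hlam hfix h2 n hn hA t q (hram q)
  by_cases hev : Even n
  · obtain ⟨k, rfl⟩ : ∃ k, n = k * 2 := by
      obtain ⟨k, hk⟩ := hev
      exact ⟨k, by omega⟩
    set U₁ : Set (PrimeSpectrum S) := {q | HasNbhd (t.linS S lam)
      (cst A (1 : Matrix (Fin (k * 2)) (Fin (k * 2)) R))
      (cst A (1 : Matrix (Fin (k * 2)) (Fin (k * 2)) R)) q} with hU₁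
    set U₂ : Set (PrimeSpectrum S) := {q | HasNbhd (t.linS S lam)
      (cst A (Jn k : Matrix (Fin (k * 2)) (Fin (k * 2)) R))
      (cst A (-Jn k : Matrix (Fin (k * 2)) (Fin (k * 2)) R)) q} with hU₂
    have hcover : ∀ q, q ∈ U₁ ∨ q ∈ U₂ := by
      intro q
      rcases hloc q with h | ⟨k', hk', h⟩
      · left
        exact AdaptedCore.exists_adapted_at A _ _ _ q h
      · right
        have : k' = k := by omega
        subst this
        exact AdaptedCore.exists_adapted_at A _ _ _ q h
    have hdisj : ∀ q, q ∈ U₁ → q ∈ U₂ → False :=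
      fun q h₁ h₂ => not_hasNbhd_both_ram lam hlam hfix h2 k hn hA t q (hram q) h₁ h₂
    have hcompl : U₁ᶜ = U₂ := by
      ext q
      constructor
      · intro hq
        exact (hcover q).resolve_left hq
      · intro hq hq'
        exact hdisj q hq' hq
    have hclopen : IsClopen U₁ := by
      refine ⟨?_, isOpen_hasNbhd _ _ _⟩
      rw [← isOpen_compl_iff, hcompl]
      exact isOpen_hasNbhd _ _ _
    obtain ⟨ε, hε, hU⟩ := PrimeSpectrum.isClopen_iff.mp hclopen
    have hmemU : ∀ q : PrimeSpectrum S, q ∈ U₁ ↔ ε ∉ q.asIdeal := by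
      intro q
      rw [hU]
      exact PrimeSpectrum.mem_basicOpen ε q
    set εR : R := algebraMap S R ε with hεRdef
    have hεR : εR * εR = εR := by rw [hεRdef, ← map_mul, hε.eq]
    have hlamε : lam εR = εR := lam.commutes ε
    let wU : (Matrix (Fin (k * 2)) (Fin (k * 2)) R)ˣ :=
      ⟨wMat εR k, wMat' εR k, wMat_mul εR hεR k, mul_eq_one_comm.mp (wMat_mul εR hεR k)⟩
    have hw : LamInv.transpose lam (Fin (k * 2)) hlam
        (↑wU : Matrix (Fin (k * 2)) (Fin (k * 2)) R) =
        (2 * εR - 1) • (↑wU : Matrix (Fin (k * 2)) (Fin (k * 2)) R) :=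
      lamTr_wMat (lam : R →+* R) εR hεR hlamε k
    have he : lam (2 * εR - 1) * (2 * εR - 1) = 1 := by
      rw [map_sub, map_mul, map_ofNat, hlamε, map_one]
      linear_combination 4 * hεR
    refine ⟨wU, 2 * εR - 1, hw, he, ordinary_of_cover lam hlam (k * 2) hn hA t wU _ hw he ?_⟩
    intro q
    haveI := q.isPrime
    set H := Hq q.asIdeal with hH
    set εH : H := algebraMap S H ε with hεHdef
    have hεH : εH * εH = εH := by rw [hεHdef, ← map_mul, hε.eq]
    have hεHm : εH ∈ maximalIdeal H ↔ ε ∈ q.asIdeal := by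
      have hcm := comap_maximalIdeal q.asIdeal
      constructor
      · intro hm
        have : ε ∈ (maximalIdeal (Hq q.asIdeal)).comap (algebraMap S (Hq q.asIdeal)) := hm
        rwa [hcm] at this
      · intro hq
        have : ε ∈ (maximalIdeal (Hq q.asIdeal)).comap (algebraMap S (Hq q.asIdeal)) := by
          rw [hcm]; exact hq
        exact this
    have hconst : ∀ (x y : Matrix (Fin (k * 2)) (Fin (k * 2)) R) (i j : Fin (k * 2)),
        (1 : H) ⊗ₜ[S] cst A (εR • x + (1 - εR) • y) i j =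
          εH • ((1 : H) ⊗ₜ[S] cst A x i j) + (1 - εH) • ((1 : H) ⊗ₜ[S] cst A y i j) := by
      intro x y i j
      show (1 : H) ⊗ₜ[S] algebraMap R A ((εR • x + (1 - εR) • y) i j) = _
      rw [Matrix.add_apply, Matrix.smul_apply, Matrix.smul_apply, smul_eq_mul, smul_eq_mul]
      exact one_tmul_mix H ε (x i j) (y i j)
    by_cases hεq : ε ∈ q.asIdeal
    · have hq2 : q ∈ U₂ := (hcover q).resolve_left (fun h => ((hmemU q).mp h) hεq)
      rcases hloc q with h | ⟨k', hk', h⟩
      · exact absurd hq2 (fun h2' => hdisj q (AdaptedCore.exists_adapted_at A _ _ _ q h) h2')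
      · have : k' = k := by omega
        subst this
        obtain ⟨E, hE⟩ := h
        have hεH0 : εH = 0 := by
          have hm : εH ∈ maximalIdeal H := hεHm.mpr hεq
          have hu : IsUnit (1 - εH) := by
            have : 1 - εH = 1 + -εH := by ring
            rw [this]
            exact isUnit_add_of_mem isUnit_one ((Ideal.neg_mem_iff _).mpr hm)
          have h0 : (1 - εH) * εH = 0 := by rw [sub_mul, one_mul, hεH, sub_self]
          exact (hu.mul_right_eq_zero).mp h0
        refine AdaptedCore.exists_adapted_at A _ _ _ q ⟨E, ?_⟩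
        refine adapted_congr_consts _ _ _ _ _ _ E ?_ ?_ hE
        · intro i j
          show _ = (1 : H) ⊗ₜ[S] cst A (εR • (1 : Matrix (Fin (k' * 2)) (Fin (k' * 2)) R) +
            (1 - εR) • Jn k') i j
          rw [hconst, hεH0, zero_smul, sub_zero, one_smul, zero_add]
        · intro i j
          show _ = (1 : H) ⊗ₜ[S] cst A (εR • (1 : Matrix (Fin (k' * 2)) (Fin (k' * 2)) R) +
            (1 - εR) • (-Jn k')) i j
          rw [hconst, hεH0, zero_smul, sub_zero, one_smul, zero_add]
    · have hq1 : q ∈ U₁ := (hmemU q).mpr hεq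
      rcases hloc q with h | ⟨k', hk', h⟩
      · obtain ⟨E, hE⟩ := h
        have hεH1 : εH = 1 := by
          have hu : IsUnit εH := by
            by_contra hnu
            exact hεq (hεHm.mp hnu)
          have h0 : εH * (εH - 1) = 0 := by rw [mul_sub, mul_one, hεH, sub_self]
          have := (hu.mul_right_eq_zero).mp h0
          linear_combination this
        refine AdaptedCore.exists_adapted_at A _ _ _ q ⟨E, ?_⟩
        refine adapted_congr_consts _ _ _ _ _ _ E ?_ ?_ hE
        · intro i j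
          show _ = (1 : H) ⊗ₜ[S] cst A (εR • (1 : Matrix (Fin (k * 2)) (Fin (k * 2)) R) +
            (1 - εR) • Jn k) i j
          rw [hconst, hεH1, one_smul, sub_self, zero_smul, add_zero]
        · intro i j
          show _ = (1 : H) ⊗ₜ[S] cst A (εR • (1 : Matrix (Fin (k * 2)) (Fin (k * 2)) R) +
            (1 - εR) • (-Jn k)) i j
          rw [hconst, hεH1, one_smul, sub_self, zero_smul, add_zero]
      · have : k' = k := by omega
        subst this
        exact absurd (AdaptedCore.exists_adapted_at A _ _ _ q h) (fun h2' => hdisj q hq1 h2')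
  · refine ⟨oneU n, 1, hw_one lam hlam n, he_one lam,
      ordinary_of_cover lam hlam n hn hA t (oneU n) 1 (hw_one lam hlam n) (he_one lam) ?_⟩
    intro q
    rcases hloc q with h | ⟨k', hk', h⟩
    · exact AdaptedCore.exists_adapted_at A _ _ _ q h
    · exact absurd ⟨k', by omega⟩ hev

end main

end Groth.Agent.Lib.Helper3.OrdinaryMain
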