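import Groth.Agent.Lib.Helper3.RamLocal
import Groth.Agent.Lib.Helper3.SymplCongGen
import Groth.Agent.Lib.Helper3.HensSqrt
import Groth.Agent.Lib.Helper3.HensUnits
import Groth.Agent.Lib.Helper3.StrictHensPrime

/-! Local dichotomy at a ramified prime: hermitian or skew-hermitian adapted units (helper3). -/

set_option autoImplicit false
universe u v w

open TensorProduct IsLocalRing

namespace Groth.Agent.Lib.Helper3.RamDichotomy

open AzInv Groth.Agent.Lib.Helper3.FixedBC Groth.Agent.Lib.Helper3.MatUnits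
  Groth.Agent.Lib.Helper3.LamInvBC Groth.Agent.Lib.Helper3.FixedSplitSym
  Groth.Agent.Lib.Helper3.IndEtDescent Groth.Agent.Lib.Helper3.AdaptedSplit
  Groth.Agent.Lib.Helper3.HermCong Groth.Agent.Lib.Helper3.InvLocal
  Groth.Agent.Lib.Helper3.AdaptedLocal Groth.Agent.Lib.Helper3.SymplCong
  Groth.Agent.Lib.Helper3.SymplCongGen
  Groth.Agent.Lib.Helper3.StrictHensPrime Groth.Agent.Lib.Helper80.RInvLib

variable {S : Type u} {R : Type v} [CommRing S] [CommRing R] [Algebra S R]
  {A : Type w} [Ring A] [Algebra S A] [Algebra R A] [IsScalarTower S R A]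

lemma bcMat_one' (S' : Type*) [CommRing S'] [Algebra S S'] (n : ℕ) :
    bcMat (S := S) S' (1 : Matrix (Fin n) (Fin n) R) = 1 := by
  ext i j
  simp only [bcMat, Matrix.map_apply, Matrix.one_apply]
  split_ifs
  · rfl
  · rw [TensorProduct.tmul_zero]

lemma bcMat_Jn' (S' : Type*) [CommRing S'] [Algebra S S'] (k : ℕ) :
    bcMat (S := S) S' (Jn k : Matrix (Fin (k * 2)) (Fin (k * 2)) R) = Jn k :=
  map_Jn (Algebra.TensorProduct.includeRight : R →ₐ[S] S' ⊗[S] R).toRingHom k

lemma bcMat_neg' (S' : Type*) [CommRing S'] [Algebra S S'] {n : ℕ}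
    (b : Matrix (Fin n) (Fin n) R) : bcMat (S := S) S' (-b) = -bcMat S' b := by
  ext i j
  simp only [bcMat, Matrix.map_apply, Matrix.neg_apply, TensorProduct.tmul_neg]

/-- scaling a unit matrix by a unit scalar -/
def smulUnit {K : Type*} [CommRing K] {n : ℕ} (a : Kˣ) (c : (Matrix (Fin n) (Fin n) K)ˣ) :
    (Matrix (Fin n) (Fin n) K)ˣ :=
  ⟨(a : K) • (c : Matrix (Fin n) (Fin n) K), ((a⁻¹ : Kˣ) : K) • (↑c⁻¹ : Matrix (Fin n) (Fin n) K),
    by rw [smul_mul_smul_comm, Units.mul_inv, Units.mul_inv, one_smul],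
    by rw [smul_mul_smul_comm, Units.inv_mul, Units.inv_mul, one_smul]⟩

lemma smulUnit_conj {K : Type*} [CommRing K] {n : ℕ} (a : Kˣ) (c : (Matrix (Fin n) (Fin n) K)ˣ)
    (x : Matrix (Fin n) (Fin n) K) :
    (↑(smulUnit a c) : Matrix (Fin n) (Fin n) K) * x *
      (↑(smulUnit a c)⁻¹ : Matrix (Fin n) (Fin n) K) =
    (↑c : Matrix (Fin n) (Fin n) K) * x * (↑c⁻¹ : Matrix (Fin n) (Fin n) K) := by
  show ((a : K) • (c : Matrix (Fin n) (Fin n) K)) * x *
    (((a⁻¹ : Kˣ) : K) • (↑c⁻¹ : Matrix (Fin n) (Fin n) K)) = _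
  rw [smul_mul_assoc, smul_mul_assoc, mul_smul_comm, smul_smul, Units.mul_inv, one_smul]

/-- local dichotomy at a ramified prime -/
theorem local_dichotomy_ram (lam : R ≃ₐ[S] R) (hlam : ∀ r, lam (lam r) = r)
    (hfix : RInv.IsFixedRing S R lam.toRingEquiv) (h2 : IsUnit (2 : S))
    (n : ℕ) (hn : 0 < n) (hA : IsAzumayaDeg R A n) (t : LamInv R A lam) (q : PrimeSpectrum S)
    (hram : ¬ RInv.IsQuadEtale (Localization.AtPrime q.asIdeal)
      (Localization.AtPrime q.asIdeal ⊗[S] R)) :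
    (∃ E : Fin n → Fin n → Hq q.asIdeal ⊗[S] A,
        IsAdaptedC A (t.linS S lam) (Hq q.asIdeal) (cst A (1 : Matrix (Fin n) (Fin n) R))
          (cst A (1 : Matrix (Fin n) (Fin n) R)) E) ∨
    (∃ k : ℕ, n = k * 2 ∧ ∃ E : Fin (k * 2) → Fin (k * 2) → Hq q.asIdeal ⊗[S] A,
        IsAdaptedC A (t.linS S lam) (Hq q.asIdeal)
          (cst A (Jn k : Matrix (Fin (k * 2)) (Fin (k * 2)) R))
          (cst A (-Jn k : Matrix (Fin (k * 2)) (Fin (k * 2)) R)) E) := by
  haveI := q.isPrime
  set H := Hq q.asIdeal with hH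
  have hinv : Function.Involutive lam.toRingEquiv := hlam
  have hσ' : ∀ z, (lamBC H hfix).toRingEquiv z = sig lam H z := by
    intro z
    induction z using TensorProduct.induction_on with
    | zero => simp
    | tmul s r =>
      show lamBC H hfix (s ⊗ₜ[S] r) = _
      rw [lamBC_tmul, sig_tmul]
      rfl
    | add x y hx hy => rw [map_add, map_add, hx, hy]
  have hfix' := isFixedRing_baseChange H hfix
  have hinv' := lamBC_involutive H hinv hfix
  obtain ⟨hloc, hjac⟩ := RamLocal.ramified_local lam hlam hfix q hram H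
    (comap_maximalIdeal q.asIdeal) (lamBC H hfix).toRingEquiv hσ' hfix'
  haveI := hloc
  set σ := sig lam H with hσdef
  have hσσ := sig_sig lam hlam H
  have hσm : ∀ z, σ z - z ∈ maximalIdeal (H ⊗[S] R) := fun z =>
    (mem_ringJacobson_iff.mp (hjac z)) _ (maximalIdeal.isMaximal _)
  have h2H : IsUnit (2 : H) := by
    have := h2.map (algebraMap S H)
    rwa [map_ofNat] at this
  have h2K : IsUnit (2 : H ⊗[S] R) := by
    have := h2H.map (algebraMap H (H ⊗[S] R))
    rwa [map_ofNat] at this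
  -- σ-fixed elements come from `H`
  have hfixed : ∀ a : H ⊗[S] R, σ a = a → ∃ h₀ : H, algebraMap H (H ⊗[S] R) h₀ = a := by
    intro a ha
    obtain ⟨s, hs⟩ := exists_of_fixed_bc (S' := H) lam hfix a (by rw [← sig_apply]; exact ha)
    exact ⟨s, by rw [Algebra.TensorProduct.algebraMap_apply, Algebra.algebraMap_self,
      RingHom.id_apply]; exact hs⟩
  have hσalg : ∀ h₀ : H, σ (algebraMap H (H ⊗[S] R) h₀) = algebraMap H (H ⊗[S] R) h₀ := by
    intro h₀
    rw [Algebra.TensorProduct.algebraMap_apply, Algebra.algebraMap_self, RingHom.id_apply,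
      hσdef, sig_tmul, map_one]
  have hnonunit : ∀ h₀ : H, ¬ IsUnit h₀ →
      algebraMap H (H ⊗[S] R) h₀ ∈ maximalIdeal (H ⊗[S] R) := fun h₀ hh =>
    algebraMap_mem_of_not_isUnit hinv' hfix' hh (maximalIdeal.isMaximal _)
  have hsq : ∀ a : H ⊗[S] R, IsUnit a → σ a = a → ∃ y : H ⊗[S] R, σ y = y ∧ y * y = a := by
    intro a hau ha
    obtain ⟨h₀, rfl⟩ := hfixed a ha
    have hh₀ : IsUnit h₀ := by
      by_contra hh
      exact (hnonunit h₀ hh) hau
    obtain ⟨y, hy⟩ := HensSqrt.exists_sqrt h2H h₀ hh₀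
    exact ⟨algebraMap H _ y, hσalg y, by rw [← map_mul, hy]⟩
  have hHens : ∀ s : H ⊗[S] R, σ s = s → s ∈ maximalIdeal (H ⊗[S] R) →
      ∃ w : H ⊗[S] R, σ w = w ∧ IsUnit w ∧ w * w - 2 * w + s = 0 := by
    intro s hs hsm
    obtain ⟨s₀, rfl⟩ := hfixed s hs
    have hs₀ : s₀ ∈ maximalIdeal H := by
      by_contra hh
      have hu : IsUnit s₀ := by
        by_contra h'
        exact hh h'
      exact hsm (hu.map _)
    obtain ⟨w₀, hw₀, hw₀m⟩ := HenselianLocalRing.is_henselian
      (Polynomial.X ^ 2 - Polynomial.C 2 * Polynomial.X + Polynomial.C s₀ : Polynomial H)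
      (by
        have : (Polynomial.X ^ 2 - Polynomial.C 2 * Polynomial.X + Polynomial.C s₀ :
            Polynomial H) = Polynomial.X ^ 2 + (-(Polynomial.C 2 * Polynomial.X) +
              Polynomial.C s₀) := by ring
        rw [this]
        apply Polynomial.monic_X_pow_add
        refine lt_of_le_of_lt (Polynomial.degree_add_le _ _) ?_
        refine max_lt ?_ (lt_of_le_of_lt Polynomial.degree_C_le (by norm_num))
        rw [Polynomial.degree_neg]
        exact lt_of_le_of_lt (Polynomial.degree_C_mul_X_le _) (by norm_num))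
      2
      (by
        simp only [Polynomial.eval_add, Polynomial.eval_sub, Polynomial.eval_pow,
          Polynomial.eval_X, Polynomial.eval_mul, Polynomial.eval_C]
        have : (2 : H) ^ 2 - 2 * 2 + s₀ = s₀ := by ring
        rw [this]
        exact hs₀)
      (by
        simp only [Polynomial.derivative_add, Polynomial.derivative_sub,
          Polynomial.derivative_X_pow, Polynomial.derivative_mul, Polynomial.derivative_C,
          Polynomial.derivative_X, Polynomial.eval_add, Polynomial.eval_sub, Polynomial.eval_pow,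
          Polynomial.eval_X, Polynomial.eval_mul, Polynomial.eval_C, Polynomial.eval_zero,
          Polynomial.eval_one]
        norm_num
        exact h2H)
    have hw₀u : IsUnit w₀ := by
      have : w₀ = 2 + (w₀ - 2) := by ring
      rw [this]
      exact isUnit_add_of_mem h2H hw₀m
    refine ⟨algebraMap H _ w₀, hσalg w₀, hw₀u.map _, ?_⟩
    rw [Polynomial.IsRoot.def] at hw₀
    simp only [Polynomial.eval_add, Polynomial.eval_sub, Polynomial.eval_pow,
      Polynomial.eval_X, Polynomial.eval_mul, Polynomial.eval_C] at hw₀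
    have := congrArg (algebraMap H (H ⊗[S] R)) hw₀
    simp only [map_add, map_sub, map_pow, map_mul, map_ofNat, map_zero] at this
    linear_combination this
  -- the local form
  have hfixS : RInv.IsFixedRing S R lam.toRingEquiv := hfix
  obtain ⟨G, hG⟩ := HensUnits.exists_matUnits (A := A) lam hlam hfix n hn hA H
  obtain ⟨f, hf1, -⟩ := split_of_matUnits' H n hn hA G hG
  obtain ⟨c, e, he, hce, hτ⟩ := exists_conj_form_bc H f hf1 hn lam hlam t
  have hτ' : ∀ (a : (H ⊗[S] R)ˣ) x, f (t.bc S lam H x) =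
      (↑(smulUnit a c) : Matrix (Fin n) (Fin n) (H ⊗[S] R)) *
        lamTr (sig lam H) (f x) *
        (↑(smulUnit a c)⁻¹ : Matrix (Fin n) (Fin n) (H ⊗[S] R)) := by
    intro a x
    rw [smulUnit_conj]
    exact hτ x
  have hlam_smul : ∀ (a : (H ⊗[S] R)ˣ),
      lamTr σ (↑(smulUnit a c) : Matrix (Fin n) (Fin n) (H ⊗[S] R)) =
        (σ (a : H ⊗[S] R) * e) • (↑c : Matrix (Fin n) (Fin n) (H ⊗[S] R)) := by
    intro a
    show lamTr σ ((a : H ⊗[S] R) • (↑c : Matrix (Fin n) (Fin n) (H ⊗[S] R))) = _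
    rw [lamTr_smul, hce, smul_smul]
  by_cases hcase : IsUnit (1 + e)
  · left
    obtain ⟨a, ha⟩ := hcase
    have hh : lamTr σ (↑(smulUnit a c) : Matrix (Fin n) (Fin n) (H ⊗[S] R)) =
        (↑(smulUnit a c) : Matrix (Fin n) (Fin n) (H ⊗[S] R)) := by
      rw [hlam_smul, ha, map_add, map_one, add_mul, one_mul, he, add_comm]
      rw [← ha]
      rfl
    have hcong := exists_cong_one σ hσσ h2K hσm hsq n _ (smulUnit a c).isUnit hh
    refine adapted_of_cong H f hf1 lam hlam t (smulUnit a c) (hτ' a) 1 1 (one_mul 1) ?_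
    rw [bcMat_one']
    exact hcong
  · right
    have hm : 1 + e ∈ maximalIdeal (H ⊗[S] R) := hcase
    have hbu : IsUnit (1 - e) := by
      have : 1 - e = 2 + -(1 + e) := by ring
      rw [this]
      exact isUnit_add_of_mem h2K ((Ideal.neg_mem_iff _).mpr hm)
    obtain ⟨b, hb⟩ := hbu
    have hs : lamTr σ (↑(smulUnit b c) : Matrix (Fin n) (Fin n) (H ⊗[S] R)) =
        -(↑(smulUnit b c) : Matrix (Fin n) (Fin n) (H ⊗[S] R)) := by
      rw [hlam_smul, hb, map_sub, map_one, sub_mul, one_mul, he]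
      have : e - 1 = -(1 - e) := by ring
      rw [this, ← hb, neg_smul]
      rfl
    have hev := even_of_isUnit_skew_gen σ h2K hσm
      (↑(smulUnit b c) : Matrix (Fin n) (Fin n) (H ⊗[S] R)) (smulUnit b c).isUnit hs
    obtain ⟨k, rfl⟩ : ∃ k, n = k * 2 := by
      obtain ⟨k, hk⟩ := hev
      exact ⟨k, by omega⟩
    refine ⟨k, rfl, ?_⟩
    have hcong := exists_cong_Jn_gen σ hσσ h2K hσm hHens k
      (↑(smulUnit b c) : Matrix (Fin (k * 2)) (Fin (k * 2)) (H ⊗[S] R)) (smulUnit b c).isUnit hs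
    refine adapted_of_cong H f hf1 lam hlam t (smulUnit b c) (hτ' b) (Jn k) (-Jn k) ?_ ?_
    · rw [Matrix.mul_neg, Jn_mul_Jn, neg_neg]
    · rw [bcMat_Jn']
      exact hcong

end Groth.Agent.Lib.Helper3.RamDichotomy
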