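import Groth.Agent.Lib.Helper3.OrthSympl
import Groth.Agent.Lib.Helper3.RamDichotomy
import Groth.Agent.Lib.Helper3.InvLocalGen
import Groth.Agent.Lib.Helper3.CommonField2
import Groth.Agent.S15586

/-! Ramified primes: disjointness of hermitian and skew-hermitian neighbourhoods (helper3). -/

set_option autoImplicit false
universe u v w

open TensorProduct IsLocalRing

namespace Groth.Agent.Lib.Helper3.OrdinaryRam

open AzInv Groth.Agent.Lib.Helper3.FixedBC Groth.Agent.Lib.Helper3.MatUnits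
  Groth.Agent.Lib.Helper3.LamInvBC Groth.Agent.Lib.Helper3.FixedSplitSym
  Groth.Agent.Lib.Helper3.IndEtDescent Groth.Agent.Lib.Helper3.AdaptedSplit
  Groth.Agent.Lib.Helper3.HermCong Groth.Agent.Lib.Helper3.InvLocal
  Groth.Agent.Lib.Helper3.AdaptedLocal Groth.Agent.Lib.Helper3.SymplCong
  Groth.Agent.Lib.Helper3.SymplCongGen Groth.Agent.Lib.Helper3.RamDichotomy
  Groth.Agent.Lib.Helper3.StrictHensPrime Groth.Agent.Lib.Helper80.RInvLib
  Groth.Agent.Lib.Helper3.OrthSympl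

variable {S : Type u} {R : Type v} [CommRing S] [CommRing R] [Algebra S R]
  {A : Type w} [Ring A] [Algebra S A] [Algebra R A] [IsScalarTower S R A]

lemma adapted_congr_consts (τ : A →ₗ[S] A) (T : Type*) [CommRing T] [Algebra S T] {n : ℕ}
    (a a' b b' : Fin n → Fin n → A) (E : Fin n → Fin n → T ⊗[S] A)
    (h : ∀ k l, (1 : T) ⊗ₜ[S] a k l = (1 : T) ⊗ₜ[S] b k l)
    (h' : ∀ k l, (1 : T) ⊗ₜ[S] a' k l = (1 : T) ⊗ₜ[S] b' k l)
    (hE : IsAdaptedC A τ T a a' E) : IsAdaptedC A τ T b b' E := by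
  have e1 : Wc A T a E = Wc A T b E := by
    simp only [Wc, h]
  have e2 : Wc A T a' E = Wc A T b' E := by
    simp only [Wc, h']
  refine ⟨hE.1, fun i j => ?_⟩
  rw [← e1, ← e2]
  exact hE.2 i j

/-- over a common local ring with residually trivial involution, hermitian and skew-hermitian
adapted units cannot coexist -/
theorem not_both_gen (lam : R ≃ₐ[S] R) (hlam : ∀ r, lam (lam r) = r)
    (S' : Type*) [CommRing S'] [Algebra S S'] [IsLocalRing (S' ⊗[S] R)]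
    (h2K : IsUnit (2 : S' ⊗[S] R))
    (hσm : ∀ z, sig lam S' z - z ∈ maximalIdeal (S' ⊗[S] R))
    (k : ℕ) (hk : 0 < k * 2) (hA : IsAzumayaDeg R A (k * 2)) (t : LamInv R A lam)
    (E₁ : Fin (k * 2) → Fin (k * 2) → S' ⊗[S] A)
    (hE₁ : IsAdaptedC A (t.linS S lam) S'
      (cst A (1 : Matrix (Fin (k * 2)) (Fin (k * 2)) R))
      (cst A (1 : Matrix (Fin (k * 2)) (Fin (k * 2)) R)) E₁)
    (E₂ : Fin (k * 2) → Fin (k * 2) → S' ⊗[S] A)
    (hE₂ : IsAdaptedC A (t.linS S lam) S'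
      (cst A (Jn k : Matrix (Fin (k * 2)) (Fin (k * 2)) R))
      (cst A (-Jn k : Matrix (Fin (k * 2)) (Fin (k * 2)) R)) E₂) : False := by
  obtain ⟨f₁, hf₁, ht₁⟩ := split_of_adapted S' (k * 2) hk hA lam t 1 1 E₁ hE₁
  obtain ⟨f₂, hf₂, ht₂⟩ := split_of_adapted S' (k * 2) hk hA lam t (Jn k) (-Jn k) E₂ hE₂
  rw [← coe_sig, bcMat_one'] at ht₁
  rw [← coe_sig, bcMat_neg', bcMat_Jn'] at ht₂
  simp only [one_mul, mul_one] at ht₁
  have hsc : ∀ z : S' ⊗[S] R,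
      algebraMap (S' ⊗[S] R) (Matrix (Fin (k * 2)) (Fin (k * 2)) (S' ⊗[S] R)) z
      = Matrix.scalar (Fin (k * 2)) z * 1 := by
    intro z
    rw [mul_one]
    rfl
  let φ : Matrix (Fin (k * 2)) (Fin (k * 2)) (S' ⊗[S] R) ≃ₐ[S' ⊗[S] R]
      Matrix (Fin (k * 2)) (Fin (k * 2)) (S' ⊗[S] R) :=
    AlgEquiv.ofRingEquiv (f := (f₁.symm.trans f₂).toRingEquiv) (by
      intro z
      show f₂ (f₁.symm _) = _
      rw [hsc, split_symm_scalar S' f₁ hf₁, split_scalar S' f₂ hf₂, map_one, map_one])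
  have hφ : ∀ y, φ y = f₂ (f₁.symm y) := fun y => rfl
  refine false_of_herm_skew (sig lam S') (sig_sig lam hlam S') h2K hσm hk φ (Jn k) (-Jn k)
    (by rw [Matrix.mul_neg, Jn_mul_Jn, neg_neg]) (lamTr_Jn _ k) ?_
  intro y
  obtain ⟨x, rfl⟩ := f₁.surjective y
  rw [hφ, hφ, ← ht₁, AlgEquiv.symm_apply_apply, AlgEquiv.symm_apply_apply, ht₂]

/-- at a ramified prime, hermitian and skew-hermitian neighbourhoods are disjoint -/
theorem not_hasNbhd_both_ram (lam : R ≃ₐ[S] R) (hlam : ∀ r, lam (lam r) = r)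
    (hfix : RInv.IsFixedRing S R lam.toRingEquiv) (h2 : IsUnit (2 : S))
    (k : ℕ) (hk : 0 < k * 2) (hA : IsAzumayaDeg R A (k * 2)) (t : LamInv R A lam)
    (q : PrimeSpectrum S)
    (hram : ¬ RInv.IsQuadEtale (Localization.AtPrime q.asIdeal)
      (Localization.AtPrime q.asIdeal ⊗[S] R))
    (h₁ : HasNbhd (t.linS S lam) (cst A (1 : Matrix (Fin (k * 2)) (Fin (k * 2)) R))
      (cst A (1 : Matrix (Fin (k * 2)) (Fin (k * 2)) R)) q)
    (h₂ : HasNbhd (t.linS S lam)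
      (cst A (Jn k : Matrix (Fin (k * 2)) (Fin (k * 2)) R))
      (cst A (-Jn k : Matrix (Fin (k * 2)) (Fin (k * 2)) R)) q) : False := by
  obtain ⟨T₁, iCR₁, iAlg₁, iEt₁, hq₁, E₁, hE₁⟩ := h₁
  obtain ⟨T₂, iCR₂, iAlg₂, iEt₂, hq₂, E₂, hE₂⟩ := h₂
  obtain ⟨K₀, iF, iAlg, ⟨β₁⟩, ⟨β₂⟩, hker⟩ :=
    CommonField.exists_common_field' T₁ T₂ q hq₁ hq₂
  have hq : (maximalIdeal K₀).comap (algebraMap S K₀) = q.asIdeal := by
    ext r
    rw [Ideal.mem_comap, IsLocalRing.maximalIdeal_eq_bot, Ideal.mem_bot, hker]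
  set σ' : K₀ ⊗[S] R ≃+* K₀ ⊗[S] R :=
    (Algebra.TensorProduct.congr (AlgEquiv.refl : K₀ ≃ₐ[S] K₀) lam).toRingEquiv with hσ'def
  have hσ' : ∀ z, σ' z = sig lam K₀ z := by
    intro z
    induction z using TensorProduct.induction_on with
    | zero => simp
    | tmul s r => rfl
    | add x y hx hy => rw [map_add, map_add, hx, hy]
  have hfix' : RInv.IsFixedRing K₀ (K₀ ⊗[S] R) σ' :=
    Groth.Agent.S15586.result S R K₀ lam hlam hfix (Or.inr h2)
  obtain ⟨hloc, hjac⟩ := RamLocal.ramified_local lam hlam hfix q hram K₀ hq σ' hσ' hfix'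
  haveI := hloc
  have hσm : ∀ z, sig lam K₀ z - z ∈ maximalIdeal (K₀ ⊗[S] R) := fun z =>
    (mem_ringJacobson_iff.mp (hjac z)) _ (maximalIdeal.isMaximal _)
  have h2K : IsUnit (2 : K₀ ⊗[S] R) := by
    have := h2.map (algebraMap S (K₀ ⊗[S] R))
    rwa [map_ofNat] at this
  exact not_both_gen lam hlam K₀ h2K hσm k hk hA t _ (hE₁.map A _ β₁) _ (hE₂.map A _ β₂)

end Groth.Agent.Lib.Helper3.OrdinaryRam
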