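import Groth.Agent.Lib.Helper3.OrthSymplTarget
import Groth.Agent.Lib.Helper3.CommonField
import Groth.Agent.Lib.Helper3.AdaptedCore

/-! Involutions of the first kind over a connected base with `2` invertible: orthogonal or
symplectic type (helper3). -/

set_option autoImplicit false
universe u w

open TensorProduct

namespace Groth.Agent.Lib.Helper3.OrthSympl

open AzInv Groth.Agent.Lib.Helper3.MatUnits
  Groth.Agent.Lib.Helper3.IndEtDescent Groth.Agent.Lib.Helper3.AdaptedSplit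
  Groth.Agent.Lib.Helper3.SymplCong Groth.Agent.Lib.Helper3.SymIsoMat
  Groth.Agent.Lib.Helper3.OrthSymplTarget Groth.Agent.Lib.Helper3.OrthSymplLocal
  Groth.Agent.Lib.Helper3.StrictHensPrime

variable {R : Type u} [CommRing R] {A : Type w} [Ring A] [Algebra R A]

/-- adapted units exist over an étale neighbourhood of `q` -/
def HasNbhd (τ : A →ₗ[R] A) {n : ℕ} (a a' : Fin n → Fin n → A) (q : PrimeSpectrum R) : Prop :=
  ∃ (T : Type u) (_ : CommRing T) (_ : Algebra R T) (_ : Algebra.Etale R T),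
    q ∈ Set.range (PrimeSpectrum.comap (algebraMap R T)) ∧
    ∃ E : Fin n → Fin n → T ⊗[R] A, IsAdaptedC A τ T a a' E

lemma isOpen_hasNbhd (τ : A →ₗ[R] A) {n : ℕ} (a a' : Fin n → Fin n → A) :
    IsOpen {q : PrimeSpectrum R | HasNbhd τ a a' q} := by
  rw [isOpen_iff_forall_mem_open]
  rintro q ⟨T, iCR, iAlg, iEt, hq, E, hE⟩
  refine ⟨Set.range (PrimeSpectrum.comap (algebraMap R T)), ?_, ?_, hq⟩
  · intro q' hq'
    exact ⟨T, iCR, iAlg, iEt, hq', E, hE⟩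
  · exact (PrimeSpectrum.isOpenMap_comap_of_hasGoingDown_of_finitePresentation (R := R)
      (S := T)).isOpen_range

theorem sameType_self_of_cover (n : ℕ) (hn : 0 < n) (hA : IsAzumayaDeg R A n)
    (t : LamInv R A (AlgEquiv.refl : R ≃ₐ[R] R))
    (hlam : ∀ r : R, (AlgEquiv.refl : R ≃ₐ[R] R) ((AlgEquiv.refl : R ≃ₐ[R] R) r) = r)
    (h : ∀ q, HasNbhd (t.linS R AlgEquiv.refl) (cst A (1 : Matrix (Fin n) (Fin n) R))
      (cst A (1 : Matrix (Fin n) (Fin n) R)) q) :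
    SameType R (AlgEquiv.refl : R ≃ₐ[R] R) t (LamInv.self (AlgEquiv.refl : R ≃ₐ[R] R) hlam) := by
  obtain ⟨S', iCR, iAlg, iEt, iFF, E, hE⟩ := AdaptedCore.exists_adapted_cover A
    (t.linS R AlgEquiv.refl) _ _ h
  obtain ⟨E₁, hE₁⟩ := adapted_matOne S' (AlgEquiv.refl : R ≃ₐ[R] R) t _ _ E hE
  obtain ⟨E₂, hE₂⟩ := adapted_std_self (S := R) (R := R) S' n (AlgEquiv.refl : R ≃ₐ[R] R) hlam
  exact ⟨1, n, Nat.one_pos, hn,
    locIsoEt_of_adapted S' n hn (AlgEquiv.refl : R ≃ₐ[R] R) 1 1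
      (isAzumayaDeg_matrix_one n hA) (t.matrix (Fin 1)) E₁ hE₁
      (isAzumayaDeg_matrix n hn) ((LamInv.self (AlgEquiv.refl : R ≃ₐ[R] R) hlam).matrix (Fin n))
      E₂ hE₂⟩

theorem sameType_sympl_of_cover (k : ℕ) (hk : 0 < k * 2) (hA : IsAzumayaDeg R A (k * 2))
    (t : LamInv R A (AlgEquiv.refl : R ≃ₐ[R] R))
    (hlam : ∀ r : R, (AlgEquiv.refl : R ≃ₐ[R] R) ((AlgEquiv.refl : R ≃ₐ[R] R) r) = r)
    (J : (Matrix (Fin 2) (Fin 2) R)ˣ)
    (hJ : (↑J : Matrix (Fin 2) (Fin 2) R) = Matrix.of ![![0, -1], ![1, 0]])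
    (hJt : LamInv.transpose (AlgEquiv.refl : R ≃ₐ[R] R) (Fin 2) hlam
      (↑J : Matrix (Fin 2) (Fin 2) R) = (-1 : R) • (↑J : Matrix (Fin 2) (Fin 2) R))
    (hneg : (AlgEquiv.refl : R ≃ₐ[R] R) (-1) * (-1) = 1)
    (h : ∀ q, HasNbhd (t.linS R AlgEquiv.refl)
      (cst A (Jn k : Matrix (Fin (k * 2)) (Fin (k * 2)) R))
      (cst A (-Jn k : Matrix (Fin (k * 2)) (Fin (k * 2)) R)) q) :
    SameType R (AlgEquiv.refl : R ≃ₐ[R] R) t
      ((LamInv.transpose (AlgEquiv.refl : R ≃ₐ[R] R) (Fin 2) hlam).conj J (-1) hJt hneg) := by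
  obtain ⟨S', iCR, iAlg, iEt, iFF, E, hE⟩ := AdaptedCore.exists_adapted_cover A
    (t.linS R AlgEquiv.refl) _ _ h
  obtain ⟨E₁, hE₁⟩ := adapted_matOne S' (AlgEquiv.refl : R ≃ₐ[R] R) t _ _ E hE
  obtain ⟨E₂, hE₂⟩ := adapted_std_sympl S' k hlam J hJ hJt hneg
  have hk0 : 0 < k := by omega
  exact ⟨1, k, Nat.one_pos, hk0,
    locIsoEt_of_adapted S' (k * 2) hk (AlgEquiv.refl : R ≃ₐ[R] R) (Jn k) (-Jn k)
      (isAzumayaDeg_matrix_one (k * 2) hA) (t.matrix (Fin 1)) E₁ hE₁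
      (isAzumayaDeg_of_algEquiv (iota k) (k * 2) (isAzumayaDeg_matrix (k * 2) hk))
      (((LamInv.transpose (AlgEquiv.refl : R ≃ₐ[R] R) (Fin 2) hlam).conj J (-1) hJt hneg).matrix
        (Fin k)) E₂ hE₂⟩

/-- orthogonal and symplectic neighbourhoods are disjoint -/
theorem not_hasNbhd_both (h2 : IsUnit (2 : R)) (k : ℕ) (hk : 0 < k * 2)
    (hA : IsAzumayaDeg R A (k * 2)) (t : LamInv R A (AlgEquiv.refl : R ≃ₐ[R] R))
    (q : PrimeSpectrum R)
    (h₁ : HasNbhd (t.linS R AlgEquiv.refl) (cst A (1 : Matrix (Fin (k * 2)) (Fin (k * 2)) R))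
      (cst A (1 : Matrix (Fin (k * 2)) (Fin (k * 2)) R)) q)
    (h₂ : HasNbhd (t.linS R AlgEquiv.refl)
      (cst A (Jn k : Matrix (Fin (k * 2)) (Fin (k * 2)) R))
      (cst A (-Jn k : Matrix (Fin (k * 2)) (Fin (k * 2)) R)) q) : False := by
  obtain ⟨T₁, iCR₁, iAlg₁, iEt₁, hq₁, E₁, hE₁⟩ := h₁
  obtain ⟨T₂, iCR₂, iAlg₂, iEt₂, hq₂, E₂, hE₂⟩ := h₂
  obtain ⟨K₀, iF, iAlg, ⟨β₁⟩, ⟨β₂⟩⟩ := CommonField.exists_common_field T₁ T₂ q hq₁ hq₂
  haveI : IsLocalRing (K₀ ⊗[R] R) :=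
    (Algebra.TensorProduct.rid R K₀ K₀).symm.toRingEquiv.isLocalRing
  exact not_both h2 K₀ k hk hA t _ (hE₁.map A _ β₁) _ (hE₂.map A _ β₂)

/-- main theorem: orthogonal or symplectic type over a connected base -/
theorem main [Nontrivial R] [ConnectedSpace (PrimeSpectrum R)] (h2 : IsUnit (2 : R))
    (hlam : ∀ r : R, (AlgEquiv.refl : R ≃ₐ[R] R) ((AlgEquiv.refl : R ≃ₐ[R] R) r) = r)
    (J : (Matrix (Fin 2) (Fin 2) R)ˣ)
    (hJ : (↑J : Matrix (Fin 2) (Fin 2) R) = Matrix.of ![![0, -1], ![1, 0]])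
    (hJt : LamInv.transpose (AlgEquiv.refl : R ≃ₐ[R] R) (Fin 2) hlam
      (↑J : Matrix (Fin 2) (Fin 2) R) = (-1 : R) • (↑J : Matrix (Fin 2) (Fin 2) R))
    (hneg : (AlgEquiv.refl : R ≃ₐ[R] R) (-1) * (-1) = 1)
    (n : ℕ) (hn : 0 < n) (hA : IsAzumayaDeg R A n)
    (t : LamInv R A (AlgEquiv.refl : R ≃ₐ[R] R)) :
    SameType R (AlgEquiv.refl : R ≃ₐ[R] R) t (LamInv.self (AlgEquiv.refl : R ≃ₐ[R] R) hlam) ∨
      SameType R (AlgEquiv.refl : R ≃ₐ[R] R) t
        ((LamInv.transpose (AlgEquiv.refl : R ≃ₐ[R] R) (Fin 2) hlam).conj J (-1) hJt hneg) := by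
  have hloc := fun q => local_dichotomy h2 n hn hA t q
  by_cases hev : Even n
  · obtain ⟨k, rfl⟩ : ∃ k, n = k * 2 := by
      obtain ⟨k, hk⟩ := hev
      exact ⟨k, by omega⟩
    set U₁ : Set (PrimeSpectrum R) := {q | HasNbhd (t.linS R AlgEquiv.refl)
      (cst A (1 : Matrix (Fin (k * 2)) (Fin (k * 2)) R))
      (cst A (1 : Matrix (Fin (k * 2)) (Fin (k * 2)) R)) q} with hU₁
    set U₂ : Set (PrimeSpectrum R) := {q | HasNbhd (t.linS R AlgEquiv.refl)
      (cst A (Jn k : Matrix (Fin (k * 2)) (Fin (k * 2)) R))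
      (cst A (-Jn k : Matrix (Fin (k * 2)) (Fin (k * 2)) R)) q} with hU₂
    have hcover : ∀ q, q ∈ U₁ ∨ q ∈ U₂ := by
      intro q
      rcases hloc q with h | ⟨k', hk', h⟩
      · left
        exact AdaptedCore.exists_adapted_at A _ _ _ q h
      · right
        have : k' = k := by omega
        subst this
        exact AdaptedCore.exists_adapted_at A _ _ _ q h
    have hdisj : ∀ q, q ∈ U₁ → q ∈ U₂ → False :=
      fun q h₁ h₂ => not_hasNbhd_both h2 k hn hA t q h₁ h₂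
    have hcompl : U₁ᶜ = U₂ := by
      ext q
      constructor
      · intro hq
        exact (hcover q).resolve_left hq
      · intro hq hq'
        exact hdisj q hq' hq
    have hclopen : IsClopen U₁ := by
      refine ⟨?_, isOpen_hasNbhd _ _ _⟩
      rw [← isOpen_compl_iff, hcompl]
      exact isOpen_hasNbhd _ _ _
    rcases isClopen_iff.mp hclopen with h | h
    · right
      refine sameType_sympl_of_cover k hn hA t hlam J hJ hJt hneg ?_
      intro q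
      rcases hcover q with hq | hq
      · rw [h] at hq
        exact absurd hq (Set.notMem_empty q)
      · exact hq
    · left
      refine sameType_self_of_cover (k * 2) hn hA t hlam ?_
      intro q
      have : q ∈ U₁ := by rw [h]; trivial
      exact this
  · left
    refine sameType_self_of_cover n hn hA t hlam ?_
    intro q
    rcases hloc q with h | ⟨k', hk', h⟩
    · exact AdaptedCore.exists_adapted_at A _ _ _ q h
    · exact absurd ⟨k', by omega⟩ hev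

end Groth.Agent.Lib.Helper3.OrthSympl
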