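import Groth.Agent.Lib.Helper3.AdaptedLocal
import Groth.Agent.Lib.Helper3.SymplCong
import Groth.Agent.Lib.Helper3.HensSqrt
import Groth.Agent.Lib.Helper3.HensUnits
import Groth.Agent.Lib.Helper3.StrictHensPrime

/-! The local dichotomy for involutions of the first kind over a strictly henselian local ring
with `2` invertible: orthogonal or symplectic adapted matrix units (helper3). -/

set_option autoImplicit false
universe u w

open TensorProduct IsLocalRing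

namespace Groth.Agent.Lib.Helper3.OrthSymplLocal

open AzInv Groth.Agent.Lib.Helper3.FixedBC Groth.Agent.Lib.Helper3.MatUnits
  Groth.Agent.Lib.Helper3.LamInvBC Groth.Agent.Lib.Helper3.FixedSplitSym
  Groth.Agent.Lib.Helper3.IndEtDescent Groth.Agent.Lib.Helper3.AdaptedSplit
  Groth.Agent.Lib.Helper3.HermCong Groth.Agent.Lib.Helper3.InvLocal
  Groth.Agent.Lib.Helper3.AdaptedLocal Groth.Agent.Lib.Helper3.SymplCong
  Groth.Agent.Lib.Helper3.StrictHensPrime

variable {R : Type u} [CommRing R] {A : Type w} [Ring A] [Algebra R A]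

lemma sig_refl (S' : Type*) [CommRing S'] [Algebra R S'] :
    sig (AlgEquiv.refl : R ≃ₐ[R] R) S' = RingHom.id (S' ⊗[R] R) := by
  refine RingHom.ext fun z => ?_
  rw [sig_apply]
  induction z using TensorProduct.induction_on with
  | zero => simp
  | tmul s c => rfl
  | add x y hx hy => rw [map_add, hx, hy]; rfl

lemma bcMat_one (S' : Type*) [CommRing S'] [Algebra R S'] (n : ℕ) :
    bcMat (S := R) S' (1 : Matrix (Fin n) (Fin n) R) = 1 := by
  ext i j
  simp only [bcMat, Matrix.map_apply, Matrix.one_apply]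
  split_ifs
  · rfl
  · rw [TensorProduct.tmul_zero]

lemma bcMat_Jn (S' : Type*) [CommRing S'] [Algebra R S'] (k : ℕ) :
    bcMat (S := R) S' (Jn k : Matrix (Fin (k * 2)) (Fin (k * 2)) R) = Jn k :=
  map_Jn (Algebra.TensorProduct.includeRight : R →ₐ[R] S' ⊗[R] R).toRingHom k

/-- local dichotomy at the strict henselization: symmetric or symplectic adapted units -/
theorem local_dichotomy (h2 : IsUnit (2 : R)) (n : ℕ) (hn : 0 < n) (hA : IsAzumayaDeg R A n)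
    (t : LamInv R A (AlgEquiv.refl : R ≃ₐ[R] R)) (q : PrimeSpectrum R) :
    (∃ E : Fin n → Fin n → Hq q.asIdeal ⊗[R] A,
        IsAdaptedC A (t.linS R AlgEquiv.refl) (Hq q.asIdeal) (cst A (1 : Matrix (Fin n) (Fin n) R))
          (cst A (1 : Matrix (Fin n) (Fin n) R)) E) ∨
    (∃ k : ℕ, n = k * 2 ∧ ∃ E : Fin (k * 2) → Fin (k * 2) → Hq q.asIdeal ⊗[R] A,
        IsAdaptedC A (t.linS R AlgEquiv.refl) (Hq q.asIdeal) (cst A (Jn k : Matrix (Fin (k * 2)) (Fin (k * 2)) R))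
          (cst A (-Jn k : Matrix (Fin (k * 2)) (Fin (k * 2)) R)) E) := by
  haveI := q.isPrime
  set H := Hq q.asIdeal with hH
  have hlam : ∀ r : R, (AlgEquiv.refl : R ≃ₐ[R] R) ((AlgEquiv.refl : R ≃ₐ[R] R) r) = r :=
    fun r => rfl
  have hfix : RInv.IsFixedRing R R (AlgEquiv.refl : R ≃ₐ[R] R).toRingEquiv :=
    ⟨fun a b h => h, fun r => ⟨fun _ => ⟨r, rfl⟩, fun _ => rfl⟩⟩
  obtain ⟨G, hG⟩ := HensUnits.exists_matUnits (A := A) (AlgEquiv.refl : R ≃ₐ[R] R) hlam hfix n hn hA H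
  obtain ⟨f, hf1, -⟩ := split_of_matUnits' H n hn hA G hG
  haveI : IsLocalRing (H ⊗[R] R) :=
    (Algebra.TensorProduct.rid R H H).symm.toRingEquiv.isLocalRing
  obtain ⟨c, e, he, hce, hτ⟩ := exists_conj_form_bc H f hf1 hn (AlgEquiv.refl : R ≃ₐ[R] R) hlam t
  have h2K : IsUnit (2 : H ⊗[R] R) := by
    have := h2.map (algebraMap R (H ⊗[R] R))
    rwa [map_ofNat] at this
  have hsq : ∀ a : H ⊗[R] R, IsUnit a → ∃ y : H ⊗[R] R, y * y = a := by
    intro a ha
    have h2H : IsUnit (2 : H) := by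
      have := h2.map (algebraMap R H)
      rwa [map_ofNat] at this
    obtain ⟨y, hy⟩ := HensSqrt.exists_sqrt h2H (Algebra.TensorProduct.rid R H H a)
      (ha.map (Algebra.TensorProduct.rid R H H))
    refine ⟨(Algebra.TensorProduct.rid R H H).symm y, ?_⟩
    rw [← map_mul, hy, AlgEquiv.symm_apply_apply]
  rw [sig_refl] at he hce
  have hτ' : ∀ x, f (t.bc R (AlgEquiv.refl : R ≃ₐ[R] R) H x) =
      (↑c : Matrix (Fin n) (Fin n) (H ⊗[R] R)) *
        lamTr (sig (AlgEquiv.refl : R ≃ₐ[R] R) H) (f x) *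
        (↑c⁻¹ : Matrix (Fin n) (Fin n) (H ⊗[R] R)) := hτ
  rcases eq_one_or_neg_one h2K e he with rfl | rfl
  · left
    rw [one_smul] at hce
    have hcong := exists_cong_one (RingHom.id (H ⊗[R] R)) (fun a => rfl) h2K
      (fun a => by simp) (fun a ha _ => by
        obtain ⟨y, hy⟩ := hsq a ha
        exact ⟨y, rfl, hy⟩) n ↑c c.isUnit hce
    refine adapted_of_cong H f hf1 (AlgEquiv.refl : R ≃ₐ[R] R) hlam t c hτ' 1 1 (one_mul 1) ?_
    rw [sig_refl, bcMat_one]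
    exact hcong
  · right
    have hs : lamTr (RingHom.id (H ⊗[R] R)) (↑c : Matrix (Fin n) (Fin n) (H ⊗[R] R)) =
        -(↑c : Matrix (Fin n) (Fin n) (H ⊗[R] R)) := by
      rw [hce, neg_smul, one_smul]
    have hev := even_of_isUnit_skew h2K (↑c : Matrix (Fin n) (Fin n) (H ⊗[R] R)) c.isUnit hs
    obtain ⟨k, rfl⟩ : ∃ k, n = k * 2 := by
      obtain ⟨k, hk⟩ := hev
      exact ⟨k, by omega⟩
    refine ⟨k, rfl, ?_⟩
    have hcong := exists_cong_Jn h2K k (↑c : Matrix (Fin (k * 2)) (Fin (k * 2)) (H ⊗[R] R)) c.isUnit hs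
    refine adapted_of_cong H f hf1 (AlgEquiv.refl : R ≃ₐ[R] R) hlam t c hτ' (Jn k) (-Jn k) ?_ ?_
    · rw [mul_neg, Jn_mul_Jn, neg_neg]
    · rw [sig_refl, bcMat_Jn]
      exact hcong

lemma bcMat_neg (S' : Type*) [CommRing S'] [Algebra R S'] {n : ℕ}
    (b : Matrix (Fin n) (Fin n) R) : bcMat (S := R) S' (-b) = -bcMat S' b := by
  ext i j
  simp only [bcMat, Matrix.map_apply, Matrix.neg_apply, TensorProduct.tmul_neg]

/-- over a common local ring, orthogonal and symplectic adapted units cannot coexist -/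
theorem not_both (h2 : IsUnit (2 : R)) (S' : Type*) [CommRing S'] [Algebra R S']
    [IsLocalRing (S' ⊗[R] R)] (k : ℕ) (hk : 0 < k * 2) (hA : IsAzumayaDeg R A (k * 2))
    (t : LamInv R A (AlgEquiv.refl : R ≃ₐ[R] R))
    (E₁ : Fin (k * 2) → Fin (k * 2) → S' ⊗[R] A)
    (hE₁ : IsAdaptedC A (t.linS R AlgEquiv.refl) S'
      (cst A (1 : Matrix (Fin (k * 2)) (Fin (k * 2)) R))
      (cst A (1 : Matrix (Fin (k * 2)) (Fin (k * 2)) R)) E₁)
    (E₂ : Fin (k * 2) → Fin (k * 2) → S' ⊗[R] A)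
    (hE₂ : IsAdaptedC A (t.linS R AlgEquiv.refl) S'
      (cst A (Jn k : Matrix (Fin (k * 2)) (Fin (k * 2)) R))
      (cst A (-Jn k : Matrix (Fin (k * 2)) (Fin (k * 2)) R)) E₂) : False := by
  obtain ⟨f₁, hf₁, ht₁⟩ := split_of_adapted S' (k * 2) hk hA (AlgEquiv.refl : R ≃ₐ[R] R) t 1 1
    E₁ hE₁
  obtain ⟨f₂, hf₂, ht₂⟩ := split_of_adapted S' (k * 2) hk hA (AlgEquiv.refl : R ≃ₐ[R] R) t
    (Jn k) (-Jn k) E₂ hE₂
  rw [← coe_sig, sig_refl, bcMat_one] at ht₁
  rw [← coe_sig, sig_refl, bcMat_neg, bcMat_Jn] at ht₂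
  simp only [one_mul, mul_one] at ht₁
  have h2K : IsUnit (2 : S' ⊗[R] R) := by
    have := h2.map (algebraMap R (S' ⊗[R] R))
    rwa [map_ofNat] at this
  have hsc : ∀ z : S' ⊗[R] R, algebraMap (S' ⊗[R] R) (Matrix (Fin (k * 2)) (Fin (k * 2)) (S' ⊗[R] R)) z
      = Matrix.scalar (Fin (k * 2)) z * 1 := by
    intro z
    rw [mul_one]
    rfl
  let φ : Matrix (Fin (k * 2)) (Fin (k * 2)) (S' ⊗[R] R) ≃ₐ[S' ⊗[R] R]
      Matrix (Fin (k * 2)) (Fin (k * 2)) (S' ⊗[R] R) :=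
    AlgEquiv.ofRingEquiv (f := (f₁.symm.trans f₂).toRingEquiv) (by
      intro z
      show f₂ (f₁.symm _) = _
      rw [hsc, split_symm_scalar S' f₁ hf₁, split_scalar S' f₂ hf₂, map_one, map_one])
  have hφ : ∀ y, φ y = f₂ (f₁.symm y) := fun y => rfl
  refine false_of_sym_skew h2K hk φ (Jn k) (-Jn k) (by rw [Matrix.mul_neg, Jn_mul_Jn, neg_neg])
    (lamTr_Jn _ k) ?_
  intro y
  obtain ⟨x, rfl⟩ := f₁.surjective y
  rw [hφ, hφ, ← ht₁, AlgEquiv.symm_apply_apply, AlgEquiv.symm_apply_apply, ht₂]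

end Groth.Agent.Lib.Helper3.OrthSymplLocal
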