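import Groth.Prelude.Def_PCone
import Mathlib.AlgebraicGeometry.Morphisms.Affine

set_option autoImplicit false
set_option linter.unusedSectionVars false
universe u
open CategoryTheory CategoryTheory.Limits AlgebraicGeometry TopologicalSpace

namespace Groth.Agent.Lib.Helper3.PConeLib

theorem exists_mem_basicOpen {R A : Type u} [CommRing R] [CommRing A] [Algebra R A]
    (𝒜 : ℕ → Submodule R A) [GradedAlgebra 𝒜] (x : Proj 𝒜) :
    ∃ (d : ℕ) (f : A) (_ : 0 < d) (_ : f ∈ 𝒜 d), x ∈ Proj.basicOpen 𝒜 f := by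
  have h := (Proj.affineOpenCover 𝒜).covers x
  set i := (Proj.affineOpenCover 𝒜).idx x with hi
  refine ⟨i.1, i.2.1, i.1.2, i.2.2, ?_⟩
  rw [← Proj.opensRange_awayι 𝒜 i.2.1 i.2.2 i.1.2]
  exact h

variable {R A B : Type u} [CommRing R] [CommRing A] [Algebra R A] {𝒜 : ℕ → Submodule R A} [GradedAlgebra 𝒜]
  [CommRing B] [Algebra R B] {ℬ : ℕ → Submodule R B} [GradedAlgebra ℬ] (φ : 𝒜 →+*ᵍ ℬ)

@[reassoc (attr := simp)]
theorem chart_ι {d : ℕ} {f : A} (hf : f ∈ 𝒜 d) (hd : 0 < d) :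
    PCone.chart φ hf hd ≫ (PCone.dom φ).ι = Proj.awayι ℬ (φ f) (φ.2 hf) hd :=
  IsOpenImmersion.lift_fac _ _ _

instance {d : ℕ} {f : A} (hf : f ∈ 𝒜 d) (hd : 0 < d) : IsOpenImmersion (PCone.chart φ hf hd) := by
  have : IsOpenImmersion (PCone.chart φ hf hd ≫ (PCone.dom φ).ι) := by
    rw [chart_ι]; infer_instance
  exact IsOpenImmersion.of_comp _ (PCone.dom φ).ι

theorem mem_range_chart_iff {d : ℕ} {f : A} (hf : f ∈ 𝒜 d) (hd : 0 < d) (y : (PCone.dom φ : Scheme.{u})) :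
    y ∈ Set.range (PCone.chart φ hf hd).base ↔ y.1 ∈ Proj.basicOpen ℬ (φ f) := by
  rw [← Proj.opensRange_awayι ℬ (φ f) (φ.2 hf) hd]
  constructor
  · rintro ⟨w, rfl⟩
    refine ⟨w, ?_⟩
    rw [← chart_ι φ hf hd]
    rfl
  · rintro ⟨w, hw⟩
    refine ⟨w, ?_⟩
    apply (PCone.dom φ).ι.isOpenEmbedding.injective
    rw [← Scheme.Hom.comp_apply, chart_ι]
    exact hw

theorem exists_chart (y : (PCone.dom φ : Scheme.{u})) :
    ∃ (d : ℕ) (f : A) (hd : 0 < d) (hf : f ∈ 𝒜 d), y ∈ Set.range (PCone.chart φ hf hd).base := by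
  have hy : y.1 ∈ PCone.dom φ := y.2
  obtain ⟨⟨f, d, hd, hf⟩, hy'⟩ := Opens.mem_iSup.mp hy
  exact ⟨d, f, hd, hf, (mem_range_chart_iff φ hf hd y).mpr hy'⟩

variable (p : (PCone.dom φ : Scheme.{u}) ⟶ Proj 𝒜) (hp : ∀ (d : ℕ) (f : A) (hd : 0 < d) (hf : f ∈ 𝒜 d),
        PCone.chart φ hf hd ≫ p =
          Spec.map (CommRingCat.ofHom (HomogeneousLocalization.Away.map φ f)) ≫ Proj.awayι 𝒜 f hf hd)

include hp in
theorem mem_preimage_basicOpen_iff {e : ℕ} {g : A} (hg : g ∈ 𝒜 e) (he : 0 < e)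
    (y : (PCone.dom φ : Scheme.{u})) :
    p.base y ∈ Proj.basicOpen 𝒜 g ↔ y.1 ∈ Proj.basicOpen ℬ (φ g) := by
  obtain ⟨d, f, hd, hf, w, rfl⟩ := exists_chart φ y
  have h1 : p.base ((PCone.chart φ hf hd).base w) =
      (Proj.awayι 𝒜 f hf hd).base
        ((Spec.map (CommRingCat.ofHom (HomogeneousLocalization.Away.map φ f))).base w) := by
    rw [← Scheme.Hom.comp_apply, hp d f hd hf, Scheme.Hom.comp_apply]
  have h2 : ((PCone.chart φ hf hd).base w).1 = (Proj.awayι ℬ (φ f) (φ.2 hf) hd).base w := by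
    rw [← chart_ι φ hf hd]; rfl
  rw [h1, h2]
  have e1 := Proj.awayι_preimage_basicOpen 𝒜 hf hd hg he
  have e2 := Proj.awayι_preimage_basicOpen ℬ (φ.2 hf) hd (φ.2 hg) he
  have e1' := congrArg (fun U : Opens _ => ((Spec.map (CommRingCat.ofHom
    (HomogeneousLocalization.Away.map φ f))).base w) ∈ U) e1
  have e2' := congrArg (fun U : Opens _ => w ∈ U) e2
  simp only [eq_iff_iff] at e1' e2'
  change _ ∈ (Proj.awayι 𝒜 f hf hd) ⁻¹ᵁ Proj.basicOpen 𝒜 g ↔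
    _ ∈ (Proj.awayι ℬ (φ f) (φ.2 hf) hd) ⁻¹ᵁ Proj.basicOpen ℬ (φ g)
  refine (e1'.trans ?_).trans e2'.symm
  have h3 : HomogeneousLocalization.Away.map φ f
      (HomogeneousLocalization.Away.isLocalizationElem hf hg) =
      HomogeneousLocalization.Away.isLocalizationElem (φ.2 hf) (φ.2 hg) := by
    rw [HomogeneousLocalization.Away.map_mk]
    congr 1
    exact map_pow φ g d
  change (HomogeneousLocalization.Away.isLocalizationElem hf hg) ∉
      Ideal.comap (HomogeneousLocalization.Away.map φ f) w.asIdeal ↔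
    (HomogeneousLocalization.Away.isLocalizationElem (φ.2 hf) (φ.2 hg)) ∉ w.asIdeal
  rw [Ideal.mem_comap, h3]

include hp in
theorem preimage_basicOpen {e : ℕ} {g : A} (hg : g ∈ 𝒜 e) (he : 0 < e) :
    p ⁻¹ᵁ (Proj.basicOpen 𝒜 g) = (PCone.chart φ hg he).opensRange := by
  ext y
  change p.base y ∈ Proj.basicOpen 𝒜 g ↔ y ∈ Set.range (PCone.chart φ hg he).base
  rw [mem_preimage_basicOpen_iff φ p hp hg he, mem_range_chart_iff]

include hp in
theorem isAffineHom : IsAffineHom p := by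
  apply isAffineHom_of_forall_exists_isAffineOpen
  intro x
  obtain ⟨d, f, hd, hf, hx⟩ := exists_mem_basicOpen 𝒜 x
  refine ⟨Proj.basicOpen 𝒜 f, hx, Proj.isAffineOpen_basicOpen 𝒜 f hf hd, ?_⟩
  rw [preimage_basicOpen φ p hp hf hd]
  exact isAffineOpen_opensRange _

end Groth.Agent.Lib.Helper3.PConeLib
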