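import Mathlib.RingTheory.GradedAlgebra.HomogeneousLocalization
import Mathlib.RingTheory.GradedAlgebra.RingHom
import Mathlib.Algebra.Polynomial.AlgebraMap
import Mathlib.RingTheory.Localization.Away.Basic
import Mathlib.RingTheory.Polynomial.Basic

set_option autoImplicit false
set_option linter.unusedSectionVars false
universe u
open Polynomial

namespace Groth.Agent.Lib.Helper3.PConeAlg

variable {R A B : Type u} [CommRing R] [CommRing A] [Algebra R A] {𝒜 : ℕ → Submodule R A} [GradedAlgebra 𝒜]
  [CommRing B] [Algebra R B] {ℬ : ℕ → Submodule R B} [GradedAlgebra ℬ]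
  [Algebra A B] (φ : 𝒜 →+*ᵍ ℬ) (hφ : ∀ a : A, φ a = algebraMap A B a)
  (z : B) (hz : z ∈ ℬ 1) (hhat : Function.Bijective (Polynomial.aeval (R := A) z))
  {f : A} (hf : f ∈ 𝒜 1)

/-- The element `z / φ f` of `B_(φ f)`. -/
noncomputable def T0 : HomogeneousLocalization.Away ℬ (φ f) :=
  HomogeneousLocalization.Away.mk ℬ (φ.2 hf) 1 z (by simpa using hz)

/-- The comparison map `A_(f)[T] → B_(φ f)`, `T ↦ z / φ f`. -/
noncomputable def α : (HomogeneousLocalization.Away 𝒜 f)[X] →+* HomogeneousLocalization.Away ℬ (φ f) :=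
  Polynomial.eval₂RingHom (HomogeneousLocalization.Away.map φ f) (T0 φ z hz hf)

theorem α_C (c : HomogeneousLocalization.Away 𝒜 f) :
    α φ z hz hf (C c) = HomogeneousLocalization.Away.map φ f c := by
  simp [α]

theorem α_X : α φ z hz hf X = T0 φ z hz hf := by
  simp [α]

include hφ hhat hz in
/-- Homogeneous elements of `B = A[z]` of degree `n` are `∑ φ(a_k) z^k` with `a_k ∈ 𝒜 (n - k)`. -/
theorem exists_decomp (n : ℕ) (b : B) (hb : b ∈ ℬ n) :
    ∃ (s : Finset ℕ) (a : ℕ → A), (∀ k ∈ s, k ≤ n) ∧ (∀ k, a k ∈ 𝒜 (n - k)) ∧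
      b = ∑ k ∈ s, φ (a k) * z ^ k := by
  classical
  obtain ⟨P, rfl⟩ := hhat.2 b
  refine ⟨P.support.filter (· ≤ n), fun k => (DirectSum.decompose 𝒜 (P.coeff k) (n - k) : A),
    fun k hk => (Finset.mem_filter.mp hk).2, fun k => SetLike.coe_mem _, ?_⟩
  have h1 : (Polynomial.aeval z P : B) = ∑ k ∈ P.support, φ (P.coeff k) * z ^ k := by
    rw [Polynomial.aeval_def, Polynomial.eval₂_eq_sum, Polynomial.sum_def]
    simp only [hφ]
  have h2 : (Polynomial.aeval z P : B) = (DirectSum.decompose ℬ (Polynomial.aeval z P) n : B) :=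
    (DirectSum.decompose_of_mem_same ℬ hb).symm
  rw [h2]
  conv_lhs => rw [h1]
  rw [DirectSum.decompose_sum, DFinsupp.finsetSum_apply, AddSubmonoidClass.coe_finsetSum,
    Finset.sum_filter]
  refine Finset.sum_congr rfl fun k _ => ?_
  rw [DirectSum.coe_decompose_mul_of_right_mem ℬ n (SetLike.pow_mem_graded k hz)]
  simp only [smul_eq_mul, mul_one]
  split_ifs with h
  · rw [GradedRingHom.map_directSumDecompose, mul_one]
  · rfl

include hφ hhat in
theorem α_surjective : Function.Surjective (α φ z hz hf) := by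
  intro x
  obtain ⟨n, b, hb, rfl⟩ := HomogeneousLocalization.Away.mk_surjective ℬ (φ.2 hf) x
  have hb' : b ∈ ℬ n := by simpa using hb
  obtain ⟨s, a, hs, ha, hsum⟩ := exists_decomp φ hφ z hz hhat n b hb'
  refine ⟨∑ k ∈ s, C (HomogeneousLocalization.Away.mk 𝒜 hf (n - k) (a k) (by simpa using ha k)) *
    X ^ k, ?_⟩
  apply HomogeneousLocalization.val_injective
  rw [map_sum]
  simp only [map_mul, map_pow, α_C, α_X, HomogeneousLocalization.Away.map_mk]
  rw [← HomogeneousLocalization.algebraMap_apply, map_sum]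
  simp only [map_mul, map_pow, HomogeneousLocalization.algebraMap_apply, T0,
    HomogeneousLocalization.Away.val_mk, Localization.mk_pow, Localization.mk_mul]
  rw [hsum, Localization.mk_sum]
  refine Finset.sum_congr rfl fun k hk => ?_
  congr 1
  apply Subtype.ext
  simp only [Submonoid.coe_mul, SubmonoidClass.coe_pow, pow_one]
  rw [← pow_add, Nat.sub_add_cancel (hs k hk)]
  rfl

/-- The auxiliary ring hom `A[X] → A_f[X]`, `X ↦ f X`. -/
noncomputable def γ0 (f : A) : A[X] →+* (Localization.Away f)[X] :=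
  Polynomial.eval₂RingHom (C.comp (algebraMap A (Localization.Away f)))
    (C (algebraMap A (Localization.Away f) f) * X)

/-- The auxiliary ring hom `B → A_f[X]`, `z ↦ f X`. -/
noncomputable def γ (f : A) : B →+* (Localization.Away f)[X] :=
  (γ0 f).comp ((RingEquiv.ofBijective (Polynomial.aeval (R := A) z) hhat).symm : B →+* A[X])

include hφ in
theorem γ_φ (a : A) : γ z hhat f (φ a) = C (algebraMap A (Localization.Away f) a) := by
  have : (RingEquiv.ofBijective (Polynomial.aeval (R := A) z) hhat).symm (φ a) = C a := by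
    rw [RingEquiv.symm_apply_eq]
    simp [hφ]
  simp [γ, γ0, this]

theorem γ_z : γ z hhat f z = C (algebraMap A (Localization.Away f) f) * X := by
  have : (RingEquiv.ofBijective (Polynomial.aeval (R := A) z) hhat).symm z = X := by
    rw [RingEquiv.symm_apply_eq]
    simp
  simp [γ, γ0, this]

include hφ in
theorem γ_unit : IsUnit (γ z hhat f (φ f)) := by
  rw [γ_φ φ hφ]
  exact (IsLocalization.Away.algebraMap_isUnit (S := Localization.Away f) f).map C

/-- The extension `B_{φ f} → A_f[X]`. -/
noncomputable def γ' : Localization.Away (φ f) →+* (Localization.Away f)[X] :=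
  IsLocalization.Away.lift (φ f) (γ_unit φ hφ z hhat)

include hφ in
theorem γ'_mk (b : B) (n : ℕ) (v : (Localization.Away f)[X])
    (h : γ z hhat f b = C (algebraMap A (Localization.Away f) f) ^ n * v) :
    γ' φ hφ z hhat (Localization.mk b ⟨φ f ^ n, n, rfl⟩) = v := by
  rw [Localization.mk_eq_mk', γ', IsLocalization.Away.lift, IsLocalization.lift_mk'_spec]
  simp only [map_pow, γ_φ φ hφ]
  exact h

include hφ in
theorem comp_eq :
    ((γ' φ hφ z hhat).comp (algebraMap (HomogeneousLocalization.Away ℬ (φ f))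
      (Localization.Away (φ f)))).comp (α φ z hz hf) =
    Polynomial.mapRingHom (algebraMap (HomogeneousLocalization.Away 𝒜 f) (Localization.Away f)) := by
  apply Polynomial.ringHom_ext
  · intro c
    obtain ⟨n, a, ha, rfl⟩ := HomogeneousLocalization.Away.mk_surjective 𝒜 hf c
    simp only [RingHom.coe_comp, Function.comp_apply, α_C, HomogeneousLocalization.Away.map_mk,
      HomogeneousLocalization.algebraMap_apply, HomogeneousLocalization.Away.val_mk,
      Polynomial.coe_mapRingHom, Polynomial.map_C]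
    apply γ'_mk φ hφ z hhat
    rw [γ_φ φ hφ, ← C_pow, ← C_mul, ← map_pow, Localization.mk_eq_mk', IsLocalization.mul_mk'_eq_mk'_of_mul]
    congr 1
    exact (IsLocalization.mk'_mul_cancel_left (M := Submonoid.powers f) a ⟨f ^ n, n, rfl⟩).symm
  · simp only [RingHom.coe_comp, Function.comp_apply, α_X, T0,
      HomogeneousLocalization.algebraMap_apply, HomogeneousLocalization.Away.val_mk,
      Polynomial.coe_mapRingHom, Polynomial.map_X]
    apply γ'_mk φ hφ z hhat
    rw [γ_z, pow_one]

include hφ hhat in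
theorem α_injective : Function.Injective (α φ z hz hf) := by
  have h : Function.Injective (Polynomial.mapRingHom
      (algebraMap (HomogeneousLocalization.Away 𝒜 f) (Localization.Away f))) :=
    Polynomial.map_injective _ (HomogeneousLocalization.val_injective _)
  rw [← comp_eq φ hφ z hz hhat hf, RingHom.coe_comp] at h
  exact Function.Injective.of_comp h

include hφ hhat in
theorem α_bijective : Function.Bijective (α φ z hz hf) :=
  ⟨α_injective φ hφ z hz hhat hf, α_surjective φ hφ z hz hhat hf⟩

end Groth.Agent.Lib.Helper3.PConeAlg
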