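import Mathlib.AlgebraicGeometry.Pullbacks
import Mathlib.RingTheory.PolynomialAlgebra
import Mathlib.Algebra.Category.Ring.Constructions

set_option autoImplicit false
universe u
open CategoryTheory CategoryTheory.Limits AlgebraicGeometry Polynomial

namespace Groth.Agent.Lib.Helper3.PConeFibre

attribute [local instance] Polynomial.algebra in
/-- If `p : X ⟶ Y` restricted over an affine open `Spec A0 ⊆ Y` is `Spec` of a polynomial algebra `A0[T]`,
the fibre of `p` over a `K`-point factoring through `Spec A0` is the affine line over `K`. -/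
theorem fibre_iso {X Y : Scheme.{u}} (p : X ⟶ Y) {A0 B0 K : Type u} [CommRing A0] [CommRing B0] [CommRing K]
    (m : A0 →+* B0) (α : A0[X] ≃+* B0) (hα : ∀ c, α (C c) = m c)
    (ι : Spec (CommRingCat.of A0) ⟶ Y) (chart : Spec (CommRingCat.of B0) ⟶ X)
    (hpb : IsPullback (Spec.map (CommRingCat.ofHom m)) chart ι p)
    (γ : A0 →+* K) (s : Spec (CommRingCat.of K) ⟶ Y) (hs : Spec.map (CommRingCat.ofHom γ) ≫ ι = s) :
    ∃ e : pullback p s ≅ Spec (CommRingCat.of K[X]),
      e.hom ≫ Spec.map (CommRingCat.ofHom (algebraMap K K[X])) = pullback.snd p s := by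
  subst hs
  let _ : Algebra A0 K := γ.toAlgebra
  have h2 := AlgebraicGeometry.isPullback_SpecMap_of_isPushout _ _ _ _
    (CommRingCat.isPushout_of_isPushout A0 K A0[X] K[X])
  let αc : CommRingCat.of A0[X] ≅ CommRingCat.of B0 := α.toCommRingCatIso
  have hαm : CommRingCat.ofHom (algebraMap A0 A0[X]) ≫ αc.hom = CommRingCat.ofHom m := by
    ext c
    exact hα c
  have h1 : IsPullback ((asIso (Spec.map αc.hom)).inv ≫ chart)
      (Spec.map (CommRingCat.ofHom (algebraMap A0 A0[X]))) p ι := by
    refine IsPullback.of_iso hpb.flip (asIso (Spec.map αc.hom)) (Iso.refl _) (Iso.refl _) (Iso.refl _)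
      ?_ ?_ ?_ ?_
    · simp
    · simp [← Spec.map_comp, hαm]
    · simp
    · simp
  have h3 := h2.flip.paste_horiz h1
  refine ⟨h3.isoPullback.symm, ?_⟩
  simp

end Groth.Agent.Lib.Helper3.PConeFibre
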