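import Groth.Agent.Lib.Helper3.PCone
import Mathlib.AlgebraicGeometry.Gluing

set_option autoImplicit false
set_option linter.unusedSectionVars false
universe u
open CategoryTheory CategoryTheory.Limits AlgebraicGeometry TopologicalSpace

namespace Groth.Agent.Lib.Helper3.PConeGlue

open Groth.Agent.Lib.Helper3.PConeLib

variable {R A B : Type u} [CommRing R] [CommRing A] [Algebra R A] {𝒜 : ℕ → Submodule R A} [GradedAlgebra 𝒜]
  [CommRing B] [Algebra R B] {ℬ : ℕ → Submodule R B} [GradedAlgebra ℬ] (φ : 𝒜 →+*ᵍ ℬ)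

theorem awayι_indep {f : A} {m m' : ℕ} (h : f ∈ 𝒜 m) (hm : 0 < m) (h' : f ∈ 𝒜 m') (hm' : 0 < m') :
    Proj.awayι 𝒜 f h hm = Proj.awayι 𝒜 f h' hm' := by
  rw [Proj.awayι, Proj.awayι]
  congr 1

/-- The affine open cover of `G(φ)` by the standard charts. -/
noncomputable def chartCover : (PCone.dom φ : Scheme.{u}).AffineOpenCover where
  I₀ := Σ' (d : ℕ) (f : A), 0 < d ∧ f ∈ 𝒜 d
  X i := .of (HomogeneousLocalization.Away ℬ (φ i.2.1))
  f i := PCone.chart φ i.2.2.2 i.2.2.1
  idx y := ⟨(exists_chart φ y).choose, (exists_chart φ y).choose_spec.choose,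
    (exists_chart φ y).choose_spec.choose_spec.choose,
    (exists_chart φ y).choose_spec.choose_spec.choose_spec.choose⟩
  covers y := (exists_chart φ y).choose_spec.choose_spec.choose_spec.choose_spec

/-- The local morphism on a chart. -/
noncomputable def loc {d : ℕ} (f : A) (hf : f ∈ 𝒜 d) (hd : 0 < d) :
    Spec (CommRingCat.of (HomogeneousLocalization.Away ℬ (φ f))) ⟶ Proj 𝒜 :=
  Spec.map (CommRingCat.ofHom (HomogeneousLocalization.Away.map φ f)) ≫ Proj.awayι 𝒜 f hf hd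

theorem awayMap_comp_map {d e : ℕ} {f g x : A} (hf : f ∈ 𝒜 d) (hg : g ∈ 𝒜 e) (hx : x = f * g) :
    (HomogeneousLocalization.awayMap ℬ (φ.2 hg) (hx ▸ map_mul φ f g : φ x = φ f * φ g)).comp
      (HomogeneousLocalization.Away.map φ f) =
    (HomogeneousLocalization.Away.map φ x).comp (HomogeneousLocalization.awayMap 𝒜 hg hx) := by
  ext c : 1
  obtain ⟨n, a, ha, rfl⟩ := HomogeneousLocalization.Away.mk_surjective 𝒜 hf c
  simp only [RingHom.coe_comp, Function.comp_apply, HomogeneousLocalization.Away.map_mk,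
    HomogeneousLocalization.awayMap_mk]
  congr 1
  simp

theorem key {d e : ℕ} {f g x : A} (hf : f ∈ 𝒜 d) (hd : 0 < d) (hg : g ∈ 𝒜 e) (hx : x = f * g) :
    Spec.map (CommRingCat.ofHom (HomogeneousLocalization.awayMap ℬ (φ.2 hg)
      (hx ▸ map_mul φ f g : φ x = φ f * φ g))) ≫ loc φ f hf hd =
    loc φ x (hx ▸ SetLike.mul_mem_graded hf hg) (hd.trans_le (Nat.le_add_right d e)) := by
  rw [loc, loc, ← Category.assoc, ← Spec.map_comp, ← CommRingCat.ofHom_comp, awayMap_comp_map φ hf hg hx,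
    CommRingCat.ofHom_comp, Spec.map_comp, Category.assoc, Proj.SpecMap_awayMap_awayι]

theorem awayMap_chart {d e : ℕ} {f g x : A} (hf : f ∈ 𝒜 d) (hd : 0 < d) (hg : g ∈ 𝒜 e) (hx : x = f * g) :
    Spec.map (CommRingCat.ofHom (HomogeneousLocalization.awayMap ℬ (φ.2 hg)
      (hx ▸ map_mul φ f g : φ x = φ f * φ g))) ≫ PCone.chart φ hf hd =
    PCone.chart φ (hx ▸ SetLike.mul_mem_graded hf hg : x ∈ 𝒜 (d + e))
      (hd.trans_le (Nat.le_add_right d e)) := by
  rw [← cancel_mono (PCone.dom φ).ι, Category.assoc, chart_ι, chart_ι, Proj.SpecMap_awayMap_awayι]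

theorem range_inter {d e : ℕ} {f g : A} (hf : f ∈ 𝒜 d) (hd : 0 < d) (hg : g ∈ 𝒜 e) (he : 0 < e) :
    Set.range (pullback.fst (PCone.chart φ hf hd) (PCone.chart φ hg he) ≫ PCone.chart φ hf hd).base =
    Set.range (PCone.chart φ (SetLike.mul_mem_graded hf hg : f * g ∈ 𝒜 (d + e))
      (hd.trans_le (Nat.le_add_right d e))).base := by
  rw [IsOpenImmersion.range_pullback_to_base_of_left]
  ext y
  simp only [Set.mem_inter_iff, mem_range_chart_iff, map_mul, Proj.basicOpen_mul]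
  rfl

theorem compat {d e : ℕ} {f g : A} (hf : f ∈ 𝒜 d) (hd : 0 < d) (hg : g ∈ 𝒜 e) (he : 0 < e) :
    pullback.fst (PCone.chart φ hf hd) (PCone.chart φ hg he) ≫ loc φ f hf hd =
    pullback.snd (PCone.chart φ hf hd) (PCone.chart φ hg he) ≫ loc φ g hg he := by
  let E := IsOpenImmersion.isoOfRangeEq
    (pullback.fst (PCone.chart φ hf hd) (PCone.chart φ hg he) ≫ PCone.chart φ hf hd)
    (PCone.chart φ (SetLike.mul_mem_graded hf hg : f * g ∈ 𝒜 (d + e))
      (hd.trans_le (Nat.le_add_right d e))) (range_inter φ hf hd hg he)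
  have hE : E.inv ≫ pullback.fst (PCone.chart φ hf hd) (PCone.chart φ hg he) ≫ PCone.chart φ hf hd =
      PCone.chart φ (SetLike.mul_mem_graded hf hg : f * g ∈ 𝒜 (d + e))
      (hd.trans_le (Nat.le_add_right d e)) := IsOpenImmersion.isoOfRangeEq_inv_fac _ _ _
  have h1 : E.inv ≫ pullback.fst (PCone.chart φ hf hd) (PCone.chart φ hg he) =
      Spec.map (CommRingCat.ofHom (HomogeneousLocalization.awayMap ℬ (φ.2 hg)
        (map_mul φ f g : φ (f * g) = φ f * φ g))) := by
    rw [← cancel_mono (PCone.chart φ hf hd), Category.assoc, hE]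
    exact (awayMap_chart φ hf hd hg rfl).symm
  have h2 : E.inv ≫ pullback.snd (PCone.chart φ hf hd) (PCone.chart φ hg he) =
      Spec.map (CommRingCat.ofHom (HomogeneousLocalization.awayMap ℬ (φ.2 hf)
        ((map_mul φ f g).trans (mul_comm _ _) : φ (f * g) = φ g * φ f))) := by
    rw [← cancel_mono (PCone.chart φ hg he), Category.assoc, ← pullback.condition, hE]
    have := awayMap_chart φ hg he hf (mul_comm f g)
    rw [← cancel_mono (PCone.dom φ).ι, Category.assoc, chart_ι, chart_ι, Proj.SpecMap_awayMap_awayι]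
    exact awayι_indep _ _ _ _
  rw [← cancel_epi E.inv, reassoc_of% h1, reassoc_of% h2]
  rw [key φ hf hd hg rfl]
  have h3 := key φ hg he hf (mul_comm f g)
  rw [loc, loc] at h3 ⊢
  rw [h3]
  congr 1

theorem exists_unique_retraction :
    ∃! p : (PCone.dom φ : Scheme.{u}) ⟶ Proj 𝒜,
      ∀ (d : ℕ) (f : A) (hd : 0 < d) (hf : f ∈ 𝒜 d),
        PCone.chart φ hf hd ≫ p =
          Spec.map (CommRingCat.ofHom (HomogeneousLocalization.Away.map φ f)) ≫
            Proj.awayι 𝒜 f hf hd := by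
  refine ⟨(chartCover φ).openCover.glueMorphisms (fun i => loc φ i.2.1 i.2.2.2 i.2.2.1)
    (fun i j => compat φ i.2.2.2 i.2.2.1 j.2.2.2 j.2.2.1), ?_, ?_⟩
  · intro d f hd hf
    exact (chartCover φ).openCover.ι_glueMorphisms _ _ ⟨d, f, hd, hf⟩
  · intro q hq
    refine (chartCover φ).openCover.hom_ext _ _ fun i => ?_
    rw [Scheme.Cover.ι_glueMorphisms]
    exact hq i.1 i.2.1 i.2.2.1 i.2.2.2

end Groth.Agent.Lib.Helper3.PConeGlue
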