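import Mathlib.RingTheory.PicardGroup
import Mathlib.LinearAlgebra.PiTensorProduct.Basic
import Mathlib.LinearAlgebra.Matrix.Determinant.Basic
import Mathlib.LinearAlgebra.Alternating.Basic
import Mathlib.RingTheory.Ideal.Maps

/-!
# Powers in the Picard group and `N^n ≅ R^n ⇒ N^{⊗n} ≅ R` (helper3)
-/
set_option autoImplicit false
universe u v
open TensorProduct

namespace Groth.Agent.Lib.Helper3.PicPow

variable {R : Type u} [CommRing R] (N : Type v) [AddCommGroup N] [Module R N]

/-- `⨂^{k+1} N ≃ (⨂^k N) ⊗ N`. -/
noncomputable def piTensorSucc (k : ℕ) :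
    (⨂[R] _ : Fin (k + 1), N) ≃ₗ[R] (⨂[R] _ : Fin k, N) ⊗[R] N :=
  (PiTensorProduct.reindex R (fun _ : Fin (k + 1) => N) finSumFinEquiv.symm) ≪≫ₗ
    (PiTensorProduct.tmulEquiv (R := R) (M := N) (ι := Fin k) (ι₂ := Fin 1)).symm ≪≫ₗ
    TensorProduct.congr (LinearEquiv.refl R _)
      (PiTensorProduct.subsingletonEquiv (R := R) (s := fun _ : Fin 1 => N) 0)

theorem invertible_piTensor [Module.Invertible R N] (k : ℕ) :
    Module.Invertible R (⨂[R] _ : Fin k, N) := by
  induction k with
  | zero => exact Module.Invertible.congr (PiTensorProduct.isEmptyEquiv (R := R) (s := fun _ : Fin 0 => N) (Fin 0)).symm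
  | succ k ih =>
    haveI := ih
    exact Module.Invertible.congr (piTensorSucc (R := R) N k).symm

theorem mk_piTensor [Module.Invertible R N] (k : ℕ) :
    haveI := invertible_piTensor (R := R) N k
    CommRing.Pic.mk R (⨂[R] _ : Fin k, N) = CommRing.Pic.mk R N ^ k := by
  induction k with
  | zero =>
    haveI := invertible_piTensor (R := R) N 0
    rw [pow_zero, CommRing.Pic.mk_eq_one_iff]
    exact ⟨PiTensorProduct.isEmptyEquiv (R := R) (s := fun _ : Fin 0 => N) (Fin 0)⟩
  | succ k ih =>
    haveI := invertible_piTensor (R := R) N k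
    haveI := invertible_piTensor (R := R) N (k + 1)
    rw [pow_succ, ← ih, ← CommRing.Pic.mk_tensor, CommRing.Pic.mk_eq_mk_iff]
    exact ⟨piTensorSucc (R := R) N k⟩

end Groth.Agent.Lib.Helper3.PicPow

namespace Groth.Agent.Lib.Helper3.PicPow

variable {R : Type u} [CommRing R] (N : Type v) [AddCommGroup N] [Module R N]

/-- rank one identity for invertible modules: `λ(μ) ν = λ(ν) μ`. -/
theorem rank_one [Module.Invertible R N] (l : N →ₗ[R] R) (μ ν : N) : l μ • ν = l ν • μ := by
  have h := Module.Invertible.tmul_comm (R := R) (M := N) (m₁ := μ) (m₂ := ν)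
  have h2 := congrArg (fun z => TensorProduct.lid R N (l.rTensor N z)) h
  simpa using h2

/-- `Λ² N = 0` for invertible `N`: every alternating bilinear form vanishes. -/
theorem alt_bilin_eq_zero [Module.Invertible R N] {P : Type*} [AddCommGroup P] [Module R P]
    (B : N → N → P) (hs₁ : ∀ (r : R) a b, B (r • a) b = r • B a b)
    (hs₂ : ∀ (r : R) a b, B a (r • b) = r • B a b) (hB : ∀ μ, B μ μ = 0)
    (ν ν' : N) : B ν ν' = 0 := by
  -- the ideal of scalars killing B ν ν'
  let J : Ideal R := (Submodule.span R {B ν ν'}).annihilator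
  have hsq : ∀ (l : N →ₗ[R] R) (μ : N), (l μ) ^ 2 ∈ J := by
    intro l μ
    rw [Submodule.mem_annihilator_span_singleton]
    have h1 : l μ • ν = l ν • μ := rank_one N l μ ν
    have h2 : l μ • ν' = l ν' • μ := rank_one N l μ ν'
    calc (l μ) ^ 2 • B ν ν' = B (l μ • ν) (l μ • ν') := by
          rw [hs₁, hs₂, smul_smul, sq]
      _ = B (l ν • μ) (l ν' • μ) := by rw [h1, h2]
      _ = 0 := by rw [hs₁, hs₂, hB, smul_zero, smul_zero]
  -- the values l μ generate the unit ideal
  have hgen : Ideal.span {r : R | ∃ (l : N →ₗ[R] R) (μ : N), l μ = r} = ⊤ := by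
    rw [Ideal.eq_top_iff_one]
    obtain ⟨t, ht⟩ := (Module.Invertible.linearEquiv R N).surjective 1
    have key : ∀ t : Module.Dual R N ⊗[R] N, Module.Invertible.linearEquiv R N t ∈
        Ideal.span {r : R | ∃ (l : N →ₗ[R] R) (μ : N), l μ = r} := by
      intro t
      induction t with
      | zero => simp
      | tmul l μ =>
        apply Ideal.subset_span
        exact ⟨l, μ, by simp [Module.Invertible.linearEquiv]⟩
      | add a b ha hb => rw [map_add]; exact Ideal.add_mem _ ha hb
    rw [← ht]
    exact key t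
  have hpow := Ideal.span_pow_eq_top _ hgen 2
  have hJ : J = ⊤ := by
    rw [eq_top_iff, ← hpow, Ideal.span_le]
    rintro _ ⟨r, ⟨l, μ, rfl⟩, rfl⟩
    exact hsq l μ
  have h1 : (1 : R) ∈ J := by rw [hJ]; trivial
  rw [Submodule.mem_annihilator_span_singleton, one_smul] at h1
  exact h1

end Groth.Agent.Lib.Helper3.PicPow

namespace Groth.Agent.Lib.Helper3.PicPow

variable {R : Type u} [CommRing R] (N : Type v) [AddCommGroup N] [Module R N]

/-- the `i`-th column map `N → R^n`. -/
noncomputable def colMap {n : ℕ} (e : (Fin n → N) ≃ₗ[R] (Fin n → R)) (i : Fin n) : N →ₗ[R] (Fin n → R) :=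
  e.toLinearMap ∘ₗ LinearMap.single R (fun _ : Fin n => N) i

/-- the determinant multilinear form `N^n → R`. -/
noncomputable def detForm {n : ℕ} (e : (Fin n → N) ≃ₗ[R] (Fin n → R)) :
    MultilinearMap R (fun _ : Fin n => N) R :=
  (Matrix.detRowAlternating (R := R) (n := Fin n)).toMultilinearMap.compLinearMap (colMap N e)

lemma detForm_apply {n : ℕ} (e : (Fin n → N) ≃ₗ[R] (Fin n → R)) (ν : Fin n → N) :
    detForm N e ν = Matrix.detRowAlternating (fun j => colMap N e j (ν j)) := rfl

theorem term_zero [Module.Invertible R N] {n : ℕ} (e : (Fin n → N) ≃ₗ[R] (Fin n → R))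
    (σ : Fin n → Fin n) (hσ : ¬ Function.Injective σ) (x : Fin n → N) :
    Matrix.detRowAlternating (R := R) (fun j => colMap N e (σ j) (x j)) = 0 := by
  classical
  rw [Function.Injective] at hσ
  push Not at hσ
  obtain ⟨j, j', hjj', hne⟩ := hσ
  set rows : Fin n → (Fin n → R) := fun k => colMap N e (σ k) (x k) with hrows
  let B : N → N → R := fun a b => Matrix.detRowAlternating (R := R)
    (Function.update (Function.update rows j (colMap N e (σ j) a)) j' (colMap N e (σ j) b))
  have hB0 : ∀ μ, B μ μ = 0 := by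
    intro μ
    apply AlternatingMap.map_eq_zero_of_eq _ _ _ hne
    rw [Function.update_self, Function.update_of_ne hne, Function.update_self]
  have hs₂ : ∀ (r : R) a b, B a (r • b) = r • B a b := by
    intro r a b
    show Matrix.detRowAlternating (R := R) (Function.update _ j' (colMap N e (σ j) (r • b))) = _
    rw [map_smul, AlternatingMap.map_update_smul]
  have hs₁ : ∀ (r : R) a b, B (r • a) b = r • B a b := by
    intro r a b
    show Matrix.detRowAlternating (R := R)
      (Function.update (Function.update rows j (colMap N e (σ j) (r • a))) j' _) = _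
    rw [Function.update_comm hne, map_smul, AlternatingMap.map_update_smul,
      Function.update_comm hne.symm]
  have h0 := alt_bilin_eq_zero N B hs₁ hs₂ hB0 (x j) (x j')
  have : (Function.update (Function.update rows j (colMap N e (σ j) (x j))) j'
      (colMap N e (σ j) (x j'))) = rows := by
    rw [hjj']
    have h1 : colMap N e (σ j') (x j) = colMap N e (σ j) (x j) := by rw [hjj']
    rw [h1]
    have e1 : Function.update rows j (colMap N e (σ j) (x j)) = rows := Function.update_eq_self j rows
    rw [e1]
    have e2 : colMap N e (σ j') (x j') = rows j' := rfl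
    rw [e2, Function.update_eq_self]
  show Matrix.detRowAlternating (R := R) rows = 0
  rw [← this]
  exact h0

end Groth.Agent.Lib.Helper3.PicPow

namespace Groth.Agent.Lib.Helper3.PicPow

variable {R : Type u} [CommRing R] (N : Type v) [AddCommGroup N] [Module R N]

theorem one_mem_span_detForm [Module.Invertible R N] {n : ℕ} (e : (Fin n → N) ≃ₗ[R] (Fin n → R)) :
    (1 : R) ∈ Submodule.span R (Set.range (detForm N e)) := by
  classical
  let w : Fin n → (Fin n → N) := fun j => e.symm (Pi.single j 1)
  have hw : ∀ j, (Pi.single j 1 : Fin n → R) = ∑ i, colMap N e i (w j i) := by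
    intro j
    have h1 : w j = ∑ i, Pi.single i (w j i) := (Finset.univ_sum_single (w j)).symm
    have h2 : e (w j) = Pi.single j 1 := e.apply_symm_apply _
    rw [← h2]
    conv_lhs => rw [h1, map_sum]
    rfl
  have hone : (1 : R) = Matrix.detRowAlternating (R := R) (fun j => (Pi.single j 1 : Fin n → R)) := by
    have : (Matrix.of (fun j => (Pi.single j 1 : Fin n → R))) = (1 : Matrix (Fin n) (Fin n) R) := by
      ext a b
      simp [Matrix.one_apply, Pi.single_apply, eq_comm]
    have h2 : Matrix.det (1 : Matrix (Fin n) (Fin n) R) = 1 := Matrix.det_one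
    have h3 : Matrix.det (Matrix.of (fun j => (Pi.single j 1 : Fin n → R))) =
        Matrix.detRowAlternating (R := R) (fun j => (Pi.single j 1 : Fin n → R)) := rfl
    rw [← h3, this, h2]
  rw [hone]
  have hexp : Matrix.detRowAlternating (R := R) (fun j => (Pi.single j 1 : Fin n → R)) =
      ∑ σ : Fin n → Fin n, Matrix.detRowAlternating (R := R)
        (fun j => colMap N e (σ j) (w j (σ j))) := by
    have : (fun j => (Pi.single j 1 : Fin n → R)) = fun j => ∑ i, colMap N e i (w j i) :=
      funext hw
    rw [this]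
    exact (Matrix.detRowAlternating (R := R) (n := Fin n)).toMultilinearMap.map_sum
      (fun j i => colMap N e i (w j i))
  rw [hexp]
  refine Submodule.sum_mem _ (fun σ _ => ?_)
  by_cases hσ : Function.Injective σ
  · -- bijective case
    have hbij : Function.Bijective σ := Finite.injective_iff_bijective.mp hσ
    let τ : Equiv.Perm (Fin n) := Equiv.ofBijective σ hbij
    have hτ : ∀ j, τ j = σ j := fun j => rfl
    let ν : Fin n → N := fun i => w (τ.symm i) i
    have hcomp : (fun j => colMap N e (σ j) (w j (σ j))) =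
        (fun i => colMap N e i (ν i)) ∘ τ := by
      funext j
      show _ = colMap N e (τ j) (w (τ.symm (τ j)) (τ j))
      rw [Equiv.symm_apply_apply]
      rfl
    rw [hcomp, AlternatingMap.map_perm]
    apply Submodule.smul_of_tower_mem
    apply Submodule.subset_span
    exact ⟨ν, rfl⟩
  · rw [term_zero N e σ hσ (fun j => w j (σ j))]
    exact Submodule.zero_mem _

theorem piTensor_equiv_of_pi_equiv [Module.Invertible R N] {n : ℕ}
    (e : (Fin n → N) ≃ₗ[R] (Fin n → R)) : Nonempty ((⨂[R] _ : Fin n, N) ≃ₗ[R] R) := by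
  haveI := invertible_piTensor (R := R) N n
  let Dt : (⨂[R] _ : Fin n, N) →ₗ[R] R := PiTensorProduct.lift (detForm N e)
  have hle : Submodule.span R (Set.range (detForm N e)) ≤ LinearMap.range Dt := by
    rw [Submodule.span_le]
    rintro _ ⟨ν, rfl⟩
    exact ⟨PiTensorProduct.tprod R ν, PiTensorProduct.lift.tprod ν⟩
  have h1 : (1 : R) ∈ LinearMap.range Dt := hle (one_mem_span_detForm N e)
  have hsurj : Function.Surjective Dt := by
    obtain ⟨t, ht⟩ := h1
    intro r
    exact ⟨r • t, by rw [map_smul, ht, smul_eq_mul, mul_one]⟩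
  exact ⟨LinearEquiv.ofBijective Dt (Module.Invertible.bijective_of_surjective hsurj)⟩

end Groth.Agent.Lib.Helper3.PicPow
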