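import Groth.Agent.S15585
import Groth.Agent.Lib.Helper9.HenselSplit
import Groth.Agent.Lib.Helper3.FixedBC

/-! Idempotents in quadratic étale algebras over strictly henselian local rings (helper3). -/

set_option autoImplicit false
universe u v

open TensorProduct IsLocalRing

namespace Groth.Agent.Lib.Helper3.QuadEtIdem

open Groth.Agent.Lib.Helper3.FixedBC

/-- a ring with a decomposition into local pieces and only trivial idempotents is local or
trivial -/
lemma isLocalRing_or_subsingleton_of_trivial_idem {T : Type*} [CommRing T] (n : ℕ) (e : Fin n → T)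
    (he : CompleteOrthogonalIdempotents e) (hloc : ∀ i, IsLocalRing (T ⧸ Ideal.span {1 - e i}))
    (htriv : ∀ x : T, x * x = x → x = 0 ∨ x = 1) : IsLocalRing T ∨ Subsingleton T := by
  by_cases hT : Subsingleton T
  · exact Or.inr hT
  left
  rw [not_subsingleton_iff_nontrivial] at hT
  have h1 : ∀ i, e i = 1 := by
    intro i
    rcases htriv (e i) (he.idem i) with h | h
    · exfalso
      haveI := hloc i
      have hnt : Nontrivial (T ⧸ Ideal.span {1 - e i}) := inferInstance
      have hss : Subsingleton (T ⧸ Ideal.span {1 - e i}) := by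
        rw [Ideal.Quotient.subsingleton_iff, h, sub_zero, Ideal.span_singleton_one]
      exact not_subsingleton (T ⧸ Ideal.span {1 - e i}) hss
    · exact h
  have hn : n = 1 := by
    rcases n with _ | _ | n
    · exfalso
      have := he.complete
      simp at this
    · rfl
    · exfalso
      have : e 0 * e 1 = 0 := he.ortho (show (0 : Fin (n + 2)) ≠ 1 by simp)
      rw [h1, h1, mul_one] at this
      exact one_ne_zero this
  subst hn
  have h0 := hloc 0
  rw [h1 0, sub_self] at h0
  have e0 : (T ⧸ Ideal.span {(0 : T)}) ≃+* T := by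
    rw [Ideal.span_singleton_eq_bot.mpr rfl]
    exact RingEquiv.quotientBot T
  haveI := h0
  exact e0.isLocalRing

open Polynomial in
/-- `IsSepClosed.algebraMap_surjective` for domains -/
theorem algebraMap_surjective_of_isDomain (k : Type*) [Field k] (K : Type*) [CommRing K] [IsDomain K]
    [IsSepClosed k] [Algebra k K] [Algebra.IsSeparable k K] :
    Function.Surjective (algebraMap k K) := by
  refine fun x => ⟨-(minpoly k x).coeff 0, ?_⟩
  have hq : (minpoly k x).leadingCoeff = 1 := minpoly.monic (Algebra.IsSeparable.isIntegral k x)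
  have hsep : IsSeparable k x := Algebra.IsSeparable.isSeparable k x
  have h : (minpoly k x).degree = 1 :=
    IsSepClosed.degree_eq_one_of_irreducible k
      (minpoly.irreducible (Algebra.IsSeparable.isIntegral k x)) hsep
  have : aeval x (minpoly k x) = 0 := minpoly.aeval k x
  rw [eq_X_add_C_of_degree_eq_one h, hq, C_1, one_mul, aeval_add, aeval_X, aeval_C,
    add_eq_zero_iff_eq_neg] at this
  exact (map_neg (algebraMap k K) ((minpoly k x).coeff 0)).symm ▸ this.symm

/-- a quadratic étale algebra over a strictly henselian local ring has a nontrivial idempotent -/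
theorem exists_nontrivial_idem (H : Type u) [CommRing H] [HenselianLocalRing H]
    [IsSepClosed (ResidueField H)] (T : Type v) [CommRing T] [Algebra H T]
    (hq : RInv.IsQuadEtale H T) : ∃ e : T, e * e = e ∧ e ≠ 0 ∧ e ≠ 1 := by
  haveI := hq.1
  obtain ⟨n, e, he, hloc⟩ :=
    Groth.Agent.Lib.Helper9.exists_completeOrthogonalIdempotents_of_finite (R := H) T
  by_contra hcon
  push Not at hcon
  have htriv : ∀ x : T, x * x = x → x = 0 ∨ x = 1 := by
    intro x hx
    by_cases h0 : x = 0
    · exact Or.inl h0
    · exact Or.inr (hcon x hx h0)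
  have hLS := isLocalRing_or_subsingleton_of_trivial_idem n e he hloc htriv
  letI : Field (H ⧸ maximalIdeal H) := Ideal.Quotient.field _
  haveI : IsSepClosed (H ⧸ maximalIdeal H) := ‹IsSepClosed (ResidueField H)›
  rcases Groth.Agent.S15585.result H T hq with ⟨hF, hrk, hsep⟩ | ⟨⟨eqv⟩⟩
  · haveI : IsDomain (T ⧸ (maximalIdeal H).map (algebraMap H T)) := hF.isDomain
    have hsurj := algebraMap_surjective_of_isDomain (H ⧸ maximalIdeal H)
      (T ⧸ (maximalIdeal H).map (algebraMap H T))
    have hle : Module.finrank (H ⧸ maximalIdeal H)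
        (T ⧸ (maximalIdeal H).map (algebraMap H T)) ≤ 1 := by
      apply finrank_le_one (1 : T ⧸ (maximalIdeal H).map (algebraMap H T))
      intro w
      obtain ⟨c, hc⟩ := hsurj w
      exact ⟨c, by rw [Algebra.smul_def, mul_one]; exact hc⟩
    omega
  · set ē := eqv.symm (1, 0) with hē
    have hidem : ē * ē = ē := by
      rw [hē, ← map_mul]
      simp
    have hne0 : ē ≠ 0 := by
      intro h
      have := congrArg eqv h
      rw [hē, AlgEquiv.apply_symm_apply, map_zero] at this
      simpa using congrArg Prod.fst this
    have hne1 : ē ≠ 1 := by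
      intro h
      have := congrArg eqv h
      rw [hē, AlgEquiv.apply_symm_apply, map_one] at this
      simpa using congrArg Prod.snd this
    have hmul : ē * (1 - ē) = 0 := by rw [mul_sub, mul_one, hidem, sub_self]
    obtain ⟨x, hx⟩ := Ideal.Quotient.mk_surjective ē
    rcases hLS with hL | hS
    · rcases IsLocalRing.isUnit_or_isUnit_one_sub_self x with hu | hu
      · have hu' : IsUnit ē := hx ▸ hu.map (Ideal.Quotient.mk _)
        apply hne1
        have := hu'.mul_right_eq_zero.mp hmul
        rw [sub_eq_zero] at this
        exact this.symm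
      · have hu' : IsUnit (1 - ē) := by
          rw [← hx, ← map_one (Ideal.Quotient.mk _), ← map_sub]
          exact hu.map (Ideal.Quotient.mk _)
        exact hne0 (hu'.mul_left_eq_zero.mp hmul)
    · apply hne0
      rw [← hx, Subsingleton.elim x 0, map_zero]

section bc

variable {S : Type u} {R : Type v} [CommRing S] [CommRing R] [Algebra S R]

/-- quadratic étale algebras are stable under base change -/
theorem isQuadEtale_baseChange (S' : Type*) [CommRing S'] [Algebra S S']
    (hq : RInv.IsQuadEtale S R) : RInv.IsQuadEtale S' (S' ⊗[S] R) := by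
  obtain ⟨hfin, hproj, hunr, hrank⟩ := hq
  refine ⟨inferInstance, inferInstance, inferInstance, ?_⟩
  intro p
  rw [Module.rankAtStalk_baseChange, hrank]

/-- over a flat strictly henselian local `S`-algebra `H`, a quadratic étale `R` with involution
whose fixed ring is `S` acquires an idempotent swapped with its complement -/
theorem exists_idem_swap (lam : R ≃ₐ[S] R) (hlam : ∀ r, lam (lam r) = r)
    (hfix : RInv.IsFixedRing S R lam.toRingEquiv) (hq : RInv.IsQuadEtale S R)
    (H : Type u) [CommRing H] [HenselianLocalRing H] [IsSepClosed (ResidueField H)]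
    [Algebra S H] [Module.Flat S H] :
    ∃ e : H ⊗[S] R, e * e = e ∧ LinearMap.lTensor H lam.toLinearMap e = 1 - e := by
  obtain ⟨e, hee, he0, he1⟩ := exists_nontrivial_idem H (H ⊗[S] R) (isQuadEtale_baseChange H hq)
  let σ : H ⊗[S] R →ₐ[H] H ⊗[S] R := Algebra.TensorProduct.map (AlgHom.id H H) lam.toAlgHom
  have hσ : ∀ x, σ x = LinearMap.lTensor H lam.toLinearMap x := by
    intro x
    induction x using TensorProduct.induction_on with
    | zero => simp
    | tmul s c => rfl
    | add x y hx hy => rw [map_add, map_add, hx, hy]
  have hσσ : ∀ x, σ (σ x) = x := by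
    intro x
    induction x using TensorProduct.induction_on with
    | zero => simp
    | tmul s c =>
      show (s ⊗ₜ[S] lam (lam c) : H ⊗[S] R) = _
      rw [hlam]
    | add x y hx hy => rw [map_add, map_add, hx, hy]
  -- a `σ`-fixed idempotent dividing a nontrivial idempotent vanishes
  have key : ∀ f : H ⊗[S] R, f * f = f → f ≠ 1 → f * σ f = 0 := by
    intro f hff hf1
    obtain ⟨h, hh⟩ := exists_of_fixed_bc (S := S) (S' := H) lam hfix (f * σ f) (by
      rw [← hσ, map_mul, hσσ, mul_comm])
    have hx : f * σ f = algebraMap H (H ⊗[S] R) h := by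
      rw [Algebra.TensorProduct.algebraMap_apply]
      exact hh.symm
    have hidem : (f * σ f) * (f * σ f) = f * σ f := by
      have : σ f * σ f = σ f := by rw [← map_mul, hff]
      calc (f * σ f) * (f * σ f) = (f * f) * (σ f * σ f) := by ring
        _ = f * σ f := by rw [hff, this]
    rcases IsLocalRing.isUnit_or_isUnit_one_sub_self h with hu | hu
    · exfalso
      apply hf1
      have hu' : IsUnit (f * σ f) := hx ▸ hu.map (algebraMap H (H ⊗[S] R))
      have hfu : IsUnit f := isUnit_of_mul_isUnit_left hu'
      have : f * (1 - f) = 0 := by rw [mul_sub, mul_one, hff, sub_self]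
      have := hfu.mul_right_eq_zero.mp this
      rw [sub_eq_zero] at this
      exact this.symm
    · have hu' : IsUnit (1 - f * σ f) := by
        rw [hx, ← map_one (algebraMap H (H ⊗[S] R)), ← map_sub]
        exact hu.map _
      have : (f * σ f) * (1 - f * σ f) = 0 := by rw [mul_sub, mul_one, hidem, sub_self]
      exact hu'.mul_left_eq_zero.mp this
  have h1 := key e hee he1
  have h2 := key (1 - e) (by ring_nf; rw [pow_two, hee]; ring) (by
    intro h
    apply he0
    have : e = 1 - (1 - e) := by ring
    rw [this, h, sub_self])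
  refine ⟨e, hee, ?_⟩
  rw [← hσ]
  rw [map_sub, map_one] at h2
  have : (1 - e) * (1 - σ e) = 1 - e - σ e + e * σ e := by ring
  rw [this, h1, add_zero] at h2
  linear_combination (-1 : H ⊗[S] R) * h2

end bc

end Groth.Agent.Lib.Helper3.QuadEtIdem
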