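import Groth.Agent.Lib.Helper3.QuasiRegular

set_option autoImplicit false
universe u
open MvPolynomial

namespace Groth.Agent.Lib.Helper3.QReg

variable {A : Type u} [CommRing A]

/-- A homogeneous polynomial of degree `n` with coefficients in `I` evaluates into `I * (f)^n`. -/
theorem eval_mem_mul_pow {c : ℕ} (f : Fin c → A) (I : Ideal A) (n : ℕ) (F : MvPolynomial (Fin c) A)
    (hF : F.IsHomogeneous n) (hFI : F ∈ Ideal.map C I) :
    eval f F ∈ I * Ideal.span (Set.range f) ^ n := by
  rw [MvPolynomial.mem_map_C_iff] at hFI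
  rw [← F.support_sum_monomial_coeff, map_sum]
  refine Ideal.sum_mem _ fun d hd => ?_
  have hdeg : d.degree = n := by
    rw [Finsupp.degree_eq_weight_one]
    exact hF (mem_support_iff.mp hd)
  have h1 : eval f (monomial d (coeff d F)) = coeff d F * eval f (monomial d 1) := by
    simp [eval_monomial]
  rw [h1]
  refine Ideal.mul_mem_mul (hFI d) ?_
  exact (Ideal.mem_span_pow_iff_exists_isHomogeneous f _).mpr
    ⟨monomial d 1, isHomogeneous_monomial 1 hdeg, rfl⟩

theorem homogeneousComponent_mem_map_C {σ : Type*} (I : Ideal A) (n : ℕ) (F : MvPolynomial σ A)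
    (hF : F ∈ Ideal.map C I) : homogeneousComponent n F ∈ Ideal.map C I := by
  rw [MvPolynomial.mem_map_C_iff] at hF ⊢
  intro d
  rw [coeff_homogeneousComponent]
  split_ifs
  · exact hF d
  · exact zero_mem _

/-- The quasi-regularity of the image of `f` in `A ⧸ J`. -/
theorem isQuasiRegular_quotient (J : Ideal A) {r : ℕ} (f : Fin r → A)
    (hf : RingTheory.Sequence.IsWeaklyRegular (A ⧸ J) (List.ofFn f)) :
    CAlgX.IsQuasiRegular (fun i => Ideal.Quotient.mk J (f i)) := by
  apply isQuasiRegular_of_isWeaklyRegular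
  have h := (RingTheory.Sequence.isWeaklyRegular_map_algebraMap_iff (A ⧸ J) (A ⧸ J)
    (List.ofFn f)).mpr hf
  rw [List.map_ofFn] at h
  exact h

/-- One step: `J ∩ R^m ≤ J R^m + J ∩ R^(m+1)`. -/
theorem inter_pow_le_step (J : Ideal A) {r : ℕ} (f : Fin r → A)
    (hf : RingTheory.Sequence.IsWeaklyRegular (A ⧸ J) (List.ofFn f)) (m : ℕ) :
    J ⊓ Ideal.span (Set.range f) ^ m ≤
      J * Ideal.span (Set.range f) ^ m ⊔ J ⊓ Ideal.span (Set.range f) ^ (m + 1) := by
  have hq := (isQuasiRegular_iff _).mp (isQuasiRegular_quotient J f hf)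
  rintro x ⟨hxJ, hxR⟩
  obtain ⟨P, hP, rfl⟩ := (Ideal.mem_span_pow_iff_exists_isHomogeneous f x).mp hxR
  have hPbar : MvPolynomial.map (Ideal.Quotient.mk J) P ∈
      Ideal.map C (Ideal.span (Set.range fun i => Ideal.Quotient.mk J (f i))) := by
    apply hq m _ (hP.map _)
    have : eval (fun i => Ideal.Quotient.mk J (f i)) (MvPolynomial.map (Ideal.Quotient.mk J) P) =
        Ideal.Quotient.mk J (eval f P) := (map_eval (Ideal.Quotient.mk J) f P).symm
    rw [this, Ideal.Quotient.eq_zero_iff_mem.mpr hxJ]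
    exact zero_mem _
  have hspan : Ideal.span (Set.range fun i => Ideal.Quotient.mk J (f i)) =
      (Ideal.span (Set.range f)).map (Ideal.Quotient.mk J) := by
    rw [Ideal.map_span, ← Set.range_comp]
    rfl
  have hPsup : P ∈ Ideal.map C (Ideal.span (Set.range f) ⊔ J) := by
    rw [MvPolynomial.mem_map_C_iff] at hPbar ⊢
    intro d
    have := hPbar d
    rwa [coeff_map, hspan, Ideal.mem_quotient_iff_mem_sup] at this
  rw [Ideal.map_sup] at hPsup
  obtain ⟨P₂, hP₂, P₁, hP₁, hsum⟩ := Submodule.mem_sup.mp hPsup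
  have hP' : P = homogeneousComponent m P₂ + homogeneousComponent m P₁ := by
    rw [← map_add, hsum]
    exact (homogeneousComponent_eq_self hP).symm
  have h1 : eval f (homogeneousComponent m P₁) ∈ J * Ideal.span (Set.range f) ^ m :=
    eval_mem_mul_pow f J m _ (homogeneousComponent_isHomogeneous m P₁)
      (homogeneousComponent_mem_map_C J m P₁ hP₁)
  have h2 : eval f (homogeneousComponent m P₂) ∈ Ideal.span (Set.range f) ^ (m + 1) := by
    rw [pow_succ']
    exact eval_mem_mul_pow f _ m _ (homogeneousComponent_isHomogeneous m P₂)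
      (homogeneousComponent_mem_map_C _ m P₂ hP₂)
  have h3 : eval f (homogeneousComponent m P₂) ∈ J := by
    have h4 : eval f (homogeneousComponent m P₂) = eval f P - eval f (homogeneousComponent m P₁) := by
      conv_rhs => rw [hP', map_add]
      ring
    rw [h4]
    have h1' : eval f (homogeneousComponent m P₁) ∈ J :=
      (Ideal.mul_le_left : J * Ideal.span (Set.range f) ^ m ≤ J) h1
    exact Ideal.sub_mem J hxJ h1'
  have h5 : eval f P = eval f (homogeneousComponent m P₁) + eval f (homogeneousComponent m P₂) := by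
    conv_lhs => rw [hP', map_add]
    ring
  rw [h5]
  exact Ideal.add_mem _ (Ideal.mem_sup_left h1) (Ideal.mem_sup_right ⟨h3, h2⟩)

theorem inter_pow_eq (J : Ideal A) {r : ℕ} (f : Fin r → A)
    (hf : RingTheory.Sequence.IsWeaklyRegular (A ⧸ J) (List.ofFn f)) (n N : ℕ) (hnN : n ≤ N) :
    J ⊓ Ideal.span (Set.range f) ^ n =
      J * Ideal.span (Set.range f) ^ n ⊔ J ⊓ Ideal.span (Set.range f) ^ N := by
  apply le_antisymm
  · induction N, hnN using Nat.le_induction with
    | base => exact le_sup_right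
    | succ N hN ih =>
      refine ih.trans (sup_le le_sup_left ?_)
      refine (inter_pow_le_step J f hf N).trans (sup_le ?_ le_sup_right)
      exact le_sup_of_le_left (Ideal.mul_mono_right (Ideal.pow_le_pow_right hN))
  · refine sup_le Ideal.mul_le_inf ?_
    exact inf_le_inf_left _ (Ideal.pow_le_pow_right hnN)

end Groth.Agent.Lib.Helper3.QReg
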