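import Groth.Agent.Lib.Helper3.QuasiRegularInter
import Mathlib.RingTheory.Filtration
import Mathlib.RingTheory.Jacobson.Ideal

set_option autoImplicit false
universe u

namespace Groth.Agent.Lib.Helper3.QReg

variable {A : Type u} [CommRing A]

/-- Krull intersection: `⨅ (I ⊔ R^N) = I` when `R` is in the Jacobson radical of a Noetherian ring. -/
theorem mem_of_forall_mem_sup_pow [IsNoetherianRing A] (I R : Ideal A)
    (hR : R ≤ (⊥ : Ideal A).jacobson) (x : A) (hx : ∀ N : ℕ, x ∈ I ⊔ R ^ N) : x ∈ I := by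
  have hK := Ideal.iInf_pow_smul_eq_bot_of_le_jacobson (M := A ⧸ I) R hR
  have h1 : (Ideal.Quotient.mk I x : A ⧸ I) ∈ (⨅ i : ℕ, R ^ i • ⊤ : Submodule A (A ⧸ I)) := by
    rw [Submodule.mem_iInf]
    intro N
    obtain ⟨a, ha, b, hb, rfl⟩ := Submodule.mem_sup.mp (hx N)
    have h2 : (Ideal.Quotient.mk I (a + b) : A ⧸ I) = b • (Ideal.Quotient.mk I 1 : A ⧸ I) := by
      rw [map_add, Ideal.Quotient.eq_zero_iff_mem.mpr ha, zero_add]
      change _ = Ideal.Quotient.mk I (b • 1)
      simp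
    rw [h2]
    exact Submodule.smul_mem_smul hb Submodule.mem_top
  rw [hK, Submodule.mem_bot] at h1
  exact Ideal.Quotient.eq_zero_iff_mem.mp h1

theorem inter_pow_eq_mul [IsNoetherianRing A] (J : Ideal A) {r : ℕ} (f : Fin r → A)
    (hf : RingTheory.Sequence.IsWeaklyRegular (A ⧸ J) (List.ofFn f))
    (hrad : Ideal.span (Set.range f) ≤ (⊥ : Ideal A).jacobson) (n : ℕ) :
    J ⊓ Ideal.span (Set.range f) ^ n = J * Ideal.span (Set.range f) ^ n := by
  apply le_antisymm _ Ideal.mul_le_inf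
  intro x hx
  apply mem_of_forall_mem_sup_pow _ _ hrad
  intro N
  rcases le_total n N with h | h
  · rw [inter_pow_eq J f hf n N h] at hx
    have hle : J * Ideal.span (Set.range f) ^ n ⊔ J ⊓ Ideal.span (Set.range f) ^ N ≤
        J * Ideal.span (Set.range f) ^ n ⊔ Ideal.span (Set.range f) ^ N :=
      sup_le_sup_left inf_le_right _
    exact hle hx
  · exact Ideal.mem_sup_right (Ideal.pow_le_pow_right h hx.2)

theorem inter_sq_eq [IsNoetherianRing A] (J : Ideal A) {r : ℕ} (f : Fin r → A)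
    (hf : RingTheory.Sequence.IsWeaklyRegular (A ⧸ J) (List.ofFn f))
    (hrad : Ideal.span (Set.range f) ≤ (⊥ : Ideal A).jacobson) :
    J ⊓ (J ⊔ Ideal.span (Set.range f)) ^ 2 = J * (J ⊔ Ideal.span (Set.range f)) := by
  set R := Ideal.span (Set.range f) with hRdef
  apply le_antisymm
  · rintro x ⟨hxJ, hxQ⟩
    have hQ2 : (J ⊔ R) ^ 2 ≤ J * (J ⊔ R) ⊔ R ^ 2 := by
      rw [sq, Ideal.sup_mul, sq]
      refine sup_le le_sup_left ?_
      rw [Ideal.mul_sup]
      refine sup_le ?_ le_sup_right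
      rw [mul_comm]
      exact le_sup_of_le_left (Ideal.mul_mono_right le_sup_right)
    obtain ⟨a, ha, b, hb, rfl⟩ := Submodule.mem_sup.mp (hQ2 hxQ)
    have haJ : a ∈ J := (Ideal.mul_le_left : J * (J ⊔ R) ≤ J) ha
    have hbJ : b ∈ J := by
      have := Ideal.sub_mem J hxJ haJ
      rwa [add_sub_cancel_left] at this
    have hb' : b ∈ J * R ^ 2 := by
      rw [← inter_pow_eq_mul J f hf hrad 2]
      exact ⟨hbJ, hb⟩
    refine Ideal.add_mem _ ha ?_
    refine (Ideal.mul_mono_right ?_) hb'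
    exact (Ideal.pow_le_self two_ne_zero).trans le_sup_right
  · refine le_inf Ideal.mul_le_left ?_
    rw [sq]
    exact Ideal.mul_mono_left le_sup_left

end Groth.Agent.Lib.Helper3.QReg
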