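import Groth.Agent.S15576
import Groth.Agent.S15577
import Groth.Agent.Lib.Helper80.RInv4
import Groth.Agent.Lib.Helper3.AdaptedLocal
import Groth.Agent.Lib.Helper3.AzInvInner

/-! Ramified primes: locality of `S' ⊗ R` for local `S'` centred at a ramified prime (helper3). -/

set_option autoImplicit false
universe u u' v

open TensorProduct IsLocalRing

namespace Groth.Agent.Lib.Helper3.RamLocal

open Groth.Agent.Lib.Helper3.AdaptedLocal Groth.Agent.Lib.Helper80.RInvLib

variable {S : Type u} {R : Type v} [CommRing S] [CommRing R] [Algebra S R]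
  (lam : R ≃ₐ[S] R) (hlam : ∀ r, lam (lam r) = r) (hfix : RInv.IsFixedRing S R lam.toRingEquiv)

include hlam hfix in
/-- at a ramified prime `q`, for a local `S`-algebra `S'` centred at `q`, the ring `S' ⊗ R` is local
and the involution is trivial on its residue field -/
theorem ramified_local (q : PrimeSpectrum S)
    (hram : ¬ RInv.IsQuadEtale (Localization.AtPrime q.asIdeal)
      (Localization.AtPrime q.asIdeal ⊗[S] R))
    (S' : Type u') [CommRing S'] [Algebra S S'] [IsLocalRing S']
    (hq : (maximalIdeal S').comap (algebraMap S S') = q.asIdeal)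
    (σ' : S' ⊗[S] R ≃+* S' ⊗[S] R) (hσ' : ∀ z, σ' z = sig lam S' z)
    (hfix' : RInv.IsFixedRing S' (S' ⊗[S] R) σ') :
    IsLocalRing (S' ⊗[S] R) ∧ ∀ z, sig lam S' z - z ∈ Ring.jacobson (S' ⊗[S] R) := by
  haveI := q.isPrime
  have hinv : Function.Involutive lam.toRingEquiv := hlam
  have hinv' : Function.Involutive σ' := by
    intro z
    rw [hσ', hσ', sig_sig lam hlam]
  -- step 1: the involution is trivial modulo the Jacobson radical at `S_q`
  set Sq := Localization.AtPrime q.asIdeal with hSq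
  have hJq : ∀ z : Sq ⊗[S] R, (lamBC Sq hfix).toRingEquiv z - z ∈ Ring.jacobson (Sq ⊗[S] R) := by
    intro z
    by_contra hz
    exact hram (Groth.Agent.S15576.result Sq (Sq ⊗[S] R) (lamBC Sq hfix).toRingEquiv
      (lamBC_involutive Sq hinv hfix) (isFixedRing_baseChange Sq hfix) ⟨z, hz⟩)
  -- step 2: the comparison map
  have hunit : ∀ y : q.asIdeal.primeCompl, IsUnit (algebraMap S S' (y : S)) := by
    intro y
    by_contra hy
    have h1 : algebraMap S S' (y : S) ∈ maximalIdeal S' := hy
    have h2 : (y : S) ∈ (maximalIdeal S').comap (algebraMap S S') := h1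
    rw [hq] at h2
    exact y.2 h2
  let φ : Sq →ₐ[S] S' := IsLocalization.liftAlgHom (M := q.asIdeal.primeCompl)
    (f := Algebra.ofId S S') hunit
  have hφ : ∀ s : S, φ (algebraMap S Sq s) = algebraMap S S' s := fun s => φ.commutes s
  let Φ : Sq ⊗[S] R →ₐ[S] S' ⊗[S] R := Algebra.TensorProduct.map φ (AlgHom.id S R)
  haveI : Algebra.IsIntegral S R := AzInvInner.isIntegral lam hfix hlam
  -- step 3: Jacobson radicals
  have hφm : ∀ x : Sq, x ∈ maximalIdeal Sq → φ x ∈ maximalIdeal S' := by
    intro x hx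
    by_contra hxu
    have hu : IsUnit (φ x) := by
      by_contra h
      exact hxu h
    obtain ⟨⟨s, t⟩, rfl⟩ := IsLocalization.mk'_surjective q.asIdeal.primeCompl x
    have hs : s ∈ q.asIdeal :=
      (IsLocalization.AtPrime.mk'_mem_maximal_iff Sq q.asIdeal s t).mp hx
    have h1 : φ (IsLocalization.mk' Sq s t) * algebraMap S S' (t : S) = algebraMap S S' s := by
      rw [← hφ, ← map_mul, IsLocalization.mk'_spec, hφ]
    have h2 : algebraMap S S' s ∈ maximalIdeal S' := by
      have : s ∈ (maximalIdeal S').comap (algebraMap S S') := by rw [hq]; exact hs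
      exact this
    have h3 : IsUnit (algebraMap S S' s) := by rw [← h1]; exact hu.mul (hunit t)
    exact h2 h3
  have hJ : ∀ j : Sq ⊗[S] R, j ∈ Ring.jacobson (Sq ⊗[S] R) → Φ j ∈ Ring.jacobson (S' ⊗[S] R) := by
    intro j hj
    rw [mem_ringJacobson_iff]
    intro M hM
    haveI := hM.isPrime
    set N : Ideal (Sq ⊗[S] R) := M.comap Φ.toRingHom with hN
    haveI : N.IsPrime := Ideal.comap_isPrime _ _
    have hle : maximalIdeal Sq ≤ N.comap (algebraMap Sq (Sq ⊗[S] R)) := by
      intro x hx
      rw [Ideal.mem_comap, hN, Ideal.mem_comap]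
      have : Φ.toRingHom (algebraMap Sq (Sq ⊗[S] R) x) = algebraMap S' (S' ⊗[S] R) (φ x) := by
        rw [Algebra.TensorProduct.algebraMap_apply, Algebra.TensorProduct.algebraMap_apply]
        simp [Φ]
      rw [this]
      exact algebraMap_mem_of_not_isUnit hinv' hfix' (hφm x hx) hM
    have hmax : (N.comap (algebraMap Sq (Sq ⊗[S] R))).IsMaximal := by
      have hne : N.comap (algebraMap Sq (Sq ⊗[S] R)) ≠ ⊤ :=
        (Ideal.comap_isPrime (algebraMap Sq (Sq ⊗[S] R)) N).ne_top
      have := (maximalIdeal.isMaximal Sq).eq_of_le hne hle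
      rw [← this]
      exact maximalIdeal.isMaximal Sq
    have hNmax : N.IsMaximal := Ideal.isMaximal_of_isIntegral_of_isMaximal_comap N hmax
    exact (mem_ringJacobson_iff.mp hj) N hNmax
  -- step 4
  have h1r : ∀ r : R, (1 : S') ⊗ₜ[S] (lam r - r) ∈ Ring.jacobson (S' ⊗[S] R) := by
    intro r
    have := hJ _ (hJq ((1 : Sq) ⊗ₜ[S] r))
    have e : Φ ((lamBC Sq hfix).toRingEquiv ((1 : Sq) ⊗ₜ[S] r) - (1 : Sq) ⊗ₜ[S] r) =
        (1 : S') ⊗ₜ[S] (lam r - r) := by
      show Φ ((lamBC Sq hfix) ((1 : Sq) ⊗ₜ[S] r) - (1 : Sq) ⊗ₜ[S] r) = _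
      rw [lamBC_tmul, map_sub, TensorProduct.tmul_sub]
      simp [Φ]
    rw [e] at this
    exact this
  have hall : ∀ z, sig lam S' z - z ∈ Ring.jacobson (S' ⊗[S] R) := by
    intro z
    induction z using TensorProduct.induction_on with
    | zero => simp
    | tmul s r =>
      have : sig lam S' (s ⊗ₜ[S] r) - s ⊗ₜ[S] r =
          (s ⊗ₜ[S] (1 : R)) * ((1 : S') ⊗ₜ[S] (lam r - r)) := by
        rw [sig_tmul, Algebra.TensorProduct.tmul_mul_tmul, mul_one, one_mul,
          TensorProduct.tmul_sub]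
      rw [this]
      exact Ideal.mul_mem_left _ _ (h1r r)
    | add x y hx hy =>
      have : sig lam S' (x + y) - (x + y) = (sig lam S' x - x) + (sig lam S' y - y) := by
        rw [map_add]; ring
      rw [this]
      exact Ideal.add_mem _ hx hy
  refine ⟨?_, hall⟩
  exact (Groth.Agent.S15577.result S' (S' ⊗[S] R) σ' hinv' hfix'
    (fun z => by rw [hσ']; exact hall z)).1

end Groth.Agent.Lib.Helper3.RamLocal
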