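import Groth.Agent.Lib.Helper3.RamLocal
import Groth.Agent.S15574
import Groth.Agent.S15586

/-! Primes of `R` with trivial involution versus primes of `S` where `R` is not quadratic étale
(helper3). -/

set_option autoImplicit false
universe u v

open TensorProduct IsLocalRing

namespace Groth.Agent.Lib.Helper3.RamPrimes

open AzInv Groth.Agent.Lib.Helper3.AdaptedLocal Groth.Agent.Lib.Helper80.RInvLib

variable {S : Type u} {R : Type v} [CommRing S] [CommRing R] [Algebra S R]

/-- a prime of `R` modulo which the involution is trivial lies over a prime of `S` at which `R`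
is not quadratic étale -/
theorem not_qe_of_ramified (lam : R ≃ₐ[S] R) (hlam : ∀ r, lam (lam r) = r)
    (hfix : RInv.IsFixedRing S R lam.toRingEquiv)
    (q : PrimeSpectrum R) (hq : ∀ r : R, lam r - r ∈ q.asIdeal) :
    ¬ RInv.IsQuadEtale
      (Localization.AtPrime (PrimeSpectrum.comap (algebraMap S R) q).asIdeal)
      (Localization.AtPrime (PrimeSpectrum.comap (algebraMap S R) q).asIdeal ⊗[S] R) := by
  intro hqe
  haveI := q.isPrime
  set p := PrimeSpectrum.comap (algebraMap S R) q with hp
  haveI := p.isPrime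
  set Sq := Localization.AtPrime p.asIdeal with hSq
  set κ := q.asIdeal.ResidueField with hκ
  have hinv : Function.Involutive lam.toRingEquiv := hlam
  obtain ⟨r, hr⟩ := Groth.Agent.S15574.result Sq (Sq ⊗[S] R) (lamBC Sq hfix).toRingEquiv
    (lamBC_involutive Sq hinv hfix) (isFixedRing_baseChange Sq hfix) hqe
  have hunit : ∀ y : p.asIdeal.primeCompl, IsUnit (algebraMap S κ (y : S)) := by
    intro y
    rw [isUnit_iff_ne_zero]
    intro h0
    rw [IsScalarTower.algebraMap_apply S R κ, Ideal.algebraMap_residueField_eq_zero] at h0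
    exact y.2 h0
  let φ : Sq →ₐ[S] κ := IsLocalization.liftAlgHom (M := p.asIdeal.primeCompl)
    (f := Algebra.ofId S κ) hunit
  let π : Sq ⊗[S] R →ₐ[S] κ := Algebra.TensorProduct.productMap φ (IsScalarTower.toAlgHom S R κ)
  have hπ : ∀ (s : Sq) (x : R), π (s ⊗ₜ[S] x) = φ s * algebraMap R κ x := fun s x =>
    Algebra.TensorProduct.productMap_apply_tmul _ _ s x
  have hπσ : ∀ z : Sq ⊗[S] R, π ((lamBC Sq hfix).toRingEquiv z) = π z := by
    intro z
    induction z using TensorProduct.induction_on with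
    | zero => simp
    | tmul s x =>
      show π (lamBC Sq hfix (s ⊗ₜ[S] x)) = π (s ⊗ₜ[S] x)
      rw [lamBC_tmul, hπ, hπ]
      congr 1
      have h0 : algebraMap R κ (lam x - x) = 0 :=
        Ideal.algebraMap_residueField_eq_zero.mpr (hq x)
      rw [map_sub, sub_eq_zero] at h0
      exact h0
    | add x y hx hy => rw [map_add, map_add, hx, hy, map_add]
  have h1 := hr.map π
  rw [map_sub, hπσ, sub_self] at h1
  exact not_isUnit_zero h1

/-- over a prime of `S` at which `R` is not quadratic étale there is a prime of `R` modulo which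
the involution is trivial -/
theorem exists_ramified_over (lam : R ≃ₐ[S] R) (hlam : ∀ r, lam (lam r) = r)
    (hfix : RInv.IsFixedRing S R lam.toRingEquiv) (h2 : IsUnit (2 : S))
    (p : PrimeSpectrum S)
    (hram : ¬ RInv.IsQuadEtale (Localization.AtPrime p.asIdeal)
      (Localization.AtPrime p.asIdeal ⊗[S] R)) :
    ∃ q : PrimeSpectrum R, PrimeSpectrum.comap (algebraMap S R) q = p ∧
      ∀ r : R, lam r - r ∈ q.asIdeal := by
  haveI := p.isPrime
  set K₀ := p.asIdeal.ResidueField with hK₀
  have hq : (maximalIdeal K₀).comap (algebraMap S K₀) = p.asIdeal := by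
    ext r
    rw [Ideal.mem_comap, IsLocalRing.maximalIdeal_eq_bot, Ideal.mem_bot,
      Ideal.algebraMap_residueField_eq_zero]
  set σ' : K₀ ⊗[S] R ≃+* K₀ ⊗[S] R :=
    (Algebra.TensorProduct.congr (AlgEquiv.refl : K₀ ≃ₐ[S] K₀) lam).toRingEquiv with hσ'def
  have hσ' : ∀ z, σ' z = sig lam K₀ z := by
    intro z
    induction z using TensorProduct.induction_on with
    | zero => simp
    | tmul s r => rfl
    | add x y hx hy => rw [map_add, map_add, hx, hy]
  have hfix' : RInv.IsFixedRing K₀ (K₀ ⊗[S] R) σ' :=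
    Groth.Agent.S15586.result S R K₀ lam hlam hfix (Or.inr h2)
  obtain ⟨hloc, hjac⟩ := RamLocal.ramified_local lam hlam hfix p hram K₀ hq σ' hσ' hfix'
  haveI := hloc
  have hσm : ∀ z, sig lam K₀ z - z ∈ maximalIdeal (K₀ ⊗[S] R) := fun z =>
    (mem_ringJacobson_iff.mp (hjac z)) _ (maximalIdeal.isMaximal _)
  let ι : R →+* K₀ ⊗[S] R := (Algebra.TensorProduct.includeRight : R →ₐ[S] K₀ ⊗[S] R).toRingHom
  have hι : ∀ r, ι r = (1 : K₀) ⊗ₜ[S] r := fun r => rfl
  refine ⟨⟨(maximalIdeal (K₀ ⊗[S] R)).comap ι, Ideal.IsPrime.comap ι⟩, ?_, ?_⟩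
  · ext1
    ext s
    show ι (algebraMap S R s) ∈ maximalIdeal (K₀ ⊗[S] R) ↔ s ∈ p.asIdeal
    have h1 : ι (algebraMap S R s) = algebraMap K₀ (K₀ ⊗[S] R) (algebraMap S K₀ s) := by
      rw [hι, Algebra.TensorProduct.algebraMap_apply, Algebra.algebraMap_self, RingHom.id_apply,
        Algebra.algebraMap_eq_smul_one, Algebra.algebraMap_eq_smul_one, TensorProduct.smul_tmul]
    rw [h1]
    constructor
    · intro hmem
      by_contra hs
      have hne : algebraMap S K₀ s ≠ 0 := by
        intro h0
        exact hs (Ideal.algebraMap_residueField_eq_zero.mp h0)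
      have hu : IsUnit (algebraMap K₀ (K₀ ⊗[S] R) (algebraMap S K₀ s)) :=
        (isUnit_iff_ne_zero.mpr hne).map _
      exact (IsLocalRing.mem_maximalIdeal _).mp hmem hu
    · intro hs
      rw [Ideal.algebraMap_residueField_eq_zero.mpr hs, map_zero]
      exact Ideal.zero_mem _
  · intro r
    show ι (lam r - r) ∈ maximalIdeal (K₀ ⊗[S] R)
    have := hσm ((1 : K₀) ⊗ₜ[S] r)
    rw [sig_tmul] at this
    rw [map_sub, hι, hι]
    exact this

end Groth.Agent.Lib.Helper3.RamPrimes
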