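import Groth.Agent.Lib.Helper3.TypeCompare
import Groth.Agent.Lib.Helper3.JointNbhd
import Groth.Agent.Lib.Helper3.OddLocal
import Groth.Agent.S15573
import Groth.Agent.S15574

/-! Involutions of the same type on Azumaya algebras of the same degree are locally isomorphic
(helper3). -/

set_option autoImplicit false
universe u v w w'

open TensorProduct IsLocalRing

namespace Groth.Agent.Lib.Helper3.SameTypeIso

open AzInv Groth.Agent.Lib.Helper3.FixedBC Groth.Agent.Lib.Helper3.MatUnits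
  Groth.Agent.Lib.Helper3.IndEtDescent Groth.Agent.Lib.Helper3.AdaptedSplit
  Groth.Agent.Lib.Helper3.AdaptedLocal Groth.Agent.Lib.Helper3.SymplCong
  Groth.Agent.Lib.Helper3.StrictHensPrime Groth.Agent.Lib.Helper80.RInvLib
  Groth.Agent.Lib.Helper3.OrthSymplTarget Groth.Agent.Lib.Helper3.RamDichotomy

variable {S : Type u} {R : Type v} [CommRing S] [CommRing R] [Algebra S R]
  {A : Type w} [Ring A] [Algebra S A] [Algebra R A] [IsScalarTower S R A]
  {A' : Type w'} [Ring A'] [Algebra S A'] [Algebra R A'] [IsScalarTower S R A']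

/-- if `R` is quadratic étale over `S` at the prime `q`, it is so over the strict henselization -/
theorem isQuadEtale_Hq (lam : R ≃ₐ[S] R) (hlam : ∀ r, lam (lam r) = r)
    (hfix : RInv.IsFixedRing S R lam.toRingEquiv) (q : PrimeSpectrum S)
    (hqe : RInv.IsQuadEtale (Localization.AtPrime q.asIdeal)
      (Localization.AtPrime q.asIdeal ⊗[S] R)) :
    RInv.IsQuadEtale (Hq q.asIdeal) (Hq q.asIdeal ⊗[S] R) := by
  haveI := q.isPrime
  set H := Hq q.asIdeal with hH
  set Sq := Localization.AtPrime q.asIdeal with hSq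
  have hinv : Function.Involutive lam.toRingEquiv := hlam
  obtain ⟨r, hr⟩ := Groth.Agent.S15574.result Sq (Sq ⊗[S] R) (lamBC Sq hfix).toRingEquiv
    (lamBC_involutive Sq hinv hfix) (isFixedRing_baseChange Sq hfix) hqe
  have hunit : ∀ y : q.asIdeal.primeCompl, IsUnit (algebraMap S H (y : S)) := by
    intro y
    by_contra hy
    have h1 : algebraMap S H (y : S) ∈ maximalIdeal H := hy
    have h2 : (y : S) ∈ (maximalIdeal (Hq q.asIdeal)).comap (algebraMap S (Hq q.asIdeal)) := h1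
    rw [comap_maximalIdeal] at h2
    exact y.2 h2
  let φ : Sq →ₐ[S] H := IsLocalization.liftAlgHom (M := q.asIdeal.primeCompl)
    (f := Algebra.ofId S H) hunit
  let Φ : Sq ⊗[S] R →ₐ[S] H ⊗[S] R := Algebra.TensorProduct.map φ (AlgHom.id S R)
  have hΦσ : ∀ z : Sq ⊗[S] R, Φ ((lamBC Sq hfix).toRingEquiv z) =
      (lamBC H hfix).toRingEquiv (Φ z) := by
    intro z
    induction z using TensorProduct.induction_on with
    | zero => simp
    | tmul s x =>
      show Φ (lamBC Sq hfix (s ⊗ₜ[S] x)) = lamBC H hfix (Φ (s ⊗ₜ[S] x))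
      rw [lamBC_tmul]
      show φ s ⊗ₜ[S] lam.toRingEquiv x = lamBC H hfix (φ s ⊗ₜ[S] x)
      rw [lamBC_tmul]
    | add x y hx hy => rw [map_add, map_add, hx, hy, map_add, map_add]
  refine Groth.Agent.S15573.result H (H ⊗[S] R) (lamBC H hfix).toRingEquiv
    (lamBC_involutive H hinv hfix) (isFixedRing_baseChange H hfix) ⟨Φ r, ?_⟩
  rw [← hΦσ, ← map_sub]
  exact hr.map Φ

/-- the symmetric-inverse data of an isomorphism -/
lemma iso_symm_props (lam : R ≃ₐ[S] R) (t : LamInv R A lam) (t' : LamInv R A' lam)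
    (T : Type*) [CommRing T] [Algebra S T] (g : T ⊗[S] A ≃ₐ[T] T ⊗[S] A')
    (hg1 : ∀ (r : R) (x : T ⊗[S] A),
      g (((1 : T) ⊗ₜ[S] algebraMap R A r) * x) = ((1 : T) ⊗ₜ[S] algebraMap R A' r) * g x)
    (hg2 : ∀ x, g (t.bc S lam T x) = t'.bc S lam T (g x)) :
    (∀ (r : R) (y : T ⊗[S] A'),
      g.symm (((1 : T) ⊗ₜ[S] algebraMap R A' r) * y) =
        ((1 : T) ⊗ₜ[S] algebraMap R A r) * g.symm y) ∧
    ∀ y, g.symm (t'.bc S lam T y) = t.bc S lam T (g.symm y) := by
  constructor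
  · intro r y
    apply g.injective
    rw [AlgEquiv.apply_symm_apply, hg1, AlgEquiv.apply_symm_apply]
  · intro y
    apply g.injective
    rw [AlgEquiv.apply_symm_apply, hg2, AlgEquiv.apply_symm_apply]

/-- at every prime, two involutions of the same type have units adapted to common constants over
the strict henselization -/
theorem exists_common_adapted (lam : R ≃ₐ[S] R) (hlam : ∀ r, lam (lam r) = r)
    (hfix : RInv.IsFixedRing S R lam.toRingEquiv)
    (hsq : ∀ (S₁ : Type u) [CommRing S₁] [Algebra S S₁] [Algebra.Etale S S₁] (x : S₁ˣ),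
      ∃ (S₂ : Type u) (_ : CommRing S₂) (_ : Algebra S₁ S₂) (_ : Algebra.Etale S₁ S₂)
        (_ : Module.FaithfullyFlat S₁ S₂) (y : S₂), y * y = algebraMap S₁ S₂ ↑x)
    (n : ℕ) (hn : 0 < n) (hcond : IsUnit (2 : S) ∨ RInv.IsQuadEtale S R ∨ Odd n)
    (hA : IsAzumayaDeg R A n) (hA' : IsAzumayaDeg R A' n)
    (t : LamInv R A lam) (t' : LamInv R A' lam) (h : SameType S lam t t')
    (q : PrimeSpectrum S) :
    ∃ w w' : Matrix (Fin n) (Fin n) R,
      (∃ E : Fin n → Fin n → Hq q.asIdeal ⊗[S] A,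
        IsAdaptedC A (t.linS S lam) (Hq q.asIdeal) (cst A w) (cst A w') E) ∧
      (∃ E : Fin n → Fin n → Hq q.asIdeal ⊗[S] A',
        IsAdaptedC A' (t'.linS S lam) (Hq q.asIdeal) (cst A' w) (cst A' w') E) := by
  haveI := q.isPrime
  have hsym : RInv.IsQuadEtale (Hq q.asIdeal) (Hq q.asIdeal ⊗[S] R) →
      ∃ w w' : Matrix (Fin n) (Fin n) R,
      (∃ E : Fin n → Fin n → Hq q.asIdeal ⊗[S] A,
        IsAdaptedC A (t.linS S lam) (Hq q.asIdeal) (cst A w) (cst A w') E) ∧
      (∃ E : Fin n → Fin n → Hq q.asIdeal ⊗[S] A',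
        IsAdaptedC A' (t'.linS S lam) (Hq q.asIdeal) (cst A' w) (cst A' w') E) := by
    intro hq'
    obtain ⟨E, hE, hEs⟩ :=
      SymUnitsLocal.exists_symm_matUnits' lam hlam hfix n hn hA t (Hq q.asIdeal) hq'
    obtain ⟨E', hE', hEs'⟩ :=
      SymUnitsLocal.exists_symm_matUnits' lam hlam hfix n hn hA' t' (Hq q.asIdeal) hq'
    exact ⟨1, 1, ⟨E, adapted_one_of_symm (R := R) (t.linS S lam) _ E hE hEs⟩,
      ⟨E', adapted_one_of_symm (R := R) (t'.linS S lam) _ E' hE' hEs'⟩⟩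
  rcases hcond with h2 | hqe | hodd
  · by_cases hram : RInv.IsQuadEtale (Localization.AtPrime q.asIdeal)
        (Localization.AtPrime q.asIdeal ⊗[S] R)
    · exact hsym (isQuadEtale_Hq lam hlam hfix q hram)
    · obtain ⟨m, m', hm, hm', S₃, _, _, _, hff, g, hg1, hg2⟩ := h
      have hq₃ : q ∈ Set.range (PrimeSpectrum.comap (algebraMap S S₃)) :=
        PrimeSpectrum.comap_surjective_of_faithfullyFlat q
      have hqH : q ∈ Set.range (PrimeSpectrum.comap (algebraMap S (Hq q.asIdeal))) := by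
        refine ⟨⟨maximalIdeal (Hq q.asIdeal), inferInstance⟩, ?_⟩
        ext1
        exact comap_maximalIdeal q.asIdeal
      have d₁ := local_dichotomy_ram lam hlam hfix h2 n hn hA t q hram
      have d₂ := local_dichotomy_ram lam hlam hfix h2 n hn hA' t' q hram
      rcases d₁ with ⟨E₁, hE₁⟩ | ⟨k, hk, E₁, hE₁⟩
      · rcases d₂ with ⟨E₂, hE₂⟩ | ⟨k', hk', E₂, hE₂⟩
        · exact ⟨1, 1, ⟨E₁, hE₁⟩, ⟨E₂, hE₂⟩⟩
        · exfalso
          subst hk'
          exact TypeCompare.not_orth_sympl lam hlam hfix h2 k' hn hA hA' t t' q hram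
            (Hq q.asIdeal) hqH E₁ hE₁ (Hq q.asIdeal) hqH E₂ hE₂ m m' hm S₃ hq₃ g hg1 hg2
      · subst hk
        rcases d₂ with ⟨E₂, hE₂⟩ | ⟨k', hk', E₂, hE₂⟩
        · exfalso
          obtain ⟨hs1, hs2⟩ := iso_symm_props lam (t.matrix (Fin m)) (t'.matrix (Fin m')) S₃ g
            hg1 hg2
          exact TypeCompare.not_orth_sympl lam hlam hfix h2 k hn hA' hA t' t q hram
            (Hq q.asIdeal) hqH E₂ hE₂ (Hq q.asIdeal) hqH E₁ hE₁ m' m hm' S₃ hq₃ g.symm hs1 hs2
        · have hkk : k' = k := by omega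
          subst hkk
          exact ⟨Jn k', -Jn k', ⟨E₁, hE₁⟩, ⟨E₂, hE₂⟩⟩
  · exact hsym (QuadEtIdem.isQuadEtale_baseChange (Hq q.asIdeal) hqe)
  · exact ⟨1, 1, OddLocal.local_odd lam hlam hfix hsq n hodd hA t q,
      OddLocal.local_odd lam hlam hfix hsq n hodd hA' t' q⟩

/-- same type implies locally isomorphic -/
theorem locIsoEt_of_sameType (lam : R ≃ₐ[S] R) (hlam : ∀ r, lam (lam r) = r)
    (hfix : RInv.IsFixedRing S R lam.toRingEquiv)
    (hsq : ∀ (S₁ : Type u) [CommRing S₁] [Algebra S S₁] [Algebra.Etale S S₁] (x : S₁ˣ),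
      ∃ (S₂ : Type u) (_ : CommRing S₂) (_ : Algebra S₁ S₂) (_ : Algebra.Etale S₁ S₂)
        (_ : Module.FaithfullyFlat S₁ S₂) (y : S₂), y * y = algebraMap S₁ S₂ ↑x)
    (n : ℕ) (hn : 0 < n) (hcond : IsUnit (2 : S) ∨ RInv.IsQuadEtale S R ∨ Odd n)
    (hA : IsAzumayaDeg R A n) (hA' : IsAzumayaDeg R A' n)
    (t : LamInv R A lam) (t' : LamInv R A' lam) (h : SameType S lam t t') :
    LocIsoEt S lam t t' := by
  apply GlueIso.locIsoEt_of_local
  intro q
  obtain ⟨w, w', h₁, h₂⟩ := exists_common_adapted lam hlam hfix hsq n hn hcond hA hA' t t' h q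
  exact JointNbhd.exists_iso_at lam n hn hA hA' t t' w w' q h₁ h₂

end Groth.Agent.Lib.Helper3.SameTypeIso
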