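import Mathlib.FieldTheory.IsSepClosed
import Mathlib.FieldTheory.PrimitiveElement
import Mathlib.FieldTheory.SeparableClosure
import Mathlib.RingTheory.LittleWedderburn
import Mathlib.RingTheory.AdjoinRoot
import Mathlib.RingTheory.Adjoin.Polynomial.Basic
import Mathlib.FieldTheory.Minpoly.Field
import Groth.Agent.Lib.Helper3.CycMat
import Groth.Agent.Lib.Helper1.CSAWedderburn
import Groth.Agent.Lib.Helper1.CSASeparable

/-!
# Separable generators in central simple algebras (helper3)

`exists_isSepGen`: a central simple algebra of dimension `r²` over a field `k` contains an element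
`x` whose relations are generated by a separable monic polynomial of degree `r`; hence `k[x]` is
étale of dimension `r` (`IsSepGen.adjoin`).  Uses helper1's Wedderburn structure theorem and
maximal separable subfields.  Also: `liftNC` (the map `R[X]/(P) → A` for noncommutative `A`),
`isSeparable_aeval`, `finrank_adjoin`.
-/

set_option autoImplicit false
universe u v w

open Polynomial

namespace Groth.Agent.Lib.Helper3.SepGen

section coprime
variable {k : Type u} [Field k]

lemma isCoprime_of_irreducible_monic_ne {p q : k[X]} (hp : Irreducible p) (hq : Irreducible q)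
    (hpm : p.Monic) (hqm : q.Monic) (hne : p ≠ q) : IsCoprime p q := by
  rw [hp.coprime_iff_not_dvd]
  intro hdvd
  exact hne (eq_of_monic_of_associated hpm hqm (hp.associated_of_dvd hq hdvd))

/-- a separable polynomial divides every polynomial vanishing at all its roots in a separably
closed extension -/
lemma dvd_of_aroots (K : Type v) [Field K] [Algebra k K] [IsSepClosed K] {P g : k[X]}
    (hP : P.Separable) (h : ∀ l : K, aeval l P = 0 → aeval l g = 0) : P ∣ g := by
  by_cases hg : g = 0
  · rw [hg]; exact dvd_zero _
  rw [← Polynomial.map_dvd_map' (algebraMap k K)]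
  have hP0 : P.map (algebraMap k K) ≠ 0 := (Polynomial.map_ne_zero hP.ne_zero)
  have hg0 : g.map (algebraMap k K) ≠ 0 := (Polynomial.map_ne_zero hg)
  apply (IsSepClosed.splits_codomain P hP).dvd_of_roots_le_roots hP0
  rw [Multiset.le_iff_subset (nodup_roots hP.map)]
  intro l hl
  rw [mem_roots hP0, IsRoot.def, eval_map_algebraMap] at hl
  rw [mem_roots hg0, IsRoot.def, eval_map_algebraMap]
  exact h l hl

end coprime

section sep
variable {k : Type u} [Field k] {A : Type v} [Ring A] [Algebra k A]

/-- every polynomial expression in an element killed by a separable polynomial is separable -/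
theorem isSeparable_aeval (x : A) (P : k[X]) (hP : P.Separable) (hx : aeval x P = 0) (g : k[X]) :
    IsSeparable k (aeval x g) := by
  classical
  let K := SeparableClosure k
  let S : Finset K := (P.aroots K).toFinset
  let F : K → k[X] := fun l => minpoly k (aeval l g)
  let T : Finset k[X] := S.image F
  let Q : k[X] := ∏ q ∈ T, q
  have hT : ∀ q ∈ T, ∃ v : K, q = minpoly k v := by
    intro q hq
    obtain ⟨l, -, rfl⟩ := Finset.mem_image.mp hq
    exact ⟨_, rfl⟩
  have hQsep : Q.Separable := by
    apply separable_prod'
    · intro q hq q' hq' hne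
      obtain ⟨v, rfl⟩ := hT q hq
      obtain ⟨v', rfl⟩ := hT q' hq'
      exact isCoprime_of_irreducible_monic_ne
        (minpoly.irreducible (Algebra.IsIntegral.isIntegral v))
        (minpoly.irreducible (Algebra.IsIntegral.isIntegral v'))
        (minpoly.monic (Algebra.IsIntegral.isIntegral v))
        (minpoly.monic (Algebra.IsIntegral.isIntegral v')) hne
    · intro q hq
      obtain ⟨v, rfl⟩ := hT q hq
      exact Algebra.IsSeparable.isSeparable k v
  have hdvd : P ∣ Q.comp g := by
    apply dvd_of_aroots K hP
    intro l hl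
    rw [aeval_comp]
    have hlS : l ∈ S := by
      rw [Multiset.mem_toFinset, mem_aroots]
      exact ⟨hP.ne_zero, hl⟩
    have hmem : F l ∈ T := Finset.mem_image_of_mem F hlS
    obtain ⟨w, hw⟩ := Finset.dvd_prod_of_mem (fun q => q) hmem
    change Q = F l * w at hw
    rw [hw, map_mul, minpoly.aeval, zero_mul]
  have hQx : aeval (aeval x g) Q = 0 := by
    rw [← aeval_comp]
    obtain ⟨w, hw⟩ := hdvd
    rw [hw, map_mul, hx, zero_mul]
  exact hQsep.of_dvd (minpoly.dvd k _ hQx)

end sep

section lift
variable {R : Type u} [CommRing R] {A : Type v} [Ring A] [Algebra R A]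

/-- the algebra map `R[X]/(P) → A`, `X ↦ x`, for a possibly noncommutative `A` -/
noncomputable def liftNC (P : R[X]) (x : A) (hx : aeval x P = 0) : AdjoinRoot P →ₐ[R] A :=
  Ideal.Quotient.liftₐ (Ideal.span {P}) (aeval x) (fun a ha => by
    obtain ⟨w, rfl⟩ := Ideal.mem_span_singleton.mp ha
    rw [map_mul, hx, zero_mul])

@[simp] lemma liftNC_mk (P : R[X]) (x : A) (hx : aeval x P = 0) (g : R[X]) :
    liftNC P x hx (AdjoinRoot.mk P g) = aeval x g := rfl

lemma liftNC_range (P : R[X]) (x : A) (hx : aeval x P = 0) :
    (liftNC P x hx).range = Algebra.adjoin R {x} := by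
  rw [Algebra.adjoin_singleton_eq_range_aeval]
  ext y
  constructor
  · rintro ⟨z, rfl⟩
    obtain ⟨g, rfl⟩ := AdjoinRoot.mk_surjective z
    exact ⟨g, rfl⟩
  · rintro ⟨g, rfl⟩
    exact ⟨AdjoinRoot.mk P g, rfl⟩

lemma liftNC_injective (P : R[X]) (x : A) (hx : aeval x P = 0)
    (hmin : ∀ g : R[X], aeval x g = 0 → P ∣ g) : Function.Injective (liftNC P x hx) := by
  rw [injective_iff_map_eq_zero]
  intro z hz
  obtain ⟨g, rfl⟩ := AdjoinRoot.mk_surjective z
  rw [liftNC_mk] at hz
  exact AdjoinRoot.mk_eq_zero.mpr (hmin g hz)

/-- the subalgebra generated by `x` is isomorphic to `R[X]/(P)` when `P` generates the relations -/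
noncomputable def adjoinEquiv (P : R[X]) (x : A) (hx : aeval x P = 0)
    (hmin : ∀ g : R[X], aeval x g = 0 → P ∣ g) : AdjoinRoot P ≃ₐ[R] Algebra.adjoin R {x} :=
  (AlgEquiv.ofInjective (liftNC P x hx) (liftNC_injective P x hx hmin)).trans
    (Subalgebra.equivOfEq _ _ (liftNC_range P x hx))

lemma finrank_adjoin [Nontrivial R] (P : R[X]) (hP : P.Monic) (x : A) (hx : aeval x P = 0)
    (hmin : ∀ g : R[X], aeval x g = 0 → P ∣ g) :
    Module.finrank R (Algebra.adjoin R {x}) = P.natDegree := by
  rw [← (adjoinEquiv P x hx hmin).toLinearEquiv.finrank_eq, (AdjoinRoot.powerBasis' hP).finrank,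
    AdjoinRoot.powerBasis'_dim]

end lift

section field
variable {k : Type u} [Field k] {A : Type v} [Ring A] [Algebra k A]

/-- powers independent + monic killing polynomial of the right degree ⇒ it generates all
relations -/
lemma dvd_of_linearIndependent {r : ℕ} (x : A)
    (hli : LinearIndependent k (fun i : Fin r => x ^ (i : ℕ))) (P : k[X]) (hP : P.Monic)
    (hd : P.natDegree = r) (g : k[X]) (hg : aeval x g = 0) (hx : aeval x P = 0) : P ∣ g := by
  rw [← Polynomial.modByMonic_eq_zero_iff_dvd hP]
  by_contra hne
  have h0 : aeval x (g %ₘ P) = 0 := by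
    rw [Polynomial.modByMonic_eq_sub_mul_div g P, map_sub, map_mul, hx, hg, zero_mul, sub_zero]
  have hr : 0 < r := by
    rcases Nat.eq_zero_or_pos r with h | h
    · exfalso
      subst h
      have : P = 1 := Polynomial.eq_one_of_monic_natDegree_zero hP hd
      rw [this, Polynomial.modByMonic_one] at hne
      exact hne rfl
    · exact h
  have hnat : (g %ₘ P).natDegree < r := by
    rw [← hd]
    apply Polynomial.natDegree_modByMonic_lt g hP
    intro h1
    rw [h1, Polynomial.natDegree_one] at hd
    omega
  rw [Polynomial.as_sum_range' (g %ₘ P) r hnat, map_sum] at h0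
  have h1 : ∑ i : Fin r, (g %ₘ P).coeff (i : ℕ) • x ^ (i : ℕ) = 0 := by
    rw [← h0, Finset.sum_range]
    apply Finset.sum_congr rfl
    intro i _
    rw [← Polynomial.C_mul_X_pow_eq_monomial, map_mul, aeval_C, map_pow, aeval_X, Algebra.smul_def]
  have h2 := Fintype.linearIndependent_iff.mp hli _ h1
  apply hne
  ext i
  rw [Polynomial.coeff_zero]
  by_cases hi : i < r
  · exact h2 ⟨i, hi⟩
  · exact Polynomial.coeff_eq_zero_of_natDegree_lt (by omega)

end field

section choose
variable {k : Type u} [Field k]

/-- in an infinite field one can choose `n` elements whose pairwise differences avoid a given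
finite set -/
lemma exists_diff_notMem [Infinite k] (T : Finset k) (n : ℕ) :
    ∃ c : Fin n → k, ∀ i j, i ≠ j → c i - c j ∉ T := by
  classical
  induction n with
  | zero => exact ⟨Fin.elim0, fun i => i.elim0⟩
  | succ n ih =>
    obtain ⟨c, hc⟩ := ih
    let B : Finset k := (Finset.univ.biUnion fun j : Fin n => T.image (fun t => c j + t)) ∪
      (Finset.univ.biUnion fun j : Fin n => T.image (fun t => c j - t))
    obtain ⟨t, ht⟩ := Infinite.exists_notMem_finset B
    refine ⟨Fin.snoc c t, ?_⟩
    intro i j hij
    induction i using Fin.lastCases with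
    | last =>
      induction j using Fin.lastCases with
      | last => exact absurd rfl hij
      | cast j =>
        rw [Fin.snoc_last, Fin.snoc_castSucc]
        intro hmem
        apply ht
        apply Finset.mem_union_left
        rw [Finset.mem_biUnion]
        refine ⟨j, Finset.mem_univ _, Finset.mem_image.mpr ⟨_, hmem, ?_⟩⟩
        ring
    | cast i =>
      induction j using Fin.lastCases with
      | last =>
        rw [Fin.snoc_last, Fin.snoc_castSucc]
        intro hmem
        apply ht
        apply Finset.mem_union_right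
        rw [Finset.mem_biUnion]
        refine ⟨i, Finset.mem_univ _, Finset.mem_image.mpr ⟨_, hmem, ?_⟩⟩
        ring
      | cast j =>
        rw [Fin.snoc_castSucc, Fin.snoc_castSucc]
        apply hc
        intro h
        apply hij
        rw [h]

end choose

section diag
variable {k : Type u} [Field k] {D : Type v} [DivisionRing D] [Algebra k D]
  {L : Type w} [Field L] [Algebra k L] [FiniteDimensional k L] [Algebra.IsSeparable k L]

/-- the diagonal generator: in `M_n(D)`, `D ⊇ L` separable over the infinite field `k` -/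
theorem exists_gen_diag [Infinite k] (ι : L →ₐ[k] D) (n : ℕ) :
    ∃ (x : Matrix (Fin n) (Fin n) D) (P : k[X]), P.Monic ∧ P.Separable ∧
      P.natDegree = n * Module.finrank k L ∧ aeval x P = 0 ∧
      ∀ g : k[X], aeval x g = 0 → P ∣ g := by
  classical
  obtain ⟨θ, hθ⟩ := Field.exists_primitive_element k L
  have hdeg : (minpoly k θ).natDegree = Module.finrank k L :=
    (Field.primitive_element_iff_minpoly_natDegree_eq k θ).mp hθ
  set p := minpoly k θ with hp
  have hpm : p.Monic := minpoly.monic (Algebra.IsIntegral.isIntegral θ)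
  have hpos : 0 < p.natDegree := minpoly.natDegree_pos (Algebra.IsIntegral.isIntegral θ)
  let T : Finset k := (p - C (p.eval 0)).roots.toFinset
  obtain ⟨c, hc⟩ := exists_diff_notMem T n
  let th : Fin n → L := fun i => θ + algebraMap k L (c i)
  let m : Fin n → k[X] := fun i => minpoly k (th i)
  have hm : ∀ i, m i = p.comp (X - C (c i)) := fun i => minpoly.add_algebraMap θ (c i)
  have hint : ∀ i, IsIntegral k (th i) := fun i => Algebra.IsIntegral.isIntegral _
  have hmd : ∀ i, (m i).natDegree = Module.finrank k L := by
    intro i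
    rw [hm, natDegree_comp, natDegree_X_sub_C, mul_one, hdeg]
  have hne0 : p - C (p.eval 0) ≠ 0 := by
    intro h
    have h1 : p = C (p.eval 0) := sub_eq_zero.mp h
    rw [h1, natDegree_C] at hpos
    exact lt_irrefl _ hpos
  have hmne : ∀ i j, i ≠ j → m i ≠ m j := by
    intro i j hij h
    apply hc j i (Ne.symm hij)
    rw [Multiset.mem_toFinset, mem_roots hne0, IsRoot.def, eval_sub, eval_C, sub_eq_zero]
    have h1 := congrArg (fun q => q.eval (c j)) h
    simp only [hm, eval_comp, eval_sub, eval_X, eval_C, sub_self] at h1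
    exact h1
  have hcop : ∀ i j, i ≠ j → IsCoprime (m i) (m j) := fun i j hij =>
    by
      rw [(minpoly.irreducible (hint i)).coprime_iff_not_dvd]
      intro hdvd
      exact hmne i j hij (eq_of_monic_of_associated (minpoly.monic (hint i))
        (minpoly.monic (hint j))
        ((minpoly.irreducible (hint i)).associated_of_dvd (minpoly.irreducible (hint j)) hdvd))
  let P : k[X] := ∏ i, m i
  have hinj : Function.Injective ι := RingHom.injective ι.toRingHom
  let x : Matrix (Fin n) (Fin n) D := Matrix.diagonal (fun i => ι (th i))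
  have hx : ∀ g : k[X], aeval x g = Matrix.diagonal (fun i => ι (aeval (th i) g)) := by
    intro g
    have h1 : x = Matrix.diagonalAlgHom k (fun i => ι (th i)) := rfl
    rw [h1, aeval_algHom_apply, aeval_pi_apply]
    change Matrix.diagonal _ = _
    congr 1
    funext i
    exact aeval_algHom_apply ι (th i) g
  refine ⟨x, P, monic_prod_of_monic _ _ (fun i _ => minpoly.monic (hint i)), ?_, ?_, ?_, ?_⟩
  · apply separable_prod'
    · intro i _ j _ hij
      exact hcop i j hij
    · intro i _
      exact Algebra.IsSeparable.isSeparable k (th i)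
  · rw [natDegree_prod_of_monic _ _ (fun i _ => minpoly.monic (hint i))]
    rw [Finset.sum_congr rfl (fun i _ => hmd i)]
    simp
  · rw [hx]
    have : ∀ i, aeval (th i) P = 0 := by
      intro i
      obtain ⟨w, hw⟩ := Finset.dvd_prod_of_mem m (Finset.mem_univ i)
      change P = m i * w at hw
      rw [hw, map_mul, minpoly.aeval, zero_mul]
    simp [this]
  · intro g hg
    rw [hx] at hg
    apply Finset.prod_dvd_of_coprime
    · intro i _ j _ hij
      exact hcop i j hij
    · intro i _
      apply minpoly.dvd
      have h1 := congrFun (Matrix.diagonal_injective (hg.trans Matrix.diagonal_zero.symm)) i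
      exact hinj (h1.trans (map_zero ι).symm)

end diag

section main

variable {k : Type u} [Field k]

/-- the generation data: `P` monic separable of degree `r` generating the relations of `x` -/
def IsSepGen {A : Type v} [Ring A] [Algebra k A] (x : A) (P : k[X]) (r : ℕ) : Prop :=
  P.Monic ∧ P.Separable ∧ P.natDegree = r ∧ aeval x P = 0 ∧ ∀ g : k[X], aeval x g = 0 → P ∣ g

lemma IsSepGen.map {A : Type v} [Ring A] [Algebra k A] {B : Type w} [Ring B] [Algebra k B]
    (f : A →ₐ[k] B) (hf : Function.Injective f) {x : A} {P : k[X]} {r : ℕ}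
    (h : IsSepGen x P r) : IsSepGen (f x) P r := by
  obtain ⟨h1, h2, h3, h4, h5⟩ := h
  refine ⟨h1, h2, h3, ?_, ?_⟩
  · rw [aeval_algHom_apply, h4, map_zero]
  · intro g hg
    rw [aeval_algHom_apply] at hg
    exact h5 g (hf (hg.trans (map_zero f).symm))

/-- the split case: a companion matrix -/
theorem exists_gen_split (n : ℕ) (hn : 0 < n) :
    ∃ (x : Matrix (Fin n) (Fin n) k) (P : k[X]), IsSepGen x P n := by
  obtain ⟨c, hc⟩ := CycMat.exists_separable_companion k n hn
  obtain ⟨P, hPm, hPd, hPx, hPs⟩ := hc 1 one_ne_zero
  rw [one_smul] at hPx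
  refine ⟨CycMat.N c, P, hPm, hPs, hPd, hPx, fun g hg => ?_⟩
  exact dvd_of_linearIndependent (CycMat.N c) (CycMat.linearIndependent_pow hn c) P hPm hPd g hg hPx

theorem IsSepGen.adjoin {A : Type v} [Ring A] [Algebra k A] {x : A} {P : k[X]} {r : ℕ}
    (h : IsSepGen x P r) :
    Algebra.IsSeparable k (Algebra.adjoin k ({x} : Set A)) ∧
      Module.finrank k (Algebra.adjoin k ({x} : Set A)) = r := by
  obtain ⟨h1, h2, h3, h4, h5⟩ := h
  refine ⟨?_, ?_⟩
  · rw [Subalgebra.isSeparable_iff]
    intro y hy
    rw [Algebra.adjoin_singleton_eq_range_aeval] at hy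
    obtain ⟨g, rfl⟩ := hy
    exact isSeparable_aeval x P h2 h4 g
  · rw [finrank_adjoin P h1 x h4 h5, h3]

open Groth.Agent.Lib.Helper1.CSA in
/-- a central simple algebra of dimension `r²` has an element generating an étale subalgebra of
dimension `r` -/
theorem exists_isSepGen (k : Type u) [Field k] (A : Type v) [Ring A] [Algebra k A]
    [Algebra.IsCentral k A] [IsSimpleRing A] [FiniteDimensional k A] (r : ℕ)
    (hA : Module.finrank k A = r ^ 2) : ∃ (x : A) (P : k[X]), IsSepGen x P r := by
  obtain ⟨n, hn, D, _, _, _, _, ⟨e⟩⟩ := exists_algEquiv_matrix_central_division k A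
  have hn0 : 0 < n := Nat.pos_of_ne_zero hn.out
  have hdim : r ^ 2 = n ^ 2 * Module.finrank k D := by
    rw [← hA, e.toLinearEquiv.finrank_eq, Module.finrank_matrix]
    simp only [Fintype.card_fin]
    ring
  rcases finite_or_infinite k with hfin | hinf
  · -- finite base field: `D = k`
    have : Finite D := Module.finite_of_finite k
    have hcomm : ∀ a b : D, a * b = b * a := fun a b => (littleWedderburn D).mul_comm a b
    have hsurj : ∀ d : D, ∃ a : k, algebraMap k D a = d := by
      intro d
      have hd : d ∈ Subalgebra.center k D := by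
        rw [Subalgebra.mem_center_iff]
        intro b
        exact hcomm b d
      have := Algebra.IsCentral.out (K := k) (D := D) hd
      exact Algebra.mem_bot.mp this
    have hD1 : Module.finrank k D = 1 := by
      rw [finrank_eq_one_iff_of_nonzero' (1 : D) one_ne_zero]
      intro w
      obtain ⟨a, ha⟩ := hsurj w
      exact ⟨a, by rw [← ha, Algebra.smul_def, mul_one]⟩
    have hrn : r = n := by
      rw [hD1, mul_one] at hdim
      exact Nat.pow_left_injective (by norm_num : 2 ≠ 0) hdim
    obtain ⟨x, P, hxP⟩ := exists_gen_split (k := k) n hn0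
    have hinj : Function.Injective ((Algebra.ofId k D).mapMatrix (m := Fin n)) := by
      intro M M' h
      exact Matrix.map_injective (FaithfulSMul.algebraMap_injective k D) h
    refine ⟨e.symm ((Algebra.ofId k D).mapMatrix x), P, ?_⟩
    rw [hrn]
    exact (hxP.map _ hinj).map (e.symm : _ →ₐ[k] A) e.symm.injective
  · obtain ⟨L, _, _, _, _, ι, hsq⟩ := exists_separable_subfield k D
    obtain ⟨x, P, h1, h2, h3, h4, h5⟩ := exists_gen_diag ι n
    have hrn : r = n * Module.finrank k L := by
      rw [← hsq, ← mul_pow] at hdim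
      exact Nat.pow_left_injective (by norm_num : 2 ≠ 0) hdim
    refine ⟨e.symm x, P, ?_⟩
    rw [hrn]
    exact (IsSepGen.map (e.symm : _ →ₐ[k] A) e.symm.injective ⟨h1, h2, h3, h4, h5⟩)

end main

end Groth.Agent.Lib.Helper3.SepGen
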