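import Mathlib.LinearAlgebra.Matrix.Notation
import Mathlib.Tactic.LinearCombination
import Mathlib.Tactic.FinCases

/-!
# Hyperbolic pairs for 2×2 skew-hermitian forms over a commutative ring with involution (helper3)
-/

set_option autoImplicit false

namespace Groth.Agent.Lib.Helper3.SkewHyp

variable {C : Type*} [CommRing C] (σ : C →+* C)

/-- completion of an isotropic vector `(1, y)` to a hyperbolic pair -/
theorem exists_of_isotropic (hσσ : ∀ x, σ (σ x) = x) (A0 B0 Bs D0 y ys e es half : C)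
    (hσD : σ D0 = -D0) (hσB : σ B0 = Bs) (hσy : σ y = ys) (hσe : σ e = es)
    (hσhalf : σ half = half)
    (hhalf : 2 * half = 1)
    (R1 : A0 + B0 * y - Bs * ys + D0 * ys * y = 0)
    (R2 : (B0 + ys * D0) * e = 1) :
    ∃ v : Matrix (Fin 2) (Fin 2) C, (v.map σ).transpose * !![A0, B0; -Bs, D0] * v = !![0, 1; -1, 0] := by
  have hys : σ ys = y := by rw [← hσy, hσσ]
  have hes : σ es = e := by rw [← hσe, hσσ]
  have R3 : (Bs - y * D0) * es = 1 := by
    have := congrArg σ R2
    simp only [map_mul, map_add, hσB, hσD, hσe, map_one, hys] at this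
    linear_combination this
  set μ : C := half * (es * D0 * e) with hμ
  have hσμ : σ μ = -μ := by
    rw [hμ]
    simp only [map_mul, hσhalf, hes, hσD, hσe]
    ring
  refine ⟨!![1, μ; y, e + μ * y], ?_⟩
  ext i j
  fin_cases i <;> fin_cases j
  · simp [Matrix.mul_apply, Fin.sum_univ_two, hσy]
    linear_combination R1
  · simp [Matrix.mul_apply, Fin.sum_univ_two, hσy]
    linear_combination μ * R1 + R2
  · simp [Matrix.mul_apply, Fin.sum_univ_two, hσy, hσμ, hσe]
    linear_combination (-μ) * R1 - R3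
  · simp [Matrix.mul_apply, Fin.sum_univ_two, hσy, hσμ, hσe]
    linear_combination (-μ ^ 2) * R1 - μ * R3 - μ * R2 - (es * D0 * e) * hhalf

/-- the explicit isotropic vector after adjoining a square root `X` of the discriminant and
inverting `2 + a d₁ + ε X` -/
theorem exists_hyperbolic (hσσ : ∀ x, σ (σ x) = x) (a b bs d binv bsinv X Xinv finv half ε : C)
    (hσa : σ a = -a) (hσd : σ d = -d) (hσb : σ b = bs) (hσbinv : σ binv = bsinv)
    (hσXinv : σ Xinv = Xinv) (hσfinv : σ finv = finv) (hσhalf : σ half = half)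
    (hσε : σ ε = ε)
    (hb : b * binv = 1) (hbs : bs * bsinv = 1) (hX : X * Xinv = 1) (hhalf : 2 * half = 1)
    (hε : ε * ε = 1)
    (hf : (2 + a * (d * binv * bsinv) + ε * X) * finv = 1)
    (hXX : X * X = (2 + a * (d * binv * bsinv)) ^ 2 - (d * binv * bsinv) ^ 2 * a ^ 2) :
    ∃ v : Matrix (Fin 2) (Fin 2) C, (v.map σ).transpose * !![a, b; -bs, d] * v = !![0, 1; -1, 0] := by
  have hσbsinv : σ bsinv = binv := by rw [← hσbinv, hσσ]
  have hσ2 : σ 2 = 2 := map_ofNat σ 2
  set d1 := d * binv * bsinv with hd1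
  set β := half * a ^ 2 * finv with hβ
  set z := -half * a + β * d1 with hz
  have hσz : σ z = -z := by
    rw [hz, hβ, hd1]
    simp only [map_add, map_mul, map_neg, map_pow, hσhalf, hσa, hσfinv, hσd, hσbinv, hσbsinv]
    ring
  refine exists_of_isotropic σ hσσ a b bs d (binv * z) (-bsinv * z) (binv * (ε * Xinv) * 2)
    (bsinv * (ε * Xinv) * 2) half hσd hσb ?_ ?_ hσhalf hhalf ?_ ?_
  · rw [map_mul, hσz, hσbinv]; ring
  · simp only [map_mul, hσbinv, hσε, hσXinv, hσ2]
  · grind
  · grind

end Groth.Agent.Lib.Helper3.SkewHyp
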