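import Mathlib.RingTheory.Jacobson.Ideal
import Mathlib.RingTheory.Localization.Away.Basic
import Mathlib.RingTheory.TensorProduct.Maps
import Mathlib.Algebra.MvPolynomial.CommRing
import Mathlib.LinearAlgebra.Matrix.NonsingularInverse
import Mathlib.RingTheory.Ideal.Quotient.Operations
import Groth.Statements.S17363
import Groth.Agent.Lib.Helper3.SkewHyp

/-!
# Skew-hermitian 2×2 forms congruent to the standard alternating form (helper3)

Explicit construction: for `h = [[a, b], [-lam b, d]]` with `a, d` in the radical and `b` a unit,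
put `d₁ = d / N(b)`, adjoin a square root `X` of `Δ = (2 + a d₁)² - d₁² a²` and invert
`2 + a d₁ ± X`; then `(1, y)` with `y = b⁻¹(-a/2 + β d₁)`, `β = (a²/2)/(2 + a d₁ ± X)` is
isotropic, `η = h((1,y), e₂) = ± b X / 2` is a unit, and the hyperbolic completion is explicit.
-/

set_option autoImplicit false
universe u v
open scoped TensorProduct

namespace Groth.Agent.Lib.Helper3.SkewHypLoc

open Groth.Agent.Lib.Helper3.SkewHyp

section units

variable {A : Type*} [CommRing A]

lemma isUnit_add_of_mem_jacobson {u x : A} (hu : IsUnit u) (hx : x ∈ Ring.jacobson A) :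
    IsUnit (u + x) := by
  obtain ⟨w, rfl⟩ := hu
  rw [← Ideal.jacobson_bot] at hx
  have h1 := Ideal.mem_jacobson_bot.mp hx (↑w⁻¹ : A)
  have : (w : A) + x = w * (x * ↑w⁻¹ + 1) := by
    rw [mul_add, mul_one, mul_comm x, ← mul_assoc, Units.mul_inv, one_mul, add_comm]
  rw [this]
  exact w.isUnit.mul h1

variable {B : Type*} [CommRing B] [Algebra B A] (lam : A ≃ₐ[B] A)

lemma isUnit_of_isUnit_algebraMap (hB : RInv.IsFixedRing B A lam.toRingEquiv) (x : B)
    (hx : IsUnit (algebraMap B A x)) : IsUnit x := by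
  obtain ⟨w, hw⟩ := hx
  have hfix : lam (↑w⁻¹ : A) = ↑w⁻¹ := by
    have h1 : lam (↑w⁻¹ : A) * (w : A) = 1 := by
      rw [hw, ← lam.commutes x, ← map_mul, ← hw, Units.inv_mul, map_one]
    calc lam (↑w⁻¹ : A) = lam (↑w⁻¹ : A) * ((w : A) * ↑w⁻¹) := by rw [Units.mul_inv, mul_one]
      _ = ↑w⁻¹ := by rw [← mul_assoc, h1, one_mul]
  obtain ⟨y, hy⟩ := (hB.2 _).mp hfix
  refine IsUnit.of_mul_eq_one y (hB.1 ?_)
  rw [map_mul, hy, ← hw, Units.mul_inv, map_one]

end units

section loc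

variable {B : Type u} {A : Type v} [CommRing B] [CommRing A] [Algebra B A] (lam : A ≃ₐ[B] A)
  (L : Type*) [CommRing L] [Algebra B L]

theorem exists_hyperbolic_tensor (hlam : ∀ a, lam (lam a) = a)
    (a0 b0 d0 b0inv : A) (hb0 : b0 * b0inv = 1) (ha0 : lam a0 = -a0) (hd0 : lam d0 = -d0)
    (q Δ half ε : B) (hq : algebraMap B A q = a0 * (d0 * b0inv * lam b0inv))
    (hΔ : algebraMap B A Δ =
      (2 + a0 * (d0 * b0inv * lam b0inv)) ^ 2 - (d0 * b0inv * lam b0inv) ^ 2 * a0 ^ 2)
    (hhalf : 2 * half = 1) (hε : ε * ε = 1)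
    (X Xinv finv : L) (hX : X * Xinv = 1) (hXX : X * X = algebraMap B L Δ)
    (hf : (algebraMap B L (2 + q) + algebraMap B L ε * X) * finv = 1) :
    ∃ v : Matrix (Fin 2) (Fin 2) (L ⊗[B] A),
      (v.map (Algebra.TensorProduct.congr (AlgEquiv.refl : L ≃ₐ[L] L) lam)).transpose *
        (!![a0, b0; -lam b0, d0]).map (Algebra.TensorProduct.includeRight : A →ₐ[B] L ⊗[B] A) * v =
      !![0, 1; -1, 0] := by
  set σ : L ⊗[B] A →+* L ⊗[B] A :=
    ((Algebra.TensorProduct.congr (AlgEquiv.refl : L ≃ₐ[L] L) lam : L ⊗[B] A ≃ₐ[L] L ⊗[B] A) :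
      L ⊗[B] A →+* L ⊗[B] A) with hσ
  set ι : A →ₐ[B] L ⊗[B] A := Algebra.TensorProduct.includeRight with hι
  set j : L →+* L ⊗[B] A := algebraMap L (L ⊗[B] A) with hj
  have hσι : ∀ x, σ (ι x) = ι (lam x) := by
    intro x
    simp [hσ, hι]
  have hσj : ∀ l, σ (j l) = j l := by
    intro l
    exact (Algebra.TensorProduct.congr (AlgEquiv.refl : L ≃ₐ[L] L) lam).commutes l
  have hσσ : ∀ x, σ (σ x) = x := by
    intro x
    induction x using TensorProduct.induction_on with
    | zero => simp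
    | add x y hx hy => rw [map_add, map_add, hx, hy]
    | tmul l a => simp [hσ, hlam]
  have hιB : ∀ x : B, ι (algebraMap B A x) = j (algebraMap B L x) := by
    intro x
    rw [AlgHom.commutes, IsScalarTower.algebraMap_apply B L (L ⊗[B] A)]
  obtain ⟨v, hv⟩ := exists_hyperbolic σ hσσ (ι a0) (ι b0) (ι (lam b0)) (ι d0) (ι b0inv)
    (ι (lam b0inv)) (j X) (j Xinv) (j finv) (j (algebraMap B L half)) (j (algebraMap B L ε))
    (by rw [hσι, ha0, map_neg]) (by rw [hσι, hd0, map_neg]) (hσι _) (hσι _) (hσj _) (hσj _)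
    (hσj _) (hσj _)
    (by rw [← map_mul, hb0, map_one])
    (by rw [← map_mul, ← map_mul, hb0, map_one, map_one])
    (by rw [← map_mul, hX, map_one])
    (by
      have h2' : (2 : L ⊗[B] A) = j (algebraMap B L 2) := by rw [map_ofNat, map_ofNat]
      rw [h2', ← map_mul, ← map_mul, hhalf, map_one, map_one])
    (by rw [← map_mul, ← map_mul, hε, map_one, map_one])
    (by
      have h2' : (2 : L ⊗[B] A) = j (algebraMap B L 2) := by rw [map_ofNat, map_ofNat]
      rw [← map_mul ι, ← map_mul ι, ← map_mul ι, ← hq, hιB, h2', ← map_mul j,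
        ← map_add j, ← map_add j, ← map_mul j, ← map_add (algebraMap B L), hf, map_one])
    (by
      rw [← map_mul j, hXX, ← hιB, hΔ]
      simp only [map_sub, map_pow, map_add, map_mul, map_ofNat])
  refine ⟨v, ?_⟩
  have hH : (!![a0, b0; -lam b0, d0]).map ι = !![ι a0, ι b0; -ι (lam b0), ι d0] := by
    ext i k
    fin_cases i <;> fin_cases k <;> simp
  rw [hH]
  exact hv

end loc

section main

variable (B : Type u) (A : Type v) [CommRing B] [CommRing A] [Algebra B A] (lam : A ≃ₐ[B] A)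

theorem main (hlam : ∀ a, lam (lam a) = a) (hB : RInv.IsFixedRing B A lam.toRingEquiv)
    (h2 : IsUnit (2 : A))
    (h : Matrix (Fin 2) (Fin 2) A) (herm : -(h.map lam).transpose = h)
    (hJ : ∀ i j : Fin 2, h i j - Matrix.of ![![(0 : A), 1], ![-1, 0]] i j ∈ Ring.jacobson A) :
    ∃ (s t : Bˣ) (r : ℕ) (f : Fin r → (MvPolynomial (Fin 2) B ⧸ Ideal.span ({MvPolynomial.X 0 ^ 2 - MvPolynomial.C (s : B), MvPolynomial.X 1 ^ 2 - MvPolynomial.C (t : B)} : Set (MvPolynomial (Fin 2) B)))),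
      Ideal.span (Set.range f) = ⊤ ∧
      ∀ i : Fin r, ∃ v : Matrix (Fin 2) (Fin 2) (Localization.Away (f i) ⊗[B] A), IsUnit v ∧
        (v.map (Algebra.TensorProduct.congr (AlgEquiv.refl : Localization.Away (f i) ≃ₐ[Localization.Away (f i)] Localization.Away (f i)) lam)).transpose * h.map (Algebra.TensorProduct.includeRight : A →ₐ[B] Localization.Away (f i) ⊗[B] A) * v
          = (Matrix.of ![![(0 : A), 1], ![-1, 0]]).map (Algebra.TensorProduct.includeRight : A →ₐ[B] Localization.Away (f i) ⊗[B] A) := by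
  classical
  have herm' : ∀ i j, -lam (h j i) = h i j := fun i j => by
    have := congrFun (congrFun herm i) j
    simpa using this
  have ha0 : lam (h 0 0) = -h 0 0 := by
    have := herm' 0 0
    rwa [neg_eq_iff_eq_neg] at this
  have hd0 : lam (h 1 1) = -h 1 1 := by
    have := herm' 1 1
    rwa [neg_eq_iff_eq_neg] at this
  have hc0 : h 1 0 = -lam (h 0 1) := (herm' 1 0).symm
  have haJ : h 0 0 ∈ Ring.jacobson A := by simpa using hJ 0 0
  have hbJ : h 0 1 - 1 ∈ Ring.jacobson A := by simpa using hJ 0 1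
  have hb0u : IsUnit (h 0 1) :=
    Ideal.isUnit_of_sub_one_mem_jacobson_bot _ (by rw [Ideal.jacobson_bot]; exact hbJ)
  obtain ⟨ub, hub⟩ := hb0u
  set a0 := h 0 0 with ha0def
  set b0 := h 0 1 with hb0def
  set d0 := h 1 1 with hd0def
  set b0inv : A := ↑ub⁻¹ with hb0inv
  have hb0 : b0 * b0inv = 1 := by rw [← hub, hb0inv, Units.mul_inv]
  set d1 := d0 * b0inv * lam b0inv with hd1
  have hld1 : lam d1 = -d1 := by
    rw [hd1, map_mul, map_mul, hlam, hd0]; ring
  have hl2 : lam (2 : A) = 2 := map_ofNat lam 2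
  obtain ⟨q, hq⟩ := (hB.2 (a0 * d1)).mp (by
    change lam (a0 * d1) = a0 * d1
    rw [map_mul, ha0, hld1]; ring)
  obtain ⟨Δ, hΔ⟩ := (hB.2 ((2 + a0 * d1) ^ 2 - d1 ^ 2 * a0 ^ 2)).mp (by
    change lam ((2 + a0 * d1) ^ 2 - d1 ^ 2 * a0 ^ 2) = (2 + a0 * d1) ^ 2 - d1 ^ 2 * a0 ^ 2
    simp only [map_sub, map_pow, map_add, map_mul, ha0, hld1, hl2]; ring)
  have h4 : IsUnit (4 : A) := by
    have : (4 : A) = 2 * 2 := by norm_num
    rw [this]; exact h2.mul h2
  have hΔu : IsUnit Δ := by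
    refine isUnit_of_isUnit_algebraMap lam hB Δ ?_
    rw [hΔ]
    have : (2 + a0 * d1) ^ 2 - d1 ^ 2 * a0 ^ 2 = 4 + a0 * (4 * d1) := by ring
    rw [this]
    exact isUnit_add_of_mem_jacobson h4 (Ideal.mul_mem_right _ _ haJ)
  have h2B : IsUnit (2 : B) := by
    refine isUnit_of_isUnit_algebraMap lam hB 2 ?_
    rwa [map_ofNat]
  have hqu : IsUnit (2 * (2 + q)) := by
    refine isUnit_of_isUnit_algebraMap lam hB _ ?_
    rw [map_mul, map_add, map_ofNat, hq]
    have : 2 * (2 + a0 * d1) = 4 + a0 * (2 * d1) := by ring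
    rw [this]
    exact isUnit_add_of_mem_jacobson h4 (Ideal.mul_mem_right _ _ haJ)
  obtain ⟨half, hhalf⟩ := h2B.exists_right_inv
  obtain ⟨Δinv, hΔinv⟩ := hΔu.exists_right_inv
  refine ⟨hΔu.unit, 1, 2, ?_⟩
  set I : Ideal (MvPolynomial (Fin 2) B) := Ideal.span ({MvPolynomial.X 0 ^ 2 - MvPolynomial.C ((hΔu.unit : Bˣ) : B), MvPolynomial.X 1 ^ 2 - MvPolynomial.C (((1 : Bˣ) : Bˣ) : B)} : Set (MvPolynomial (Fin 2) B)) with hI
  set Xb : MvPolynomial (Fin 2) B ⧸ I := Ideal.Quotient.mk I (MvPolynomial.X 0) with hXb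
  have hXX : Xb * Xb = algebraMap B (MvPolynomial (Fin 2) B ⧸ I) Δ := by
    rw [hXb, ← map_mul]
    change _ = Ideal.Quotient.mk I (MvPolynomial.C Δ)
    rw [Ideal.Quotient.eq]
    have : MvPolynomial.X 0 * MvPolynomial.X 0 - MvPolynomial.C Δ =
        (MvPolynomial.X 0 ^ 2 - MvPolynomial.C ((hΔu.unit : Bˣ) : B) : MvPolynomial (Fin 2) B) := by
      rw [IsUnit.unit_spec, sq]
    rw [this]
    exact Ideal.subset_span (Set.mem_insert _ _)
  set ε : Fin 2 → B := ![1, -1] with hε
  have hεε : ∀ i, ε i * ε i = 1 := by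
    intro i; fin_cases i <;> simp [hε]
  refine ⟨fun i => algebraMap B (MvPolynomial (Fin 2) B ⧸ I) (2 + q) +
    algebraMap B (MvPolynomial (Fin 2) B ⧸ I) (ε i) * Xb, ?_, fun i => ?_⟩
  · refine Ideal.eq_top_of_isUnit_mem _ (add_mem (Ideal.subset_span ⟨0, rfl⟩)
      (Ideal.subset_span ⟨1, rfl⟩)) ?_
    have : (algebraMap B (MvPolynomial (Fin 2) B ⧸ I) (2 + q) +
        algebraMap B (MvPolynomial (Fin 2) B ⧸ I) (ε 0) * Xb) +
        (algebraMap B (MvPolynomial (Fin 2) B ⧸ I) (2 + q) +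
        algebraMap B (MvPolynomial (Fin 2) B ⧸ I) (ε 1) * Xb) =
        algebraMap B (MvPolynomial (Fin 2) B ⧸ I) (2 * (2 + q)) := by
      simp only [hε, Matrix.cons_val_zero, Matrix.cons_val_one, map_one, map_neg, map_mul, map_add,
        map_ofNat]
      ring
    rw [this]
    exact hqu.map _
  · set fi : MvPolynomial (Fin 2) B ⧸ I := algebraMap B (MvPolynomial (Fin 2) B ⧸ I) (2 + q) +
      algebraMap B (MvPolynomial (Fin 2) B ⧸ I) (ε i) * Xb with hfi
    obtain ⟨v, hv⟩ := exists_hyperbolic_tensor lam (Localization.Away fi) hlam a0 b0 d0 b0inv hb0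
      ha0 hd0 q Δ half (ε i) hq hΔ hhalf (hεε i)
      (algebraMap _ (Localization.Away fi) Xb)
      (algebraMap _ (Localization.Away fi) (Xb * algebraMap B _ Δinv))
      (IsLocalization.Away.invSelf fi)
      (by
        rw [← map_mul, ← mul_assoc, hXX, ← map_mul, hΔinv, map_one, map_one])
      (by
        rw [← map_mul, hXX, ← IsScalarTower.algebraMap_apply])
      (by
        rw [IsScalarTower.algebraMap_apply B (MvPolynomial (Fin 2) B ⧸ I) (Localization.Away fi),
          IsScalarTower.algebraMap_apply B (MvPolynomial (Fin 2) B ⧸ I) (Localization.Away fi) (ε i),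
          ← map_mul, ← map_add]
        exact IsLocalization.Away.mul_invSelf fi)
    have hh : h = !![a0, b0; -lam b0, d0] := by
      ext i k
      fin_cases i <;> fin_cases k <;> simp [ha0def, hb0def, hd0def, hc0]
    have hJm : (Matrix.of ![![(0 : A), 1], ![-1, 0]]).map
        (Algebra.TensorProduct.includeRight : A →ₐ[B] Localization.Away fi ⊗[B] A) =
        !![0, 1; -1, 0] := by
      ext i k
      fin_cases i <;> fin_cases k <;> simp [Algebra.TensorProduct.one_def, TensorProduct.tmul_neg]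
    refine ⟨v, ?_, ?_⟩
    · rw [Matrix.isUnit_iff_isUnit_det]
      have hdet := congrArg Matrix.det hv
      rw [Matrix.det_mul, Matrix.det_mul, Matrix.det_fin_two_of] at hdet
      refine IsUnit.of_mul_eq_one (((v.map (Algebra.TensorProduct.congr (AlgEquiv.refl : Localization.Away fi ≃ₐ[Localization.Away fi] Localization.Away fi) lam)).transpose).det * ((!![a0, b0; -lam b0, d0]).map (Algebra.TensorProduct.includeRight : A →ₐ[B] Localization.Away fi ⊗[B] A)).det) ?_
      rw [mul_comm]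
      rw [hdet]; ring
    · rw [hJm]
      conv_lhs => rw [hh]
      exact hv

end main

end Groth.Agent.Lib.Helper3.SkewHypLoc
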