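import Groth.Agent.S8128
import Mathlib.Algebra.Azumaya.Basic
import Mathlib.RingTheory.LocalRing.Module
import Mathlib.RingTheory.Nakayama
import Mathlib.LinearAlgebra.TensorProduct.Basis

/-!
# Skolem–Noether for Azumaya algebras over a local ring (helper3)
-/
set_option autoImplicit false
universe u v
open TensorProduct MulOpposite

namespace Groth.Agent.Lib.Helper3.SN

variable {R : Type u} [CommRing R] {A : Type v} [Ring A] [Algebra R A]

/-- `a ⊗ b ↦ l b • a` -/
noncomputable def contr (l : Aᵐᵒᵖ →ₗ[R] R) : A ⊗[R] Aᵐᵒᵖ →ₗ[R] A :=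
  (TensorProduct.rid R A).toLinearMap ∘ₗ (LinearMap.lTensor A l)

lemma contr_tmul (l : Aᵐᵒᵖ →ₗ[R] R) (a : A) (b : Aᵐᵒᵖ) : contr l (a ⊗ₜ b) = l b • a := by
  simp [contr]

lemma contr_left_mul (l : Aᵐᵒᵖ →ₗ[R] R) (a' : A) (s : A ⊗[R] Aᵐᵒᵖ) :
    contr l ((a' ⊗ₜ 1) * s) = a' * contr l s := by
  induction s with
  | zero => simp
  | tmul a b =>
    rw [Algebra.TensorProduct.tmul_mul_tmul, one_mul, contr_tmul, contr_tmul, mul_smul_comm]
  | add x y hx hy => rw [mul_add, map_add, map_add, hx, hy, mul_add]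

lemma contr_right_mul (l : Aᵐᵒᵖ →ₗ[R] R) (a' : A) (s : A ⊗[R] Aᵐᵒᵖ) :
    contr l (s * (a' ⊗ₜ 1)) = contr l s * a' := by
  induction s with
  | zero => simp
  | tmul a b =>
    rw [Algebra.TensorProduct.tmul_mul_tmul, mul_one, contr_tmul, contr_tmul, smul_mul_assoc]
  | add x y hx hy => rw [add_mul, map_add, map_add, hx, hy, add_mul]

lemma eq_sum_contr {ι : Type*} [Fintype ι] (b : Module.Basis ι R Aᵐᵒᵖ) (s : A ⊗[R] Aᵐᵒᵖ) :
    s = ∑ j, contr (b.coord j) s ⊗ₜ[R] b j := by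
  induction s with
  | zero => simp
  | tmul a c =>
    simp only [contr_tmul]
    conv_lhs => rw [← b.sum_repr c, TensorProduct.tmul_sum]
    refine Finset.sum_congr rfl (fun j _ => ?_)
    rw [TensorProduct.smul_tmul, Module.Basis.coord_apply]
  | add x y hx hy =>
    conv_lhs => rw [hx, hy, ← Finset.sum_add_distrib]
    refine Finset.sum_congr rfl (fun j _ => ?_)
    rw [map_add, TensorProduct.add_tmul]

lemma mul_mem_smul_top (J : Ideal R) (a x : A) (hx : x ∈ J • (⊤ : Submodule R A)) :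
    a * x ∈ J • (⊤ : Submodule R A) := by
  refine Submodule.smul_induction_on hx ?_ ?_
  · intro r hr y _
    rw [mul_smul_comm]
    exact Submodule.smul_mem_smul hr trivial
  · intro x y hx hy
    rw [mul_add]
    exact Submodule.add_mem _ hx hy

lemma mem_smul_top_mul (J : Ideal R) (a x : A) (hx : x ∈ J • (⊤ : Submodule R A)) :
    x * a ∈ J • (⊤ : Submodule R A) := by
  refine Submodule.smul_induction_on hx ?_ ?_
  · intro r hr y _
    rw [smul_mul_assoc]
    exact Submodule.smul_mem_smul hr trivial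
  · intro x y hx hy
    rw [add_mul]
    exact Submodule.add_mem _ hx hy

lemma map_le_smul_top (J : Ideal R) (x : A) (hx : x ∈ Ideal.map (algebraMap R A) J) :
    x ∈ J • (⊤ : Submodule R A) := by
  unfold Ideal.map at hx
  induction hx using Submodule.span_induction with
  | mem x hx =>
    obtain ⟨r, hr, rfl⟩ := hx
    rw [Algebra.algebraMap_eq_smul_one]
    exact Submodule.smul_mem_smul hr trivial
  | zero => exact Submodule.zero_mem _
  | add x y _ _ hx hy => exact Submodule.add_mem _ hx hy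
  | smul a x _ hx => exact mul_mem_smul_top J a x hx

end Groth.Agent.Lib.Helper3.SN

namespace Groth.Agent.Lib.Helper3.SN
variable {R : Type u} [CommRing R] {A : Type v} [Ring A] [Algebra R A]

/-- the two-sided ideal `cA = Ac` for `c` with `u x * c = c * x`. -/
def idealOf (u : A ≃ₐ[R] A) (c : A) (hc : ∀ x, u x * c = c * x) : TwoSidedIdeal A :=
  TwoSidedIdeal.mk' {y | ∃ a, y = c * a} ⟨0, by simp⟩
    (by rintro x y ⟨a, rfl⟩ ⟨a', rfl⟩; exact ⟨a + a', by rw [mul_add]⟩)
    (by rintro x ⟨a, rfl⟩; exact ⟨-a, by rw [mul_neg]⟩)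
    (by
      rintro x y ⟨a, rfl⟩
      refine ⟨u.symm x * a, ?_⟩
      rw [← mul_assoc, ← mul_assoc, ← hc (u.symm x), AlgEquiv.apply_symm_apply])
    (by rintro x y ⟨a, rfl⟩; exact ⟨a * y, by rw [mul_assoc]⟩)

lemma dichotomy [IsLocalRing R] [IsAzumaya R A] (u : A ≃ₐ[R] A) (c : A) (hc : ∀ x, u x * c = c * x) :
    (∃ d, c * d = 1) ∨ c ∈ (IsLocalRing.maximalIdeal R) • (⊤ : Submodule R A) := by
  set I := idealOf u c hc with hI
  have hmem : ∀ y, y ∈ I ↔ ∃ a, y = c * a := by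
    intro y
    rw [hI, idealOf, TwoSidedIdeal.mem_mk']
    rfl
  have hpa := Groth.Agent.S8128.part_a R A I
  set J := (TwoSidedIdeal.asIdeal I).comap (algebraMap R A) with hJ
  by_cases hJtop : J = ⊤
  · left
    have h1 : (1 : R) ∈ J := by rw [hJtop]; trivial
    rw [hJ, Ideal.mem_comap, map_one, TwoSidedIdeal.mem_asIdeal, hmem] at h1
    obtain ⟨a, ha⟩ := h1
    exact ⟨a, ha.symm⟩
  · right
    have hle : J ≤ IsLocalRing.maximalIdeal R := IsLocalRing.le_maximalIdeal hJtop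
    have hcI : c ∈ TwoSidedIdeal.asIdeal I := by
      rw [TwoSidedIdeal.mem_asIdeal, hmem]
      exact ⟨1, (mul_one c).symm⟩
    rw [hpa] at hcI
    exact Submodule.smul_mono_left hle (map_le_smul_top J c hcI)

lemma one_not_mem [IsLocalRing R] [Module.Finite R A] [FaithfulSMul R A] :
    (1 : A) ∉ (IsLocalRing.maximalIdeal R) • (⊤ : Submodule R A) := by
  intro h1
  have htop : (⊤ : Submodule R A) ≤ (IsLocalRing.maximalIdeal R) • (⊤ : Submodule R A) := by
    intro a _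
    have := mul_mem_smul_top (IsLocalRing.maximalIdeal R) a 1 h1
    rwa [mul_one] at this
  have hbot := Submodule.eq_bot_of_le_smul_of_le_jacobson_bot (IsLocalRing.maximalIdeal R)
    (⊤ : Submodule R A) Module.Finite.fg_top htop (IsLocalRing.maximalIdeal_le_jacobson _)
  have h10 : (1 : A) = 0 := by
    have : (1 : A) ∈ (⊤ : Submodule R A) := trivial
    rw [hbot] at this
    exact (Submodule.mem_bot R).mp this
  have : algebraMap R A 1 = algebraMap R A 0 := by rw [map_one, map_zero, h10]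
  exact one_ne_zero (FaithfulSMul.algebraMap_injective R A this)

theorem skolem_noether_exists [IsLocalRing R] [IsAzumaya R A] (u : A ≃ₐ[R] A) :
    ∃ a : Aˣ, ∀ x : A, u x = (a : A) * x * (a⁻¹ : Aˣ) := by
  haveI : Module.Free R A := Module.free_of_flat_of_isLocalRing
  haveI : Module.Free R Aᵐᵒᵖ := Module.Free.of_equiv (opLinearEquiv R (M := A))
  haveI : Module.Finite R Aᵐᵒᵖ := Module.Finite.equiv (opLinearEquiv R (M := A))
  let b := Module.Free.chooseBasis R Aᵐᵒᵖ
  set φ := AlgHom.mulLeftRight R A with hφ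
  obtain ⟨t, ht⟩ := (IsAzumaya.bij (R := R) (A := A)).2 u.toLinearMap
  have H1 : ∀ x, ((u x) ⊗ₜ[R] (1 : Aᵐᵒᵖ)) * t = t * (x ⊗ₜ[R] (1 : Aᵐᵒᵖ)) := by
    intro x
    apply (IsAzumaya.bij (R := R) (A := A)).1
    rw [map_mul, map_mul, ht]
    ext y
    simp [Module.End.mul_apply]
  -- the elements c_j
  have hc : ∀ j, ∀ x, u x * contr (b.coord j) t = contr (b.coord j) t * x := by
    intro j x
    rw [← contr_left_mul, ← contr_right_mul, H1]
  have hsum : (1 : A) = ∑ j, contr (b.coord j) t * (b j).unop := by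
    have h1 : φ t 1 = 1 := by rw [ht]; simp
    rw [eq_sum_contr b t, map_sum, LinearMap.sum_apply] at h1
    rw [← h1]
    refine Finset.sum_congr rfl (fun j _ => ?_)
    rw [hφ, AlgHom.mulLeftRight_apply, mul_one]
  -- some c_j is right invertible
  obtain ⟨j, d, hd⟩ : ∃ j, ∃ d, contr (b.coord j) t * d = 1 := by
    by_contra hcon
    push Not at hcon
    have hall : ∀ j, contr (b.coord j) t ∈
        (IsLocalRing.maximalIdeal R) • (⊤ : Submodule R A) := by
      intro j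
      rcases dichotomy u _ (hc j) with ⟨d, hd⟩ | h
      · exact absurd hd (hcon j d)
      · exact h
    apply one_not_mem (R := R) (A := A)
    rw [hsum]
    exact Submodule.sum_mem _ (fun j _ => mem_smul_top_mul _ _ _ (hall j))
  set c := contr (b.coord j) t with hcdef
  have hud : u d * c = 1 := by rw [hc j d, hd]
  have hdd : u d = d := by
    calc u d = u d * (c * d) := by rw [hd, mul_one]
      _ = (u d * c) * d := by rw [mul_assoc]
      _ = d := by rw [hud, one_mul]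
  refine ⟨⟨c, d, hd, by rw [← hdd]; exact hud⟩, ?_⟩
  intro x
  show u x = c * x * d
  calc u x = u x * (c * d) := by rw [hd, mul_one]
    _ = (u x * c) * d := by rw [mul_assoc]
    _ = c * x * d := by rw [hc j x]

end Groth.Agent.Lib.Helper3.SN

namespace Groth.Agent.Lib.Helper3.SN
variable {R : Type u} [CommRing R] {A : Type v} [Ring A] [Algebra R A]

theorem skolem_noether_unique [IsLocalRing R] [IsAzumaya R A] (u : A ≃ₐ[R] A) (a a' : Aˣ)
    (ha : ∀ x : A, u x = (a : A) * x * (a⁻¹ : Aˣ)) (ha' : ∀ x : A, u x = (a' : A) * x * (a'⁻¹ : Aˣ)) :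
    ∃ c : Rˣ, (a' : A) = algebraMap R A (c : R) * (a : A) := by
  haveI : Module.Free R A := Module.free_of_flat_of_isLocalRing
  have hcent : ∀ z : Aˣ, (∀ x : A, (z : A) * x = x * z) → ∃ r : R, algebraMap R A r = z := by
    intro z hz
    have hmem : (z : A) ∈ Subalgebra.center R A := by
      rw [Subalgebra.mem_center_iff]
      intro x
      exact (hz x).symm
    have := (Algebra.IsCentral.out (K := R) (D := A)) hmem
    obtain ⟨r, hr⟩ := Algebra.mem_bot.mp this
    exact ⟨r, hr⟩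
  -- z = a⁻¹ a' is central
  have hz : ∀ x : A, ((a⁻¹ * a' : Aˣ) : A) * x = x * ((a⁻¹ * a' : Aˣ) : A) := by
    intro x
    have h := (ha x).symm.trans (ha' x)
    -- a x a⁻¹ = a' x a'⁻¹
    have h2 : ((a⁻¹ : Aˣ) : A) * ((a : A) * x * ((a⁻¹ : Aˣ) : A)) * (a' : A) =
        ((a⁻¹ : Aˣ) : A) * ((a' : A) * x * ((a'⁻¹ : Aˣ) : A)) * (a' : A) := by rw [h]
    simp only [Units.val_mul]
    have e1 : ((a⁻¹ : Aˣ) : A) * ((a : A) * x * ((a⁻¹ : Aˣ) : A)) * (a' : A) =
        x * (((a⁻¹ : Aˣ) : A) * (a' : A)) := by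
      simp only [← mul_assoc, Units.inv_mul, one_mul]
    have e2 : ((a⁻¹ : Aˣ) : A) * ((a' : A) * x * ((a'⁻¹ : Aˣ) : A)) * (a' : A) =
        ((a⁻¹ : Aˣ) : A) * (a' : A) * x := by
      simp only [mul_assoc, Units.inv_mul, mul_one]
    rw [e1, e2] at h2
    exact h2.symm
  have hz' : ∀ x : A, ((a'⁻¹ * a : Aˣ) : A) * x = x * ((a'⁻¹ * a : Aˣ) : A) := by
    intro x
    have h := hz (((a'⁻¹ * a : Aˣ) : A) * x * ((a'⁻¹ * a : Aˣ) : A))
    have e : (a⁻¹ * a' : Aˣ) * (a'⁻¹ * a : Aˣ) = 1 := by group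
    have e' : (a'⁻¹ * a : Aˣ) * (a⁻¹ * a' : Aˣ) = 1 := by group
    have e1 : ((a⁻¹ * a' : Aˣ) : A) * (((a'⁻¹ * a : Aˣ) : A) * x * ((a'⁻¹ * a : Aˣ) : A)) =
        x * ((a'⁻¹ * a : Aˣ) : A) := by
      rw [← mul_assoc, ← mul_assoc, ← Units.val_mul, e, Units.val_one, one_mul]
    have e2 : (((a'⁻¹ * a : Aˣ) : A) * x * ((a'⁻¹ * a : Aˣ) : A)) * ((a⁻¹ * a' : Aˣ) : A) =
        ((a'⁻¹ * a : Aˣ) : A) * x := by
      rw [mul_assoc, ← Units.val_mul, e', Units.val_one, mul_one]
    rw [e1, e2] at h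
    exact h.symm
  obtain ⟨r, hr⟩ := hcent _ hz
  obtain ⟨r', hr'⟩ := hcent _ hz'
  have hrr' : r * r' = 1 := by
    apply FaithfulSMul.algebraMap_injective R A
    rw [map_mul, hr, hr', ← Units.val_mul, map_one]
    have e : (a⁻¹ * a' : Aˣ) * (a'⁻¹ * a : Aˣ) = 1 := by group
    rw [e, Units.val_one]
  refine ⟨⟨r, r', hrr', by rw [mul_comm]; exact hrr'⟩, ?_⟩
  show (a' : A) = algebraMap R A r * (a : A)
  rw [hr, hz (a : A), Units.val_mul, ← mul_assoc, Units.mul_inv, one_mul]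

end Groth.Agent.Lib.Helper3.SN
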