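import Mathlib.RingTheory.Localization.Away.Basic
import Mathlib.RingTheory.Localization.AtPrime.Basic
import Mathlib.RingTheory.MvPolynomial.Basic
import Mathlib.RingTheory.Ideal.Quotient.Operations
import Mathlib.Algebra.Module.LocalizedModule.IsLocalization
import Mathlib.RingTheory.Localization.BaseChange
/-! Spreading out, part 1: the rings `D[X_k]/(X_k² - s_k)`, their functoriality, a universal-property
criterion for localizations, and the fact that `Rq B_p s` (and its localizations away from an element)
is the localization at `B ∖ p` of the corresponding ring over a localization `D` of `B`. (helper3) -/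
set_option autoImplicit false
universe u v
open scoped TensorProduct
open MvPolynomial

namespace Groth.Agent.Lib.Helper3.Spread

section Rq
variable {l : ℕ} (D : Type*) [CommRing D] (s : Fin l → D)

/-- The ideal `(X_k² - s_k)`. -/
noncomputable abbrev RqI : Ideal (MvPolynomial (Fin l) D) :=
  Ideal.span (Set.range fun k : Fin l => (X k : MvPolynomial (Fin l) D) ^ 2 - C (s k))

/-- `D[X_k]/(X_k² - s_k)`. -/
abbrev Rq := MvPolynomial (Fin l) D ⧸ RqI D s

variable {D s}

/-- Lift from `Rq`. -/
noncomputable def RqLift {T : Type*} [CommRing T] (φ : D →+* T) (x : Fin l → T)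
    (hx : ∀ k, x k ^ 2 = φ (s k)) : Rq D s →+* T :=
  Ideal.Quotient.lift (RqI D s) (MvPolynomial.eval₂Hom φ x) (by
    intro a ha
    have : RqI D s ≤ RingHom.ker (MvPolynomial.eval₂Hom φ x) := by
      rw [Ideal.span_le]
      rintro _ ⟨k, rfl⟩
      rw [SetLike.mem_coe, RingHom.mem_ker, map_sub, map_pow, MvPolynomial.eval₂Hom_X',
        MvPolynomial.eval₂Hom_C, hx k, sub_self]
    exact RingHom.mem_ker.mp (this ha))

lemma RqLift_mk {T : Type*} [CommRing T] (φ : D →+* T) (x : Fin l → T)
    (hx : ∀ k, x k ^ 2 = φ (s k)) (P : MvPolynomial (Fin l) D) :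
    RqLift φ x hx (Ideal.Quotient.mk _ P) = MvPolynomial.eval₂Hom φ x P := rfl

lemma RqLift_algebraMap {T : Type*} [CommRing T] (φ : D →+* T) (x : Fin l → T)
    (hx : ∀ k, x k ^ 2 = φ (s k)) (d : D) :
    RqLift φ x hx (algebraMap D (Rq D s) d) = φ d := by
  have : algebraMap D (Rq D s) d = Ideal.Quotient.mk _ (C d) := rfl
  rw [this, RqLift_mk]; simp

lemma RqLift_X {T : Type*} [CommRing T] (φ : D →+* T) (x : Fin l → T)
    (hx : ∀ k, x k ^ 2 = φ (s k)) (k : Fin l) :
    RqLift φ x hx (Ideal.Quotient.mk _ (X k)) = x k := by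
  rw [RqLift_mk]; simp

lemma Rq_X_sq (k : Fin l) :
    (Ideal.Quotient.mk (RqI D s) (X k)) ^ 2 = algebraMap D (Rq D s) (s k) := by
  have : algebraMap D (Rq D s) (s k) = Ideal.Quotient.mk _ (C (s k)) := rfl
  rw [this, ← map_pow, Ideal.Quotient.eq]
  exact Ideal.subset_span ⟨k, rfl⟩

lemma Rq_hom_ext {T : Type*} [Semiring T] (g₁ g₂ : Rq D s →+* T)
    (h1 : ∀ d, g₁ (algebraMap D (Rq D s) d) = g₂ (algebraMap D (Rq D s) d))
    (h2 : ∀ k, g₁ (Ideal.Quotient.mk _ (X k)) = g₂ (Ideal.Quotient.mk _ (X k))) : g₁ = g₂ := by
  apply Ideal.Quotient.ringHom_ext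
  apply MvPolynomial.ringHom_ext
  · intro d; exact h1 d
  · intro k; exact h2 k

/-- Functoriality of `Rq`. -/
noncomputable def RqMap {D' : Type*} [CommRing D'] {s' : Fin l → D'} (φ : D →+* D')
    (hφ : ∀ k, φ (s k) = s' k) : Rq D s →+* Rq D' s' :=
  RqLift ((algebraMap D' (Rq D' s')).comp φ) (fun k => Ideal.Quotient.mk _ (X k)) (by
    intro k; rw [Rq_X_sq, RingHom.comp_apply, hφ])

lemma RqMap_algebraMap {D' : Type*} [CommRing D'] {s' : Fin l → D'} (φ : D →+* D')
    (hφ : ∀ k, φ (s k) = s' k) (d : D) :
    RqMap φ hφ (algebraMap D (Rq D s) d) = algebraMap D' (Rq D' s') (φ d) := by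
  simp [RqMap, RqLift_algebraMap]

lemma RqMap_X {D' : Type*} [CommRing D'] {s' : Fin l → D'} (φ : D →+* D')
    (hφ : ∀ k, φ (s k) = s' k) (k : Fin l) :
    RqMap φ hφ (Ideal.Quotient.mk _ (X k)) = Ideal.Quotient.mk _ (X k) := by
  simp [RqMap, RqLift_X]

lemma RqMap_comp {D' D'' : Type*} [CommRing D'] [CommRing D''] {s' : Fin l → D'}
    {s'' : Fin l → D''} (φ : D →+* D') (hφ : ∀ k, φ (s k) = s' k)
    (ψ : D' →+* D'') (hψ : ∀ k, ψ (s' k) = s'' k) :
    (RqMap ψ hψ).comp (RqMap φ hφ) = RqMap (ψ.comp φ) (fun k => by simp [hφ, hψ]) := by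
  apply Rq_hom_ext
  · intro d; simp [RqMap_algebraMap]
  · intro k; simp [RqMap_X]

end Rq


section LemmaU

/-- Universal-property criterion for being a localization. -/
theorem isLocalization_of_universal {R R' : Type*} [CommRing R] [CommRing R'] [Algebra R R']
    (M : Submonoid R) (h1 : ∀ m : M, IsUnit (algebraMap R R' m))
    (ρ : R' →+* Localization M)
    (hρ : ρ.comp (algebraMap R R') = algebraMap R (Localization M))
    (h3 : ∀ g : R' →+* R', g.comp (algebraMap R R') = algebraMap R R' → g = RingHom.id R') :
    IsLocalization M R' := by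
  let L : Localization M →+* R' := IsLocalization.lift (M := M) (g := algebraMap R R') h1
  have hL : L.comp (algebraMap R (Localization M)) = algebraMap R R' := by
    ext x; simp [L]
  have h12 : ρ.comp L = RingHom.id _ := by
    apply IsLocalization.ringHom_ext M
    rw [RingHom.comp_assoc, hL, hρ]; rfl
  have h21 : L.comp ρ = RingHom.id _ := by
    apply h3
    rw [RingHom.comp_assoc, hρ, hL]
  let e : Localization M ≃ₐ[R] R' :=
    { toFun := L
      invFun := ρ
      left_inv := fun x => by
        have := congrArg (fun g => g x) h12; simpa using this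
      right_inv := fun x => by
        have := congrArg (fun g => g x) h21; simpa using this
      map_mul' := map_mul L
      map_add' := map_add L
      commutes' := fun r => by
        have := congrArg (fun g => g r) hL; simpa using this }
  exact IsLocalization.isLocalization_of_algEquiv M e

end LemmaU


section Part2a
variable {B : Type*} [CommRing B] (p : Ideal B) [p.IsPrime]
variable {l : ℕ} {D : Type*} [CommRing D] [Algebra B D] (N : Submonoid B) [IsLocalization N D]
  (ι : D →+* Localization.AtPrime p)
  (hι : ι.comp (algebraMap B D) = algebraMap B (Localization.AtPrime p))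
  {s1 : Fin l → D} {s : Fin l → Localization.AtPrime p} (hs : ∀ k, ι (s1 k) = s k)

include N hι in
theorem isLocalization_Rq :
    letI : Algebra (Rq D s1) (Rq (Localization.AtPrime p) s) := (RqMap ι hs).toAlgebra
    IsLocalization (Algebra.algebraMapSubmonoid (Rq D s1) p.primeCompl)
      (Rq (Localization.AtPrime p) s) := by
  letI : Algebra (Rq D s1) (Rq (Localization.AtPrime p) s) := (RqMap ι hs).toAlgebra
  have halg : ∀ r, algebraMap (Rq D s1) (Rq (Localization.AtPrime p) s) r = RqMap ι hs r :=
    fun r => rfl
  have hBalg : ∀ b : B, RqMap ι hs (algebraMap B (Rq D s1) b)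
      = algebraMap B (Rq (Localization.AtPrime p) s) b := by
    intro b
    rw [IsScalarTower.algebraMap_apply B D (Rq D s1), RqMap_algebraMap,
      IsScalarTower.algebraMap_apply B (Localization.AtPrime p) (Rq (Localization.AtPrime p) s)]
    congr 1
    exact congrArg (fun g => g b) hι
  set M := Algebra.algebraMapSubmonoid (Rq D s1) p.primeCompl with hM
  -- units
  have h1 : ∀ m : M, IsUnit (algebraMap (Rq D s1) (Rq (Localization.AtPrime p) s) m) := by
    rintro ⟨m, t, ht, rfl⟩
    rw [halg]
    show IsUnit (RqMap ι hs (algebraMap B (Rq D s1) t))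
    rw [hBalg, IsScalarTower.algebraMap_apply B (Localization.AtPrime p)
      (Rq (Localization.AtPrime p) s)]
    exact (IsLocalization.map_units (Localization.AtPrime p) (⟨t, ht⟩ : p.primeCompl)).map _
  -- the map ρ
  have hunit : ∀ t : p.primeCompl, IsUnit (algebraMap B (Localization M) t) := by
    intro t
    rw [IsScalarTower.algebraMap_apply B (Rq D s1) (Localization M)]
    exact IsLocalization.map_units (Localization M)
      (⟨algebraMap B (Rq D s1) t, ⟨t, t.2, rfl⟩⟩ : M)
  let φ : Localization.AtPrime p →+* Localization M :=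
    IsLocalization.lift (M := p.primeCompl) (S := Localization.AtPrime p) (P := Localization M)
      (g := algebraMap B (Localization M)) hunit
  have hφι : φ.comp ι = (algebraMap (Rq D s1) (Localization M)).comp (algebraMap D (Rq D s1)) := by
    apply IsLocalization.ringHom_ext N
    ext b
    simp only [RingHom.comp_apply]
    have : ι (algebraMap B D b) = algebraMap B (Localization.AtPrime p) b :=
      congrArg (fun g => g b) hι
    rw [this]
    simp only [φ, IsLocalization.lift_eq]
    rw [IsScalarTower.algebraMap_apply B (Rq D s1) (Localization M),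
      IsScalarTower.algebraMap_apply B D (Rq D s1)]
  let ρ : Rq (Localization.AtPrime p) s →+* Localization M :=
    RqLift φ (fun k => algebraMap (Rq D s1) (Localization M) (Ideal.Quotient.mk _ (X k))) (by
      intro k
      rw [← map_pow, Rq_X_sq, ← hs k]
      exact (congrArg (fun g => g (s1 k)) hφι).symm)
  refine isLocalization_of_universal M h1 ρ ?_ ?_
  · apply Rq_hom_ext
    · intro d
      simp only [RingHom.comp_apply, halg, RqMap_algebraMap, ρ, RqLift_algebraMap]
      exact congrArg (fun g => g d) hφι
    · intro k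
      simp only [RingHom.comp_apply, halg, RqMap_X, ρ, RqLift_X]
  · intro g hg
    have hg' : ∀ r, g (RqMap ι hs r) = RqMap ι hs r := fun r => congrArg (fun h => h r) hg
    apply Rq_hom_ext
    · intro d
      have : g.comp (algebraMap (Localization.AtPrime p) (Rq (Localization.AtPrime p) s))
          = algebraMap (Localization.AtPrime p) (Rq (Localization.AtPrime p) s) := by
        apply IsLocalization.ringHom_ext p.primeCompl
        ext b
        simp only [RingHom.comp_apply]
        rw [← IsScalarTower.algebraMap_apply B (Localization.AtPrime p)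
          (Rq (Localization.AtPrime p) s), ← hBalg, hg']
      exact congrArg (fun h => h d) this
    · intro k
      have := hg' (Ideal.Quotient.mk _ (X k))
      rw [RqMap_X] at this
      simpa using this

end Part2a


section Part2b
variable {B : Type*} [CommRing B] (p : Ideal B) [p.IsPrime]
variable {l : ℕ} {D : Type*} [CommRing D] [Algebra B D] (N : Submonoid B) [IsLocalization N D]
  (ι : D →+* Localization.AtPrime p)
  (hι : ι.comp (algebraMap B D) = algebraMap B (Localization.AtPrime p))
  {s1 : Fin l → D} {s : Fin l → Localization.AtPrime p} (hs : ∀ k, ι (s1 k) = s k)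
  (f1 : Rq D s1) (f : Rq (Localization.AtPrime p) s) (u : (Rq (Localization.AtPrime p) s)ˣ)
  (hf : RqMap ι hs f1 = f * u)

include N hι hf in
theorem exists_theta :
    ∃ θ : Localization.Away f1 →ₐ[B] Localization.Away f,
      IsLocalizedModule p.primeCompl θ.toLinearMap := by
  letI alg1 : Algebra (Rq D s1) (Rq (Localization.AtPrime p) s) := (RqMap ι hs).toAlgebra
  haveI loc1 : IsLocalization (Algebra.algebraMapSubmonoid (Rq D s1) p.primeCompl)
      (Rq (Localization.AtPrime p) s) := isLocalization_Rq p N ι hι hs
  have halg : ∀ r, algebraMap (Rq D s1) (Rq (Localization.AtPrime p) s) r = RqMap ι hs r :=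
    fun r => rfl
  have hBalg : ∀ b : B, RqMap ι hs (algebraMap B (Rq D s1) b)
      = algebraMap B (Rq (Localization.AtPrime p) s) b := by
    intro b
    rw [IsScalarTower.algebraMap_apply B D (Rq D s1), RqMap_algebraMap,
      IsScalarTower.algebraMap_apply B (Localization.AtPrime p) (Rq (Localization.AtPrime p) s)]
    congr 1
    exact congrArg (fun g => g b) hι
  let g0 : Rq D s1 →+* (Localization.Away f) := (algebraMap (Rq (Localization.AtPrime p) s) (Localization.Away f)).comp (RqMap ι hs)
  have hg0 : IsUnit (g0 f1) := by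
    show IsUnit (algebraMap (Rq (Localization.AtPrime p) s) (Localization.Away f) (RqMap ι hs f1))
    rw [hf, map_mul]
    exact (IsLocalization.Away.algebraMap_isUnit f).mul (u.isUnit.map _)
  let θ₀ : (Localization.Away f1) →+* (Localization.Away f) := IsLocalization.Away.lift f1 (g := g0) hg0
  have hθ₀ : ∀ r, θ₀ (algebraMap (Rq D s1) (Localization.Away f1) r) = g0 r := fun r =>
    IsLocalization.Away.lift_eq f1 hg0 r
  have hcomm : ∀ b : B, θ₀ (algebraMap B (Localization.Away f1) b) = algebraMap B (Localization.Away f) b := by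
    intro b
    rw [IsScalarTower.algebraMap_apply B (Rq D s1) (Localization.Away f1), hθ₀]
    show algebraMap (Rq (Localization.AtPrime p) s) (Localization.Away f) (RqMap ι hs _) = _
    rw [hBalg, ← IsScalarTower.algebraMap_apply]
  let θ : (Localization.Away f1) →ₐ[B] (Localization.Away f) := { θ₀ with commutes' := hcomm }
  refine ⟨θ, ?_⟩
  letI alg2 : Algebra (Localization.Away f1) (Localization.Away f) := θ₀.toAlgebra
  haveI : IsScalarTower B (Localization.Away f1) (Localization.Away f) := IsScalarTower.of_algebraMap_eq (fun b => (hcomm b).symm)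
  have hθeq : θ = IsScalarTower.toAlgHom B (Localization.Away f1) (Localization.Away f) := by
    ext x; rfl
  rw [hθeq, isLocalizedModule_iff_isLocalization]
  set M' := Algebra.algebraMapSubmonoid (Localization.Away f1) p.primeCompl with hM'
  have halg2 : ∀ x, algebraMap (Localization.Away f1) (Localization.Away f) x = θ₀ x := fun x => rfl
  have h1 : ∀ m : M', IsUnit (algebraMap (Localization.Away f1) (Localization.Away f) m) := by
    rintro ⟨m, t, ht, rfl⟩
    rw [halg2]
    show IsUnit (θ₀ (algebraMap B (Localization.Away f1) t))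
    rw [hcomm, IsScalarTower.algebraMap_apply B (Rq (Localization.AtPrime p) s) (Localization.Away f),
      IsScalarTower.algebraMap_apply B (Localization.AtPrime p) (Rq (Localization.AtPrime p) s)]
    exact ((IsLocalization.map_units (Localization.AtPrime p)
      (⟨t, ht⟩ : p.primeCompl)).map _).map _
  let g1 : Rq D s1 →+* Localization M' :=
    (algebraMap (Localization.Away f1) (Localization M')).comp (algebraMap (Rq D s1) (Localization.Away f1))
  have hg1 : ∀ m : Algebra.algebraMapSubmonoid (Rq D s1) p.primeCompl, IsUnit (g1 m) := by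
    rintro ⟨m, t, ht, rfl⟩
    show IsUnit (algebraMap (Localization.Away f1) (Localization M') (algebraMap (Rq D s1) (Localization.Away f1) (algebraMap B _ t)))
    rw [← IsScalarTower.algebraMap_apply B (Rq D s1) (Localization.Away f1)]
    exact IsLocalization.map_units (Localization M')
      (⟨algebraMap B (Localization.Away f1) t, ⟨t, ht, rfl⟩⟩ : M')
  let ρ₀ : Rq (Localization.AtPrime p) s →+* Localization M' :=
    IsLocalization.lift (M := Algebra.algebraMapSubmonoid (Rq D s1) p.primeCompl)
      (S := Rq (Localization.AtPrime p) s) (P := Localization M') (g := g1) hg1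
  have hρ₀ : ∀ r, ρ₀ (RqMap ι hs r) = g1 r := fun r => IsLocalization.lift_eq hg1 r
  have hρ₀f : IsUnit (ρ₀ f) := by
    have h : IsUnit (ρ₀ (f * u)) := by
      rw [← hf, hρ₀]
      show IsUnit (algebraMap (Localization.Away f1) (Localization M') (algebraMap (Rq D s1) (Localization.Away f1) f1))
      exact (IsLocalization.Away.algebraMap_isUnit f1).map _
    rw [map_mul] at h
    exact isUnit_of_mul_isUnit_left h
  let ρ : (Localization.Away f) →+* Localization M' := IsLocalization.Away.lift f (g := ρ₀) hρ₀f
  have hρ : ∀ r, ρ (algebraMap (Rq (Localization.AtPrime p) s) (Localization.Away f) r) = ρ₀ r := fun r =>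
    IsLocalization.Away.lift_eq f hρ₀f r
  refine isLocalization_of_universal M' h1 ρ ?_ ?_
  · apply IsLocalization.ringHom_ext (Submonoid.powers f1)
    refine RingHom.ext fun r => ?_
    simp only [RingHom.comp_apply, halg2, hθ₀]
    show ρ (algebraMap (Rq (Localization.AtPrime p) s) (Localization.Away f) (RqMap ι hs r)) = _
    rw [hρ, hρ₀]
    rfl
  · intro g' hg'
    have hg'' : ∀ x, g' (θ₀ x) = θ₀ x := fun x => congrArg (fun h => h x) hg'
    apply IsLocalization.ringHom_ext (Submonoid.powers f)
    apply IsLocalization.ringHom_ext (Algebra.algebraMapSubmonoid (Rq D s1) p.primeCompl)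
    refine RingHom.ext fun r => ?_
    simp only [RingHom.comp_apply, halg, RingHom.id_apply]
    have : algebraMap (Rq (Localization.AtPrime p) s) (Localization.Away f) (RqMap ι hs r)
        = θ₀ (algebraMap (Rq D s1) (Localization.Away f1) r) := (hθ₀ r).symm
    rw [this, hg'']

end Part2b

end Groth.Agent.Lib.Helper3.Spread
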