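import Mathlib.LinearAlgebra.Matrix.NonsingularInverse
import Mathlib.RingTheory.TensorProduct.Maps
import Mathlib.Data.Matrix.Basic
import Groth.Agent.Lib.Helper3.Spread1
/-! Spreading out, part 2: clearing denominators for finite families and matrices along a localization of
modules; descending a hermitian congruence `(lam v)ᵀ h v = h'` over `S⁻¹C ⊗ A` to an approximate one over
`C ⊗ A` (`stageII`), and transporting the latter to any `C'` in which the denominator is invertible
(`transport`). (helper3) -/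
set_option autoImplicit false
universe u v
open scoped TensorProduct

namespace Groth.Agent.Lib.Helper3.Spread

section Fam
variable {R : Type*} [CommRing R] (S : Submonoid R) {M N : Type*} [AddCommGroup M]
  [AddCommGroup N] [Module R M] [Module R N] (g : M →ₗ[R] N) [IsLocalizedModule S g]

theorem fam_surj {ι : Type*} [Finite ι] (V : ι → N) :
    ∃ t : S, ∀ i, ∃ x : M, g x = (t : R) • V i := by
  classical
  cases nonempty_fintype ι
  choose xs hxs using fun i => IsLocalizedModule.surj S g (V i)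
  refine ⟨∏ i, (xs i).2, fun i => ⟨(∏ j ∈ Finset.univ.erase i, ((xs j).2 : R)) • (xs i).1, ?_⟩⟩
  have h1 : ((∏ i, (xs i).2 : S) : R) = ((xs i).2 : R) * ∏ j ∈ Finset.univ.erase i, ((xs j).2 : R) := by
    rw [Submonoid.coe_finsetProd]
    exact (Finset.mul_prod_erase Finset.univ (fun j => ((xs j).2 : R)) (Finset.mem_univ i)).symm
  rw [h1, map_smul, ← hxs i, Submonoid.smul_def, smul_smul, mul_comm]

theorem fam_inj {ι : Type*} [Finite ι] (P Q : ι → M) (h : ∀ i, g (P i) = g (Q i)) :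
    ∃ τ : S, ∀ i, (τ : R) • P i = (τ : R) • Q i := by
  classical
  cases nonempty_fintype ι
  choose cs hcs using fun i => IsLocalizedModule.exists_of_eq (S := S) (h i)
  refine ⟨∏ i, cs i, fun i => ?_⟩
  have h1 : ((∏ i, cs i : S) : R) = (∏ j ∈ Finset.univ.erase i, ((cs j : S) : R)) * (cs i : R) := by
    rw [Submonoid.coe_finsetProd, mul_comm]
    exact (Finset.mul_prod_erase Finset.univ (fun j => ((cs j : S) : R)) (Finset.mem_univ i)).symm
  have h2 := hcs i
  rw [Submonoid.smul_def, Submonoid.smul_def] at h2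
  rw [h1, mul_smul, mul_smul, h2]

theorem mat_surj {m n : Type*} [Finite m] [Finite n] (V W : Matrix m n N) :
    ∃ t : S, ∃ x y : Matrix m n M, x.map g = (t : R) • V ∧ y.map g = (t : R) • W := by
  obtain ⟨t, ht⟩ := fam_surj S g (ι := (m × n) ⊕ (m × n))
    (Sum.elim (fun ij => V ij.1 ij.2) (fun ij => W ij.1 ij.2))
  choose xs hxs using ht
  refine ⟨t, Matrix.of fun i j => xs (Sum.inl (i, j)), Matrix.of fun i j => xs (Sum.inr (i, j)),
    ?_, ?_⟩
  · ext i j
    simpa using hxs (Sum.inl (i, j))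
  · ext i j
    simpa using hxs (Sum.inr (i, j))

theorem mat_inj {m n : Type*} [Finite m] [Finite n] (P Q : Matrix m n M)
    (h : P.map g = Q.map g) : ∃ τ : S, (τ : R) • P = (τ : R) • Q := by
  obtain ⟨τ, hτ⟩ := fam_inj S g (ι := m × n) (fun ij => P ij.1 ij.2) (fun ij => Q ij.1 ij.2)
    (fun ij => by
      have := congrFun (congrFun h ij.1) ij.2
      simpa using this)
  refine ⟨τ, ?_⟩
  ext i j
  simpa using hτ (i, j)

end Fam


section StageII
variable {B : Type u} {A : Type v} [CommRing B] [CommRing A] [Algebra B A] (lam : A ≃ₐ[B] A)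

/-- The involution `id ⊗ lam` on `C ⊗ A`. -/
noncomputable def sig (C : Type*) [CommRing C] [Algebra B C] : C ⊗[B] A ≃ₐ[C] C ⊗[B] A :=
  Algebra.TensorProduct.congr (AlgEquiv.refl : C ≃ₐ[C] C) lam

lemma sig_def (C : Type*) [CommRing C] [Algebra B C] :
    sig lam C = Algebra.TensorProduct.congr (AlgEquiv.refl : C ≃ₐ[C] C) lam := rfl

@[simp] lemma sig_tmul (C : Type*) [CommRing C] [Algebra B C] (c : C) (a : A) :
    sig lam C (c ⊗ₜ[B] a) = c ⊗ₜ[B] lam a := by
  simp [sig]

lemma sig_smul (C : Type*) [CommRing C] [Algebra B C] (b : B) (z : C ⊗[B] A) :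
    sig lam C (b • z) = b • sig lam C z := by
  induction z using TensorProduct.induction_on with
  | zero => simp
  | tmul c a => simp [TensorProduct.smul_tmul']
  | add z w hz hw => simp only [smul_add, map_add, hz, hw]

lemma sig_map {C1 C2 : Type*} [CommRing C1] [CommRing C2] [Algebra B C1] [Algebra B C2]
    (θ : C1 →ₐ[B] C2) (z : C1 ⊗[B] A) :
    Algebra.TensorProduct.map θ (AlgHom.id B A) (sig lam C1 z)
      = sig lam C2 (Algebra.TensorProduct.map θ (AlgHom.id B A) z) := by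
  induction z using TensorProduct.induction_on with
  | zero => simp
  | tmul c a => simp
  | add z w hz hw => simp only [map_add, hz, hw]

lemma sig_smul_mat (C : Type*) [CommRing C] [Algebra B C] {n : ℕ} (b : B)
    (X : Matrix (Fin n) (Fin n) (C ⊗[B] A)) :
    ((b • X).map (sig lam C)).transpose = b • (X.map (sig lam C)).transpose := by
  ext i j
  simp [sig_smul]

variable (S : Submonoid B) {n : ℕ} (h h' : Matrix (Fin n) (Fin n) A)
  {C1 Cp : Type*} [CommRing C1] [CommRing Cp] [Algebra B C1] [Algebra B Cp]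

theorem stageII (θ : C1 →ₐ[B] Cp)
    (hθ : IsLocalizedModule S θ.toLinearMap) (v : Matrix (Fin n) (Fin n) (Cp ⊗[B] A)) (hv : IsUnit v)
    (heq : (v.map (sig lam Cp)).transpose
        * h.map (Algebra.TensorProduct.includeRight : A →ₐ[B] Cp ⊗[B] A) * v
        = h'.map (Algebra.TensorProduct.includeRight : A →ₐ[B] Cp ⊗[B] A)) :
    ∃ T ∈ S, ∃ x y : Matrix (Fin n) (Fin n) (C1 ⊗[B] A),
      (x.map (sig lam C1)).transpose
          * h.map (Algebra.TensorProduct.includeRight : A →ₐ[B] C1 ⊗[B] A) * x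
        = (T ^ 2) • h'.map (Algebra.TensorProduct.includeRight : A →ₐ[B] C1 ⊗[B] A) ∧
      x * y = (T ^ 2) • (1 : Matrix (Fin n) (Fin n) (C1 ⊗[B] A)) := by
  set Θ : C1 ⊗[B] A →ₐ[B] Cp ⊗[B] A := Algebra.TensorProduct.map θ (AlgHom.id B A) with hΘ
  haveI : IsLocalizedModule S Θ.toLinearMap := by
    have : Θ.toLinearMap = TensorProduct.AlgebraTensorModule.rTensor B A θ.toLinearMap := by
      apply TensorProduct.ext'
      intro c a
      simp [Θ]
    rw [this]
    infer_instance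
  have F3 : ∀ z, Θ (sig lam C1 z) = sig lam Cp (Θ z) := fun z => sig_map lam θ z
  have F4 : ∀ a : A, Θ (Algebra.TensorProduct.includeRight a)
      = Algebra.TensorProduct.includeRight a := by
    intro a; simp [Θ]
  obtain ⟨W, hW⟩ := hv.exists_right_inv
  obtain ⟨t, x0, y0, hx0, hy0⟩ := mat_surj S Θ.toLinearMap v W
  have hx0' : Θ.mapMatrix x0 = (t : B) • v := hx0
  have hy0' : Θ.mapMatrix y0 = (t : B) • W := hy0
  have hstar : ∀ X : Matrix (Fin n) (Fin n) (C1 ⊗[B] A),
      Θ.mapMatrix ((X.map (sig lam C1)).transpose)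
        = ((Θ.mapMatrix X).map (sig lam Cp)).transpose := by
    intro X
    ext i j
    simp [F3]
  have hh : ∀ H : Matrix (Fin n) (Fin n) A,
      Θ.mapMatrix (H.map (Algebra.TensorProduct.includeRight : A →ₐ[B] C1 ⊗[B] A))
        = H.map (Algebra.TensorProduct.includeRight : A →ₐ[B] Cp ⊗[B] A) := by
    intro H
    ext i j
    simpa using F4 (H i j)
  have e1 : Θ.mapMatrix ((x0.map (sig lam C1)).transpose
        * h.map (Algebra.TensorProduct.includeRight : A →ₐ[B] C1 ⊗[B] A) * x0)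
      = Θ.mapMatrix (((t : B) ^ 2) • h'.map
          (Algebra.TensorProduct.includeRight : A →ₐ[B] C1 ⊗[B] A)) := by
    rw [map_mul, map_mul, hstar, hh, hx0', map_smul, hh, ← heq, sig_smul_mat, Matrix.smul_mul,
      Matrix.smul_mul, Matrix.mul_smul, smul_smul, pow_two]
  have e2 : Θ.mapMatrix (x0 * y0)
      = Θ.mapMatrix (((t : B) ^ 2) • (1 : Matrix (Fin n) (Fin n) (C1 ⊗[B] A))) := by
    rw [map_mul, hx0', hy0', map_smul, map_one, Matrix.smul_mul, Matrix.mul_smul, smul_smul,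
      hW, pow_two]
  obtain ⟨τ₁, hτ₁⟩ := mat_inj S Θ.toLinearMap ((x0.map (sig lam C1)).transpose
        * h.map (Algebra.TensorProduct.includeRight : A →ₐ[B] C1 ⊗[B] A) * x0)
      (((t : B) ^ 2) • h'.map (Algebra.TensorProduct.includeRight : A →ₐ[B] C1 ⊗[B] A)) e1
  obtain ⟨τ₂, hτ₂⟩ := mat_inj S Θ.toLinearMap (x0 * y0)
      (((t : B) ^ 2) • (1 : Matrix (Fin n) (Fin n) (C1 ⊗[B] A))) e2
  refine ⟨(τ₁ : B) * τ₂ * t, S.mul_mem (S.mul_mem τ₁.2 τ₂.2) t.2,
    ((τ₁ : B) * τ₂) • x0, ((τ₁ : B) * τ₂) • y0, ?_, ?_⟩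
  · rw [sig_smul_mat, Matrix.smul_mul, Matrix.smul_mul, Matrix.mul_smul, smul_smul]
    have : ((τ₁ : B) * τ₂ * ((τ₁ : B) * τ₂)) • ((x0.map (sig lam C1)).transpose
        * h.map (Algebra.TensorProduct.includeRight : A →ₐ[B] C1 ⊗[B] A) * x0)
        = ((τ₁ : B) * τ₂ * τ₂) • ((τ₁ : B) • ((x0.map (sig lam C1)).transpose
        * h.map (Algebra.TensorProduct.includeRight : A →ₐ[B] C1 ⊗[B] A) * x0)) := by
      rw [smul_smul]; congr 1; ring
    rw [this, hτ₁, smul_smul, smul_smul]
    congr 1; ring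
  · rw [Matrix.smul_mul, Matrix.mul_smul, smul_smul]
    have : ((τ₁ : B) * τ₂ * ((τ₁ : B) * τ₂)) • (x0 * y0)
        = ((τ₁ : B) * τ₂ * τ₁) • ((τ₂ : B) • (x0 * y0)) := by
      rw [smul_smul]; congr 1; ring
    rw [this, hτ₂, smul_smul, smul_smul]
    congr 1; ring

end StageII


section Transport
variable {B : Type u} {A : Type v} [CommRing B] [CommRing A] [Algebra B A] (lam : A ≃ₐ[B] A)
  {n : ℕ} (h h' : Matrix (Fin n) (Fin n) A)
  {C1 C2 : Type*} [CommRing C1] [CommRing C2] [Algebra B C1] [Algebra B C2]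

lemma sig_smul' (C : Type*) [CommRing C] [Algebra B C] {n : ℕ} (c : C)
    (X : Matrix (Fin n) (Fin n) (C ⊗[B] A)) :
    ((c • X).map (sig lam C)).transpose = c • (X.map (sig lam C)).transpose := by
  ext i j
  simp

theorem transport (θ : C1 →ₐ[B] C2) (T : B) (hT : IsUnit (algebraMap B C2 T))
    (x y : Matrix (Fin n) (Fin n) (C1 ⊗[B] A))
    (E1 : (x.map (sig lam C1)).transpose
          * h.map (Algebra.TensorProduct.includeRight : A →ₐ[B] C1 ⊗[B] A) * x
        = (T ^ 2) • h'.map (Algebra.TensorProduct.includeRight : A →ₐ[B] C1 ⊗[B] A))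
    (E2 : x * y = (T ^ 2) • (1 : Matrix (Fin n) (Fin n) (C1 ⊗[B] A))) :
    ∃ v : Matrix (Fin n) (Fin n) (C2 ⊗[B] A), IsUnit v ∧
      (v.map (sig lam C2)).transpose
          * h.map (Algebra.TensorProduct.includeRight : A →ₐ[B] C2 ⊗[B] A) * v
        = h'.map (Algebra.TensorProduct.includeRight : A →ₐ[B] C2 ⊗[B] A) := by
  set Θ : C1 ⊗[B] A →ₐ[B] C2 ⊗[B] A := Algebra.TensorProduct.map θ (AlgHom.id B A) with hΘ
  have F3 : ∀ z, Θ (sig lam C1 z) = sig lam C2 (Θ z) := fun z => sig_map lam θ z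
  have F4 : ∀ a : A, Θ (Algebra.TensorProduct.includeRight a)
      = Algebra.TensorProduct.includeRight a := by
    intro a; simp [Θ]
  have hstar : ∀ X : Matrix (Fin n) (Fin n) (C1 ⊗[B] A),
      Θ.mapMatrix ((X.map (sig lam C1)).transpose)
        = ((Θ.mapMatrix X).map (sig lam C2)).transpose := by
    intro X
    ext i j
    simp [F3]
  have hh : ∀ H : Matrix (Fin n) (Fin n) A,
      Θ.mapMatrix (H.map (Algebra.TensorProduct.includeRight : A →ₐ[B] C1 ⊗[B] A))
        = H.map (Algebra.TensorProduct.includeRight : A →ₐ[B] C2 ⊗[B] A) := by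
    intro H
    ext i j
    simpa using F4 (H i j)
  have e1 := congrArg Θ.mapMatrix E1
  have e2 := congrArg Θ.mapMatrix E2
  rw [map_mul, map_mul, hstar, hh, map_smul, hh] at e1
  rw [map_mul, map_smul, map_one] at e2
  set X := Θ.mapMatrix x with hX
  set Y := Θ.mapMatrix y with hY
  obtain ⟨c, hc⟩ := hT
  have hBC : ∀ (b : B) (Z : Matrix (Fin n) (Fin n) (C2 ⊗[B] A)),
      b • Z = (algebraMap B C2 b) • Z := by
    intro b Z
    ext i j
    simp only [Matrix.smul_apply]
    rw [algebraMap_smul]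
  rw [hBC, map_pow, ← hc] at e1 e2
  refine ⟨((c⁻¹ : C2ˣ) : C2) • X, ?_, ?_⟩
  · refine (Matrix.isUnit_iff_isUnit_det _).mpr
      (Matrix.isUnit_det_of_right_inverse (B := ((c⁻¹ : C2ˣ) : C2) • Y) ?_)
    rw [Matrix.smul_mul, Matrix.mul_smul, e2, smul_smul, smul_smul, ← pow_two, ← mul_pow]
    simp
  · rw [sig_smul', Matrix.smul_mul, Matrix.smul_mul, Matrix.mul_smul, e1, smul_smul, smul_smul,
      ← pow_two, ← mul_pow]
    simp

end Transport

end Groth.Agent.Lib.Helper3.Spread
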