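import Groth.Agent.Lib.Helper3.Spread1
import Groth.Agent.Lib.Helper3.Spread2
/-! Spreading out, part 3: descending the presentation data `(s, f)` from `B_p` to some `B_b₀` (`stageI`)
and the main spreading-out theorem `spread_main` (hermitian congruence data over `B_p` spreads out to
`B_b`, `b ∉ p`). (helper3) -/
set_option autoImplicit false
universe u v
open scoped TensorProduct
open MvPolynomial

namespace Groth.Agent.Lib.Helper3.Spread

section StageI
variable {B : Type u} [CommRing B] (p : Ideal B) [p.IsPrime]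

theorem stageI {l r : ℕ} (s : Fin l → (Localization.AtPrime p)ˣ)
    (f : Fin r → Rq (Localization.AtPrime p) (fun k => (s k : Localization.AtPrime p)))
    (hspan : Ideal.span (Set.range f) = ⊤) :
    ∃ b₀ : B, b₀ ∈ p.primeCompl ∧ ∃ (s0 : Fin l → (Localization.Away b₀)ˣ)
      (f0 : Fin r → Rq (Localization.Away b₀) (fun k => (s0 k : Localization.Away b₀)))
      (t₀ : B), t₀ ∈ p.primeCompl ∧
      algebraMap B (Rq (Localization.Away b₀) fun k => (s0 k : Localization.Away b₀)) t₀
        ∈ Ideal.span (Set.range f0) ∧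
      ∀ i, ∃ θ : Localization.Away (f0 i) →ₐ[B] Localization.Away (f i),
        IsLocalizedModule p.primeCompl θ.toLinearMap := by
  classical
  -- (a) numerators and denominators of the `s k`
  have hsurj : ∀ k, ∃ (a : B) (t : p.primeCompl),
      IsLocalization.mk' (Localization.AtPrime p) a t = (s k : Localization.AtPrime p) :=
    fun k => IsLocalization.exists_mk'_eq p.primeCompl _
  choose a t hat using hsurj
  have ha : ∀ k, a k ∈ p.primeCompl := by
    intro k
    rw [← IsLocalization.AtPrime.isUnit_to_map_iff (Localization.AtPrime p) p]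
    have h1 : (s k : Localization.AtPrime p) * algebraMap B _ (t k : B) = algebraMap B _ (a k) := by
      rw [← hat k, IsLocalization.mk'_spec]
    rw [← h1]
    exact (s k).isUnit.mul (IsLocalization.map_units _ (t k))
  obtain ⟨b₀, hb₀⟩ : ∃ b₀ : B, b₀ = ∏ k, a k * (t k : B) := ⟨_, rfl⟩
  have hb₀S : b₀ ∈ p.primeCompl := by
    rw [hb₀]
    exact Submonoid.prod_mem _ (fun k _ => p.primeCompl.mul_mem (ha k) (t k).2)
  refine ⟨b₀, hb₀S, ?_⟩
  have hb₀u : IsUnit (algebraMap B (Localization.AtPrime p) b₀) :=
    IsLocalization.map_units _ (⟨b₀, hb₀S⟩ : p.primeCompl)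
  let ι₀ : Localization.Away b₀ →+* Localization.AtPrime p :=
    IsLocalization.Away.lift b₀ (g := algebraMap B (Localization.AtPrime p)) hb₀u
  have hι₀ : ι₀.comp (algebraMap B (Localization.Away b₀)) = algebraMap B (Localization.AtPrime p) := by
    refine RingHom.ext fun b => ?_
    rw [RingHom.comp_apply]
    exact IsLocalization.Away.lift_eq b₀ hb₀u b
  have hdvd : ∀ k, a k * (t k : B) ∣ b₀ := fun k => by
    rw [hb₀]
    exact Finset.dvd_prod_of_mem (fun k => a k * (t k : B)) (Finset.mem_univ k)
  have hua : ∀ k, IsUnit (algebraMap B (Localization.Away b₀) (a k)) := fun k =>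
    isUnit_of_dvd_unit (map_dvd _ ((Dvd.intro _ rfl).trans (hdvd k)))
      (IsLocalization.Away.algebraMap_isUnit b₀)
  have hut : ∀ k, IsUnit (algebraMap B (Localization.Away b₀) (t k : B)) := fun k =>
    isUnit_of_dvd_unit (map_dvd _ ((Dvd.intro_left _ rfl).trans (hdvd k)))
      (IsLocalization.Away.algebraMap_isUnit b₀)
  let s0 : Fin l → (Localization.Away b₀)ˣ := fun k => (hua k).unit * ((hut k).unit)⁻¹
  have hs0 : ∀ k, ι₀ ((s0 k : Localization.Away b₀)) = (s k : Localization.AtPrime p) := by
    intro k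
    have h1 : (s k : Localization.AtPrime p) * algebraMap B _ (t k : B) = algebraMap B _ (a k) := by
      rw [← hat k, IsLocalization.mk'_spec]
    have h2 : (s0 k : Localization.Away b₀) * algebraMap B _ (t k : B) = algebraMap B _ (a k) := by
      have : algebraMap B (Localization.Away b₀) (t k : B) = ((hut k).unit : Localization.Away b₀) :=
        rfl
      rw [this]
      simp only [s0, Units.val_mul]
      rw [mul_assoc, Units.inv_mul, mul_one]
      rfl
    have h3 := congrArg ι₀ h2
    rw [map_mul] at h3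
    have h4 : ∀ b, ι₀ (algebraMap B _ b) = algebraMap B (Localization.AtPrime p) b := fun b =>
      congrArg (fun g => g b) hι₀
    rw [h4, h4, ← h1] at h3
    exact (IsLocalization.map_units (Localization.AtPrime p) (t k)).mul_left_injective h3
  refine ⟨s0, ?_⟩
  -- (b) the localization structure
  letI alg1 : Algebra (Rq (Localization.Away b₀) (fun k => (s0 k : Localization.Away b₀)))
      (Rq (Localization.AtPrime p) (fun k => (s k : Localization.AtPrime p))) :=
    (RqMap ι₀ hs0).toAlgebra
  haveI loc1 : IsLocalization (Algebra.algebraMapSubmonoid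
      (Rq (Localization.Away b₀) (fun k => (s0 k : Localization.Away b₀))) p.primeCompl)
      (Rq (Localization.AtPrime p) (fun k => (s k : Localization.AtPrime p))) :=
    isLocalization_Rq p (Submonoid.powers b₀) ι₀ hι₀ hs0
  have hsurj2 : ∀ i, ∃ x : Rq (Localization.Away b₀) (fun k => (s0 k : Localization.Away b₀)) ×
      (Algebra.algebraMapSubmonoid
        (Rq (Localization.Away b₀) (fun k => (s0 k : Localization.Away b₀))) p.primeCompl),
      f i * algebraMap _ _ (x.2 : Rq (Localization.Away b₀) (fun k => (s0 k : Localization.Away b₀)))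
        = algebraMap _ _ x.1 :=
    fun i => IsLocalization.surj _ (f i)
  choose xs hxs using hsurj2
  let f0 : Fin r → Rq (Localization.Away b₀) (fun k => (s0 k : Localization.Away b₀)) :=
    fun i => (xs i).1
  let us : Fin r → (Rq (Localization.AtPrime p) (fun k => (s k : Localization.AtPrime p)))ˣ :=
    fun i => (IsLocalization.map_units _ (xs i).2).unit
  have hf0 : ∀ i, RqMap ι₀ hs0 (f0 i) = f i * (us i : _) := fun i => (hxs i).symm
  refine ⟨f0, ?_⟩
  -- (c) the unit ideal
  have hmap : Ideal.map (algebraMap (Rq (Localization.Away b₀) (fun k => (s0 k : Localization.Away b₀)))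
      (Rq (Localization.AtPrime p) (fun k => (s k : Localization.AtPrime p))))
      (Ideal.span (Set.range f0)) = ⊤ := by
    rw [eq_top_iff, ← hspan, Ideal.span_le]
    rintro _ ⟨i, rfl⟩
    have h1 : RqMap ι₀ hs0 (f0 i) ∈ Ideal.map (algebraMap _ _) (Ideal.span (Set.range f0)) :=
      Ideal.mem_map_of_mem _ (Ideal.subset_span ⟨i, rfl⟩)
    rw [hf0 i] at h1
    have h2 := Ideal.mul_mem_right ((us i)⁻¹ : _ˣ).1 _ h1
    rwa [mul_assoc, Units.mul_inv, mul_one] at h2
  have h1mem : (1 : Rq (Localization.AtPrime p) (fun k => (s k : Localization.AtPrime p)))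
      ∈ Ideal.map (algebraMap _ _) (Ideal.span (Set.range f0)) := by
    rw [hmap]; trivial
  rw [IsLocalization.mem_map_algebraMap_iff (Algebra.algebraMapSubmonoid
      (Rq (Localization.Away b₀) (fun k => (s0 k : Localization.Away b₀))) p.primeCompl)] at h1mem
  obtain ⟨⟨⟨y, hy⟩, m⟩, hym⟩ := h1mem
  rw [one_mul] at hym
  obtain ⟨c, hc⟩ := (IsLocalization.eq_iff_exists (Algebra.algebraMapSubmonoid
      (Rq (Localization.Away b₀) (fun k => (s0 k : Localization.Away b₀))) p.primeCompl) _).mp hym
  obtain ⟨t₀, ht₀S, ht₀⟩ := (c * m).2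
  refine ⟨t₀, ht₀S, ?_, ?_⟩
  · rw [ht₀, Submonoid.coe_mul, hc]
    exact Ideal.mul_mem_left _ _ hy
  · intro i
    exact exists_theta p (Submonoid.powers b₀) ι₀ hι₀ hs0 (f0 i) (f i) (us i) (hf0 i)

end StageI


section Main
variable (B : Type u) (A : Type v) [CommRing B] [CommRing A] [Algebra B A] (lam : A ≃ₐ[B] A)
  (n : ℕ) (h h' : Matrix (Fin n) (Fin n) A) (p : Ideal B) [p.IsPrime]

theorem spread_main
    (hdata : (∃ (l : ℕ) (s : Fin l → (Localization.AtPrime p)ˣ) (r : ℕ) (f : Fin r → (MvPolynomial (Fin l) (Localization.AtPrime p) ⧸ Ideal.span (Set.range fun k : Fin l => MvPolynomial.X k ^ 2 - MvPolynomial.C (s k : Localization.AtPrime p)))),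
        Ideal.span (Set.range f) = ⊤ ∧
        ∀ (i : Fin r) (C : Type u) [CommRing C] [Algebra B C]
          [Algebra (MvPolynomial (Fin l) (Localization.AtPrime p) ⧸ Ideal.span (Set.range fun k : Fin l => MvPolynomial.X k ^ 2 - MvPolynomial.C (s k : Localization.AtPrime p))) C]
          [IsScalarTower B (MvPolynomial (Fin l) (Localization.AtPrime p) ⧸ Ideal.span (Set.range fun k : Fin l => MvPolynomial.X k ^ 2 - MvPolynomial.C (s k : Localization.AtPrime p))) C]
          [IsLocalization.Away (f i) C],
          ∃ v : Matrix (Fin n) (Fin n) (C ⊗[B] A), IsUnit v ∧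
            (v.map (Algebra.TensorProduct.congr (AlgEquiv.refl : C ≃ₐ[C] C) lam)).transpose * h.map (Algebra.TensorProduct.includeRight : A →ₐ[B] C ⊗[B] A) * v = h'.map (Algebra.TensorProduct.includeRight : A →ₐ[B] C ⊗[B] A))) :
    ∃ b : B, b ∉ p ∧
      (∃ (l : ℕ) (s : Fin l → (Localization.Away b)ˣ) (r : ℕ) (f : Fin r → (MvPolynomial (Fin l) (Localization.Away b) ⧸ Ideal.span (Set.range fun k : Fin l => MvPolynomial.X k ^ 2 - MvPolynomial.C (s k : Localization.Away b)))),
        Ideal.span (Set.range f) = ⊤ ∧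
        ∀ (i : Fin r) (C : Type u) [CommRing C] [Algebra B C]
          [Algebra (MvPolynomial (Fin l) (Localization.Away b) ⧸ Ideal.span (Set.range fun k : Fin l => MvPolynomial.X k ^ 2 - MvPolynomial.C (s k : Localization.Away b))) C]
          [IsScalarTower B (MvPolynomial (Fin l) (Localization.Away b) ⧸ Ideal.span (Set.range fun k : Fin l => MvPolynomial.X k ^ 2 - MvPolynomial.C (s k : Localization.Away b))) C]
          [IsLocalization.Away (f i) C],
          ∃ v : Matrix (Fin n) (Fin n) (C ⊗[B] A), IsUnit v ∧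
            (v.map (Algebra.TensorProduct.congr (AlgEquiv.refl : C ≃ₐ[C] C) lam)).transpose * h.map (Algebra.TensorProduct.includeRight : A →ₐ[B] C ⊗[B] A) * v = h'.map (Algebra.TensorProduct.includeRight : A →ₐ[B] C ⊗[B] A)) := by
  classical
  obtain ⟨l, s, r, f, hspan, hC⟩ := hdata
  obtain ⟨b₀, hb₀S, s0, f0, t₀, ht₀S, ht₀mem, hθ⟩ := stageI p s f hspan
  have hII : ∀ i, ∃ T ∈ p.primeCompl, ∃ x y : Matrix (Fin n) (Fin n) (Localization.Away (f0 i) ⊗[B] A),
      (x.map (sig lam (Localization.Away (f0 i)))).transpose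
          * h.map (Algebra.TensorProduct.includeRight : A →ₐ[B] Localization.Away (f0 i) ⊗[B] A) * x
        = (T ^ 2) • h'.map (Algebra.TensorProduct.includeRight :
            A →ₐ[B] Localization.Away (f0 i) ⊗[B] A) ∧
      x * y = (T ^ 2) • (1 : Matrix (Fin n) (Fin n) (Localization.Away (f0 i) ⊗[B] A)) := by
    intro i
    obtain ⟨θ, hθloc⟩ := hθ i
    obtain ⟨v, hv, heq⟩ := hC i (Localization.Away (f i))
    exact stageII lam p.primeCompl h h' θ hθloc v hv heq
  choose T hTS x y hE1 hE2 using hII
  obtain ⟨b, hb⟩ : ∃ b : B, b = b₀ * t₀ * ∏ i, T i := ⟨_, rfl⟩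
  have hbS : b ∈ p.primeCompl := by
    rw [hb]
    exact p.primeCompl.mul_mem (p.primeCompl.mul_mem hb₀S ht₀S)
      (Submonoid.prod_mem _ (fun i _ => hTS i))
  have hdvd0 : b₀ ∣ b := by rw [hb, mul_assoc]; exact Dvd.intro _ rfl
  have hdvdt : t₀ ∣ b := by rw [hb, mul_comm b₀, mul_assoc]; exact Dvd.intro _ rfl
  have hdvdT : ∀ i, T i ∣ b := fun i => by
    rw [hb]
    exact Dvd.dvd.mul_left (Finset.dvd_prod_of_mem T (Finset.mem_univ i)) _
  have hunit : ∀ c : B, c ∣ b → IsUnit (algebraMap B (Localization.Away b) c) := fun c hc =>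
    isUnit_of_dvd_unit (map_dvd _ hc) (IsLocalization.Away.algebraMap_isUnit b)
  let κ : Localization.Away b₀ →+* Localization.Away b :=
    IsLocalization.Away.lift b₀ (g := algebraMap B (Localization.Away b)) (hunit b₀ hdvd0)
  have hκ : ∀ c : B, κ (algebraMap B (Localization.Away b₀) c) = algebraMap B (Localization.Away b) c :=
    fun c => IsLocalization.Away.lift_eq b₀ (hunit b₀ hdvd0) c
  let s2 : Fin l → (Localization.Away b)ˣ := fun k => Units.map κ.toMonoidHom (s0 k)
  have hs2 : ∀ k, κ ((s0 k : Localization.Away b₀)) = (s2 k : Localization.Away b) := fun k => rfl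
  let f2 : Fin r → Rq (Localization.Away b) (fun k => (s2 k : Localization.Away b)) :=
    fun i => RqMap κ hs2 (f0 i)
  have hBmap : ∀ c : B, RqMap κ hs2 (algebraMap B (Rq (Localization.Away b₀)
      (fun k => (s0 k : Localization.Away b₀))) c)
      = algebraMap B (Rq (Localization.Away b) (fun k => (s2 k : Localization.Away b))) c := by
    intro c
    rw [IsScalarTower.algebraMap_apply B (Localization.Away b₀) (Rq (Localization.Away b₀)
      (fun k => (s0 k : Localization.Away b₀))),
      RqMap_algebraMap, hκ, ← IsScalarTower.algebraMap_apply]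
  refine ⟨b, fun hbp => hbS hbp, l, s2, r, f2, ?_, ?_⟩
  · -- unit ideal
    have h1 : algebraMap B (Rq (Localization.Away b) (fun k => (s2 k : Localization.Away b))) t₀
        ∈ Ideal.span (Set.range f2) := by
      rw [← hBmap]
      have h2 := Ideal.mem_map_of_mem (RqMap κ hs2) ht₀mem
      rw [Ideal.map_span] at h2
      refine Ideal.span_mono ?_ h2
      rintro _ ⟨_, ⟨i, rfl⟩, rfl⟩
      exact ⟨i, rfl⟩
    refine Ideal.eq_top_of_isUnit_mem _ h1 ?_
    rw [IsScalarTower.algebraMap_apply B (Localization.Away b) (Rq (Localization.Away b)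
      (fun k => (s2 k : Localization.Away b)))]
    exact (hunit t₀ hdvdt).map _
  · intro i C _ _ _ _ _
    let g0 : Rq (Localization.Away b₀) (fun k => (s0 k : Localization.Away b₀)) →+* C :=
      (algebraMap (Rq (Localization.Away b) (fun k => (s2 k : Localization.Away b))) C).comp
        (RqMap κ hs2)
    have hg0 : IsUnit (g0 (f0 i)) := IsLocalization.Away.algebraMap_isUnit (f2 i)
    let θ₀ : Localization.Away (f0 i) →+* C := IsLocalization.Away.lift (f0 i) (g := g0) hg0
    have hθ₀ : ∀ z, θ₀ (algebraMap _ (Localization.Away (f0 i)) z) = g0 z := fun z =>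
      IsLocalization.Away.lift_eq (f0 i) hg0 z
    have hcomm : ∀ c : B, θ₀ (algebraMap B (Localization.Away (f0 i)) c) = algebraMap B C c := by
      intro c
      rw [IsScalarTower.algebraMap_apply B (Rq (Localization.Away b₀)
        (fun k => (s0 k : Localization.Away b₀))) (Localization.Away (f0 i)), hθ₀]
      show algebraMap (Rq (Localization.Away b) (fun k => (s2 k : Localization.Away b))) C
        (RqMap κ hs2 _) = _
      rw [hBmap, ← IsScalarTower.algebraMap_apply]
    let θ : Localization.Away (f0 i) →ₐ[B] C := { θ₀ with commutes' := hcomm }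
    have hTunit : IsUnit (algebraMap B C (T i)) := by
      rw [IsScalarTower.algebraMap_apply B
        (Rq (Localization.Away b) (fun k => (s2 k : Localization.Away b))) C,
        IsScalarTower.algebraMap_apply B (Localization.Away b) (Rq (Localization.Away b)
          (fun k => (s2 k : Localization.Away b)))]
      exact ((hunit (T i) (hdvdT i)).map _).map _
    obtain ⟨v, hv, hveq⟩ := transport lam h h' θ (T i) hTunit (x i) (y i) (hE1 i) (hE2 i)
    exact ⟨v, hv, hveq⟩

end Main

end Groth.Agent.Lib.Helper3.Spread
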