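import Groth.Agent.Lib.Helper3.FixedSplitSym

/-! Isomorphisms of Azumaya algebras with involution from symmetric matrix units (helper3). -/

set_option autoImplicit false
universe u u' v w w'

open TensorProduct

namespace Groth.Agent.Lib.Helper3.SymIso

open AzInv Groth.Agent.Lib.Helper3.FixedBC Groth.Agent.Lib.Helper3.MatUnits
  Groth.Agent.Lib.Helper3.LamInvBC Groth.Agent.Lib.Helper3.FixedSplitSym

variable {S : Type u} {R : Type v} [CommRing S] [CommRing R] [Algebra S R]
  {A : Type w} [Ring A] [Algebra S A] [Algebra R A] [IsScalarTower S R A]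
  {A' : Type w'} [Ring A'] [Algebra S A'] [Algebra R A'] [IsScalarTower S R A']

/-- two Azumaya algebras with involution of the same degree, both with symmetric matrix units over
`S'`, become isomorphic over `S'` -/
theorem iso_of_symm_matUnits (S' : Type u') [CommRing S'] [Algebra S S'] (n : ℕ) (hn : 0 < n)
    (lam : R ≃ₐ[S] R)
    (hA : IsAzumayaDeg R A n) (t : LamInv R A lam)
    (E : Fin n → Fin n → S' ⊗[S] A) (hE : IsMatUnits E)
    (hEs : ∀ i j, t.bc S lam S' (E i j) = E j i)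
    (hA' : IsAzumayaDeg R A' n) (t' : LamInv R A' lam)
    (E' : Fin n → Fin n → S' ⊗[S] A') (hE' : IsMatUnits E')
    (hEs' : ∀ i j, t'.bc S lam S' (E' i j) = E' j i) :
    ∃ f : S' ⊗[S] A ≃ₐ[S'] S' ⊗[S] A',
      (∀ (r : R) (x : S' ⊗[S] A),
        f (((1 : S') ⊗ₜ[S] algebraMap R A r) * x) = ((1 : S') ⊗ₜ[S] algebraMap R A' r) * f x) ∧
      ∀ x : S' ⊗[S] A, f (t.bc S lam S' x) = t'.bc S lam S' (f x) := by
  obtain ⟨f₁, h₁, k₁⟩ := split_of_symm_matUnits S' n hn hA E hE lam t hEs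
  obtain ⟨f₂, h₂, k₂⟩ := split_of_symm_matUnits S' n hn hA' E' hE' lam t' hEs'
  refine ⟨f₁.trans f₂.symm, ?_, ?_⟩
  · intro r x
    rw [AlgEquiv.trans_apply, AlgEquiv.trans_apply, h₁]
    apply f₂.injective
    rw [AlgEquiv.apply_symm_apply, h₂, AlgEquiv.apply_symm_apply]
  · intro x
    rw [AlgEquiv.trans_apply, AlgEquiv.trans_apply, k₁]
    apply f₂.injective
    rw [AlgEquiv.apply_symm_apply, k₂, AlgEquiv.apply_symm_apply]

/-- `LocIsoEt` from symmetric matrix units -/
theorem locIsoEt_of_symm_matUnits (S' : Type u) [CommRing S'] [Algebra S S'] [Algebra.Etale S S']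
    [Module.FaithfullyFlat S S'] (n : ℕ) (hn : 0 < n)
    (lam : R ≃ₐ[S] R)
    (hA : IsAzumayaDeg R A n) (t : LamInv R A lam)
    (E : Fin n → Fin n → S' ⊗[S] A) (hE : IsMatUnits E)
    (hEs : ∀ i j, t.bc S lam S' (E i j) = E j i)
    (hA' : IsAzumayaDeg R A' n) (t' : LamInv R A' lam)
    (E' : Fin n → Fin n → S' ⊗[S] A') (hE' : IsMatUnits E')
    (hEs' : ∀ i j, t'.bc S lam S' (E' i j) = E' j i) :
    LocIsoEt S lam t t' := by
  obtain ⟨f, h1, h2⟩ := iso_of_symm_matUnits S' n hn lam hA t E hE hEs hA' t' E' hE' hEs'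
  exact ⟨S', inferInstance, inferInstance, inferInstance, inferInstance, f, h1, h2⟩

section transport

variable {B : Type w'} [Ring B] [Algebra S B] [Algebra R B] [IsScalarTower S R B]

/-- symmetric matrix units are transported by algebra maps commuting with the involutions -/
theorem symm_matUnits_map (S' : Type u') [CommRing S'] [Algebra S S'] {n : ℕ}
    (lam : R ≃ₐ[S] R) (t : LamInv R A lam) (tB : LamInv R B lam) (ι : A →ₐ[S] B)
    (hι : ∀ a, ι (t a) = tB (ι a))
    (E : Fin n → Fin n → S' ⊗[S] A) (hE : IsMatUnits E)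
    (hEs : ∀ i j, t.bc S lam S' (E i j) = E j i) :
    ∃ E' : Fin n → Fin n → S' ⊗[S] B, IsMatUnits E' ∧ ∀ i j, tB.bc S lam S' (E' i j) = E' j i := by
  let Φ : S' ⊗[S] A →ₐ[S'] S' ⊗[S] B := Algebra.TensorProduct.map (AlgHom.id S' S') ι
  have hΦ : ∀ x, tB.bc S lam S' (Φ x) = Φ (t.bc S lam S' x) := by
    intro x
    induction x using TensorProduct.induction_on with
    | zero => simp
    | add x y hx hy => rw [map_add, map_add, map_add, map_add, hx, hy]
    | tmul s a =>
      show tB.bc S lam S' (s ⊗ₜ ι a) = Φ (t.bc S lam S' (s ⊗ₜ a))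
      rw [LamInv.bc_tmul, LamInv.bc_tmul, ← hι]
      rfl
  refine ⟨fun i j => Φ (E i j), hE.map (Φ : S' ⊗[S] A →+* S' ⊗[S] B), ?_⟩
  intro i j
  rw [hΦ, hEs]

end transport

end Groth.Agent.Lib.Helper3.SymIso
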