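import Mathlib.LinearAlgebra.Dimension.StrongRankCondition
import Mathlib.LinearAlgebra.Matrix.ToLinearEquiv
import Mathlib.RingTheory.Finiteness.Projective
import Mathlib.RingTheory.Spectrum.Prime.FreeLocus
import Groth.Agent.Lib.Helper3.LocSplit

/-!
# Local constancy of the rank of symmetric elements on the ramification locus (helper3)

For a finitely generated projective `R`-module `A` with a `lam`-semilinear additive involution `t`,
with `2` invertible, the dimension of the span of the symmetric elements in the fibre `κ(p) ⊗ A`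
is locally constant on the locus of primes `p` where `lam` is the identity modulo `p`
(provided the fibre rank of `A` is constant).  Ingredients: lower semicontinuity of the rank of
a finite family in the fibres, and the decomposition fibre = Sym ⊕ Skew at ramified primes.
-/

set_option autoImplicit false
open TensorProduct

namespace Groth.Agent.Lib.Helper3.SymRank

variable {R : Type*} [CommRing R] {A : Type*} [AddCommGroup A] [Module R A]

section approx
variable (p : Ideal R) [p.IsPrime]

lemma algebraMap_ne_zero {s : R} (hs : s ∉ p) : algebraMap R p.ResidueField s ≠ 0 := fun h =>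
  hs ((Ideal.algebraMap_residueField_eq_zero).mp h)

omit [p.IsPrime] in
lemma one_tmul_smul {K : Type*} [CommRing K] [Algebra R K] (c : R) (x : A) :
    (1 : K) ⊗ₜ[R] (c • x) = algebraMap R K c • ((1 : K) ⊗ₜ[R] x) := by
  rw [TensorProduct.smul_tmul', smul_eq_mul, mul_one, Algebra.algebraMap_eq_smul_one,
    TensorProduct.smul_tmul]

lemma exists_mul_eq_algebraMap (c : p.ResidueField) :
    ∃ (a s : R), s ∉ p ∧ algebraMap R p.ResidueField s * c = algebraMap R p.ResidueField a := by
  obtain ⟨x, rfl⟩ := IsLocalRing.residue_surjective (R := Localization.AtPrime p) c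
  obtain ⟨⟨a, s⟩, rfl⟩ := IsLocalization.mk'_surjective p.primeCompl x
  refine ⟨a, s.1, s.2, ?_⟩
  rw [IsScalarTower.algebraMap_apply R (Localization.AtPrime p) p.ResidueField,
    IsScalarTower.algebraMap_apply R (Localization.AtPrime p) p.ResidueField a]
  change IsLocalRing.residue _ _ * _ = IsLocalRing.residue _ _
  rw [← map_mul, IsLocalization.mk'_spec']

lemma exists_common_denominator {ι : Type*} [Fintype ι] (c : ι → p.ResidueField) :
    ∃ s : R, s ∉ p ∧ ∃ r : ι → R, ∀ k,
      algebraMap R p.ResidueField s * c k = algebraMap R p.ResidueField (r k) := by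
  classical
  choose a s hs h using fun k => exists_mul_eq_algebraMap p (c k)
  refine ⟨∏ k, s k, ?_, fun k => a k * ∏ j ∈ Finset.univ.erase k, s j, fun k => ?_⟩
  · intro hmem
    obtain ⟨i, -, hi⟩ := (Ideal.IsPrime.prod_mem_iff (hp := inferInstance)).mp hmem
    exact hs i hi
  · rw [← Finset.mul_prod_erase Finset.univ s (Finset.mem_univ k), map_mul, map_mul, mul_right_comm,
      h k]

variable [Module.Finite R A] [Module.Projective R A]

theorem exists_dual_approx (l : p.ResidueField ⊗[R] A →ₗ[p.ResidueField] p.ResidueField) :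
    ∃ (ψ : A →ₗ[R] R) (s : R), s ∉ p ∧ ∀ a : A,
      algebraMap R p.ResidueField (ψ a) = algebraMap R p.ResidueField s * l (1 ⊗ₜ[R] a) := by
  classical
  obtain ⟨m, π, i, -, -, hπi⟩ := Module.Finite.exists_comp_eq_id_of_projective R A
  obtain ⟨s, hs, r, hr⟩ := exists_common_denominator p
    (fun k : Fin m => l (1 ⊗ₜ[R] π (Pi.single k 1)))
  refine ⟨∑ k, r k • (LinearMap.proj k ∘ₗ i), s, hs, fun a => ?_⟩
  have ha : a = ∑ k, (i a k) • π (Pi.single k 1) := by
    conv_lhs => rw [← LinearMap.id_apply (R := R) a, ← hπi, LinearMap.comp_apply]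
    conv_lhs => rw [← Finset.univ_sum_single (i a)]
    rw [map_sum]
    refine Finset.sum_congr rfl fun k _ => ?_
    rw [← map_smul]
    congr 1
    ext j
    simp [Pi.single_apply]
  conv_rhs => rw [ha, TensorProduct.tmul_sum, map_sum, Finset.mul_sum]
  simp only [LinearMap.coe_sum, Finset.sum_apply, LinearMap.smul_apply, LinearMap.comp_apply,
    LinearMap.proj_apply, smul_eq_mul, map_sum, map_mul]
  refine Finset.sum_congr rfl fun k _ => ?_
  rw [one_tmul_smul, map_smul, smul_eq_mul, ← hr k]
  ring

omit [Module.Finite R A] [Module.Projective R A] in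
theorem linearIndependent_of_det_notMem {d : ℕ} (ψ : Fin d → A →ₗ[R] R) (a : Fin d → A)
    (h : (Matrix.of fun i j => ψ j (a i)).det ∉ p) :
    LinearIndependent p.ResidueField (fun i => (1 : p.ResidueField) ⊗ₜ[R] a i) := by
  classical
  rw [Fintype.linearIndependent_iff]
  intro c hc
  let ψ' : Fin d → (p.ResidueField ⊗[R] A →ₗ[p.ResidueField] p.ResidueField) := fun j =>
    LinearMap.liftBaseChange p.ResidueField ((Algebra.linearMap R p.ResidueField) ∘ₗ ψ j)
  have hψ' : ∀ j i, ψ' j ((1 : p.ResidueField) ⊗ₜ[R] a i) =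
      algebraMap R p.ResidueField (ψ j (a i)) := by
    intro j i
    simp [ψ']
  set G : Matrix (Fin d) (Fin d) R := Matrix.of fun i j => ψ j (a i) with hG
  have hdet : (G.map (algebraMap R p.ResidueField)).det ≠ 0 := by
    rw [← RingHom.mapMatrix_apply, ← RingHom.map_det]
    exact algebraMap_ne_zero p h
  have hv : Matrix.vecMul c (G.map (algebraMap R p.ResidueField)) = 0 := by
    ext j
    have := congrArg (ψ' j) hc
    rw [map_sum, map_zero] at this
    simp only [map_smul, hψ', smul_eq_mul] at this
    simpa [Matrix.vecMul, dotProduct, hG] using this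
  have := Matrix.eq_zero_of_vecMul_eq_zero hdet hv
  intro i
  exact congrFun this i

theorem exists_open_linearIndependent {d : ℕ} (a : Fin d → A)
    (h : LinearIndependent p.ResidueField (fun i => (1 : p.ResidueField) ⊗ₜ[R] a i)) :
    ∃ f : R, f ∉ p ∧ ∀ (p' : Ideal R) [p'.IsPrime], f ∉ p' →
      LinearIndependent p'.ResidueField (fun i => (1 : p'.ResidueField) ⊗ₜ[R] a i) := by
  classical
  set v : Fin d → p.ResidueField ⊗[R] A := fun i => (1 : p.ResidueField) ⊗ₜ[R] a i with hv
  have hinj : LinearMap.ker (Fintype.linearCombination p.ResidueField v) = ⊥ := by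
    rw [LinearMap.ker_eq_bot]
    exact h.fintypeLinearCombination_injective
  obtain ⟨g, hg⟩ := LinearMap.exists_leftInverse_of_injective _ hinj
  have hgv : ∀ i j, g (v i) j = if i = j then 1 else 0 := by
    intro i j
    have : v i = Fintype.linearCombination p.ResidueField v (Pi.single i 1) := by
      simp [Fintype.linearCombination_apply, Pi.single_apply]
    rw [this, ← LinearMap.comp_apply, hg, LinearMap.id_apply, Pi.single_apply]
    simp [eq_comm]
  choose ψ s hs hψ using fun j : Fin d => exists_dual_approx p (LinearMap.proj j ∘ₗ g)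
  refine ⟨(Matrix.of fun i j => ψ j (a i)).det, ?_, fun p' _ hp' =>
    linearIndependent_of_det_notMem p' ψ a hp'⟩
  intro hmem
  have h0 : algebraMap R p.ResidueField (Matrix.of fun i j => ψ j (a i)).det = 0 :=
    Ideal.algebraMap_residueField_eq_zero.mpr hmem
  rw [RingHom.map_det] at h0
  have hdiag : (algebraMap R p.ResidueField).mapMatrix (Matrix.of fun i j => ψ j (a i)) =
      Matrix.diagonal fun j => algebraMap R p.ResidueField (s j) := by
    ext i j
    simp only [RingHom.mapMatrix_apply, Matrix.map_apply, Matrix.of_apply, hψ, LinearMap.comp_apply,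
      LinearMap.proj_apply]
    rw [show (1 : p.ResidueField) ⊗ₜ[R] a i = v i from rfl, hgv, Matrix.diagonal_apply]
    split_ifs <;> simp_all
  rw [hdiag, Matrix.det_diagonal, Finset.prod_eq_zero_iff] at h0
  obtain ⟨j, -, hj⟩ := h0
  exact algebraMap_ne_zero p (hs j) hj

end approx

section symskew

variable (t : A → A) (lam : R → R) (p : Ideal R) [p.IsPrime]

/-- the span of the images of the `t`-symmetric elements in the fibre at `p` -/
noncomputable def SymSpan : Submodule p.ResidueField (p.ResidueField ⊗[R] A) :=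
  Submodule.span p.ResidueField
    (Set.range fun a : {a : A // t a = a} => (1 : p.ResidueField) ⊗ₜ[R] (a : A))

/-- the span of the images of the `t`-skew elements in the fibre at `p` -/
noncomputable def SkewSpan : Submodule p.ResidueField (p.ResidueField ⊗[R] A) :=
  Submodule.span p.ResidueField
    (Set.range fun a : {a : A // t a = -a} => (1 : p.ResidueField) ⊗ₜ[R] (a : A))

variable (ht_add : ∀ a b, t (a + b) = t a + t b) (ht_smul : ∀ (r : R) (a : A), t (r • a) = lam r • t a)
  (ht_inv : ∀ a, t (t a) = a) (h2 : IsUnit (2 : R))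

include ht_add in
lemma t_neg (a : A) : t (-a) = - t a := map_neg (AddMonoidHom.mk' t ht_add) a

include ht_add in
lemma t_sub (a b : A) : t (a - b) = t a - t b := map_sub (AddMonoidHom.mk' t ht_add) a b

include ht_add ht_inv h2 in
lemma symSpan_sup_skewSpan : SymSpan t p ⊔ SkewSpan t p = ⊤ := by
  rw [eq_top_iff]
  rintro z -
  have h2K : IsUnit (2 : p.ResidueField) := by
    have := h2.map (algebraMap R p.ResidueField)
    rwa [map_ofNat] at this
  induction z using TensorProduct.induction_on with
  | zero => exact zero_mem _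
  | add x y hx hy => exact add_mem hx hy
  | tmul x a =>
    have hx : x ⊗ₜ[R] a = x • ((1 : p.ResidueField) ⊗ₜ[R] a) := by
      rw [TensorProduct.smul_tmul', smul_eq_mul, mul_one]
    rw [hx]
    refine Submodule.smul_mem _ _ ?_
    have hsym : (1 : p.ResidueField) ⊗ₜ[R] (a + t a) ∈ SymSpan t p :=
      Submodule.subset_span ⟨⟨a + t a, by rw [ht_add, ht_inv, add_comm]⟩, rfl⟩
    have hskew : (1 : p.ResidueField) ⊗ₜ[R] (a - t a) ∈ SkewSpan t p :=
      Submodule.subset_span ⟨⟨a - t a, by rw [t_sub t ht_add, ht_inv, neg_sub]⟩, rfl⟩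
    have hsum : (2 : p.ResidueField) • ((1 : p.ResidueField) ⊗ₜ[R] a) =
        (1 : p.ResidueField) ⊗ₜ[R] (a + t a) + (1 : p.ResidueField) ⊗ₜ[R] (a - t a) := by
      rw [← TensorProduct.tmul_add, two_smul, ← TensorProduct.tmul_add]
      congr 1
      abel
    have : (1 : p.ResidueField) ⊗ₜ[R] a = (2 : p.ResidueField)⁻¹ •
        ((1 : p.ResidueField) ⊗ₜ[R] (a + t a) + (1 : p.ResidueField) ⊗ₜ[R] (a - t a)) := by
      rw [← hsum, smul_smul, inv_mul_cancel₀ h2K.ne_zero, one_smul]
    rw [this]
    exact Submodule.smul_mem _ _ (add_mem (Submodule.mem_sup_left hsym) (Submodule.mem_sup_right hskew))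

/-- the `κ(p)`-linear extension of `t` to the fibre at a ramified prime -/
noncomputable def tFib (hp : ∀ r : R, lam r - r ∈ p) :
    p.ResidueField ⊗[R] A →ₗ[p.ResidueField] p.ResidueField ⊗[R] A :=
  LinearMap.liftBaseChange p.ResidueField
    { toFun := fun a => (1 : p.ResidueField) ⊗ₜ[R] t a
      map_add' := fun a b => by rw [ht_add, TensorProduct.tmul_add]
      map_smul' := fun r a => by
        have : algebraMap R p.ResidueField (lam r) = algebraMap R p.ResidueField r := by
          rw [← sub_eq_zero, ← map_sub]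
          exact Ideal.algebraMap_residueField_eq_zero.mpr (hp r)
        rw [ht_smul, one_tmul_smul, this, RingHom.id_apply, algebraMap_smul] }

lemma tFib_one_tmul (hp : ∀ r : R, lam r - r ∈ p) (a : A) :
    tFib t lam p ht_add ht_smul hp ((1 : p.ResidueField) ⊗ₜ[R] a) = (1 : p.ResidueField) ⊗ₜ[R] t a := by
  simp [tFib]

include ht_add ht_smul h2 in
lemma symSpan_inf_skewSpan (hp : ∀ r : R, lam r - r ∈ p) : SymSpan t p ⊓ SkewSpan t p = ⊥ := by
  rw [eq_bot_iff]
  intro z hz
  have h2K : IsUnit (2 : p.ResidueField) := by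
    have := h2.map (algebraMap R p.ResidueField)
    rwa [map_ofNat] at this
  set T := tFib t lam p ht_add ht_smul hp with hT
  have h1 : SymSpan t p ≤ LinearMap.eqLocus T LinearMap.id := by
    refine Submodule.span_le.mpr ?_
    rintro _ ⟨⟨a, ha⟩, rfl⟩
    simp only [SetLike.mem_coe, LinearMap.mem_eqLocus, LinearMap.id_apply]
    rw [hT, tFib_one_tmul, ha]
  have h2' : SkewSpan t p ≤ LinearMap.eqLocus T (-LinearMap.id) := by
    refine Submodule.span_le.mpr ?_
    rintro _ ⟨⟨a, ha⟩, rfl⟩
    simp only [SetLike.mem_coe, LinearMap.mem_eqLocus, LinearMap.neg_apply, LinearMap.id_apply]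
    rw [hT, tFib_one_tmul, ha, TensorProduct.tmul_neg]
  have e1 := h1 hz.1
  have e2 := h2' hz.2
  simp only [LinearMap.mem_eqLocus, LinearMap.id_apply, LinearMap.neg_apply] at e1 e2
  have : (2 : p.ResidueField) • z = 0 := by
    rw [two_smul]
    nth_rewrite 1 [← e1]
    rw [e2, neg_add_cancel]
  rw [Submodule.mem_bot]
  exact (smul_eq_zero.mp this).resolve_left h2K.ne_zero

include ht_add ht_smul ht_inv h2 in
lemma finrank_symSpan_add [Module.Finite R A] (hp : ∀ r : R, lam r - r ∈ p) :
    Module.finrank p.ResidueField (SymSpan t p) + Module.finrank p.ResidueField (SkewSpan t p) =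
      Module.finrank p.ResidueField (p.ResidueField ⊗[R] A) := by
  rw [← Submodule.finrank_sup_add_finrank_inf_eq, symSpan_sup_skewSpan t p ht_add ht_inv h2,
    symSpan_inf_skewSpan t lam p ht_add ht_smul h2 hp, finrank_top, finrank_bot, add_zero]

include ht_add ht_smul ht_inv h2 in
theorem exists_open_finrank_symSpan_eq [Module.Finite R A] [Module.Projective R A]
    (hp : ∀ r : R, lam r - r ∈ p) (N : ℕ)
    (hN : ∀ (p' : Ideal R) [p'.IsPrime],
      Module.finrank p'.ResidueField (p'.ResidueField ⊗[R] A) = N) :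
    ∃ f : R, f ∉ p ∧ ∀ (p' : Ideal R) [p'.IsPrime], (∀ r : R, lam r - r ∈ p') → f ∉ p' →
      Module.finrank p'.ResidueField (SymSpan t p') = Module.finrank p.ResidueField (SymSpan t p) := by
  classical
  obtain ⟨a, ha_mem, -, ha_li⟩ := Submodule.exists_fun_fin_finrank_span_eq p.ResidueField
    (Set.range fun a : {a : A // t a = a} => (1 : p.ResidueField) ⊗ₜ[R] (a : A))
  choose a' ha' using ha_mem
  obtain ⟨b, hb_mem, -, hb_li⟩ := Submodule.exists_fun_fin_finrank_span_eq p.ResidueField
    (Set.range fun a : {a : A // t a = -a} => (1 : p.ResidueField) ⊗ₜ[R] (a : A))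
  choose b' hb' using hb_mem
  have ha_li' : LinearIndependent p.ResidueField
      (fun i => (1 : p.ResidueField) ⊗ₜ[R] ((a' i : {a : A // t a = a}) : A)) := by
    have : (fun i => (1 : p.ResidueField) ⊗ₜ[R] ((a' i : {a : A // t a = a}) : A)) = a :=
      funext ha'
    rw [this]
    exact ha_li
  have hb_li' : LinearIndependent p.ResidueField
      (fun i => (1 : p.ResidueField) ⊗ₜ[R] ((b' i : {a : A // t a = -a}) : A)) := by
    have : (fun i => (1 : p.ResidueField) ⊗ₜ[R] ((b' i : {a : A // t a = -a}) : A)) = b :=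
      funext hb'
    rw [this]
    exact hb_li
  obtain ⟨f1, hf1, H1⟩ := exists_open_linearIndependent p _ ha_li'
  obtain ⟨f2, hf2, H2⟩ := exists_open_linearIndependent p _ hb_li'
  refine ⟨f1 * f2, fun h => (Ideal.IsPrime.mem_or_mem inferInstance h).elim hf1 hf2,
    fun p' _ hp' hf => ?_⟩
  have hf1' : f1 ∉ p' := fun h => hf (Ideal.mul_mem_right _ _ h)
  have hf2' : f2 ∉ p' := fun h => hf (Ideal.mul_mem_left _ _ h)
  have hs : Module.finrank p.ResidueField (SymSpan t p) ≤
      Module.finrank p'.ResidueField (SymSpan t p') := by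
    let w : Fin (Module.finrank p.ResidueField (SymSpan t p)) → SymSpan t p' := fun i =>
      ⟨(1 : p'.ResidueField) ⊗ₜ[R] ((a' i : {a : A // t a = a}) : A),
        Submodule.subset_span ⟨a' i, rfl⟩⟩
    have hw : LinearIndependent p'.ResidueField w :=
      LinearIndependent.of_comp (SymSpan t p').subtype (H1 p' hf1')
    simpa using hw.fintype_card_le_finrank
  have hk : Module.finrank p.ResidueField (SkewSpan t p) ≤
      Module.finrank p'.ResidueField (SkewSpan t p') := by
    let w : Fin (Module.finrank p.ResidueField (SkewSpan t p)) → SkewSpan t p' := fun i =>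
      ⟨(1 : p'.ResidueField) ⊗ₜ[R] ((b' i : {a : A // t a = -a}) : A),
        Submodule.subset_span ⟨b' i, rfl⟩⟩
    have hw : LinearIndependent p'.ResidueField w :=
      LinearIndependent.of_comp (SkewSpan t p').subtype (H2 p' hf2')
    simpa using hw.fintype_card_le_finrank
  have e1 := finrank_symSpan_add t lam p ht_add ht_smul ht_inv h2 hp
  have e2 := finrank_symSpan_add t lam p' ht_add ht_smul ht_inv h2 hp'
  rw [hN p] at e1
  rw [hN p'] at e2
  omega

end symskew

end Groth.Agent.Lib.Helper3.SymRank
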