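import Groth.Agent.Lib.Helper3.SymplCongGen

/-! Approximate symplectic normal form of skew-hermitian matrices over a local ring with residually
trivial involution, without henselian hypotheses (helper3). -/

set_option autoImplicit false
universe u

open Matrix AzInv

namespace Groth.Agent.Lib.Helper3.SymplApprox

open Groth.Agent.Lib.Helper3.HermCong Groth.Agent.Lib.Helper3.SymplCong
  Groth.Agent.Lib.Helper3.SymplCongGen IsLocalRing

variable {K : Type*} [CommRing K] [IsLocalRing K] (σ : K →+* K)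

/-- block diagonal with `2 × 2` blocks congruent to `-J2` modulo the maximal ideal -/
def ApproxJ (k : ℕ) (d : Matrix (Fin k × Fin 2) (Fin k × Fin 2) K) : Prop :=
  ∀ p q, (p.1 ≠ q.1 → d p q = 0) ∧ (p.1 = q.1 → d p q + J2 p.2 q.2 ∈ maximalIdeal K)

lemma approx_reindex (k : ℕ) (d : Matrix (Fin k × Fin 2) (Fin k × Fin 2) K)
    (D : Matrix (Fin 2) (Fin 2) K) (hd : ApproxJ k d)
    (hD : ∀ x y, D x y + J2 x y ∈ maximalIdeal K) :
    ApproxJ (k + 1) (Matrix.reindex (E k) (E k) (Matrix.fromBlocks d 0 0 D)) := by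
  intro p q
  obtain ⟨p, rfl⟩ := (E k).surjective p
  obtain ⟨q, rfl⟩ := (E k).surjective q
  rw [Matrix.reindex_apply, Matrix.submatrix_apply, Equiv.symm_apply_apply,
    Equiv.symm_apply_apply]
  rcases p with ⟨a, x⟩ | x <;> rcases q with ⟨b, y⟩ | y
  · simp only [Matrix.fromBlocks_apply₁₁, E_inl]
    constructor
    · intro h
      exact (hd (a, x) (b, y)).1 (fun h' => h (congrArg (Fin.castAdd 1) h'))
    · intro h
      exact (hd (a, x) (b, y)).2 (Fin.castAdd_injective k 1 h)
  · simp only [Matrix.fromBlocks_apply₁₂, Matrix.zero_apply, E_inl, E_inr]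
    refine ⟨fun _ => trivial, fun h => ?_⟩
    exfalso
    have := congrArg Fin.val h
    simp at this
    omega
  · simp only [Matrix.fromBlocks_apply₂₁, Matrix.zero_apply, E_inl, E_inr]
    refine ⟨fun _ => trivial, fun h => ?_⟩
    exfalso
    have := congrArg Fin.val h
    simp at this
    omega
  · simp only [Matrix.fromBlocks_apply₂₂, E_inr]
    exact ⟨fun h => absurd rfl h, fun _ => hD x y⟩

/-- approximate normal form of invertible skew-hermitian matrices over a local ring with
residually trivial involution and `2` invertible -/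
theorem exists_cong_approx (hσ : ∀ a, σ (σ a) = a) (h2 : IsUnit (2 : K))
    (hσm : ∀ a, σ a - a ∈ maximalIdeal K) :
    ∀ (k : ℕ) (c : Matrix (Fin k × Fin 2) (Fin k × Fin 2) K), IsUnit c →
      lamTr σ c = -c → ∃ d, Cong σ c d ∧ ApproxJ k d := by
  intro k
  induction k with
  | zero =>
    intro c _ _
    refine ⟨c, Cong.refl _ c, ?_⟩
    intro p
    exact p.1.elim0
  | succ k ih =>
    intro c hc hs
    have hdiag : ∀ (c' : Matrix (Fin (k + 1) × Fin 2) (Fin (k + 1) × Fin 2) K),
        lamTr σ c' = -c' → ∀ p, c' p p ∈ maximalIdeal K := by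
      intro c' hs' p
      apply mem_of_skew σ h2 hσm
      have h := congrFun (congrFun hs' p) p
      rw [lamTr_apply, Matrix.neg_apply] at h
      exact h
    obtain ⟨p, q, hpq⟩ := exists_unit_entry c hc
    have hne : p ≠ q := by
      rintro rfl
      exact (hdiag c hs p) hpq
    set l0 : Fin (k + 1) × Fin 2 := E k (Sum.inr 0) with hl0
    set l1 : Fin (k + 1) × Fin 2 := E k (Sum.inr 1) with hl1
    have hl01 : l0 ≠ l1 := by
      rw [hl0, hl1]
      intro h
      have := (E k).injective h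
      simp at this
    set e₁ : Fin (k + 1) × Fin 2 ≃ Fin (k + 1) × Fin 2 := Equiv.swap l0 p with he₁
    set q' := e₁ q with hq'
    have hq'0 : q' ≠ l0 := by
      intro h
      have : e₁ q' = e₁ l0 := by rw [h]
      rw [hq', he₁, Equiv.swap_apply_self, Equiv.swap_apply_left] at this
      exact hne this.symm
    set e₂ : Fin (k + 1) × Fin 2 ≃ Fin (k + 1) × Fin 2 := Equiv.swap l1 q' with he₂
    set e := e₂.trans e₁ with he
    have hel0 : e l0 = p := by
      rw [he, Equiv.trans_apply, he₂, Equiv.swap_apply_of_ne_of_ne hl01 (Ne.symm hq'0), he₁,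
        Equiv.swap_apply_left]
    have hel1 : e l1 = q := by
      rw [he, Equiv.trans_apply, he₂, Equiv.swap_apply_left, hq', he₁, Equiv.swap_apply_self]
    set c₂ := c.submatrix e e with hc₂def
    have hcong₂ : Cong σ c c₂ := Cong.perm _ e c
    have hc₂ := hcong₂.isUnit _ hc
    have hs₂ := hcong₂.skew _ hσ hs
    have hll : IsUnit (c₂ l0 l1) := by
      rw [hc₂def, Matrix.submatrix_apply, hel0, hel1]
      exact hpq
    set c₃ : Matrix ((Fin k × Fin 2) ⊕ Fin 2) ((Fin k × Fin 2) ⊕ Fin 2) K :=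
      Matrix.reindex (E k).symm (E k).symm c₂ with hc₃def
    have hc₃ : IsUnit c₃ := by
      rw [Matrix.isUnit_iff_isUnit_det, hc₃def, Matrix.det_reindex_self]
      exact (Matrix.isUnit_iff_isUnit_det _).mp hc₂
    have hs₃ : lamTr σ c₃ = -c₃ := by
      rw [hc₃def, Matrix.reindex_apply, lamTr_submatrix, hs₂]
      rfl
    set A := c₃.toBlocks₁₁ with hA
    set B := c₃.toBlocks₁₂ with hB
    set C := c₃.toBlocks₂₁ with hC
    set D := c₃.toBlocks₂₂ with hD
    have hfb : c₃ = Matrix.fromBlocks A B C D := (Matrix.fromBlocks_toBlocks c₃).symm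
    have hDab : ∀ a b, D a b = c₂ (E k (Sum.inr a)) (E k (Sum.inr b)) := fun a b => rfl
    have hD00 : D 0 0 ∈ maximalIdeal K := by rw [hDab]; exact hdiag c₂ hs₂ _
    have hD11 : D 1 1 ∈ maximalIdeal K := by rw [hDab]; exact hdiag c₂ hs₂ _
    have hD10 : D 1 0 = - σ (D 0 1) := by
      rw [hDab, hDab]
      have h := congrFun (congrFun hs₂ (E k (Sum.inr 1))) (E k (Sum.inr 0))
      rw [lamTr_apply, Matrix.neg_apply] at h
      rw [h, neg_neg]
    have hD01 : IsUnit (D 0 1) := hll
    have hDeta : D = !![D 0 0, D 0 1; -σ (D 0 1), D 1 1] := by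
      rw [← hD10]
      exact Matrix.eta_fin_two D
    have hDu : IsUnit D := by
      rw [Matrix.isUnit_iff_isUnit_det, Matrix.det_fin_two, hD10]
      have : D 0 0 * D 1 1 - D 0 1 * -σ (D 0 1) = D 0 1 * σ (D 0 1) + D 0 0 * D 1 1 := by ring
      rw [this]
      exact isUnit_add_of_mem (hD01.mul (hD01.map σ)) ((maximalIdeal K).mul_mem_left _ hD11)
    have hs₃' := hs₃
    rw [hfb, lamTr_fromBlocks, Matrix.fromBlocks_neg, Matrix.fromBlocks_inj] at hs₃'
    obtain ⟨hAA, hCB, hBC, hDD⟩ := hs₃'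
    have hcong₃ := Cong.schur_skew σ A B C D hDu hCB hDD
    rw [← hfb] at hcong₃
    set Sc := A - B * D⁻¹ * C with hSc
    have hu₄ := hcong₃.isUnit _ hc₃
    have hs₄ := hcong₃.skew _ hσ hs₃
    rw [lamTr_fromBlocks, Matrix.fromBlocks_neg, Matrix.fromBlocks_inj] at hs₄
    have hScu : IsUnit Sc := by
      rw [Matrix.isUnit_iff_isUnit_det, Matrix.det_fromBlocks_zero₂₁] at hu₄
      exact (Matrix.isUnit_iff_isUnit_det _).mpr (isUnit_of_mul_isUnit_left hu₄)
    obtain ⟨d, hih, hdA⟩ := ih Sc hScu hs₄.1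
    -- normalise the `2 × 2` block
    obtain ⟨uu, huu⟩ := hD01
    set ui : K := ↑uu⁻¹ with hui
    have huui : D 0 1 * ui = 1 := by rw [← huu]; exact Units.mul_inv uu
    have hσuui : σ (D 0 1) * σ ui = 1 := by rw [← map_mul, huui, map_one]
    have hDJ : Cong σ D !![D 0 0, 1; -1, σ ui * D 1 1 * ui] := by
      have h1 := cong_scale σ (D 0 0) (D 0 1) (-σ (D 0 1)) (D 1 1) ui ⟨uu⁻¹, rfl⟩
      rw [← hDeta] at h1
      have a1 : σ ui * -σ (D 0 1) = -1 := by rw [mul_neg, mul_comm, hσuui]
      rw [huui, a1] at h1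
      exact h1
    have hcong₄ := Cong.blockDiag σ hih hDJ
    have hcong₅ := (hcong₃.trans _ hcong₄).reindex _ (E k)
    have hback : Matrix.reindex (E k) (E k) c₃ = c₂ := by
      rw [hc₃def]
      ext a b
      simp
    rw [hback] at hcong₅
    refine ⟨_, hcong₂.trans _ hcong₅, approx_reindex k d _ hdA ?_⟩
    intro x y
    fin_cases x <;> fin_cases y
    · simpa [J2] using hD00
    · simp [J2]
    · simp [J2]
    · simp only [J2, Fin.mk_one, Fin.isValue, of_apply, cons_val', cons_val_one, cons_val_fin_one,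
        add_zero]
      exact (maximalIdeal K).mul_mem_right _ ((maximalIdeal K).mul_mem_left _ hD11)

end Groth.Agent.Lib.Helper3.SymplApprox
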