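import Mathlib.RingTheory.Flat.EquationalCriterion
import Mathlib.RingTheory.Flat.FaithfullyFlat.Algebra
import Mathlib.RingTheory.Spectrum.Prime.FreeLocus
import Groth.Agent.Lib.Helper1.PiTensorAlg
import Groth.Agent.Lib.Helper3.AzumayaTensor
import Groth.Agent.Lib.Helper3.AzumayaBaseChange
import Groth.Agent.Lib.Helper3.Goldman
import Groth.Agent.Lib.Helper3.SplitCrit
import Groth.Agent.Lib.Helper3.AzSplit
import Groth.Agent.S14967

/-!
# The `n`-th tensor power of an Azumaya algebra of degree `n` is split (helper3)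

`exists_tpow_algEquiv_end`: for `A` Azumaya of constant rank `n²`, `A^{⊗n} ≃ End_R(E)` with `E`
finite projective of rank `n^n` (`E = A^{⊗n} s`, `s` a preimage of the antisymmetriser).
-/

set_option autoImplicit false
universe u v w

open TensorProduct PiTensorProduct

namespace Groth.Agent.Lib.Helper3.TorsionSplit


section tpow

variable (R : Type u) [CommRing R] (A : Type v) [Ring A] [Algebra R A] [IsAzumaya R A]

open Groth.Agent.Lib.Helper1 in
theorem isAzumaya_tpow (m : ℕ) : IsAzumaya R (⨂[R] _ : Fin m, A) := by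
  induction m with
  | zero => exact IsAzumaya.of_AlgEquiv R R _ (PiAlg.tpowZero R A).symm
  | succ m ih =>
    haveI := ih
    haveI : IsAzumaya R ((⨂[R] _ : Fin m, A) ⊗[R] A) := Az.isAzumaya_tensor R _ _
    exact IsAzumaya.of_AlgEquiv R _ _ (PiAlg.tpowSucc R A m).symm

open Groth.Agent.Lib.Helper1 in
theorem rankAtStalk_tpow (d : ℕ) (hrk : ∀ p : PrimeSpectrum R, Module.rankAtStalk A p = d) (m : ℕ)
    (p : PrimeSpectrum R) :
    haveI := isAzumaya_tpow R A m
    Module.rankAtStalk (⨂[R] _ : Fin m, A) p = d ^ m := by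
  induction m with
  | zero =>
    haveI := isAzumaya_tpow R A 0
    haveI : Nontrivial R := p.nontrivial
    rw [Module.rankAtStalk_eq_of_equiv (PiAlg.tpowZero R A).toLinearEquiv, Module.rankAtStalk_self,
      pow_zero]
    rfl
  | succ m ih =>
    haveI := isAzumaya_tpow R A m
    haveI := isAzumaya_tpow R A (m + 1)
    rw [Module.rankAtStalk_eq_of_equiv (PiAlg.tpowSucc R A m).toLinearEquiv,
      Module.rankAtStalk_tensorProduct, Pi.mul_apply, ih, hrk, pow_succ]

end tpow


section leftIdeal

variable {R : Type u} [CommRing R] {B : Type v} [Ring B] [Algebra R B] (s : B)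

/-- the left ideal `B s` as an `R`-submodule -/
noncomputable def leftIdeal : Submodule R B := LinearMap.range (LinearMap.mulRight R s)

lemma mul_mem_leftIdeal (b : B) {e : B} (he : e ∈ leftIdeal (R := R) s) :
    b * e ∈ leftIdeal (R := R) s := by
  obtain ⟨x, rfl⟩ := he
  exact ⟨b * x, by simp [mul_assoc]⟩

/-- left multiplication on the left ideal -/
noncomputable def leftMulOn (b : B) : leftIdeal (R := R) s →ₗ[R] leftIdeal (R := R) s where
  toFun e := ⟨b * e.1, mul_mem_leftIdeal s b e.2⟩
  map_add' e₁ e₂ := Subtype.ext (by simp [mul_add])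
  map_smul' c e := Subtype.ext (by simp)

lemma leftMulOn_coe (b : B) (e : leftIdeal (R := R) s) : ((leftMulOn s b e : leftIdeal (R := R) s) : B) = b * e :=
  rfl

/-- `B` acts on the left ideal `B s` -/
noncomputable def leftAct : B →ₐ[R] Module.End R (leftIdeal (R := R) s) where
  toFun b := leftMulOn s b
  map_one' := by
    ext e
    rw [leftMulOn_coe, one_mul]; rfl
  map_mul' a b := by
    ext e
    rw [Module.End.mul_apply, leftMulOn_coe, leftMulOn_coe, leftMulOn_coe, mul_assoc]
  map_zero' := by
    ext e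
    rw [leftMulOn_coe, zero_mul]; rfl
  map_add' a b := by
    ext e
    rw [LinearMap.add_apply, Submodule.coe_add, leftMulOn_coe, leftMulOn_coe, leftMulOn_coe, add_mul]
  commutes' r := by
    ext e
    rw [leftMulOn_coe, Module.algebraMap_end_apply, Submodule.coe_smul, Algebra.smul_def]

end leftIdeal

section bc

variable {R : Type u} [CommRing R] {B : Type v} [Ring B] [Algebra R B]
  {S : Type w} [CommRing S] [Algebra R S] [Module.Flat R S]
  {W : Type*} [AddCommGroup W] [Module S W] {C : Type*} [Ring C] [Algebra S C]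

lemma baseChange_mulRight (s : B) (z : S ⊗[R] B) :
    (LinearMap.mulRight R s).baseChange S z = z * (1 ⊗ₜ s) := by
  induction z using TensorProduct.induction_on with
  | zero => simp
  | tmul t b =>
    rw [LinearMap.baseChange_tmul, LinearMap.mulRight_apply, Algebra.TensorProduct.tmul_mul_tmul,
      mul_one]
  | add x y hx hy => rw [map_add, hx, hy, add_mul]

/-- the base change of the left ideal `B s` is the left ideal generated by the image of `s` -/
theorem nonempty_baseChange_leftIdeal_equiv (Φ : S ⊗[R] B ≃ₐ[S] C) (s : B) (j : W →ₗ[S] C)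
    (hj : Function.Injective j)
    (hrange : LinearMap.range (LinearMap.mulRight S (Φ (1 ⊗ₜ s))) = LinearMap.range j) :
    Nonempty (S ⊗[R] leftIdeal (R := R) s ≃ₗ[S] W) := by
  let incl : leftIdeal (R := R) s →ₗ[R] B := (leftIdeal (R := R) s).subtype
  let π : B →ₗ[R] leftIdeal (R := R) s := (LinearMap.mulRight R s).rangeRestrict
  have hπ : Function.Surjective π := LinearMap.surjective_rangeRestrict _
  have hcomp : incl ∘ₗ π = LinearMap.mulRight R s := by
    ext x
    rfl
  let Ψ : S ⊗[R] leftIdeal (R := R) s →ₗ[S] C := Φ.toLinearMap ∘ₗ incl.baseChange S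
  have hΨinj : Function.Injective Ψ := by
    apply Function.Injective.comp Φ.injective
    exact Module.Flat.lTensor_preserves_injective_linearMap incl (Submodule.injective_subtype _)
  have hΨπ : ∀ z : S ⊗[R] B, Ψ (π.baseChange S z) = Φ z * Φ (1 ⊗ₜ s) := by
    intro z
    change Φ (incl.baseChange S (π.baseChange S z)) = _
    rw [← LinearMap.comp_apply, ← LinearMap.baseChange_comp, hcomp, baseChange_mulRight, map_mul]
  have hπS : Function.Surjective (π.baseChange S) := LinearMap.lTensor_surjective S hπ
  have hΨrange : LinearMap.range Ψ = LinearMap.range j := by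
    rw [← hrange]
    ext c
    constructor
    · rintro ⟨y, rfl⟩
      obtain ⟨z, rfl⟩ := hπS y
      exact ⟨Φ z, by rw [LinearMap.mulRight_apply, hΨπ]⟩
    · rintro ⟨N, rfl⟩
      obtain ⟨z, rfl⟩ := Φ.surjective N
      exact ⟨π.baseChange S z, by rw [LinearMap.mulRight_apply, hΨπ]⟩
  exact ⟨(LinearEquiv.ofInjective Ψ hΨinj).trans
    ((LinearEquiv.ofEq _ _ hΨrange).trans (LinearEquiv.ofInjective j hj).symm)⟩

end bc

section descent

variable {R : Type u} [CommRing R] {S : Type v} [CommRing S] [Algebra R S]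
  [Module.FaithfullyFlat R S] {E : Type w} [AddCommGroup E] [Module R E]
  {W : Type*} [AddCommGroup W] [Module S W] [Module.Finite S W] [Module.Free S W]

theorem projective_of_baseChange_free (e : S ⊗[R] E ≃ₗ[S] W) :
    Module.Finite R E ∧ Module.Projective R E ∧
      ∀ p : PrimeSpectrum R, Module.rankAtStalk E p = Module.finrank S W := by
  haveI : Module.Finite S (S ⊗[R] E) := Module.Finite.equiv e.symm
  haveI : Module.Free S (S ⊗[R] E) := Module.Free.of_equiv e.symm
  haveI : Module.FinitePresentation S (S ⊗[R] E) := Module.finitePresentation_of_projective S _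
  haveI : Module.FinitePresentation R E :=
    Groth.Agent.S14967.finitePresentation_of_faithfullyFlat R S E
  haveI : Module.Flat R E := Module.Flat.of_flat_tensorProduct R E S
  haveI : Module.Projective R E := Module.Flat.projective_of_finitePresentation
  haveI : Module.Finite R E := inferInstance
  refine ⟨inferInstance, inferInstance, ?_⟩
  intro p
  obtain ⟨P, rfl⟩ := PrimeSpectrum.comap_surjective_of_faithfullyFlat (B := S) p
  rw [← Module.rankAtStalk_baseChange (S := S) (M := E) P, Module.rankAtStalk_eq_finrank_of_free,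
    Pi.natCast_apply, e.finrank_eq]
  rfl

end descent

section main

variable (R : Type u) [CommRing R] (A : Type u) [Ring A] [Algebra R A] [IsAzumaya R A]

open Goldman in
theorem exists_tpow_algEquiv_end (n : ℕ)
    (hrk : ∀ p : PrimeSpectrum R, Module.rankAtStalk A p = n ^ 2) :
    ∃ (E : Type u) (_ : AddCommGroup E) (_ : Module R E), Module.Finite R E ∧
      Module.Projective R E ∧ (∀ p : PrimeSpectrum R, Module.rankAtStalk E p = n ^ n) ∧
      Nonempty ((⨂[R] _ : Fin n, A) ≃ₐ[R] Module.End R E) := by
  classical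
  rcases Nat.eq_zero_or_pos n with hn | hn
  · subst hn
    have hA : Subsingleton A := by
      rw [← Module.rankAtStalk_eq_zero_iff_subsingleton (R := R)]
      ext p
      rw [hrk p]; rfl
    haveI : Subsingleton R := by
      refine subsingleton_of_zero_eq_one ?_
      apply FaithfulSMul.eq_of_smul_eq_smul (α := A)
      intro a
      exact Subsingleton.elim _ _
    refine ⟨R, inferInstance, inferInstance, inferInstance, inferInstance, ?_,
      ⟨AzSplit.algEquivOfSubsingleton R _ _⟩⟩
    intro p
    exact absurd p.nontrivial (not_nontrivial R)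
  haveI : NeZero n := ⟨hn.ne'⟩
  obtain ⟨S, _, _, hFF, ⟨φ⟩⟩ := AzSplit.exists_faithfullyFlat_split R A n hrk
  haveI hB : IsAzumaya R (⨂[R] _ : Fin n, A) := isAzumaya_tpow R A n
  obtain ⟨s, hs⟩ := alt_mem φ
  have hs' : Phi0 φ s = TPM.alt S n := hs
  -- the base change of `Phi0`
  let Φ₁ : S ⊗[R] (⨂[R] _ : Fin n, A) →ₐ[S] Matrix (TPM.Idx n) (TPM.Idx n) S :=
    Algebra.TensorProduct.lift (Algebra.ofId S _) (Phi0 φ)
      (fun t b => Algebra.commutes t (Phi0 φ b))
  haveI : IsAzumaya S (S ⊗[R] (⨂[R] _ : Fin n, A)) := Az.isAzumaya_baseChange R S _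
  let Φ₂ : S ⊗[R] (⨂[R] _ : Fin n, A) →ₐ[S] Module.End S (TPM.Idx n → S) :=
    (Matrix.toLinAlgEquiv' : Matrix (TPM.Idx n) (TPM.Idx n) S ≃ₐ[S] _).toAlgHom.comp Φ₁
  have hcard : Fintype.card (TPM.Idx n) = n ^ n := by simp [TPM.Idx]
  have hbij₂ : Function.Bijective Φ₂ := by
    apply SplitCrit.bijective_of_rank Φ₂
    · intro q
      haveI : Nontrivial S := q.nontrivial
      rw [Module.rankAtStalk_baseChange, rankAtStalk_tpow R A (n ^ 2) hrk,
        Module.rankAtStalk_eq_finrank_of_free]
      simp only [Pi.natCast_apply, Module.finrank_pi, hcard, Nat.cast_id]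
      ring
    · intro q
      haveI : Nontrivial S := q.nontrivial
      rw [Module.rankAtStalk_eq_finrank_of_free]
      simp only [Pi.natCast_apply, Module.finrank_pi, hcard, Nat.cast_id]
      exact Nat.pow_pos hn
  have hbij₁ : Function.Bijective Φ₁ := by
    have : (Φ₂ : _ → _) = (Matrix.toLinAlgEquiv' : Matrix (TPM.Idx n) (TPM.Idx n) S ≃ₐ[S] _) ∘ Φ₁ :=
      rfl
    rw [this] at hbij₂
    exact (Function.Bijective.of_comp_iff' (AlgEquiv.bijective _) _).mp hbij₂
  let Φ : S ⊗[R] (⨂[R] _ : Fin n, A) ≃ₐ[S] Matrix (TPM.Idx n) (TPM.Idx n) S :=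
    AlgEquiv.ofBijective Φ₁ hbij₁
  have hΦs : Φ (1 ⊗ₜ s) = TPM.alt S n := by
    have h := Algebra.TensorProduct.lift_tmul (Algebra.ofId S (Matrix (TPM.Idx n) (TPM.Idx n) S))
      (Phi0 φ) (fun t b => Algebra.commutes t (Phi0 φ b)) (1 : S) s
    change Φ₁ (1 ⊗ₜ s) = _
    exact h.trans (by rw [map_one, one_mul, hs'])
  obtain ⟨eW⟩ := nonempty_baseChange_leftIdeal_equiv (R := R) Φ s (TPM.colMap S n)
    TPM.colMap_injective (by rw [hΦs]; exact TPM.range_mulRight_alt)
  obtain ⟨hfin, hproj, hrankE⟩ := projective_of_baseChange_free eW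
  refine ⟨leftIdeal (R := R) s, inferInstance, inferInstance, hfin, hproj, ?_, ?_⟩
  · intro p
    haveI : Nontrivial S := (PrimeSpectrum.comap_surjective_of_faithfullyFlat (B := S) p).choose.nontrivial
    rw [hrankE p, Module.finrank_pi, hcard]
  · have hbij : Function.Bijective (leftAct (R := R) s) := by
      apply SplitCrit.bijective_of_rank (leftAct (R := R) s)
      · intro q
        haveI : Nontrivial S :=
          (PrimeSpectrum.comap_surjective_of_faithfullyFlat (B := S) q).choose.nontrivial
        rw [rankAtStalk_tpow R A (n ^ 2) hrk, hrankE q, Module.finrank_pi, hcard]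
        ring
      · intro q
        haveI : Nontrivial S :=
          (PrimeSpectrum.comap_surjective_of_faithfullyFlat (B := S) q).choose.nontrivial
        rw [hrankE q, Module.finrank_pi, hcard]
        exact Nat.pow_pos hn
    exact ⟨AlgEquiv.ofBijective _ hbij⟩

end main

end Groth.Agent.Lib.Helper3.TorsionSplit
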