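import Groth.Agent.Lib.Helper3.MatSplit
import Groth.Agent.Lib.Helper3.IsoBC
import Groth.Agent.Lib.Helper3.OrdinaryRam

/-! Comparison of types at a ramified prime: orthogonal and symplectic involutions do not have
locally isomorphic matrix algebras (helper3). -/

set_option autoImplicit false
universe u u' v w w'

open TensorProduct IsLocalRing

namespace Groth.Agent.Lib.Helper3.TypeCompare

open AzInv Groth.Agent.Lib.Helper3.FixedBC Groth.Agent.Lib.Helper3.MatUnits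
  Groth.Agent.Lib.Helper3.IndEtDescent Groth.Agent.Lib.Helper3.AdaptedSplit
  Groth.Agent.Lib.Helper3.HermCong Groth.Agent.Lib.Helper3.InvLocal
  Groth.Agent.Lib.Helper3.AdaptedLocal Groth.Agent.Lib.Helper3.SymplCong
  Groth.Agent.Lib.Helper3.MatSplit

variable {S : Type u} {R : Type v} [CommRing S] [CommRing R] [Algebra S R]
  {A : Type w} [Ring A] [Algebra S A] [Algebra R A] [IsScalarTower S R A]
  {A' : Type w'} [Ring A'] [Algebra S A'] [Algebra R A'] [IsScalarTower S R A']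

/-- an `R`-compatible isomorphism is compatible with all scalars of `T ⊗ R` -/
lemma iso_mu (T : Type u') [CommRing T] [Algebra S T] (g : T ⊗[S] A ≃ₐ[T] T ⊗[S] A')
    (hg : ∀ (r : R) (x : T ⊗[S] A),
      g (((1 : T) ⊗ₜ[S] algebraMap R A r) * x) = ((1 : T) ⊗ₜ[S] algebraMap R A' r) * g x)
    (z : T ⊗[S] R) (x : T ⊗[S] A) :
    g (mu S T R A z * x) = mu S T R A' z * g x := by
  induction z using TensorProduct.induction_on with
  | zero => simp
  | add x₁ x₂ h₁ h₂ => rw [map_add, add_mul, map_add, h₁, h₂, map_add, add_mul]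
  | tmul s r =>
    have h1 : mu S T R A (s ⊗ₜ[S] r) = s • ((1 : T) ⊗ₜ[S] algebraMap R A r) := by
      rw [mu_tmul, TensorProduct.smul_tmul', smul_eq_mul, mul_one]
    have h2 : mu S T R A' (s ⊗ₜ[S] r) = s • ((1 : T) ⊗ₜ[S] algebraMap R A' r) := by
      rw [mu_tmul, TensorProduct.smul_tmul', smul_eq_mul, mul_one]
    rw [h1, h2, smul_mul_assoc, map_smul, hg, smul_mul_assoc]

lemma lamTr_blockDiag {K : Type*} [CommRing K] (σ : K → K) (hσ0 : σ 0 = 0) (m n : ℕ)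
    (W : Matrix (Fin n) (Fin n) K) :
    lamTr (lamTr σ) (Matrix.diagonal fun _ : Fin m => W) =
      Matrix.diagonal fun _ : Fin m => lamTr σ W := by
  ext a b : 1
  rw [lamTr_apply, Matrix.diagonal_apply, Matrix.diagonal_apply]
  by_cases h : a = b
  · rw [if_pos h, if_pos h.symm]
  · rw [if_neg h, if_neg (Ne.symm h)]
    ext i j
    simp [lamTr_apply, hσ0]

/-- the local comparison: over a base `T` with `T ⊗ R` local and residually trivial involution,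
an orthogonal splitting of `(A, t)` and a symplectic splitting of `(A', t')` are incompatible
with an isomorphism between matrix algebras over them -/
theorem false_of_orth_sympl_split (lam : R ≃ₐ[S] R) (hlam : ∀ r, lam (lam r) = r)
    (T : Type u') [CommRing T] [Algebra S T] [IsLocalRing (T ⊗[S] R)]
    (h2K : IsUnit (2 : T ⊗[S] R))
    (hσm : ∀ z, sig lam T z - z ∈ maximalIdeal (T ⊗[S] R))
    (k : ℕ) (hk : 0 < k * 2) (m m' : ℕ) (hm : 0 < m)
    (t : LamInv R A lam) (t' : LamInv R A' lam)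
    (f₁ : T ⊗[S] A ≃ₐ[T] Matrix (Fin (k * 2)) (Fin (k * 2)) (T ⊗[S] R))
    (hf₁ : ∀ (r : R) (x : T ⊗[S] A), f₁ (((1 : T) ⊗ₜ[S] algebraMap R A r) * x) =
      Matrix.scalar (Fin (k * 2)) ((1 : T) ⊗ₜ[S] r) * f₁ x)
    (ht₁ : ∀ x, f₁ (t.bc S lam T x) = lamTr (sig lam T) (f₁ x))
    (f₂ : T ⊗[S] A' ≃ₐ[T] Matrix (Fin (k * 2)) (Fin (k * 2)) (T ⊗[S] R))
    (hf₂ : ∀ (r : R) (x : T ⊗[S] A'), f₂ (((1 : T) ⊗ₜ[S] algebraMap R A' r) * x) =
      Matrix.scalar (Fin (k * 2)) ((1 : T) ⊗ₜ[S] r) * f₂ x)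
    (ht₂ : ∀ x, f₂ (t'.bc S lam T x) = Jn k * lamTr (sig lam T) (f₂ x) * (-Jn k))
    (g : T ⊗[S] Matrix (Fin m) (Fin m) A ≃ₐ[T] T ⊗[S] Matrix (Fin m') (Fin m') A')
    (hg1 : ∀ (r : R) (x : T ⊗[S] Matrix (Fin m) (Fin m) A),
      g (((1 : T) ⊗ₜ[S] algebraMap R (Matrix (Fin m) (Fin m) A) r) * x) =
        ((1 : T) ⊗ₜ[S] algebraMap R (Matrix (Fin m') (Fin m') A') r) * g x)
    (hg2 : ∀ x, g ((t.matrix (Fin m)).bc S lam T x) = (t'.matrix (Fin m')).bc S lam T (g x)) :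
    False := by
  set K := T ⊗[S] R with hK
  set σ := sig lam T with hσdef
  have hσσ := sig_sig lam hlam T
  obtain ⟨F₁, hF₁s, hF₁t⟩ := split_matrix T m (k * 2) f₁ hf₁ lam t (⇑σ) 1 1
    (fun x => by rw [one_mul, mul_one]; exact ht₁ x)
  obtain ⟨F₂, hF₂s, hF₂t⟩ := split_matrix T m' (k * 2) f₂ hf₂ lam t' (⇑σ) (Jn k) (-Jn k) ht₂
  have hF₁t' : ∀ X, F₁ ((t.matrix (Fin m)).bc S lam T X) = lamTr σ (F₁ X) := by
    intro X
    rw [hF₁t]
    have : (Matrix.diagonal fun _ : Fin m => (1 : Matrix (Fin (k * 2)) (Fin (k * 2)) K)) = 1 :=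
      Matrix.diagonal_one
    rw [this, map_one, one_mul, mul_one]
  -- the composite
  let ψ : Matrix (Fin (m * (k * 2))) (Fin (m * (k * 2))) K ≃ₐ[T]
      Matrix (Fin (m' * (k * 2))) (Fin (m' * (k * 2))) K := F₁.symm.trans (g.trans F₂)
  have hψ : ∀ Y, ψ Y = F₂ (g (F₁.symm Y)) := fun Y => rfl
  have hψs : ∀ (z : K) Y, ψ (Matrix.scalar _ z * Y) = Matrix.scalar _ z * ψ Y := by
    intro z Y
    rw [hψ, hψ, split_symm_scalar T F₁ hF₁s, iso_mu T g hg1, split_scalar T F₂ hF₂s]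
  -- sizes agree
  have hsize : m = m' := by
    let L : Matrix (Fin (m * (k * 2))) (Fin (m * (k * 2))) K ≃ₗ[K]
        Matrix (Fin (m' * (k * 2))) (Fin (m' * (k * 2))) K :=
      { toFun := ψ
        invFun := ψ.symm
        left_inv := ψ.left_inv
        right_inv := ψ.right_inv
        map_add' := map_add ψ
        map_smul' := by
          intro z Y
          rw [RingHom.id_apply, Matrix.smul_eq_diagonal_mul, Matrix.smul_eq_diagonal_mul]
          exact hψs z Y }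
    have h := L.finrank_eq
    rw [Module.finrank_matrix, Module.finrank_matrix, Module.finrank_self, mul_one, mul_one,
      Fintype.card_fin, Fintype.card_fin] at h
    have h1 : m * (k * 2) = m' * (k * 2) := Nat.mul_self_inj.mp h
    exact Nat.eq_of_mul_eq_mul_right hk h1
  subst hsize
  have hN : 0 < m * (k * 2) := Nat.mul_pos hm hk
  let φ : Matrix (Fin (m * (k * 2))) (Fin (m * (k * 2))) K ≃ₐ[K]
      Matrix (Fin (m * (k * 2))) (Fin (m * (k * 2))) K :=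
    AlgEquiv.ofRingEquiv (f := ψ.toRingEquiv) (by
      intro z
      show ψ _ = _
      have hz : algebraMap K (Matrix (Fin (m * (k * 2))) (Fin (m * (k * 2))) K) z =
          Matrix.scalar _ z * 1 := by
        rw [mul_one]
        rfl
      rw [hz, hψs, map_one])
  have hφ : ∀ Y, φ Y = ψ Y := fun Y => rfl
  set D : Matrix (Fin m) (Fin m) (Matrix (Fin (k * 2)) (Fin (k * 2)) K) :=
    Matrix.diagonal fun _ => Jn k with hD
  set D' : Matrix (Fin m) (Fin m) (Matrix (Fin (k * 2)) (Fin (k * 2)) K) :=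
    Matrix.diagonal fun _ => -Jn k with hD'
  have hDD' : D * D' = 1 := by
    rw [hD, hD', Matrix.diagonal_mul_diagonal]
    have : (fun _ : Fin m => (Jn k : Matrix (Fin (k * 2)) (Fin (k * 2)) K) * -Jn k) =
        fun _ => 1 := by
      funext _
      rw [Matrix.mul_neg, Jn_mul_Jn, neg_neg]
    rw [this, Matrix.diagonal_one]
  refine false_of_herm_skew σ hσσ h2K hσm hN φ (Gm K m (k * 2) D) (Gm K m (k * 2) D') ?_ ?_ ?_
  · rw [← map_mul, hDD', map_one]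
  · rw [← Gm_lamTr, hD, lamTr_blockDiag (⇑σ) (map_zero σ), lamTr_Jn]
    have : (Matrix.diagonal fun _ : Fin m => -(Jn k : Matrix (Fin (k * 2)) (Fin (k * 2)) K)) =
        -Matrix.diagonal fun _ : Fin m => (Jn k : Matrix (Fin (k * 2)) (Fin (k * 2)) K) := by
      rw [← Matrix.diagonal_neg]
    rw [this, map_neg]
  · intro Y
    obtain ⟨X, rfl⟩ := F₁.surjective Y
    rw [hφ, hφ, ← hF₁t', hψ, hψ, AlgEquiv.symm_apply_apply, AlgEquiv.symm_apply_apply, hg2, hF₂t]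

open Groth.Agent.Lib.Helper3.RamDichotomy Groth.Agent.Lib.Helper80.RInvLib in
/-- at a ramified prime, an orthogonal `(A, t)` and a symplectic `(A', t')` cannot have
isomorphic matrix algebras with involution over a cover -/
theorem not_orth_sympl (lam : R ≃ₐ[S] R) (hlam : ∀ r, lam (lam r) = r)
    (hfix : RInv.IsFixedRing S R lam.toRingEquiv) (h2 : IsUnit (2 : S))
    (k : ℕ) (hk : 0 < k * 2) (hA : IsAzumayaDeg R A (k * 2)) (hA' : IsAzumayaDeg R A' (k * 2))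
    (t : LamInv R A lam) (t' : LamInv R A' lam) (q : PrimeSpectrum S)
    (hram : ¬ RInv.IsQuadEtale (Localization.AtPrime q.asIdeal)
      (Localization.AtPrime q.asIdeal ⊗[S] R))
    (T₁ : Type u) [CommRing T₁] [Algebra S T₁]
    (hq₁ : q ∈ Set.range (PrimeSpectrum.comap (algebraMap S T₁)))
    (E₁ : Fin (k * 2) → Fin (k * 2) → T₁ ⊗[S] A)
    (hE₁ : IsAdaptedC A (t.linS S lam) T₁ (cst A (1 : Matrix (Fin (k * 2)) (Fin (k * 2)) R))
      (cst A (1 : Matrix (Fin (k * 2)) (Fin (k * 2)) R)) E₁)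
    (T₂ : Type u) [CommRing T₂] [Algebra S T₂]
    (hq₂ : q ∈ Set.range (PrimeSpectrum.comap (algebraMap S T₂)))
    (E₂ : Fin (k * 2) → Fin (k * 2) → T₂ ⊗[S] A')
    (hE₂ : IsAdaptedC A' (t'.linS S lam) T₂
      (cst A' (Jn k : Matrix (Fin (k * 2)) (Fin (k * 2)) R))
      (cst A' (-Jn k : Matrix (Fin (k * 2)) (Fin (k * 2)) R)) E₂)
    (m m' : ℕ) (hm : 0 < m)
    (S₃ : Type u) [CommRing S₃] [Algebra S S₃]
    (hq₃ : q ∈ Set.range (PrimeSpectrum.comap (algebraMap S S₃)))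
    (g : S₃ ⊗[S] Matrix (Fin m) (Fin m) A ≃ₐ[S₃] S₃ ⊗[S] Matrix (Fin m') (Fin m') A')
    (hg1 : ∀ (r : R) (x : S₃ ⊗[S] Matrix (Fin m) (Fin m) A),
      g (((1 : S₃) ⊗ₜ[S] algebraMap R (Matrix (Fin m) (Fin m) A) r) * x) =
        ((1 : S₃) ⊗ₜ[S] algebraMap R (Matrix (Fin m') (Fin m') A') r) * g x)
    (hg2 : ∀ x, g ((t.matrix (Fin m)).bc S lam S₃ x) = (t'.matrix (Fin m')).bc S lam S₃ (g x)) :
    False := by
  obtain ⟨K₁, iF₁, iAlg₁, ⟨γ₁⟩, ⟨γ₂⟩, hker₁⟩ :=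
    CommonField.exists_common_field' T₁ T₂ q hq₁ hq₂
  have hqK₁ : q ∈ Set.range (PrimeSpectrum.comap (algebraMap S K₁)) := by
    refine ⟨⟨⊥, Ideal.isPrime_bot⟩, ?_⟩
    ext1
    ext r
    show algebraMap S K₁ r ∈ (⊥ : Ideal K₁) ↔ r ∈ q.asIdeal
    rw [Ideal.mem_bot, hker₁]
  obtain ⟨K₀, iF, iAlg, ⟨δ₁⟩, ⟨β₃⟩, hker⟩ :=
    CommonField.exists_common_field' K₁ S₃ q hqK₁ hq₃
  let β₁ : T₁ →ₐ[S] K₀ := δ₁.comp γ₁
  let β₂ : T₂ →ₐ[S] K₀ := δ₁.comp γ₂
  have hq : (maximalIdeal K₀).comap (algebraMap S K₀) = q.asIdeal := by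
    ext r
    rw [Ideal.mem_comap, IsLocalRing.maximalIdeal_eq_bot, Ideal.mem_bot, hker]
  set σ' : K₀ ⊗[S] R ≃+* K₀ ⊗[S] R :=
    (Algebra.TensorProduct.congr (AlgEquiv.refl : K₀ ≃ₐ[S] K₀) lam).toRingEquiv with hσ'def
  have hσ' : ∀ z, σ' z = sig lam K₀ z := by
    intro z
    induction z using TensorProduct.induction_on with
    | zero => simp
    | tmul s r => rfl
    | add x y hx hy => rw [map_add, map_add, hx, hy]
  have hfix' : RInv.IsFixedRing K₀ (K₀ ⊗[S] R) σ' :=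
    Groth.Agent.S15586.result S R K₀ lam hlam hfix (Or.inr h2)
  obtain ⟨hloc, hjac⟩ := RamLocal.ramified_local lam hlam hfix q hram K₀ hq σ' hσ' hfix'
  haveI := hloc
  have hσm : ∀ z, sig lam K₀ z - z ∈ maximalIdeal (K₀ ⊗[S] R) := fun z =>
    (mem_ringJacobson_iff.mp (hjac z)) _ (maximalIdeal.isMaximal _)
  have h2K : IsUnit (2 : K₀ ⊗[S] R) := by
    have := h2.map (algebraMap S (K₀ ⊗[S] R))
    rwa [map_ofNat] at this
  obtain ⟨f₁, hf₁, ht₁⟩ := split_of_adapted K₀ (k * 2) hk hA lam t 1 1 _ (hE₁.map A _ β₁)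
  obtain ⟨f₂, hf₂, ht₂⟩ := split_of_adapted K₀ (k * 2) hk hA' lam t' (Jn k) (-Jn k) _
    (hE₂.map A' _ β₂)
  rw [← coe_sig, bcMat_one'] at ht₁
  rw [← coe_sig, bcMat_neg', bcMat_Jn'] at ht₂
  simp only [one_mul, mul_one] at ht₁
  obtain ⟨gK, hgK1, hgK2⟩ := IsoBC.iso_baseChange lam (t.matrix (Fin m)) (t'.matrix (Fin m')) β₃
    g hg1 hg2
  exact false_of_orth_sympl_split lam hlam K₀ h2K hσm k hk m m' hm t t' f₁ hf₁ ht₁ f₂ hf₂ ht₂
    gK hgK1 hgK2

end Groth.Agent.Lib.Helper3.TypeCompare
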